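import Cfsg.Agent.Helper2.RuL.Tab0
import Cfsg.Agent.Helper2.RuL.Tab1
import Cfsg.Agent.Helper2.RuL.Tab2
import Cfsg.Agent.Helper2.RuL.Tab3
import Cfsg.Agent.Helper2.RuL.Tab4
import Cfsg.Agent.Helper2.RuL.Tab5
import Cfsg.Agent.Helper2.RuL.Tab6
import Cfsg.Agent.Helper2.RuL.Tab7

/-! The master table of the 16240 minimal vectors of the Rudvalis lattice (helper2; generated).
Entry `k = 4 p + j` is `i^j` times the representative of the line `p`; packed as `P + 2^56 N + 2^112 big`. -/

set_option autoImplicit false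

namespace Cfsg.Agent.Helper2.RuL

def tabTop : NT :=
  (NT.node (NT.node (NT.node (NT.node (NT.node (NT.node tabC0 tabC1) (NT.node tabC2 tabC3)) (NT.node (NT.node tabC4 tabC5) (NT.node tabC6 tabC7))) (NT.node (NT.node (NT.node tabC8 tabC9) (NT.node tabC10 tabC11)) (NT.node (NT.node tabC12 tabC13) (NT.node tabC14 tabC15)))) (NT.node (NT.node (NT.node (NT.node tabC16 tabC17) (NT.node tabC18 tabC19)) (NT.node (NT.node tabC20 tabC21) (NT.node tabC22 tabC23))) (NT.node (NT.node (NT.node tabC24 tabC25) (NT.node tabC26 tabC27)) (NT.node (NT.node tabC28 tabC29) (NT.node tabC30 tabC31))))) (NT.node (NT.node (NT.node (NT.node (NT.node tabC32 tabC33) (NT.node tabC34 tabC35)) (NT.node (NT.node tabC36 tabC37) (NT.node tabC38 tabC39))) (NT.node (NT.node (NT.node tabC40 tabC41) (NT.node tabC42 tabC43)) (NT.node (NT.node tabC44 tabC45) (NT.node tabC46 tabC47)))) (NT.node (NT.node (NT.node (NT.node tabC48 tabC49) (NT.node tabC50 tabC51)) (NT.node (NT.node tabC52 tabC53) (NT.node tabC54 tabC55))) (NT.node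 (NT.node (NT.node tabC56 tabC57) (NT.node tabC58 tabC59)) (NT.node (NT.node tabC60 tabC61) (NT.node tabC62 tabC63))))))

/-- the packed entry number `k` of the master table -/
def ent (k : ℕ) : ℕ := NT.get tabTop 14 k

end Cfsg.Agent.Helper2.RuL
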