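import Cfsg.Agent.Helper2.RuL.Ev2
import Cfsg.Agent.Helper2.RuL.Tab

/-! The action of a scaled matrix on the representatives of the lines of the master table (helper2). -/

set_option autoImplicit false

namespace Cfsg.Agent.Helper2.RuL

open Cfsg.Agent.Helper5.RuLat

/-- the field number `p` (14 bits) of a packed list of indices -/
def fld14 (c p : ℕ) : ℕ := (c >>> (14 * p)) % 16384

/-- the vector number `k` of the master table -/
def mv (k : ℕ) : W := Vof (ent k)

/-- `M v_{4p} = 4 v_{xt(p)}` for `p = p₀, …, p₀ + f - 1` -/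
def actRange (m : MatD) (us : List ℤ) (xt : ℕ) : ℕ → ℕ → Bool
  | 0, _ => true
  | f + 1, p =>
    frc (ent (4 * p)) fun e => frc (ent (fld14 xt p)) fun e' =>
      actOK m us e e' && frc (p + 1) fun p' => actRange m us xt f p'

theorem actRange_sound {m : MatD} {us : List ℤ} (hm : ecsOK m = true)
    (hr : EntBd m.cols) (hu : unitsOK us = true) (xt : ℕ) :
    ∀ (f p₀ : ℕ), actRange m us xt f p₀ = true → ∀ p, p₀ ≤ p → p < p₀ + f →
      mulC m.cols (mv (4 * p)) = (4 : ℤ) • mv (fld14 xt p)
  | 0, p₀, _, p, h1, h2 => by omega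
  | f + 1, p₀, h, p, h1, h2 => by
    rw [actRange, frc_eq, frc_eq, frc_eq, Bool.and_eq_true] at h
    rcases Nat.eq_or_lt_of_le h1 with h3 | h3
    · subst h3
      exact act_sound hm hr hu h.1
    · exact actRange_sound hm hr hu xt f (p₀ + 1) h.2 p (by omega) (by omega)

end Cfsg.Agent.Helper2.RuL
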