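import Cfsg.Agent.Helper2.RuL.XtB

/-! The action of the letter 1 on the representatives of the lines, part 0 (helper2; generated). -/

set_option autoImplicit false
set_option maxRecDepth 100000

namespace Cfsg.Agent.Helper2.RuL

set_option Elab.async false in
theorem actB_0 : actRange matB unitsB xtB 508 0 = true := by decide +kernel

set_option Elab.async false in
theorem actB_1 : actRange matB unitsB xtB 508 508 = true := by decide +kernel

set_option Elab.async false in
theorem actB_2 : actRange matB unitsB xtB 508 1016 = true := by decide +kernel

set_option Elab.async false in
theorem actB_3 : actRange matB unitsB xtB 508 1524 = true := by decide +kernel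

end Cfsg.Agent.Helper2.RuL
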