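import Cfsg.Agent.Helper2.RuL.XtU

/-! The action of the letter 3 on the representatives of the lines, part 0 (helper2; generated). -/

set_option autoImplicit false
set_option maxRecDepth 100000

namespace Cfsg.Agent.Helper2.RuL

set_option Elab.async false in
theorem actU_0 : actRange matU unitsB xtU 508 0 = true := by decide +kernel

set_option Elab.async false in
theorem actU_1 : actRange matU unitsB xtU 508 508 = true := by decide +kernel

set_option Elab.async false in
theorem actU_2 : actRange matU unitsB xtU 508 1016 = true := by decide +kernel

set_option Elab.async false in
theorem actU_3 : actRange matU unitsB xtU 508 1524 = true := by decide +kernel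

end Cfsg.Agent.Helper2.RuL
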