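import Cfsg.Agent.Helper2.RuL.XtY

/-! The action of the letter 4 on the representatives of the lines, part 1 (helper2; generated). -/

set_option autoImplicit false
set_option maxRecDepth 100000

namespace Cfsg.Agent.Helper2.RuL

set_option Elab.async false in
theorem actY_4 : actRange matY unitsB xtY 508 2032 = true := by decide +kernel

set_option Elab.async false in
theorem actY_5 : actRange matY unitsB xtY 508 2540 = true := by decide +kernel

set_option Elab.async false in
theorem actY_6 : actRange matY unitsB xtY 508 3048 = true := by decide +kernel

set_option Elab.async false in
theorem actY_7 : actRange matY unitsB xtY 504 3556 = true := by decide +kernel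

end Cfsg.Agent.Helper2.RuL
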