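import Cfsg.Agent.Helper2.RuL.Trav

/-! Multiplication by `i` on the packed entries of the master table (helper2). -/

set_option autoImplicit false

namespace Cfsg.Agent.Helper2.RuL

open Cfsg.Agent.Helper5.RuLat

/-- the new mask of the plus signs, from the masks of the plus and of the minus signs -/
def opIP (P N : ℕ) : ℕ := ((N >>> 1) &&& foldE) ||| ((P &&& foldE) <<< 1)

theorem permI_sgnI : ∀ i : Fin 56,
    permI.getD i.val 0 = (if i.val % 2 = 0 then i.val + 1 else i.val - 1) ∧
      sgnI.getD i.val 0 = (if i.val % 2 = 0 then -1 else 1) := by decide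

theorem opIP_testBit (P N : ℕ) (i : Fin 56) : (opIP P N).testBit i.val =
    if i.val % 2 = 0 then N.testBit (i.val + 1) else P.testBit (i.val - 1) := by
  unfold opIP
  rw [Nat.testBit_or, Nat.testBit_and, Nat.testBit_shiftRight, Nat.testBit_shiftLeft,
    Nat.testBit_and, foldE_testBit i]
  by_cases h : i.val % 2 = 0
  · rw [if_pos h]
    by_cases h1 : i.val ≥ 1
    · have h2 : i.val - 1 < 56 := by omega
      have h3 := foldE_testBit ⟨i.val - 1, h2⟩
      simp only at h3
      rw [h3]
      have h4 : ¬ (i.val - 1) % 2 = 0 := by omega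
      simp [h, h4, Nat.add_comm]
    · simp [h, h1, Nat.add_comm]
  · rw [if_neg h]
    have h1 : i.val ≥ 1 := by omega
    have h2 : i.val - 1 < 56 := by omega
    have h3 := foldE_testBit ⟨i.val - 1, h2⟩
    simp only at h3
    rw [h3]
    have h4 : (i.val - 1) % 2 = 0 := by omega
    simp [h, h4, h1]

theorem opW_apply (perm : List ℕ) (sgn : List ℤ) (y : W) (i : Fin 56) :
    opW perm sgn y i =
      sgn.getD i.val 0 * y ⟨perm.getD i.val 0 % 56, Nat.mod_lt _ (by norm_num)⟩ := rfl

theorem and_zero_testBit {P N : ℕ} (h : P &&& N = 0) (j : ℕ) :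
    ¬ (P.testBit j = true ∧ N.testBit j = true) := by
  intro ⟨h1, h2⟩
  have : (P &&& N).testBit j = true := by rw [Nat.testBit_and, h1, h2]; rfl
  rw [h] at this
  simp at this

theorem Vof_opI {e e' : ℕ} (hw : entP e &&& entN e = 0)
    (hP : entP e' = opIP (entP e) (entN e)) (hN : entN e' = opIP (entN e) (entP e))
    (hB : entB e' = entB e) : Vof e' = opW permI sgnI (Vof e) := by
  funext i
  rw [opW_apply, Vof_apply, Vof_apply]
  have hs : scE e' = scE e := by unfold scE; rw [hB]
  rw [hs, hP, hN]
  simp only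
  obtain ⟨hp, hsg⟩ := permI_sgnI i
  rw [hp, hsg]
  unfold sgnAt
  rw [opIP_testBit, opIP_testBit]
  by_cases h : i.val % 2 = 0
  · simp only [h, if_true]
    have h1 : (i.val + 1) % 56 = i.val + 1 := Nat.mod_eq_of_lt (by omega)
    rw [h1]
    have := and_zero_testBit hw (i.val + 1)
    by_cases hp1 : (entP e).testBit (i.val + 1) = true <;>
      by_cases hn1 : (entN e).testBit (i.val + 1) = true <;> simp [hp1, hn1] <;> tauto
  · simp only [h, if_false]
    have h1 : (i.val - 1) % 56 = i.val - 1 := Nat.mod_eq_of_lt (by omega)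
    rw [h1]
    by_cases hp1 : (entP e).testBit (i.val - 1) = true <;>
      by_cases hn1 : (entN e).testBit (i.val - 1) = true <;> simp [hp1, hn1]

/-- the index of `i` times the vector number `k` -/
def inx (k : ℕ) : ℕ := 4 * (k / 4) + (k + 1) % 4

/-- the check at one leaf -/
def chkI (ent : ℕ → ℕ) (n k e : ℕ) : Bool :=
  Nat.ble n k || frc (ent (inx k)) fun e' => frc (entP e) fun P => frc (entN e) fun N =>
    decide (P &&& N = 0) && decide (entP e' = opIP P N) && decide (entN e' = opIP N P) &&
      decide (entB e' = entB e)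

theorem chkI_sound {ent : ℕ → ℕ} {n k : ℕ} (hk : k < n) (h : chkI ent n k (ent k) = true) :
    Vof (ent (inx k)) = opW permI sgnI (Vof (ent k)) := by
  simp only [chkI, frc_eq, Bool.or_eq_true, Bool.and_eq_true, decide_eq_true_eq,
    Nat.ble_eq] at h
  rcases h with h | h
  · omega
  · exact Vof_opI h.1.1.1 h.1.1.2 h.1.2 h.2

end Cfsg.Agent.Helper2.RuL
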