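import Cfsg.Agent.Helper2.RuL.Scan2
import Cfsg.Agent.Helper2.RuL.IOp

/-! The group of the permutations of the master table preserving the inner products and
commuting with the multiplication by `i`: stabiliser chains (helper2). -/

set_option autoImplicit false

namespace Cfsg.Agent.Helper2.RuL

open Cfsg.Agent.Helper5.RuLat

theorem inx_lt {k : ℕ} (h : k < N0) : inx k < N0 := by unfold inx N0 at *; omega

def inxF (a : Fin N0) : Fin N0 := ⟨inx a.val, inx_lt a.isLt⟩

/-- the permutations preserving the inner products and commuting with `inx` -/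
def GT : Subgroup (Equiv.Perm (Fin N0)) where
  carrier := {σ | (∀ a b, ipT (σ a).val (σ b).val = ipT a.val b.val) ∧ ∀ a, σ (inxF a) = inxF (σ a)}
  one_mem' := ⟨fun _ _ => rfl, fun _ => rfl⟩
  mul_mem' := by
    rintro σ τ ⟨h1, h2⟩ ⟨h3, h4⟩
    refine ⟨fun a b => ?_, fun a => ?_⟩
    · simp only [Equiv.Perm.mul_apply]; rw [h1, h3]
    · simp only [Equiv.Perm.mul_apply]; rw [h4, h2]
  inv_mem' := by
    rintro σ ⟨h1, h2⟩
    refine ⟨fun a b => ?_, fun a => ?_⟩
    · have := h1 (σ⁻¹ a) (σ⁻¹ b)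
      simp only [Equiv.Perm.coe_inv, Equiv.apply_symm_apply] at this
      exact this.symm
    · apply σ.injective
      rw [h2]
      simp only [Equiv.Perm.coe_inv, Equiv.apply_symm_apply]

/-- the action on the indices -/
def actN (σ : Equiv.Perm (Fin N0)) (k : ℕ) : ℕ := if h : k < N0 then (σ ⟨k, h⟩).val else k

theorem actN_lt (σ : Equiv.Perm (Fin N0)) {k : ℕ} (h : k < N0) : actN σ k < N0 := by
  rw [actN, dif_pos h]; exact (σ ⟨k, h⟩).isLt

theorem actN_of_lt (σ : Equiv.Perm (Fin N0)) {k : ℕ} (h : k < N0) :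
    actN σ k = (σ ⟨k, h⟩).val := by rw [actN, dif_pos h]

theorem actN_mul (σ τ : Equiv.Perm (Fin N0)) (k : ℕ) : actN (σ * τ) k = actN σ (actN τ k) := by
  by_cases h : k < N0
  · rw [actN_of_lt _ h, actN_of_lt τ h, actN_of_lt σ (τ ⟨k, h⟩).isLt]
    rfl
  · have h1 : actN τ k = k := by rw [actN, dif_neg h]
    rw [h1, actN, dif_neg h, actN, dif_neg h]

theorem actN_inv {σ : Equiv.Perm (Fin N0)} {k : ℕ} (h : actN σ k = k) : actN σ⁻¹ k = k := by
  by_cases hk : k < N0
  · rw [actN_of_lt _ hk] at h ⊢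
    have : σ ⟨k, hk⟩ = ⟨k, hk⟩ := Fin.ext h
    rw [Equiv.Perm.inv_eq_iff_eq.mpr this.symm]
  · rw [actN, dif_neg hk]

theorem ipT_actN {σ : Equiv.Perm (Fin N0)} (hσ : σ ∈ GT) {a b : ℕ} (ha : a < N0) (hb : b < N0) :
    ipT (actN σ a) (actN σ b) = ipT a b := by
  rw [actN_of_lt _ ha, actN_of_lt _ hb]
  exact hσ.1 ⟨a, ha⟩ ⟨b, hb⟩

theorem actN_inx {σ : Equiv.Perm (Fin N0)} (hσ : σ ∈ GT) {a : ℕ} (ha : a < N0) :
    actN σ (inx a) = inx (actN σ a) := by
  rw [actN_of_lt _ ha, actN_of_lt _ (inx_lt ha)]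
  have := hσ.2 ⟨a, ha⟩
  exact congrArg Fin.val this

/-- fixed indices: the whole line is fixed -/
theorem fix_line {σ : Equiv.Perm (Fin N0)} (hσ : σ ∈ GT) {u v : ℕ} (hv : v < N0)
    (hfix : actN σ v = v) (huv : u / 4 = v / 4) : actN σ u = u := by
  have h1 : actN σ (inx v) = inx v := by rw [actN_inx hσ hv, hfix]
  have h2 : actN σ (inx (inx v)) = inx (inx v) := by rw [actN_inx hσ (inx_lt hv), h1]
  have h3 : actN σ (inx (inx (inx v))) = inx (inx (inx v)) := by
    rw [actN_inx hσ (inx_lt (inx_lt hv)), h2]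
  have hcases : u = v ∨ u = inx v ∨ u = inx (inx v) ∨ u = inx (inx (inx v)) := by
    unfold inx; omega
  rcases hcases with rfl | rfl | rfl | rfl
  · exact hfix
  · exact h1
  · exact h2
  · exact h3

/-- the elements fixing the indices of a list -/
def fixL (F : List ℕ) : Subgroup (Equiv.Perm (Fin N0)) where
  carrier := {σ | ∀ u ∈ F, actN σ u = u}
  one_mem' := by
    intro u _
    by_cases h : u < N0
    · rw [actN_of_lt _ h]; rfl
    · rw [actN, dif_neg h]
  mul_mem' := by
    intro σ τ h1 h2 u hu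
    rw [actN_mul, h2 u hu, h1 u hu]
  inv_mem' := by
    intro σ h1 u hu
    exact actN_inv (h1 u hu)

def stabF (F : List ℕ) : Subgroup (Equiv.Perm (Fin N0)) := GT ⊓ fixL F

theorem mem_stabF {F : List ℕ} {σ : Equiv.Perm (Fin N0)} :
    σ ∈ stabF F ↔ σ ∈ GT ∧ ∀ u ∈ F, actN σ u = u := Iff.rfl

/-! ### the facts on the table -/

/-- the facts on the table used below; `bigI j` is the index of the vector `4 e_j` -/
structure TabFacts (bigI : ℕ → ℕ) : Prop where
  wf : WfT
  inj : ∀ a b, a < N0 → b < N0 → mv a = mv b → a = b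
  big_lt : ∀ j : Fin 56, bigI j.val < N0
  big : ∀ j : Fin 56, mv (bigI j.val) = Pi.single j 4

theorem ip_single (j : Fin 56) (y : W) : ip (Pi.single j 4) y = 4 * y j := by
  unfold ip
  rw [Finset.sum_eq_single j]
  · simp
  · intro b _ hb; simp [hb]
  · intro h; exact absurd (Finset.mem_univ j) h

/-- the scan `d` uses only lines of the list `F` -/
def compat (bigI : ℕ → ℕ) (F : List ℕ) (d : ScanD) : Bool :=
  d.cs.all (fun c => F.any (fun v => Nat.beq (c.1 / 4) (v / 4))) &&
    (List.range 56).all (fun j => !d.M.testBit j || F.any (fun v => Nat.beq (bigI j / 4) (v / 4)))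

theorem like_of_fix {bigI : ℕ → ℕ} (T : TabFacts bigI) {F : List ℕ} {d : ScanD}
    (hv : d.valid = true) (hc : compat bigI F d = true) (hF : ∀ u ∈ F, u < N0)
    {σ : Equiv.Perm (Fin N0)} (hσ : σ ∈ stabF F) : d.Like (actN σ d.x) := by
  obtain ⟨hG, hfix⟩ := mem_stabF.mp hσ
  have hx : d.x < N0 := by
    simp only [ScanD.valid, Bool.and_eq_true, decide_eq_true_eq] at hv
    exact hv.1.1.1.1
  simp only [compat, Bool.and_eq_true, List.all_eq_true, List.any_eq_true, List.mem_range,
    Bool.or_eq_true, Bool.not_eq_true'] at hc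
  constructor
  · intro j hj
    rcases hc.2 j.val j.isLt with h | ⟨v, hvF, hvl⟩
    · rw [hj] at h; exact absurd h (by simp)
    · have hb := fix_line hG (hF v hvF) (hfix v hvF) (Nat.eq_of_beq_eq_true hvl)
      have h1 := ipT_actN hG (T.big_lt j) hx
      rw [hb] at h1
      unfold ipT at h1
      rw [T.big j, ip_single, ip_single] at h1
      linarith
  · intro c hcm
    obtain ⟨v, hvF, hvl⟩ := hc.1 c hcm
    have hc1 : c.1 < N0 := by
      simp only [ScanD.valid, Bool.and_eq_true, decide_eq_true_eq, List.all_eq_true] at hv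
      exact (condValid_ip (hv.2 c hcm)).1
    have hb := fix_line hG (hF v hvF) (hfix v hvF) (Nat.eq_of_beq_eq_true hvl)
    have h1 := ipT_actN hG hc1 hx
    rw [hb] at h1
    exact h1

/-- a rigidity step: the target of a scan is fixed -/
theorem fix_of_scan {bigI : ℕ → ℕ} (T : TabFacts bigI) {F : List ℕ} {d : ScanD}
    (hok : d.ok = true) (hc : compat bigI F d = true) (hF : ∀ u ∈ F, u < N0) :
    stabF F ≤ stabF (d.x :: F) := by
  intro σ hσ
  have hv : d.valid = true := by
    rw [ScanD.ok, Bool.and_eq_true] at hok; exact hok.1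
  have hx : d.x < N0 := by
    simp only [ScanD.valid, Bool.and_eq_true, decide_eq_true_eq] at hv
    exact hv.1.1.1.1
  have h1 := ScanD.sound T.wf hok (actN σ d.x) (actN_lt σ hx) (like_of_fix T hv hc hF hσ)
  refine mem_stabF.mpr ⟨hσ.1, ?_⟩
  intro u hu
  rcases List.mem_cons.mp hu with rfl | hu
  · exact h1
  · exact hσ.2 u hu

open Classical in
/-- a level of the chain: the index of the next stabiliser -/
theorem level_bound {bigI : ℕ → ℕ} (T : TabFacts bigI) {F : List ℕ} {d : ScanD}
    (hv : d.valid = true) (hc : compat bigI F d = true) (hF : ∀ u ∈ F, u < N0) (m : ℕ)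
    (hm : d.cnt ≤ m) : Nat.card (stabF F) ≤ m * Nat.card (stabF (d.x :: F)) := by
  have hx : d.x < N0 := by
    simp only [ScanD.valid, Bool.and_eq_true, decide_eq_true_eq] at hv
    exact hv.1.1.1.1
  let H := stabF F
  let x : Fin N0 := ⟨d.x, hx⟩
  have h1 : Nat.card H = (MulAction.orbit H x).ncard * Nat.card (MulAction.stabilizer H x) := by
    rw [← MulAction.index_stabilizer, mul_comm]
    exact (Subgroup.card_mul_index _).symm
  have h2 : (MulAction.orbit H x).ncard ≤ m := by
    have hsub : MulAction.orbit H x ⊆ {a : Fin N0 | a.val ∈ d.cand} := by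
      rintro a ⟨σ, rfl⟩
      show ((σ : Equiv.Perm (Fin N0)) x).val ∈ d.cand
      rw [ScanD.cand, Finset.mem_filter, Finset.mem_range]
      have := like_of_fix T hv hc hF σ.2
      rw [actN_of_lt _ hx] at this
      exact ⟨Fin.isLt _, this⟩
    have hfin : {a : Fin N0 | a.val ∈ d.cand}.Finite := Set.toFinite _
    refine le_trans (Set.ncard_le_ncard hsub hfin) ?_
    have h3 : {a : Fin N0 | a.val ∈ d.cand}.ncard ≤ d.cand.card := by
      rw [← Set.ncard_coe_finset d.cand]
      apply Set.ncard_le_ncard_of_injOn Fin.val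
      · intro a ha; exact ha
      · intro a _ b _ hab; exact Fin.ext hab
    exact le_trans h3 (le_trans (ScanD.card_cand_le T.wf hv) hm)
  have h3 : Nat.card (MulAction.stabilizer H x) ≤ Nat.card (stabF (d.x :: F)) := by
    apply Nat.card_le_card_of_injective
      (fun σ : MulAction.stabilizer H x => (⟨σ.1.1, by
        refine mem_stabF.mpr ⟨σ.1.2.1, ?_⟩
        intro u hu
        rcases List.mem_cons.mp hu with rfl | hu
        · have := σ.2
          rw [MulAction.mem_stabilizer_iff] at this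
          rw [actN_of_lt _ hx]
          exact congrArg Fin.val this
        · exact σ.1.2.2 u hu⟩ : stabF (d.x :: F)))
    intro σ τ hστ
    apply Subtype.ext
    apply Subtype.ext
    have := congrArg Subtype.val hστ
    exact this
  rw [h1]
  exact Nat.mul_le_mul h2 h3

/-- the end of the chain: all the vectors `4 e_j` are fixed -/
def allBig (bigI : ℕ → ℕ) (F : List ℕ) : Bool :=
  (List.range 56).all (fun j => F.any (fun v => Nat.beq (bigI j / 4) (v / 4)))

theorem stabF_eq_bot {bigI : ℕ → ℕ} (T : TabFacts bigI) {F : List ℕ}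
    (hF : ∀ u ∈ F, u < N0) (hall : allBig bigI F = true) : stabF F = ⊥ := by
  rw [eq_bot_iff]
  intro σ hσ
  obtain ⟨hG, hfix⟩ := mem_stabF.mp hσ
  simp only [allBig, List.all_eq_true, List.any_eq_true, List.mem_range] at hall
  rw [Subgroup.mem_bot]
  ext a
  have ha := a.isLt
  have key : mv (actN σ a.val) = mv a.val := by
    funext j
    obtain ⟨v, hvF, hvl⟩ := hall j.val j.isLt
    have hb := fix_line hG (hF v hvF) (hfix v hvF) (Nat.eq_of_beq_eq_true hvl)
    have h1 := ipT_actN hG (T.big_lt j) ha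
    rw [hb] at h1
    unfold ipT at h1
    rw [T.big j, ip_single, ip_single] at h1
    linarith
  have := T.inj _ _ (actN_lt σ ha) ha key
  rw [actN_of_lt _ ha] at this
  simpa using this

end Cfsg.Agent.Helper2.RuL
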