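import Cfsg.Agent.Helper2.RuL.Chk4
import Cfsg.Agent.Helper2.RuL.Tab

/-! Certificates for the weight-8 words of the parity code and for the all-even vectors
(helper2; generated). -/

set_option autoImplicit false
set_option maxRecDepth 100000

namespace Cfsg.Agent.Helper2.RuL

open Cfsg.Agent.Helper5.RuLat

def b8_0 : B8 where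
  m := 0xff
  pool := [
    ([0, 0, 0, 0, 0, 0, 0, 0, 0, 1, 0, -1, 0, -1, -1, 2, 1, 0, 0, -1, 0, 1, 2, 1, 0, 2, 1, -1, 2, 2, -1, 1, 0, 0, 2, -2, 2, 0, 0, 4, 0, 0, 4, 2, 2, 2, 2, 0, 0, 0, 4, 4, 3, 3, 3, -1], [0, 0, 0, 0, 0, 0, 0, 0, 1, 0, 0, 1, 0, 0, 0, 0, 0, 0, 0, 0, 0, 0, 0, 0, 0, 0, 0, 0, 0, 0, 0, 0, 0, 0, 0, 0, 0, 0, 0, 0, 0, 0, 0, 0, 0, 0, 0, 0, 0, 0, 0, 0, 0, 0, 0, 0], 0),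
    ([0, 0, 0, 0, 0, 0, 0, 4, 1, 1, 0, 0, 1, -1, 0, 4, 1, 1, 0, 2, 0, 4, 3, 5, 0, 3, 6, 1, 3, 4, 2, 5, 0, 4, 6, 0, 6, 4, 0, 6, 0, 4, 4, 2, 4, 2, 2, 2, 0, 3, 6, 7, 6, 5, 5, 0], [0, 0, 0, 0, 0, 0, 0, 1, 1, 0, 1, 1, 1, 0, 0, 0, 0, 0, 0, 0, 0, 0, 0, 0, 0, 0, 0, 0, 0, 0, 0, 0, 0, 0, 0, 0, 0, 0, 0, 0, 0, 0, 0, 0, 0, 0, 0, 0, 0, 0, 0, 0, 0, 0, 0, 0], 4),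
    ([0, 0, 0, 0, 0, 0, 0, 2, 1, 1, 1, -1, 0, -2, 2, 4, 0, 1, 1, 4, 0, 1, 4, 3, 0, 7, 8, 1, 2, 3, 1, 4, 0, 6, 4, 0, 6, 4, 2, 4, 0, 0, 0, 6, 2, 2, 6, 4, 0, 6, 5, 3, 7, 5, 6, -2], [0, 0, 0, 0, 0, 0, 0, 1, 1, 1, 0, 0, 1, 1, 0, 0, 0, 0, 0, 0, 0, 0, 0, 0, 0, 0, 0, 0, 0, 0, 0, 0, 0, 0, 0, 0, 0, 0, 0, 0, 0, 0, 0, 0, 0, 0, 0, 0, 0, 0, 0, 0, 0, 0, 0, 0], 2),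
    ([0, 0, 0, 0, 0, 0, 0, 6, 0, 1, 0, -1, 0, -1, -1, 8, 0, 1, 1, 4, 1, 0, -1, 2, 1, 9, 4, 2, 5, 5, 2, 10, 0, 2, 6, 0, 6, 4, 4, 6, 0, 4, 0, 6, 6, 4, 8, 6, 1, 5, 3, 3, 6, 6, 4, 0], [0, 0, 0, 0, 0, 0, 0, 0, 1, 0, 0, 0, 1, 1, 1, 1, 0, 0, 1, 0, 0, 0, 0, 0, 0, 0, 0, 0, 0, 0, 0, 0, 0, 0, 0, 0, 0, 0, 0, 0, 0, 0, 0, 0, 0, 0, 0, 0, 0, 0, 0, 0, 0, 0, 0, 0], 6),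
    ([0, 0, 0, 0, 0, 0, 0, 0, 1, 0, 0, 1, 0, -1, 2, 1, 0, 0, 0, 2, 0, 2, 2, 0, 0, 2, 1, 1, -1, 1, 0, 0, 0, 1, 2, -1, 1, 0, 0, 1, 0, 2, 0, 2, -1, -1, -1, 1, 0, 2, 2, 2, 2, 0, 0, 0], [0, 0, 0, 0, 0, 0, 0, 1, 0, 0, 0, 0, 0, 0, 0, 0, 0, 0, 0, 0, 0, 0, 0, 0, 0, 0, 0, 0, 0, 0, 0, 0, 0, 0, 0, 0, 0, 0, 0, 0, 0, 0, 0, 0, 0, 0, 0, 0, 0, 0, 0, 0, 0, 0, 0, 0], 0),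
    ([0, 0, 0, 0, 0, 0, 0, 0, 1, 1, 0, 0, 0, -2, 1, 3, 0, 0, 0, 2, 0, 2, 2, 0, 0, 4, 2, 0, 1, 1, -1, 1, 0, 1, 3, -2, 2, -1, 0, 3, 0, 1, 2, 3, 0, 1, 1, 2, 0, 2, 4, 4, 4, 2, 2, 0], [0, 0, 0, 0, 0, 0, 0, 1, 1, 0, 0, 0, 0, 0, 0, 0, 0, 0, 0, 0, 0, 0, 0, 0, 0, 0, 0, 0, 0, 0, 0, 0, 0, 0, 0, 0, 0, 0, 0, 0, 0, 0, 0, 0, 0, 0, 0, 0, 0, 0, 0, 0, 0, 0, 0, 0], 0),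
    ([0, 0, 0, 0, 0, 0, 0, 0, 0, 1, 1, -2, 0, -1, 0, 3, 0, 0, 0, 2, 0, 0, 2, 2, 0, 3, 3, -2, 1, 0, -1, 0, 0, 2, 1, 1, 2, 0, 1, 3, 0, -2, 1, 3, 1, 3, 4, 2, 0, 2, 4, 2, 2, 4, 4, 0], [0, 0, 0, 0, 0, 0, 0, 0, 1, 1, 0, 0, 0, 0, 0, 0, 0, 0, 0, 0, 0, 0, 0, 0, 0, 0, 0, 0, 0, 0, 0, 0, 0, 0, 0, 0, 0, 0, 0, 0, 0, 0, 0, 0, 0, 0, 0, 0, 0, 0, 0, 0, 0, 0, 0, 0], 0),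
    ([0, 0, 0, 0, 0, 0, 0, 6, 0, 1, 1, -2, 1, 0, -1, 8, 0, 0, 0, 8, 0, 2, 2, 4, 0, 6, 5, -1, 1, 5, 0, 6, 1, 4, 5, 2, 6, 3, 1, 2, 1, -1, 3, 3, 4, 2, 4, 2, 0, 6, 6, 8, 4, 8, 10, 4], [0, 0, 0, 0, 0, 0, 0, 0, 1, 1, 1, 0, 0, 0, 0, 0, 1, 1, 0, 0, 0, 0, 0, 0, 0, 0, 0, 0, 0, 0, 0, 0, 0, 0, 0, 0, 0, 0, 0, 0, 0, 0, 0, 0, 0, 0, 0, 0, 0, 0, 0, 0, 0, 0, 0, 0], 6),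
    ([0, 0, 0, 0, 0, 0, 0, 2, 0, 0, 0, 0, 0, 0, 0, 2, 0, 0, 0, 2, 0, 0, 0, 0, 0, 2, 0, 0, 0, 2, 0, 2, 1, 1, 1, -1, 1, -1, -1, -1, 0, 0, 0, 2, 2, 0, 2, 0, 0, 2, 0, 2, 0, 0, 2, 0], [0, 0, 0, 0, 0, 0, 0, 0, 0, 0, 0, 0, 0, 0, 0, 0, 1, 0, 0, 0, 0, 0, 0, 0, 0, 0, 0, 0, 0, 0, 0, 0, 0, 0, 0, 0, 0, 0, 0, 0, 0, 0, 0, 0, 0, 0, 0, 0, 0, 0, 0, 0, 0, 0, 0, 0], 2),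
    ([0, 0, 0, 0, 0, 0, 0, 2, 0, 0, 0, 0, 0, 0, 0, 2, 0, 0, 0, 2, 0, 0, 0, 0, 1, 1, -1, -1, -1, -1, 1, 1, 0, 0, 2, 0, 0, 2, 2, 0, 0, 2, 0, 2, 2, 2, 0, 2, 0, 2, 2, 2, 0, 2, 2, 0], [0, 0, 0, 0, 0, 0, 0, 0, 0, 0, 0, 0, 0, 0, 0, 1, 0, 0, 0, 0, 0, 0, 0, 0, 0, 0, 0, 0, 0, 0, 0, 0, 0, 0, 0, 0, 0, 0, 0, 0, 0, 0, 0, 0, 0, 0, 0, 0, 0, 0, 0, 0, 0, 0, 0, 0], 2),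
    ([0, 0, 0, 0, 0, 0, 0, 2, 0, 0, 0, 0, 0, 0, 0, 2, 1, 1, 1, -1, 1, 1, 1, 3, 0, 4, 4, 4, 4, 6, 2, 6, 0, 2, 2, 0, 4, 4, 2, 4, 0, 2, 0, 4, 2, 0, 4, 2, 0, 2, 2, 2, 6, 2, 2, -2], [0, 0, 0, 0, 0, 0, 0, 0, 0, 0, 0, 1, 1, 1, 1, 0, 0, 0, 0, 0, 0, 0, 0, 0, 0, 0, 0, 0, 0, 0, 0, 0, 0, 0, 0, 0, 0, 0, 0, 0, 0, 0, 0, 0, 0, 0, 0, 0, 0, 0, 0, 0, 0, 0, 0, 0], 2),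
    ([0, 0, 0, 0, 0, 0, 0, 2, 1, 1, 1, -1, 1, -1, 1, 5, 0, 0, 0, 6, 0, 4, 4, 4, 0, 4, 6, 0, 0, 2, 0, 2, 0, 4, 4, 2, 4, 2, 2, 4, 0, 2, 2, 4, 2, 2, 2, 4, 0, 4, 6, 6, 4, 6, 6, 2], [0, 0, 0, 0, 0, 0, 0, 1, 1, 1, 1, 0, 0, 0, 0, 0, 0, 0, 0, 0, 0, 0, 0, 0, 0, 0, 0, 0, 0, 0, 0, 0, 0, 0, 0, 0, 0, 0, 0, 0, 0, 0, 0, 0, 0, 0, 0, 0, 0, 0, 0, 0, 0, 0, 0, 0], 2)]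
  c0 := 2
  c1 := [0, 0, 0, 0, 0, 0, 0, 0, 1, 0, 3, 0, 1, 0, 0, 2, 0, 1, 7, 0, 2, 0, 1, 0, 2, 1, 0, 0, 1, 4, 0, 0, 2, 2, 2, 2, 2, 2, 2, 2, 2, 2, 2, 2, 2, 2, 2, 2, 2, 1, 7, 1, 0, 0, 0, 0]
  c2 := [
    [],
    [0],
    [0, 0],
    [0, 0, 0],
    [0, 0, 0, 0],
    [0, 0, 0, 0, 0],
    [0, 0, 0, 0, 0, 0],
    [0, 0, 0, 0, 0, 0, 0],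
    [0, 0, 0, 0, 0, 0, 0, 0],
    [0, 0, 0, 0, 0, 0, 0, 0, 0],
    [0, 0, 0, 0, 0, 0, 0, 0, 1, 0],
    [0, 0, 0, 0, 0, 0, 0, 0, 0, 1, 0],
    [0, 0, 0, 0, 0, 0, 0, 0, 3, 0, 1, 0],
    [0, 0, 0, 0, 0, 0, 0, 0, 0, 3, 0, 1, 0],
    [0, 0, 0, 0, 0, 0, 0, 0, 0, 1, 0, 3, 0, 1],
    [0, 0, 0, 0, 0, 0, 0, 0, 1, 0, 3, 0, 1, 0, 0],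
    [0, 0, 0, 0, 0, 0, 0, 0, 0, 5, 0, 1, 0, 2, 1, 0],
    [0, 0, 0, 0, 0, 0, 0, 0, 2, 0, 1, 0, 8, 0, 0, 1, 0],
    [0, 0, 0, 0, 0, 0, 0, 0, 1, 0, 2, 0, 1, 0, 0, 4, 0, 1],
    [0, 0, 0, 0, 0, 0, 0, 0, 0, 1, 0, 4, 0, 1, 2, 0, 1, 0, 0],
    [0, 0, 0, 0, 0, 0, 0, 0, 1, 0, 6, 0, 1, 0, 0, 2, 0, 1, 3, 0],
    [0, 0, 0, 0, 0, 0, 0, 0, 0, 1, 0, 2, 0, 1, 5, 0, 1, 0, 0, 3, 0],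
    [0, 0, 0, 0, 0, 0, 0, 0, 4, 0, 1, 0, 2, 0, 0, 1, 0, 3, 1, 0, 1, 0],
    [0, 0, 0, 0, 0, 0, 0, 0, 0, 2, 0, 1, 0, 4, 1, 0, 3, 0, 0, 1, 0, 1, 0],
    [0, 0, 0, 0, 0, 0, 0, 0, 1, 0, 6, 0, 1, 0, 0, 2, 0, 1, 3, 0, 2, 0, 1, 0],
    [0, 0, 0, 0, 0, 0, 0, 0, 2, 0, 1, 0, 6, 0, 0, 1, 0, 2, 1, 0, 1, 0, 3, 0, 1],
    [0, 0, 0, 0, 0, 0, 0, 0, 0, 1, 0, 6, 0, 1, 2, 0, 1, 0, 0, 2, 0, 3, 0, 1, 0, 0],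
    [0, 0, 0, 0, 0, 0, 0, 0, 0, 2, 0, 1, 0, 6, 1, 0, 3, 0, 0, 1, 0, 1, 0, 2, 0, 0, 1],
    [0, 0, 0, 0, 0, 0, 0, 0, 6, 0, 1, 0, 2, 0, 0, 1, 0, 3, 1, 0, 1, 0, 2, 0, 1, 3, 0, 0],
    [0, 0, 0, 0, 0, 0, 0, 0, 1, 0, 2, 0, 1, 0, 0, 6, 0, 1, 2, 0, 3, 0, 1, 0, 3, 1, 0, 0, 1],
    [0, 0, 0, 0, 0, 0, 0, 0, 0, 1, 0, 2, 0, 1, 6, 0, 1, 0, 0, 3, 0, 2, 0, 1, 0, 0, 3, 1, 0, 0],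
    [0, 0, 0, 0, 0, 0, 0, 0, 0, 6, 0, 1, 0, 2, 1, 0, 2, 0, 0, 1, 0, 1, 0, 3, 0, 0, 1, 3, 0, 0, 1],
    [0, 0, 0, 0, 0, 0, 0, 0, 1, 0, 3, 0, 1, 0, 0, 2, 0, 1, 9, 0, 2, 0, 1, 0, 2, 1, 0, 0, 1, 4, 0, 0],
    [0, 0, 0, 0, 0, 0, 0, 0, 1, 0, 3, 0, 1, 0, 0, 2, 0, 1, 4, 0, 2, 0, 1, 0, 2, 1, 0, 0, 1, 10, 0, 0, 2],
    [0, 0, 0, 0, 0, 0, 0, 0, 1, 0, 3, 0, 1, 0, 0, 2, 0, 1, 5, 0, 2, 0, 1, 0, 2, 1, 0, 0, 1, 4, 0, 0, 2, 2],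
    [0, 0, 0, 0, 0, 0, 0, 0, 1, 0, 3, 0, 1, 0, 0, 2, 0, 1, 4, 0, 2, 0, 1, 0, 2, 1, 0, 0, 1, 5, 0, 0, 2, 2, 2],
    [0, 0, 0, 0, 0, 0, 0, 0, 1, 0, 3, 0, 1, 0, 0, 2, 0, 1, 4, 0, 2, 0, 1, 0, 2, 1, 0, 0, 1, 5, 0, 0, 2, 2, 2, 2],
    [0, 0, 0, 0, 0, 0, 0, 0, 1, 0, 3, 0, 1, 0, 0, 2, 0, 1, 5, 0, 2, 0, 1, 0, 2, 1, 0, 0, 1, 4, 0, 0, 2, 2, 2, 2, 2],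
    [0, 0, 0, 0, 0, 0, 0, 0, 1, 0, 3, 0, 1, 0, 0, 2, 0, 1, 6, 0, 2, 0, 1, 0, 2, 1, 0, 0, 1, 4, 0, 0, 2, 2, 2, 2, 2, 2],
    [0, 0, 0, 0, 0, 0, 0, 0, 1, 0, 3, 0, 1, 0, 0, 2, 0, 1, 4, 0, 2, 0, 1, 0, 2, 1, 0, 0, 1, 6, 0, 0, 2, 2, 2, 2, 2, 2, 2],
    [0, 0, 0, 0, 0, 0, 0, 0, 1, 0, 3, 0, 1, 0, 0, 2, 0, 1, 8, 0, 2, 0, 1, 0, 2, 1, 0, 0, 1, 4, 0, 0, 2, 2, 2, 2, 2, 2, 2, 2],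
    [0, 0, 0, 0, 0, 0, 0, 0, 1, 0, 3, 0, 1, 0, 0, 2, 0, 1, 5, 0, 2, 0, 1, 0, 2, 1, 0, 0, 1, 4, 0, 0, 2, 2, 2, 2, 2, 2, 2, 2, 2],
    [0, 0, 0, 0, 0, 0, 0, 0, 1, 0, 3, 0, 1, 0, 0, 2, 0, 1, 6, 0, 2, 0, 1, 0, 2, 1, 0, 0, 1, 4, 0, 0, 2, 2, 2, 2, 2, 2, 2, 2, 2, 2],
    [0, 0, 0, 0, 0, 0, 0, 0, 1, 0, 3, 0, 1, 0, 0, 2, 0, 1, 5, 0, 2, 0, 1, 0, 2, 1, 0, 0, 1, 4, 0, 0, 2, 2, 2, 2, 2, 2, 2, 2, 2, 2, 2],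
    [0, 0, 0, 0, 0, 0, 0, 0, 1, 0, 3, 0, 1, 0, 0, 2, 0, 1, 4, 0, 2, 0, 1, 0, 2, 1, 0, 0, 1, 5, 0, 0, 2, 2, 2, 2, 2, 2, 2, 2, 2, 2, 2, 2],
    [0, 0, 0, 0, 0, 0, 0, 0, 1, 0, 3, 0, 1, 0, 0, 2, 0, 1, 4, 0, 2, 0, 1, 0, 2, 1, 0, 0, 1, 6, 0, 0, 2, 2, 2, 2, 2, 2, 2, 2, 2, 2, 2, 2, 2],
    [0, 0, 0, 0, 0, 0, 0, 0, 1, 0, 3, 0, 1, 0, 0, 2, 0, 1, 4, 0, 2, 0, 1, 0, 2, 1, 0, 0, 1, 8, 0, 0, 2, 2, 2, 2, 2, 2, 2, 2, 2, 2, 2, 2, 2, 2],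
    [0, 0, 0, 0, 0, 0, 0, 0, 1, 0, 3, 0, 1, 0, 0, 2, 0, 1, 4, 0, 2, 0, 1, 0, 2, 1, 0, 0, 1, 5, 0, 0, 2, 2, 2, 2, 2, 2, 2, 2, 2, 2, 2, 2, 2, 2, 2],
    [0, 0, 0, 0, 0, 0, 0, 0, 1, 0, 6, 0, 1, 0, 0, 2, 0, 1, 3, 0, 2, 0, 1, 0, 2, 1, 0, 0, 1, 3, 0, 0, 2, 2, 2, 2, 2, 2, 2, 2, 2, 2, 2, 2, 2, 2, 2, 2],
    [0, 0, 0, 0, 0, 0, 0, 0, 4, 0, 1, 0, 2, 0, 0, 1, 0, 3, 1, 0, 1, 0, 2, 0, 1, 3, 0, 0, 2, 1, 0, 0, 1, 1, 1, 1, 1, 1, 1, 1, 1, 1, 1, 1, 1, 1, 1, 1, 1],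
    [0, 0, 0, 0, 0, 0, 0, 0, 1, 0, 2, 0, 1, 0, 0, 4, 0, 1, 2, 0, 3, 0, 1, 0, 3, 1, 0, 0, 1, 2, 0, 0, 9, 4, 5, 4, 4, 5, 6, 4, 8, 5, 6, 5, 4, 4, 4, 4, 3, 1],
    [0, 0, 0, 0, 0, 0, 0, 0, 2, 0, 1, 0, 8, 0, 0, 1, 0, 2, 1, 0, 1, 0, 3, 0, 1, 2, 0, 0, 3, 1, 0, 0, 1, 1, 1, 1, 1, 1, 1, 1, 1, 1, 1, 1, 1, 1, 1, 1, 1, 3, 1],
    [0, 0, 0, 0, 0, 0, 0, 0, 0, 1, 0, 2, 0, 1, 5, 0, 1, 0, 0, 3, 0, 2, 0, 1, 0, 0, 3, 1, 0, 0, 2, 1, 0, 0, 0, 0, 0, 0, 0, 0, 0, 0, 0, 0, 0, 0, 0, 0, 0, 0, 0, 0],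
    [0, 0, 0, 0, 0, 0, 0, 0, 0, 2, 0, 1, 0, 4, 1, 0, 3, 0, 0, 1, 0, 1, 0, 2, 0, 0, 1, 2, 0, 0, 1, 3, 0, 0, 0, 0, 0, 0, 0, 0, 0, 0, 0, 0, 0, 0, 0, 0, 0, 0, 0, 0, 1],
    [0, 0, 0, 0, 0, 0, 0, 0, 0, 5, 0, 1, 0, 2, 1, 0, 2, 0, 0, 1, 0, 1, 0, 3, 0, 0, 1, 3, 0, 0, 1, 2, 0, 0, 0, 0, 0, 0, 0, 0, 0, 0, 0, 0, 0, 0, 0, 0, 0, 0, 0, 0, 1, 3],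
    [0, 0, 0, 0, 0, 0, 0, 0, 0, 1, 0, 4, 0, 1, 2, 0, 1, 0, 0, 2, 0, 3, 0, 1, 0, 0, 2, 1, 0, 0, 3, 1, 0, 0, 0, 0, 0, 0, 0, 0, 0, 0, 0, 0, 0, 0, 0, 0, 0, 0, 0, 0, 3, 1, 1]]

set_option Elab.async false in
theorem b8_0_ok : chkB8 colsD b8_0 = true := by decide +kernel

def b8_1 : B8 where
  m := 0xff00
  pool := [
    ([1, 1, 1, 1, 0, 0, 0, 0, 0, 0, 0, 6, 0, 2, 0, 0, 0, 0, 0, 4, 0, 0, 0, 0, 0, 1, -1, 4, 1, 2, 5, 6, 0, 4, 0, 8, 4, 6, 2, 2, 0, 2, 7, 3, -1, 3, 4, 6, 0, -3, 4, 5, -1, 4, 2, 1], [1, 1, 1, 1, 0, 0, 0, 0, 0, 0, 0, 0, 0, 0, 0, 0, 0, 0, 0, 0, 0, 0, 0, 0, 0, 0, 0, 0, 0, 0, 0, 0, 0, 0, 0, 0, 0, 0, 0, 0, 0, 0, 0, 0, 0, 0, 0, 0,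 0, 0, 0, 0, 0, 0, 0, 0], 8),
    ([1, 1, 0, 0, 1, 1, 0, 0, 0, 0, 0, 2, 0, 2, 4, 2, 0, 0, 0, 2, 0, 2, 2, 2, 0, 2, 2, 4, 3, 1, 5, 7, 0, 0, 0, 4, 2, 6, 4, 0, 0, 3, 4, -1, 0, 5, 5, 4, 0, -3, 1, 4, 3, 2, -1, 0], [1, 1, 0, 0, 1, 1, 0, 0, 0, 0, 0, 0, 0, 0, 0, 0, 0, 0, 0, 0, 0, 0, 0, 0, 0, 0, 0, 0, 0, 0, 0, 0, 0, 0, 0, 0, 0, 0, 0, 0, 0, 0, 0, 0, 0, 0, 0, 0, 0, 0, 0, 0, 0, 0, 0, 0], 10),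
    ([0, 1, 0, 1, 1, 0, 0, 1, 0, 0, 0, 4, 0, 0, 2, 0, 0, 0, 0, 2, 0, 0, -2, 0, 0, -1, 0, 3, 2, 1, 3, 4, 0, 2, 0, 4, 0, 6, 0, 0, 0, 4, 3, 1, 0, 2, 3, 3, 0, -2, 1, 5, 1, 1, 2, 2], [0, 1, 0, 1, 1, 0, 0, 0, 0, 0, 0, 0, 0, 0, 0, 0, 0, 0, 0, 0, 0, 0, 0, 0, 0, 0, 0, 0, 0, 0, 0, 0, 0, 0, 0, 0, 0, 0, 0, 0, 0, 0, 0, 0, 0, 0, 0, 0, 0, 0, 0, 0, 0, 0, 0, 0], 6),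
    ([1, 0, 0, 1, 1, 0, 1, 10, 0, 0, 0, 2, 0, 2, 2, 6, 0, 0, 0, 8, 0, 2, 0, 2, 1, 5, 0, 2, 3, 7, 6, 12, 0, 2, 4, 4, 8, 12, 2, 2, 1, 6, 5, 2, 0, 3, 5, 4, 1, 5, 5, 11, 0, 4, 4, 4], [1, 0, 0, 1, 1, 0, 1, 0, 0, 0, 0, 0, 0, 0, 0, 1, 0, 1, 1, 0, 0, 0, 0, 0, 0, 0, 0, 0, 0, 0, 0, 0, 0, 0, 0, 0, 0, 0, 0, 0, 0, 0, 0, 0, 0, 0, 0, 0, 0, 0, 0, 0, 0, 0, 0, 0], 12),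
    ([0, 0, 0, 0, 0, 0, 0, 2, 0, 0, 0, 0, 0, 0, 0, 2, 0, 0, 0, 2, 0, 0, 0, 0, 0, 2, 0, 0, 0, 2, 0, 2, 0, 0, 2, 0, 2, 2, 0, 0, 1, -1, 1, -1, -1, -1, -1, -1, 0, 2, 2, 2, 2, 2, 2, 2], [0, 0, 0, 0, 0, 0, 0, 0, 0, 0, 0, 0, 0, 0, 0, 0, 0, 1, 0, 0, 0, 0, 0, 0, 0, 0, 0, 0, 0, 0, 0, 0, 0, 0, 0, 0, 0, 0, 0, 0, 0, 0, 0, 0, 0, 0, 0, 0, 0, 0, 0, 0, 0, 0, 0, 0], 2),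
    ([1, 1, 1, 1, 0, 0, 0, 2, 0, 0, 0, 6, 0, 2, 0, 0, 0, 1, 0, 3, 0, -1, -1, 2, 0, 1, 1, 4, 3, 2, 7, 8, 0, 6, 1, 9, 6, 8, 1, 3, 0, 2, 6, 2, 0, 4, 6, 6, 0, -2, 4, 4, 0, 4, 2, 0], [1, 1, 1, 1, 0, 0, 0, 0, 0, 0, 0, 0, 1, 0, 0, 0, 0, 0, 0, 0, 0, 0, 0, 0, 0, 0, 0, 0, 0, 0, 0, 0, 0, 0, 0, 0, 0, 0, 0, 0, 0, 0, 0, 0, 0, 0, 0, 0, 0, 0, 0, 0, 0, 0, 0, 0], 8),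
    ([1, 0, 1, 0, 0, 1, 1, 2, 0, 0, 0, 0, 0, 2, 2, 0, 0, 1, 1, 0, 0, 3, 4, 3, 0, 7, 6, 5, 4, 3, 7, 12, 0, 3, 1, 4, 9, 8, 5, 0, 0, 2, 4, 0, 0, 4, 6, 4, 0, 2, 0, 2, 4, 4, 2, -2], [1, 0, 1, 0, 0, 1, 1, 0, 0, 0, 0, 0, 1, 1, 0, 0, 0, 0, 0, 0, 0, 0, 0, 0, 0, 0, 0, 0, 0, 0, 0, 0, 0, 0, 0, 0, 0, 0, 0, 0, 0, 0, 0, 0, 0, 0, 0, 0, 0, 0, 0, 0, 0, 0, 0, 0], 4),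
    ([1, 0, 0, 1, 1, 0, 1, 4, 0, 0, 0, 2, 0, 2, 2, 0, 1, 0, 0, 1, 0, 3, 2, 3, 0, 0, 1, 3, 4, 6, 5, 7, 0, 2, -1, 3, 5, 9, 0, 2, 0, 4, 6, 2, -2, 2, 4, 2, 0, 0, 4, 10, 0, 0, 2, 0], [1, 0, 0, 1, 1, 0, 1, 0, 0, 0, 0, 1, 0, 0, 0, 0, 0, 0, 0, 0, 0, 0, 0, 0, 0, 0, 0, 0, 0, 0, 0, 0, 0, 0, 0, 0, 0, 0, 0, 0, 0, 0, 0, 0, 0, 0, 0, 0, 0, 0, 0, 0, 0, 0, 0, 0], 6),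
    ([0, 1, 1, 0, 1, 0, 1, 4, 0, 0, 0, 2, 0, 0, 4, 6, 0, 0, 1, 5, 1, 5, 0, -2, 1, 10, 3, 4, 4, 3, 5, 14, 1, 1, 3, 3, 4, 8, 6, 0, 0, 6, 4, 6, 2, 4, 8, 8, 0, 6, 0, 10, 6, 4, 6, 2], [0, 1, 1, 0, 1, 0, 1, 0, 0, 0, 0, 0, 0, 1, 1, 1, 1, 0, 0, 0, 0, 0, 0, 0, 0, 0, 0, 0, 0, 0, 0, 0, 0, 0, 0, 0, 0, 0, 0, 0, 0, 0, 0, 0, 0, 0, 0, 0, 0, 0, 0, 0, 0, 0, 0, 0], 12),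
    ([0, 0, 0, 0, 0, 0, 0, 2, 0, 0, 0, 0, 0, 0, 0, 2, 0, 0, 0, 2, 0, 0, 0, 0, 1, 1, -1, -1, -1, -1, 1, 1, 0, 0, 2, 0, 0, 2, 2, 0, 0, 2, 0, 2, 2, 2, 0, 2, 0, 2, 2, 2, 0, 2, 2, 0], [0, 0, 0, 0, 0, 0, 0, 0, 0, 0, 0, 0, 0, 0, 0, 1, 0, 0, 0, 0, 0, 0, 0, 0, 0, 0, 0, 0, 0, 0, 0, 0, 0, 0, 0, 0, 0, 0, 0, 0, 0, 0, 0, 0, 0, 0, 0, 0, 0, 0, 0, 0, 0, 0, 0, 0], 2),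
    ([0, 0, 0, 0, 0, 0, 0, 2, 0, 0, 0, 0, 0, 0, 0, 2, 1, 1, 1, -1, 1, 1, 1, 3, 0, 4, 4, 4, 4, 6, 2, 6, 0, 2, 2, 0, 4, 4, 2, 4, 0, 2, 0, 4, 2, 0, 4, 2, 0, 2, 2, 2, 6, 2, 2, -2], [0, 0, 0, 0, 0, 0, 0, 0, 0, 0, 0, 1, 1, 1, 1, 0, 0, 0, 0, 0, 0, 0, 0, 0, 0, 0, 0, 0, 0, 0, 0, 0, 0, 0, 0, 0, 0, 0, 0, 0, 0, 0, 0, 0, 0, 0, 0, 0, 0, 0, 0, 0, 0, 0, 0, 0], 2),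
    ([1, 1, 1, 1, 1, 1, 1, 1, 0, 0, 0, 4, 0, 2, 4, 0, 0, 0, 0, 2, 0, 4, 2, 2, 0, 4, 2, 6, 4, 2, 8, 12, 0, 2, 0, 8, 6, 10, 4, 0, 0, 6, 8, 0, -2, 6, 6, 6, 0, -2, 2, 8, 2, 4, 2, 2], [1, 1, 1, 1, 1, 1, 1, 0, 0, 0, 0, 0, 0, 0, 0, 0, 0, 0, 0, 0, 0, 0, 0, 0, 0, 0, 0, 0, 0, 0, 0, 0, 0, 0, 0, 0, 0, 0, 0, 0, 0, 0, 0, 0, 0, 0, 0, 0, 0, 0, 0, 0, 0, 0, 0, 0], 10)]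
  c0 := 1
  c1 := [0, 0, 0, 0, 3, 2, 1, 1, 0, 0, 0, 0, 0, 0, 0, 0, 1, 1, 1, 1, 1, 1, 1, 1, 1, 0, 0, 1, 0, 3, 0, 2, 1, 1, 1, 1, 1, 1, 1, 1, 1, 2, 0, 0, 0, 0, 3, 1, 1, 0, 3, 0, 0, 1, 2, 0]
  c2 := [
    [],
    [1],
    [2, 4],
    [4, 2, 1],
    [0, 0, 0, 0],
    [0, 0, 0, 0, 1],
    [0, 0, 0, 0, 4, 2],
    [0, 0, 0, 0, 2, 4, 1],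
    [0, 0, 0, 0, 0, 0, 0, 0],
    [0, 0, 0, 0, 0, 0, 0, 0, 0],
    [0, 0, 0, 0, 0, 0, 0, 0, 0, 0],
    [0, 0, 0, 0, 0, 0, 0, 0, 0, 0, 0],
    [0, 0, 0, 0, 0, 0, 0, 0, 0, 0, 0, 0],
    [0, 0, 0, 0, 0, 0, 0, 0, 0, 0, 0, 0, 0],
    [0, 0, 0, 0, 0, 0, 0, 0, 0, 0, 0, 0, 0, 0],
    [0, 0, 0, 0, 0, 0, 0, 0, 0, 0, 0, 0, 0, 0, 0],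
    [0, 0, 0, 0, 3, 2, 1, 1, 0, 0, 0, 0, 0, 0, 0, 0],
    [0, 0, 0, 0, 3, 2, 1, 1, 0, 0, 0, 0, 0, 0, 0, 0, 1],
    [0, 0, 0, 0, 3, 2, 1, 1, 0, 0, 0, 0, 0, 0, 0, 0, 1, 1],
    [0, 0, 0, 0, 3, 2, 1, 1, 0, 0, 0, 0, 0, 0, 0, 0, 1, 1, 1],
    [0, 0, 0, 0, 3, 2, 1, 1, 0, 0, 0, 0, 0, 0, 0, 0, 1, 1, 1, 1],
    [0, 0, 0, 0, 3, 2, 1, 1, 0, 0, 0, 0, 0, 0, 0, 0, 1, 1, 1, 1, 1],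
    [0, 0, 0, 0, 3, 2, 1, 1, 0, 0, 0, 0, 0, 0, 0, 0, 1, 1, 1, 1, 1, 1],
    [0, 0, 0, 0, 3, 2, 1, 1, 0, 0, 0, 0, 0, 0, 0, 0, 1, 1, 1, 1, 1, 1, 1],
    [0, 0, 0, 0, 4, 2, 1, 1, 0, 0, 0, 0, 0, 0, 0, 0, 1, 1, 1, 1, 1, 1, 1, 1],
    [4, 2, 1, 1, 0, 0, 0, 0, 0, 0, 0, 0, 0, 0, 0, 0, 0, 0, 0, 0, 0, 0, 0, 0, 0],
    [2, 4, 1, 1, 0, 0, 0, 0, 0, 0, 0, 0, 0, 0, 0, 0, 0, 0, 0, 0, 0, 0, 0, 0, 0, 1],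
    [0, 0, 0, 0, 2, 4, 1, 1, 0, 0, 0, 0, 0, 0, 0, 0, 1, 1, 1, 1, 1, 1, 1, 1, 1, 0, 0],
    [1, 1, 2, 4, 0, 0, 0, 0, 0, 0, 0, 0, 0, 0, 0, 0, 0, 0, 0, 0, 0, 0, 0, 0, 0, 4, 2, 0],
    [0, 0, 0, 0, 1, 1, 4, 2, 0, 0, 0, 0, 0, 0, 0, 0, 3, 3, 3, 3, 3, 3, 3, 3, 4, 0, 0, 2, 0],
    [1, 1, 4, 2, 0, 0, 0, 0, 0, 0, 0, 0, 0, 0, 0, 0, 0, 0, 0, 0, 0, 0, 0, 0, 0, 2, 4, 0, 1, 0],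
    [0, 0, 0, 0, 1, 1, 2, 4, 0, 0, 0, 0, 0, 0, 0, 0, 2, 2, 2, 2, 2, 2, 2, 2, 2, 0, 0, 4, 0, 1, 0],
    [0, 0, 0, 0, 3, 2, 1, 1, 0, 0, 0, 0, 0, 0, 0, 0, 1, 1, 1, 1, 1, 1, 1, 1, 1, 0, 0, 1, 0, 3, 0, 2],
    [0, 0, 0, 0, 3, 2, 1, 1, 0, 0, 0, 0, 0, 0, 0, 0, 1, 1, 1, 1, 1, 1, 1, 1, 1, 0, 0, 1, 0, 3, 0, 2, 1],
    [0, 0, 0, 0, 3, 2, 1, 1, 0, 0, 0, 0, 0, 0, 0, 0, 1, 1, 1, 1, 1, 1, 1, 1, 1, 0, 0, 1, 0, 3, 0, 2, 1, 1],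
    [0, 0, 0, 0, 3, 2, 1, 1, 0, 0, 0, 0, 0, 0, 0, 0, 1, 1, 1, 1, 1, 1, 1, 1, 1, 0, 0, 1, 0, 3, 0, 2, 1, 1, 1],
    [0, 0, 0, 0, 3, 2, 1, 1, 0, 0, 0, 0, 0, 0, 0, 0, 1, 1, 1, 1, 1, 1, 1, 1, 1, 0, 0, 1, 0, 3, 0, 2, 1, 1, 1, 1],
    [0, 0, 0, 0, 3, 2, 1, 1, 0, 0, 0, 0, 0, 0, 0, 0, 1, 1, 1, 1, 1, 1, 1, 1, 1, 0, 0, 1, 0, 3, 0, 2, 1, 1, 1, 1, 1],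
    [0, 0, 0, 0, 3, 2, 1, 1, 0, 0, 0, 0, 0, 0, 0, 0, 1, 1, 1, 1, 1, 1, 1, 1, 1, 0, 0, 1, 0, 3, 0, 2, 1, 1, 1, 1, 1, 1],
    [0, 0, 0, 0, 3, 2, 1, 1, 0, 0, 0, 0, 0, 0, 0, 0, 1, 1, 1, 1, 1, 1, 1, 1, 1, 0, 0, 1, 0, 3, 0, 2, 1, 1, 1, 1, 1, 1, 1],
    [0, 0, 0, 0, 8, 2, 1, 1, 0, 0, 0, 0, 0, 0, 0, 0, 1, 1, 1, 1, 1, 1, 1, 1, 1, 0, 0, 1, 0, 6, 0, 2, 1, 1, 1, 1, 1, 1, 1, 1],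
    [0, 0, 0, 0, 1, 1, 2, 7, 0, 0, 0, 0, 0, 0, 0, 0, 2, 2, 2, 2, 2, 2, 2, 2, 2, 0, 0, 6, 0, 1, 0, 1, 2, 2, 2, 2, 2, 2, 2, 2, 2],
    [5, 2, 1, 1, 0, 0, 0, 0, 0, 0, 0, 0, 0, 0, 0, 0, 0, 0, 0, 0, 0, 0, 0, 0, 0, 1, 1, 0, 5, 0, 2, 0, 0, 0, 0, 0, 0, 0, 0, 0, 0, 0],
    [1, 1, 5, 2, 0, 0, 0, 0, 0, 0, 0, 0, 0, 0, 0, 0, 0, 0, 0, 0, 0, 0, 0, 0, 0, 2, 5, 0, 1, 0, 1, 0, 0, 0, 0, 0, 0, 0, 0, 0, 0, 0, 2],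
    [2, 5, 1, 1, 0, 0, 0, 0, 0, 0, 0, 0, 0, 0, 0, 0, 0, 0, 0, 0, 0, 0, 0, 0, 0, 1, 1, 0, 2, 0, 5, 0, 0, 0, 0, 0, 0, 0, 0, 0, 0, 0, 1, 4],
    [1, 1, 2, 5, 0, 0, 0, 0, 0, 0, 0, 0, 0, 0, 0, 0, 0, 0, 0, 0, 0, 0, 0, 0, 0, 5, 2, 0, 1, 0, 1, 0, 0, 0, 0, 0, 0, 0, 0, 0, 0, 0, 4, 1, 2],
    [0, 0, 0, 0, 1, 1, 6, 2, 0, 0, 0, 0, 0, 0, 0, 0, 3, 3, 3, 3, 3, 3, 3, 3, 7, 0, 0, 2, 0, 1, 0, 1, 3, 3, 3, 3, 3, 3, 3, 3, 4, 1, 0, 0, 0, 0],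
    [0, 0, 0, 0, 2, 6, 1, 1, 0, 0, 0, 0, 0, 0, 0, 0, 1, 1, 1, 1, 1, 1, 1, 1, 1, 0, 0, 1, 0, 2, 0, 10, 1, 1, 1, 1, 1, 1, 1, 1, 1, 4, 0, 0, 0, 0, 2],
    [0, 0, 0, 0, 4, 2, 1, 1, 0, 0, 0, 0, 0, 0, 0, 0, 1, 1, 1, 1, 1, 1, 1, 1, 1, 0, 0, 1, 0, 4, 0, 2, 1, 1, 1, 1, 1, 1, 1, 1, 1, 2, 0, 0, 0, 0, 7, 1],
    [1, 1, 2, 4, 0, 0, 0, 0, 0, 0, 0, 0, 0, 0, 0, 0, 0, 0, 0, 0, 0, 0, 0, 0, 0, 4, 2, 0, 1, 0, 1, 0, 0, 0, 0, 0, 0, 0, 0, 0, 0, 0, 7, 1, 2, 1, 0, 0, 0],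
    [0, 0, 0, 0, 1, 1, 4, 2, 0, 0, 0, 0, 0, 0, 0, 0, 3, 3, 3, 3, 3, 3, 3, 3, 4, 0, 0, 2, 0, 1, 0, 1, 3, 3, 3, 3, 3, 3, 3, 3, 7, 1, 0, 0, 0, 0, 1, 2, 4, 0],
    [4, 2, 1, 1, 0, 0, 0, 0, 0, 0, 0, 0, 0, 0, 0, 0, 0, 0, 0, 0, 0, 0, 0, 0, 0, 1, 1, 0, 4, 0, 2, 0, 0, 0, 0, 0, 0, 0, 0, 0, 0, 0, 1, 2, 1, 7, 0, 0, 0, 4, 0],
    [1, 1, 4, 2, 0, 0, 0, 0, 0, 0, 0, 0, 0, 0, 0, 0, 0, 0, 0, 0, 0, 0, 0, 0, 0, 2, 4, 0, 1, 0, 1, 0, 0, 0, 0, 0, 0, 0, 0, 0, 0, 0, 2, 1, 7, 1, 0, 0, 0, 1, 0, 2],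
    [0, 0, 0, 0, 2, 4, 1, 1, 0, 0, 0, 0, 0, 0, 0, 0, 1, 1, 1, 1, 1, 1, 1, 1, 1, 0, 0, 1, 0, 2, 0, 4, 1, 1, 1, 1, 1, 1, 1, 1, 1, 7, 0, 0, 0, 0, 2, 1, 1, 0, 2, 0, 0],
    [0, 0, 0, 0, 1, 1, 2, 4, 0, 0, 0, 0, 0, 0, 0, 0, 2, 2, 2, 2, 2, 2, 2, 2, 2, 0, 0, 4, 0, 1, 0, 1, 2, 2, 2, 2, 2, 2, 2, 2, 2, 1, 0, 0, 0, 0, 1, 7, 2, 0, 1, 0, 0, 4],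
    [2, 4, 1, 1, 0, 0, 0, 0, 0, 0, 0, 0, 0, 0, 0, 0, 0, 0, 0, 0, 0, 0, 0, 0, 0, 1, 1, 0, 2, 0, 4, 0, 0, 0, 0, 0, 0, 0, 0, 0, 0, 0, 1, 7, 1, 2, 0, 0, 0, 2, 0, 1, 4, 0, 0]]

set_option Elab.async false in
theorem b8_1_ok : chkB8 colsD b8_1 = true := by decide +kernel

def b8_2 : B8 where
  m := 0xff0000
  pool := [
    ([1, 1, 1, 1, 0, 0, 0, 0, 0, 0, 0, 6, 0, 2, 0, 0, 0, 0, 0, 4, 0, 0, 0, 0, 0, 1, -1, 4, 1, 2, 5, 6, 0, 4, 0, 8, 4, 6, 2, 2, 0, 2, 7, 3, -1, 3, 4, 6, 0, -3, 4, 5, -1, 4, 2, 1], [1, 1, 1, 1, 0, 0, 0, 0, 0, 0, 0, 0, 0, 0, 0, 0, 0, 0, 0, 0, 0, 0, 0, 0, 0, 0, 0, 0, 0, 0, 0, 0, 0, 0, 0, 0, 0, 0, 0, 0, 0, 0, 0, 0, 0, 0, 0,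 0, 0, 0, 0, 0, 0, 0, 0, 0], 4),
    ([1, 1, 0, 0, 1, 1, 0, 0, 0, 0, 0, 2, 0, 2, 4, 2, 0, 0, 0, 2, 0, 2, 2, 2, 0, 2, 2, 4, 3, 1, 5, 7, 0, 0, 0, 4, 2, 6, 4, 0, 0, 3, 4, -1, 0, 5, 5, 4, 0, -3, 1, 4, 3, 2, -1, 0], [1, 1, 0, 0, 1, 1, 0, 0, 0, 0, 0, 0, 0, 0, 0, 0, 0, 0, 0, 0, 0, 0, 0, 0, 0, 0, 0, 0, 0, 0, 0, 0, 0, 0, 0, 0, 0, 0, 0, 0, 0, 0, 0, 0, 0, 0, 0, 0, 0, 0, 0, 0, 0, 0, 0, 0], 8),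
    ([0, 1, 0, 1, 1, 0, 0, 1, 0, 0, 0, 4, 0, 0, 2, 0, 0, 0, 0, 2, 0, 0, -2, 0, 0, -1, 0, 3, 2, 1, 3, 4, 0, 2, 0, 4, 0, 6, 0, 0, 0, 4, 3, 1, 0, 2, 3, 3, 0, -2, 1, 5, 1, 1, 2, 2], [0, 1, 0, 1, 1, 0, 0, 0, 0, 0, 0, 0, 0, 0, 0, 0, 0, 0, 0, 0, 0, 0, 0, 0, 0, 0, 0, 0, 0, 0, 0, 0, 0, 0, 0, 0, 0, 0, 0, 0, 0, 0, 0, 0, 0, 0, 0, 0, 0, 0, 0, 0, 0, 0, 0, 0], 0),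
    ([1, 0, 0, 1, 1, 0, 1, 6, 0, 1, 0, 1, 0, 1, 1, 4, 0, 0, 0, 4, 0, 2, 0, 2, 0, 4, 2, 2, 6, 6, 4, 10, 0, 2, 1, 3, 7, 7, 0, 4, 0, 4, 6, 2, 0, 4, 8, 4, 1, 1, 3, 9, 0, 2, 2, 2], [1, 0, 0, 1, 1, 0, 1, 0, 1, 0, 0, 0, 0, 0, 0, 0, 0, 0, 1, 0, 0, 0, 0, 0, 0, 0, 0, 0, 0, 0, 0, 0, 0, 0, 0, 0, 0, 0, 0, 0, 0, 0, 0, 0, 0, 0, 0, 0, 0, 0, 0, 0, 0, 0, 0, 0], 8),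
    ([0, 0, 0, 0, 0, 0, 0, 0, 1, 0, 0, 1, 0, -1, 2, 1, 0, 0, 0, 2, 0, 2, 2, 0, 0, 2, 1, 1, -1, 1, 0, 0, 0, 1, 2, -1, 1, 0, 0, 1, 0, 2, 0, 2, -1, -1, -1, 1, 0, 2, 2, 2, 2, 0, 0, 0], [0, 0, 0, 0, 0, 0, 0, 1, 0, 0, 0, 0, 0, 0, 0, 0, 0, 0, 0, 0, 0, 0, 0, 0, 0, 0, 0, 0, 0, 0, 0, 0, 0, 0, 0, 0, 0, 0, 0, 0, 0, 0, 0, 0, 0, 0, 0, 0, 0, 0, 0, 0, 0, 0, 0, 0], 6),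
    ([0, 0, 0, 0, 0, 0, 0, 0, 1, 1, 0, 0, 0, -2, 1, 3, 0, 0, 0, 2, 0, 2, 2, 0, 0, 4, 2, 0, 1, 1, -1, 1, 0, 1, 3, -2, 2, -1, 0, 3, 0, 1, 2, 3, 0, 1, 1, 2, 0, 2, 4, 4, 4, 2, 2, 0], [0, 0, 0, 0, 0, 0, 0, 1, 1, 0, 0, 0, 0, 0, 0, 0, 0, 0, 0, 0, 0, 0, 0, 0, 0, 0, 0, 0, 0, 0, 0, 0, 0, 0, 0, 0, 0, 0, 0, 0, 0, 0, 0, 0, 0, 0, 0, 0, 0, 0, 0, 0, 0, 0, 0, 0], 6),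
    ([0, 0, 0, 0, 0, 0, 0, 0, 0, 1, 1, -2, 0, -1, 0, 3, 0, 0, 0, 2, 0, 0, 2, 2, 0, 3, 3, -2, 1, 0, -1, 0, 0, 2, 1, 1, 2, 0, 1, 3, 0, -2, 1, 3, 1, 3, 4, 2, 0, 2, 4, 2, 2, 4, 4, 0], [0, 0, 0, 0, 0, 0, 0, 0, 1, 1, 0, 0, 0, 0, 0, 0, 0, 0, 0, 0, 0, 0, 0, 0, 0, 0, 0, 0, 0, 0, 0, 0, 0, 0, 0, 0, 0, 0, 0, 0, 0, 0, 0, 0, 0, 0, 0, 0, 0, 0, 0, 0, 0, 0, 0, 0], 6),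
    ([0, 0, 0, 0, 0, 0, 0, 6, 0, 1, 1, -2, 1, 0, -1, 8, 0, 0, 0, 8, 0, 2, 2, 4, 0, 6, 5, -1, 1, 5, 0, 6, 1, 4, 5, 2, 6, 3, 1, 2, 1, -1, 3, 3, 4, 2, 4, 2, 0, 6, 6, 8, 4, 8, 10, 4], [0, 0, 0, 0, 0, 0, 0, 0, 1, 1, 1, 0, 0, 0, 0, 0, 1, 1, 0, 0, 0, 0, 0, 0, 0, 0, 0, 0, 0, 0, 0, 0, 0, 0, 0, 0, 0, 0, 0, 0, 0, 0, 0, 0, 0, 0, 0, 0, 0, 0, 0, 0, 0, 0, 0, 0], 16),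
    ([0, 0, 0, 0, 0, 0, 0, 2, 0, 0, 0, 0, 0, 0, 0, 2, 0, 0, 0, 2, 0, 0, 0, 0, 0, 2, 0, 0, 0, 2, 0, 2, 1, 1, 1, -1, 1, -1, -1, -1, 0, 0, 0, 2, 2, 0, 2, 0, 0, 2, 0, 2, 0, 0, 2, 0], [0, 0, 0, 0, 0, 0, 0, 0, 0, 0, 0, 0, 0, 0, 0, 0, 1, 0, 0, 0, 0, 0, 0, 0, 0, 0, 0, 0, 0, 0, 0, 0, 0, 0, 0, 0, 0, 0, 0, 0, 0, 0, 0, 0, 0, 0, 0, 0, 0, 0, 0, 0, 0, 0, 0, 0], 2),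
    ([0, 0, 0, 0, 0, 0, 0, 2, 0, 0, 0, 0, 0, 0, 0, 2, 0, 0, 0, 2, 0, 0, 0, 0, 1, 1, -1, -1, -1, -1, 1, 1, 0, 0, 2, 0, 0, 2, 2, 0, 0, 2, 0, 2, 2, 2, 0, 2, 0, 2, 2, 2, 0, 2, 2, 0], [0, 0, 0, 0, 0, 0, 0, 0, 0, 0, 0, 0, 0, 0, 0, 1, 0, 0, 0, 0, 0, 0, 0, 0, 0, 0, 0, 0, 0, 0, 0, 0, 0, 0, 0, 0, 0, 0, 0, 0, 0, 0, 0, 0, 0, 0, 0, 0, 0, 0, 0, 0, 0, 0, 0, 0], 2),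
    ([0, 0, 0, 0, 0, 0, 0, 2, 1, 1, 1, -1, 1, -1, 1, 5, 0, 0, 0, 6, 0, 4, 4, 4, 0, 4, 6, 0, 0, 2, 0, 2, 0, 4, 4, 2, 4, 2, 2, 4, 0, 2, 2, 4, 2, 2, 2, 4, 0, 4, 6, 6, 4, 6, 6, 2], [0, 0, 0, 0, 0, 0, 0, 1, 1, 1, 1, 0, 0, 0, 0, 0, 0, 0, 0, 0, 0, 0, 0, 0, 0, 0, 0, 0, 0, 0, 0, 0, 0, 0, 0, 0, 0, 0, 0, 0, 0, 0, 0, 0, 0, 0, 0, 0, 0, 0, 0, 0, 0, 0, 0, 0], 18),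
    ([1, 1, 1, 1, 1, 1, 1, 1, 0, 0, 0, 4, 0, 2, 4, 0, 0, 0, 0, 2, 0, 4, 2, 2, 0, 4, 2, 6, 4, 2, 8, 12, 0, 2, 0, 8, 6, 10, 4, 0, 0, 6, 8, 0, -2, 6, 6, 6, 0, -2, 2, 8, 2, 4, 2, 2], [1, 1, 1, 1, 1, 1, 1, 0, 0, 0, 0, 0, 0, 0, 0, 0, 0, 0, 0, 0, 0, 0, 0, 0, 0, 0, 0, 0, 0, 0, 0, 0, 0, 0, 0, 0, 0, 0, 0, 0, 0, 0, 0, 0, 0, 0, 0, 0, 0, 0, 0, 0, 0, 0, 0, 0], 10)]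
  c0 := 4
  c1 := [0, 0, 0, 0, 1, 1, 3, 2, 6, 3, 4, 3, 4, 3, 3, 8, 0, 0, 0, 0, 0, 0, 0, 0, 4, 0, 0, 2, 0, 1, 0, 1, 4, 6, 3, 3, 3, 3, 4, 9, 4, 1, 0, 0, 0, 0, 1, 2, 3, 0, 1, 0, 0, 2, 1, 0]
  c2 := [
    [],
    [2],
    [1, 1],
    [1, 1, 2],
    [0, 0, 0, 0],
    [0, 0, 0, 0, 2],
    [0, 0, 0, 0, 1, 1],
    [0, 0, 0, 0, 1, 1, 2],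
    [0, 0, 0, 0, 1, 1, 3, 2],
    [0, 0, 0, 0, 1, 1, 4, 2, 3],
    [0, 0, 0, 0, 1, 1, 3, 2, 7, 3],
    [0, 0, 0, 0, 1, 1, 5, 2, 3, 7, 3],
    [0, 0, 0, 0, 1, 1, 3, 2, 6, 3, 4, 3],
    [0, 0, 0, 0, 1, 1, 5, 2, 3, 6, 3, 4, 3],
    [0, 0, 0, 0, 1, 1, 4, 2, 3, 4, 3, 6, 3, 7],
    [0, 0, 0, 0, 1, 1, 3, 2, 4, 3, 6, 3, 7, 3, 3],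
    [0, 0, 0, 0, 0, 0, 0, 0, 0, 0, 0, 0, 0, 0, 0, 0],
    [0, 0, 0, 0, 0, 0, 0, 0, 0, 0, 0, 0, 0, 0, 0, 0, 0],
    [0, 0, 0, 0, 0, 0, 0, 0, 0, 0, 0, 0, 0, 0, 0, 0, 0, 0],
    [0, 0, 0, 0, 0, 0, 0, 0, 0, 0, 0, 0, 0, 0, 0, 0, 0, 0, 0],
    [0, 0, 0, 0, 0, 0, 0, 0, 0, 0, 0, 0, 0, 0, 0, 0, 0, 0, 0, 0],
    [0, 0, 0, 0, 0, 0, 0, 0, 0, 0, 0, 0, 0, 0, 0, 0, 0, 0, 0, 0, 0],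
    [0, 0, 0, 0, 0, 0, 0, 0, 0, 0, 0, 0, 0, 0, 0, 0, 0, 0, 0, 0, 0, 0],
    [0, 0, 0, 0, 0, 0, 0, 0, 0, 0, 0, 0, 0, 0, 0, 0, 0, 0, 0, 0, 0, 0, 0],
    [0, 0, 0, 0, 1, 1, 3, 2, 6, 3, 4, 3, 4, 3, 3, 8, 0, 0, 0, 0, 0, 0, 0, 0],
    [1, 1, 2, 3, 0, 0, 0, 0, 0, 0, 0, 0, 0, 0, 0, 0, 0, 0, 0, 0, 0, 0, 0, 0, 0],
    [1, 1, 5, 2, 0, 0, 0, 0, 0, 0, 0, 0, 0, 0, 0, 0, 0, 0, 0, 0, 0, 0, 0, 0, 0, 2],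
    [0, 0, 0, 0, 1, 1, 2, 5, 2, 2, 2, 2, 2, 2, 2, 2, 0, 0, 0, 0, 0, 0, 0, 0, 2, 0, 0],
    [3, 2, 1, 1, 0, 0, 0, 0, 0, 0, 0, 0, 0, 0, 0, 0, 0, 0, 0, 0, 0, 0, 0, 0, 0, 1, 1, 0],
    [0, 0, 0, 0, 3, 2, 1, 1, 1, 1, 1, 1, 1, 1, 1, 1, 0, 0, 0, 0, 0, 0, 0, 0, 1, 0, 0, 1, 0],
    [2, 4, 1, 1, 0, 0, 0, 0, 0, 0, 0, 0, 0, 0, 0, 0, 0, 0, 0, 0, 0, 0, 0, 0, 0, 1, 1, 0, 2, 0],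
    [0, 0, 0, 0, 2, 4, 1, 1, 1, 1, 1, 1, 1, 1, 1, 1, 0, 0, 0, 0, 0, 0, 0, 0, 1, 0, 0, 1, 0, 2, 0],
    [0, 0, 0, 0, 1, 1, 3, 2, 6, 3, 4, 3, 4, 3, 3, 7, 0, 0, 0, 0, 0, 0, 0, 0, 4, 0, 0, 2, 0, 1, 0, 1],
    [0, 0, 0, 0, 1, 1, 3, 2, 4, 3, 7, 3, 6, 3, 3, 4, 0, 0, 0, 0, 0, 0, 0, 0, 6, 0, 0, 2, 0, 1, 0, 1, 6],
    [0, 0, 0, 0, 1, 1, 4, 2, 3, 4, 3, 7, 3, 6, 4, 3, 0, 0, 0, 0, 0, 0, 0, 0, 3, 0, 0, 2, 0, 1, 0, 1, 3, 3],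
    [0, 0, 0, 0, 1, 1, 5, 2, 3, 6, 3, 4, 3, 4, 7, 3, 0, 0, 0, 0, 0, 0, 0, 0, 3, 0, 0, 2, 0, 1, 0, 1, 3, 3, 6],
    [0, 0, 0, 0, 1, 1, 5, 2, 3, 7, 3, 4, 3, 4, 6, 3, 0, 0, 0, 0, 0, 0, 0, 0, 3, 0, 0, 2, 0, 1, 0, 1, 3, 3, 7, 4],
    [0, 0, 0, 0, 1, 1, 4, 2, 3, 4, 3, 6, 3, 7, 4, 3, 0, 0, 0, 0, 0, 0, 0, 0, 3, 0, 0, 2, 0, 1, 0, 1, 3, 3, 4, 7, 6],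
    [0, 0, 0, 0, 1, 1, 3, 2, 7, 3, 4, 3, 4, 3, 3, 6, 0, 0, 0, 0, 0, 0, 0, 0, 4, 0, 0, 2, 0, 1, 0, 1, 4, 7, 3, 3, 3, 3],
    [0, 0, 0, 0, 1, 1, 3, 2, 4, 3, 6, 3, 7, 3, 3, 4, 0, 0, 0, 0, 0, 0, 0, 0, 10, 0, 0, 2, 0, 1, 0, 1, 7, 4, 3, 3, 3, 3, 6],
    [0, 0, 0, 0, 1, 1, 3, 2, 6, 3, 4, 3, 4, 3, 3, 7, 0, 0, 0, 0, 0, 0, 0, 0, 4, 0, 0, 2, 0, 1, 0, 1, 4, 6, 3, 3, 3, 3, 4, 7],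
    [0, 0, 0, 0, 2, 4, 1, 1, 1, 1, 1, 1, 1, 1, 1, 1, 0, 0, 0, 0, 0, 0, 0, 0, 1, 0, 0, 1, 0, 2, 0, 4, 1, 1, 1, 1, 1, 1, 1, 1, 1],
    [1, 1, 2, 3, 0, 0, 0, 0, 0, 0, 0, 0, 0, 0, 0, 0, 0, 0, 0, 0, 0, 0, 0, 0, 0, 4, 2, 0, 1, 0, 1, 0, 0, 0, 0, 0, 0, 0, 0, 0, 0, 0],
    [2, 4, 1, 1, 0, 0, 0, 0, 0, 0, 0, 0, 0, 0, 0, 0, 0, 0, 0, 0, 0, 0, 0, 0, 0, 1, 1, 0, 2, 0, 4, 0, 0, 0, 0, 0, 0, 0, 0, 0, 0, 0, 1],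
    [1, 1, 5, 2, 0, 0, 0, 0, 0, 0, 0, 0, 0, 0, 0, 0, 0, 0, 0, 0, 0, 0, 0, 0, 0, 2, 4, 0, 1, 0, 1, 0, 0, 0, 0, 0, 0, 0, 0, 0, 0, 0, 2, 1],
    [3, 2, 1, 1, 0, 0, 0, 0, 0, 0, 0, 0, 0, 0, 0, 0, 0, 0, 0, 0, 0, 0, 0, 0, 0, 1, 1, 0, 4, 0, 2, 0, 0, 0, 0, 0, 0, 0, 0, 0, 0, 0, 1, 2, 1],
    [0, 0, 0, 0, 3, 2, 1, 1, 1, 1, 1, 1, 1, 1, 1, 1, 0, 0, 0, 0, 0, 0, 0, 0, 1, 0, 0, 1, 0, 4, 0, 2, 1, 1, 1, 1, 1, 1, 1, 1, 1, 2, 0, 0, 0, 0],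
    [0, 0, 0, 0, 1, 1, 2, 5, 2, 2, 2, 2, 2, 2, 2, 2, 0, 0, 0, 0, 0, 0, 0, 0, 2, 0, 0, 4, 0, 1, 0, 1, 2, 2, 2, 2, 2, 2, 2, 2, 2, 1, 0, 0, 0, 0, 1],
    [0, 0, 0, 0, 1, 1, 4, 2, 3, 4, 3, 5, 3, 5, 4, 3, 0, 0, 0, 0, 0, 0, 0, 0, 3, 0, 0, 2, 0, 1, 0, 1, 3, 3, 4, 5, 5, 4, 3, 3, 3, 1, 0, 0, 0, 0, 1, 2],
    [4, 2, 1, 1, 0, 0, 0, 0, 0, 0, 0, 0, 0, 0, 0, 0, 0, 0, 0, 0, 0, 0, 0, 0, 0, 1, 1, 0, 3, 0, 2, 0, 0, 0, 0, 0, 0, 0, 0, 0, 0, 0, 1, 2, 1, 3, 0, 0, 0],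
    [0, 0, 0, 0, 4, 2, 1, 1, 1, 1, 1, 1, 1, 1, 1, 1, 0, 0, 0, 0, 0, 0, 0, 0, 1, 0, 0, 1, 0, 3, 0, 2, 1, 1, 1, 1, 1, 1, 1, 1, 1, 2, 0, 0, 0, 0, 3, 1, 1, 0],
    [1, 1, 2, 4, 0, 0, 0, 0, 0, 0, 0, 0, 0, 0, 0, 0, 0, 0, 0, 0, 0, 0, 0, 0, 0, 3, 2, 0, 1, 0, 1, 0, 0, 0, 0, 0, 0, 0, 0, 0, 0, 0, 3, 1, 2, 1, 0, 0, 0, 1, 0],
    [2, 4, 1, 1, 0, 0, 0, 0, 0, 0, 0, 0, 0, 0, 0, 0, 0, 0, 0, 0, 0, 0, 0, 0, 0, 1, 1, 0, 2, 0, 4, 0, 0, 0, 0, 0, 0, 0, 0, 0, 0, 0, 1, 4, 1, 2, 0, 0, 0, 2, 0, 1],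
    [0, 0, 0, 0, 1, 1, 2, 4, 2, 2, 2, 2, 2, 2, 2, 2, 0, 0, 0, 0, 0, 0, 0, 0, 2, 0, 0, 5, 0, 1, 0, 1, 2, 2, 2, 2, 2, 2, 2, 2, 2, 1, 0, 0, 0, 0, 1, 5, 2, 0, 1, 0, 0],
    [0, 0, 0, 0, 2, 4, 1, 1, 1, 1, 1, 1, 1, 1, 1, 1, 0, 0, 0, 0, 0, 0, 0, 0, 1, 0, 0, 1, 0, 2, 0, 4, 1, 1, 1, 1, 1, 1, 1, 1, 1, 4, 0, 0, 0, 0, 2, 1, 1, 0, 2, 0, 0, 1],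
    [1, 1, 4, 2, 0, 0, 0, 0, 0, 0, 0, 0, 0, 0, 0, 0, 0, 0, 0, 0, 0, 0, 0, 0, 0, 2, 5, 0, 1, 0, 1, 0, 0, 0, 0, 0, 0, 0, 0, 0, 0, 0, 2, 1, 5, 1, 0, 0, 0, 1, 0, 2, 1, 0, 0]]

set_option Elab.async false in
theorem b8_2_ok : chkB8 colsD b8_2 = true := by decide +kernel

def b8_3 : B8 where
  m := 0xff000000
  pool := [
    ([0, 1, 0, 1, 0, 1, 1, 0, 1, 0, 0, 3, 0, 1, 4, -1, 0, 0, 0, 4, 0, 2, 4, 2, 0, 6, 4, 6, 0, 2, 4, 6, 0, 1, 4, 3, 3, 6, 4, -1, 0, 8, 4, 2, 0, 0, 2, 4, 0, 1, 3, 6, 6, 3, 2, -1], [0, 1, 0, 1, 0, 1, 1, 1, 0, 0, 0, 0, 0, 0, 0, 0, 0, 0, 0, 0, 0, 0, 0, 0, 0, 0, 0, 0, 0, 0, 0, 0, 0, 0, 0, 0, 0, 0, 0, 0, 0, 0, 0, 0, 0, 0, 0,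 0, 0, 0, 0, 0, 0, 0, 0, 0], 28),
    ([1, 1, 0, 0, 1, 1, 0, 0, 1, 1, 0, 2, 0, 0, 5, 5, 0, 0, 0, 4, 0, 4, 4, 2, 0, 6, 4, 4, 4, 2, 4, 8, 0, 1, 3, 2, 4, 5, 4, 3, 0, 4, 6, 2, 0, 6, 6, 6, 0, -1, 5, 8, 7, 4, 1, 0], [1, 1, 0, 0, 1, 1, 0, 1, 1, 0, 0, 0, 0, 0, 0, 0, 0, 0, 0, 0, 0, 0, 0, 0, 0, 0, 0, 0, 0, 0, 0, 0, 0, 0, 0, 0, 0, 0, 0, 0, 0, 0, 0, 0, 0, 0, 0, 0, 0, 0, 0, 0, 0, 0, 0, 0], 32),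
    ([1, 0, 1, 0, 0, 1, 1, 0, 1, 1, 1, -1, 0, 0, 4, 4, 0, 0, 0, 4, 0, 6, 8, 4, 0, 10, 6, 2, 2, 2, 4, 8, 0, 3, 3, 4, 9, 4, 5, 4, 0, 2, 6, 4, -2, 6, 6, 6, 0, 4, 7, 7, 5, 7, 4, 0], [1, 0, 1, 0, 0, 1, 1, 1, 1, 1, 0, 0, 0, 0, 0, 0, 0, 0, 0, 0, 0, 0, 0, 0, 0, 0, 0, 0, 0, 0, 0, 0, 0, 0, 0, 0, 0, 0, 0, 0, 0, 0, 0, 0, 0, 0, 0, 0, 0, 0, 0, 0, 0, 0, 0, 0], 34),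
    ([1, 0, 0, 1, 1, 0, 1, 6, 0, 1, 0, 1, 0, 1, 1, 4, 0, 0, 0, 4, 0, 2, 0, 2, 0, 4, 2, 2, 6, 6, 4, 10, 0, 2, 1, 3, 7, 7, 0, 4, 0, 4, 6, 2, 0, 4, 8, 4, 1, 1, 3, 9, 0, 2, 2, 2], [1, 0, 0, 1, 1, 0, 1, 0, 1, 0, 0, 0, 0, 0, 0, 0, 0, 0, 1, 0, 0, 0, 0, 0, 0, 0, 0, 0, 0, 0, 0, 0, 0, 0, 0, 0, 0, 0, 0, 0, 0, 0, 0, 0, 0, 0, 0, 0, 0, 0, 0, 0, 0, 0, 0, 0], 34),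
    ([1, 0, 0, 1, 1, 0, 1, 4, 0, 1, 0, 1, 0, 1, 1, 2, 1, 0, 0, 1, 0, 3, 2, 3, 0, 2, 2, 2, 6, 6, 4, 8, 0, 2, 0, 2, 6, 8, 0, 4, 0, 3, 8, 3, -1, 4, 6, 3, 0, 0, 6, 12, 2, 2, 4, 0], [1, 0, 0, 1, 1, 0, 1, 0, 1, 0, 0, 1, 0, 0, 0, 0, 0, 0, 0, 0, 0, 0, 0, 0, 0, 0, 0, 0, 0, 0, 0, 0, 0, 0, 0, 0, 0, 0, 0, 0, 0, 0, 0, 0, 0, 0, 0, 0, 0, 0, 0, 0, 0, 0, 0, 0], 30),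
    ([0, 0, 1, 1, 1, 1, 0, 2, 1, 0, 1, 2, 0, -3, 5, 2, 1, 1, 1, 1, 0, 6, 6, 6, 0, 6, 6, 6, 2, 6, 6, 10, 0, 8, 4, 4, 10, 10, 2, 4, 0, 7, 3, 6, 1, 6, 5, 4, 0, 4, 6, 6, 6, 8, 8, 2], [0, 0, 1, 1, 1, 1, 0, 1, 0, 1, 0, 1, 1, 1, 0, 0, 0, 0, 0, 0, 0, 0, 0, 0, 0, 0, 0, 0, 0, 0, 0, 0, 0, 0, 0, 0, 0, 0, 0, 0, 0, 0, 0, 0, 0, 0, 0, 0, 0, 0, 0, 0, 0, 0, 0, 0], 42),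
    ([1, 1, 1, 1, 0, 0, 0, 4, 1, 0, 0, 7, 1, 2, 1, 2, 0, 1, 0, 7, 0, 3, 1, 4, 0, 2, 4, 6, 2, 4, 8, 10, 0, 8, 4, 10, 8, 10, 2, 4, 0, 6, 7, 3, 1, 3, 4, 8, 0, 0, 6, 8, 2, 6, 4, 2], [1, 1, 1, 1, 0, 0, 0, 1, 0, 0, 1, 0, 1, 0, 0, 0, 0, 0, 0, 0, 0, 0, 0, 0, 0, 0, 0, 0, 0, 0, 0, 0, 0, 0, 0, 0, 0, 0, 0, 0, 0, 0, 0, 0, 0, 0, 0, 0, 0, 0, 0, 0, 0, 0, 0, 0], 36),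
    ([0, 1, 0, 1, 0, 1, 1, 6, 0, 1, 1, 0, 1, 2, 1, 6, 1, 1, 0, 6, 1, 3, 4, 10, 0, 10, 10, 6, 6, 8, 6, 14, 0, 4, 8, 8, 10, 12, 6, 6, 1, 7, 7, 3, 4, 4, 8, 6, 0, 4, 10, 12, 12, 12, 10, 2], [0, 1, 0, 1, 0, 1, 1, 0, 1, 1, 1, 1, 1, 0, 1, 0, 0, 1, 0, 0, 0, 0, 0, 0, 0, 0, 0, 0, 0, 0, 0, 0, 0, 0, 0, 0, 0, 0, 0, 0, 0, 0, 0, 0, 0, 0, 0, 0, 0, 0, 0, 0, 0, 0, 0, 0], 60),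
    ([0, 0, 0, 0, 0, 0, 0, 2, 0, 0, 0, 0, 0, 0, 0, 2, 0, 0, 0, 2, 0, 0, 0, 0, 0, 2, 0, 0, 0, 2, 0, 2, 1, 1, 1, -1, 1, -1, -1, -1, 0, 0, 0, 2, 2, 0, 2, 0, 0, 2, 0, 2, 0, 0, 2, 0], [0, 0, 0, 0, 0, 0, 0, 0, 0, 0, 0, 0, 0, 0, 0, 0, 1, 0, 0, 0, 0, 0, 0, 0, 0, 0, 0, 0, 0, 0, 0, 0, 0, 0, 0, 0, 0, 0, 0, 0, 0, 0, 0, 0, 0, 0, 0, 0, 0, 0, 0, 0, 0, 0, 0, 0], 6),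
    ([0, 0, 0, 0, 0, 0, 0, 2, 0, 0, 0, 0, 0, 0, 0, 2, 1, 1, 1, -1, 1, 1, 1, 3, 0, 4, 4, 4, 4, 6, 2, 6, 0, 2, 2, 0, 4, 4, 2, 4, 0, 2, 0, 4, 2, 0, 4, 2, 0, 2, 2, 2, 6, 2, 2, -2], [0, 0, 0, 0, 0, 0, 0, 0, 0, 0, 0, 1, 1, 1, 1, 0, 0, 0, 0, 0, 0, 0, 0, 0, 0, 0, 0, 0, 0, 0, 0, 0, 0, 0, 0, 0, 0, 0, 0, 0, 0, 0, 0, 0, 0, 0, 0, 0, 0, 0, 0, 0, 0, 0, 0, 0], 30),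
    ([0, 0, 0, 0, 0, 0, 0, 2, 1, 1, 1, -1, 1, -1, 1, 5, 0, 0, 0, 6, 0, 4, 4, 4, 0, 4, 6, 0, 0, 2, 0, 2, 0, 4, 4, 2, 4, 2, 2, 4, 0, 2, 2, 4, 2, 2, 2, 4, 0, 4, 6, 6, 4, 6, 6, 2], [0, 0, 0, 0, 0, 0, 0, 1, 1, 1, 1, 0, 0, 0, 0, 0, 0, 0, 0, 0, 0, 0, 0, 0, 0, 0, 0, 0, 0, 0, 0, 0, 0, 0, 0, 0, 0, 0, 0, 0, 0, 0, 0, 0, 0, 0, 0, 0, 0, 0, 0, 0, 0, 0, 0, 0], 14),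
    ([1, 1, 1, 1, 1, 1, 1, 1, 0, 0, 0, 4, 0, 2, 4, 0, 0, 0, 0, 2, 0, 4, 2, 2, 0, 4, 2, 6, 4, 2, 8, 12, 0, 2, 0, 8, 6, 10, 4, 0, 0, 6, 8, 0, -2, 6, 6, 6, 0, -2, 2, 8, 2, 4, 2, 2], [1, 1, 1, 1, 1, 1, 1, 0, 0, 0, 0, 0, 0, 0, 0, 0, 0, 0, 0, 0, 0, 0, 0, 0, 0, 0, 0, 0, 0, 0, 0, 0, 0, 0, 0, 0, 0, 0, 0, 0, 0, 0, 0, 0, 0, 0, 0, 0, 0, 0, 0, 0, 0, 0, 0, 0], 38)]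
  c0 := 2
  c1 := [1, 0, 3, 0, 1, 0, 0, 2, 0, 1, 3, 0, 2, 0, 1, 0, 2, 2, 2, 2, 2, 2, 2, 2, 0, 0, 0, 0, 0, 0, 0, 0, 2, 0, 1, 0, 0, 1, 3, 0, 2, 2, 2, 2, 2, 2, 2, 2, 2, 0, 0, 4, 1, 0, 1, 0]
  c2 := [
    [],
    [0],
    [1, 0],
    [0, 1, 0],
    [3, 0, 1, 0],
    [0, 3, 0, 1, 0],
    [0, 1, 0, 3, 0, 1],
    [1, 0, 3, 0, 1, 0, 0],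
    [0, 3, 0, 1, 0, 2, 1, 0],
    [2, 0, 1, 0, 3, 0, 0, 1, 0],
    [1, 0, 2, 0, 1, 0, 0, 3, 0, 1],
    [0, 1, 0, 3, 0, 1, 2, 0, 1, 0, 0],
    [1, 0, 3, 0, 1, 0, 0, 2, 0, 1, 3, 0],
    [0, 1, 0, 2, 0, 1, 3, 0, 1, 0, 0, 3, 0],
    [3, 0, 1, 0, 2, 0, 0, 1, 0, 3, 1, 0, 1, 0],
    [0, 2, 0, 1, 0, 3, 1, 0, 3, 0, 0, 1, 0, 1, 0],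
    [1, 0, 3, 0, 1, 0, 0, 2, 0, 1, 3, 0, 2, 0, 1, 0],
    [1, 0, 3, 0, 1, 0, 0, 2, 0, 1, 3, 0, 2, 0, 1, 0, 2],
    [1, 0, 3, 0, 1, 0, 0, 2, 0, 1, 3, 0, 2, 0, 1, 0, 2, 2],
    [1, 0, 3, 0, 1, 0, 0, 2, 0, 1, 3, 0, 2, 0, 1, 0, 2, 2, 2],
    [1, 0, 3, 0, 1, 0, 0, 2, 0, 1, 3, 0, 2, 0, 1, 0, 2, 2, 2, 2],
    [1, 0, 3, 0, 1, 0, 0, 2, 0, 1, 3, 0, 2, 0, 1, 0, 2, 2, 2, 2, 2],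
    [1, 0, 3, 0, 1, 0, 0, 2, 0, 1, 3, 0, 2, 0, 1, 0, 2, 2, 2, 2, 2, 2],
    [1, 0, 3, 0, 1, 0, 0, 2, 0, 1, 3, 0, 2, 0, 1, 0, 2, 2, 2, 2, 2, 2, 2],
    [0, 0, 0, 0, 0, 0, 0, 0, 0, 0, 0, 0, 0, 0, 0, 0, 0, 0, 0, 0, 0, 0, 0, 0],
    [0, 0, 0, 0, 0, 0, 0, 0, 0, 0, 0, 0, 0, 0, 0, 0, 0, 0, 0, 0, 0, 0, 0, 0, 0],
    [0, 0, 0, 0, 0, 0, 0, 0, 0, 0, 0, 0, 0, 0, 0, 0, 0, 0, 0, 0, 0, 0, 0, 0, 0, 0],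
    [0, 0, 0, 0, 0, 0, 0, 0, 0, 0, 0, 0, 0, 0, 0, 0, 0, 0, 0, 0, 0, 0, 0, 0, 0, 0, 0],
    [0, 0, 0, 0, 0, 0, 0, 0, 0, 0, 0, 0, 0, 0, 0, 0, 0, 0, 0, 0, 0, 0, 0, 0, 0, 0, 0, 0],
    [0, 0, 0, 0, 0, 0, 0, 0, 0, 0, 0, 0, 0, 0, 0, 0, 0, 0, 0, 0, 0, 0, 0, 0, 0, 0, 0, 0, 0],
    [0, 0, 0, 0, 0, 0, 0, 0, 0, 0, 0, 0, 0, 0, 0, 0, 0, 0, 0, 0, 0, 0, 0, 0, 0, 0, 0, 0, 0, 0],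
    [0, 0, 0, 0, 0, 0, 0, 0, 0, 0, 0, 0, 0, 0, 0, 0, 0, 0, 0, 0, 0, 0, 0, 0, 0, 0, 0, 0, 0, 0, 0],
    [1, 0, 3, 0, 1, 0, 0, 2, 0, 1, 3, 0, 2, 0, 1, 0, 2, 2, 2, 2, 2, 2, 2, 2, 0, 0, 0, 0, 0, 0, 0, 0],
    [0, 3, 0, 1, 0, 2, 1, 0, 2, 0, 0, 1, 0, 1, 0, 3, 0, 0, 0, 0, 0, 0, 0, 0, 0, 0, 0, 0, 0, 0, 0, 0, 0],
    [2, 0, 1, 0, 3, 0, 0, 1, 0, 2, 1, 0, 1, 0, 3, 0, 1, 1, 1, 1, 1, 1, 1, 1, 0, 0, 0, 0, 0, 0, 0, 0, 1, 0],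
    [0, 1, 0, 2, 0, 1, 3, 0, 1, 0, 0, 3, 0, 2, 0, 1, 0, 0, 0, 0, 0, 0, 0, 0, 0, 0, 0, 0, 0, 0, 0, 0, 0, 1, 0],
    [0, 1, 0, 3, 0, 1, 2, 0, 1, 0, 0, 2, 0, 3, 0, 1, 0, 0, 0, 0, 0, 0, 0, 0, 0, 0, 0, 0, 0, 0, 0, 0, 0, 1, 0, 3],
    [3, 0, 1, 0, 2, 0, 0, 1, 0, 3, 1, 0, 1, 0, 2, 0, 1, 1, 1, 1, 1, 1, 1, 1, 0, 0, 0, 0, 0, 0, 0, 0, 1, 0, 3, 0, 0],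
    [1, 0, 2, 0, 1, 0, 0, 3, 0, 1, 2, 0, 3, 0, 1, 0, 3, 3, 3, 3, 3, 3, 3, 3, 0, 0, 0, 0, 0, 0, 0, 0, 3, 0, 1, 0, 0, 1],
    [0, 2, 0, 1, 0, 3, 1, 0, 3, 0, 0, 1, 0, 1, 0, 2, 0, 0, 0, 0, 0, 0, 0, 0, 0, 0, 0, 0, 0, 0, 0, 0, 0, 3, 0, 1, 1, 0, 0],
    [1, 0, 3, 0, 1, 0, 0, 2, 0, 1, 3, 0, 2, 0, 1, 0, 2, 2, 2, 2, 2, 2, 2, 2, 0, 0, 0, 0, 0, 0, 0, 0, 2, 0, 1, 0, 0, 1, 3, 0],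
    [1, 0, 3, 0, 1, 0, 0, 2, 0, 1, 3, 0, 2, 0, 1, 0, 2, 2, 2, 2, 2, 2, 2, 2, 0, 0, 0, 0, 0, 0, 0, 0, 2, 0, 1, 0, 0, 1, 3, 0, 2],
    [1, 0, 3, 0, 1, 0, 0, 2, 0, 1, 3, 0, 2, 0, 1, 0, 2, 2, 2, 2, 2, 2, 2, 2, 0, 0, 0, 0, 0, 0, 0, 0, 2, 0, 1, 0, 0, 1, 3, 0, 2, 2],
    [1, 0, 3, 0, 1, 0, 0, 2, 0, 1, 3, 0, 2, 0, 1, 0, 2, 2, 2, 2, 2, 2, 2, 2, 0, 0, 0, 0, 0, 0, 0, 0, 2, 0, 1, 0, 0, 1, 3, 0, 2, 2, 2],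
    [1, 0, 3, 0, 1, 0, 0, 2, 0, 1, 3, 0, 2, 0, 1, 0, 2, 2, 2, 2, 2, 2, 2, 2, 0, 0, 0, 0, 0, 0, 0, 0, 2, 0, 1, 0, 0, 1, 3, 0, 2, 2, 2, 2],
    [1, 0, 3, 0, 1, 0, 0, 2, 0, 1, 3, 0, 2, 0, 1, 0, 2, 2, 2, 2, 2, 2, 2, 2, 0, 0, 0, 0, 0, 0, 0, 0, 2, 0, 1, 0, 0, 1, 3, 0, 2, 2, 2, 2, 2],
    [1, 0, 3, 0, 1, 0, 0, 2, 0, 1, 3, 0, 2, 0, 1, 0, 2, 2, 2, 2, 2, 2, 2, 2, 0, 0, 0, 0, 0, 0, 0, 0, 2, 0, 1, 0, 0, 1, 3, 0, 2, 2, 2, 2, 2, 2],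
    [1, 0, 3, 0, 1, 0, 0, 2, 0, 1, 3, 0, 2, 0, 1, 0, 2, 2, 2, 2, 2, 2, 2, 2, 0, 0, 0, 0, 0, 0, 0, 0, 2, 0, 1, 0, 0, 1, 3, 0, 2, 2, 2, 2, 2, 2, 2],
    [1, 0, 4, 0, 1, 0, 0, 2, 0, 1, 4, 0, 2, 0, 1, 0, 2, 2, 2, 2, 2, 2, 2, 2, 0, 0, 0, 0, 0, 0, 0, 0, 2, 0, 1, 0, 0, 1, 4, 0, 2, 2, 2, 2, 2, 2, 2, 2],
    [0, 2, 0, 1, 0, 4, 1, 0, 4, 0, 0, 1, 0, 1, 0, 2, 0, 0, 0, 0, 0, 0, 0, 0, 0, 0, 0, 0, 0, 0, 0, 0, 0, 4, 0, 1, 1, 0, 0, 2, 0, 0, 0, 0, 0, 0, 0, 0, 0],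
    [0, 4, 0, 1, 0, 2, 1, 0, 2, 0, 0, 1, 0, 1, 0, 4, 0, 0, 0, 0, 0, 0, 0, 0, 0, 0, 0, 0, 0, 0, 0, 0, 0, 2, 0, 1, 1, 0, 0, 4, 0, 0, 0, 0, 0, 0, 0, 0, 0, 3],
    [1, 0, 2, 0, 1, 0, 0, 4, 0, 1, 2, 0, 4, 0, 1, 0, 7, 4, 4, 6, 4, 5, 4, 5, 0, 0, 0, 0, 0, 0, 0, 0, 4, 0, 1, 0, 0, 1, 2, 0, 4, 7, 4, 5, 6, 4, 4, 5, 3, 0, 0],
    [2, 0, 1, 0, 8, 0, 0, 1, 0, 2, 1, 0, 1, 0, 6, 0, 1, 1, 1, 1, 1, 1, 1, 1, 0, 0, 0, 0, 0, 0, 0, 0, 1, 0, 2, 0, 0, 4, 1, 0, 1, 1, 1, 1, 1, 1, 1, 1, 1, 0, 0, 1],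
    [0, 1, 0, 6, 0, 1, 2, 0, 1, 0, 0, 2, 0, 8, 0, 1, 0, 0, 0, 0, 0, 0, 0, 0, 0, 0, 0, 0, 0, 0, 0, 0, 0, 1, 0, 4, 2, 0, 0, 1, 0, 0, 0, 0, 0, 0, 0, 0, 0, 1, 1, 0, 0],
    [5, 0, 1, 0, 2, 0, 0, 1, 0, 5, 1, 0, 1, 0, 2, 0, 1, 1, 1, 1, 1, 1, 1, 1, 0, 0, 0, 0, 0, 0, 0, 0, 1, 0, 4, 0, 0, 2, 1, 0, 1, 1, 1, 1, 1, 1, 1, 1, 1, 0, 0, 1, 3, 0],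
    [0, 1, 0, 2, 0, 1, 5, 0, 1, 0, 0, 5, 0, 2, 0, 1, 0, 0, 0, 0, 0, 0, 0, 0, 0, 0, 0, 0, 0, 0, 0, 0, 0, 1, 0, 2, 4, 0, 0, 1, 0, 0, 0, 0, 0, 0, 0, 0, 0, 1, 1, 0, 0, 3, 0]]

set_option Elab.async false in
theorem b8_3_ok : chkB8 colsD b8_3 = true := by decide +kernel

def b8_4 : B8 where
  m := 0xff00000000
  pool := [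
    ([1, 1, 1, 1, 0, 0, 0, 0, 0, 0, 0, 6, 0, 2, 0, 0, 0, 0, 0, 4, 0, 0, 0, 0, 0, 1, -1, 4, 1, 2, 5, 6, 0, 4, 0, 8, 4, 6, 2, 2, 0, 2, 7, 3, -1, 3, 4, 6, 0, -3, 4, 5, -1, 4, 2, 1], [1, 1, 1, 1, 0, 0, 0, 0, 0, 0, 0, 0, 0, 0, 0, 0, 0, 0, 0, 0, 0, 0, 0, 0, 0, 0, 0, 0, 0, 0, 0, 0, 0, 0, 0, 0, 0, 0, 0, 0, 0, 0, 0, 0, 0, 0, 0, 0, 0, 0, 0, 0, 0, 0, 0, 0], 26),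
    ([1, 1, 0, 0, 1, 1, 0, 0, 0, 0, 0, 2, 0, 2, 4, 2, 0, 0, 0, 2, 0, 2, 2, 2, 0, 2, 2, 4, 3, 1, 5, 7, 0, 0, 0, 4, 2, 6, 4, 0, 0, 3, 4, -1, 0, 5, 5, 4, 0, -3, 1, 4, 3, 2, -1, 0], [1, 1, 0, 0, 1, 1, 0, 0, 0, 0, 0, 0, 0, 0, 0, 0, 0, 0, 0, 0, 0, 0, 0, 0, 0, 0, 0, 0, 0, 0, 0, 0, 0, 0, 0, 0, 0, 0, 0, 0, 0, 0, 0, 0, 0, 0, 0, 0, 0, 0, 0, 0, 0, 0, 0, 0], 16),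
    ([0, 1, 0, 1, 1, 0, 0, 1, 0, 0, 0, 4, 0, 0, 2, 0, 0, 0, 0, 2, 0, 0, -2, 0, 0, -1, 0, 3, 2, 1, 3, 4, 0, 2, 0, 4, 0, 6, 0, 0, 0, 4, 3, 1, 0, 2, 3, 3, 0, -2, 1, 5, 1, 1, 2, 2], [0, 1, 0, 1, 1, 0, 0, 0, 0, 0, 0, 0, 0, 0, 0, 0, 0, 0, 0, 0, 0, 0, 0, 0, 0, 0, 0, 0, 0, 0, 0, 0, 0, 0, 0, 0, 0, 0, 0, 0, 0, 0, 0, 0, 0, 0, 0, 0, 0, 0, 0, 0, 0, 0, 0, 0], 12),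
    ([0, 0, 0, 0, 0, 0, 0, 6, 0, 1, 0, -1, 0, -1, -1, 8, 0, 1, 1, 4, 1, 0, -1, 2, 1, 9, 4, 2, 5, 5, 2, 10, 0, 2, 6, 0, 6, 4, 4, 6, 0, 4, 0, 6, 6, 4, 8, 6, 1, 5, 3, 3, 6, 6, 4, 0], [0, 0, 0, 0, 0, 0, 0, 0, 1, 0, 0, 0, 1, 1, 1, 1, 0, 0, 1, 0, 0, 0, 0, 0, 0, 0, 0, 0, 0, 0, 0, 0, 0, 0, 0, 0, 0, 0, 0, 0, 0, 0, 0, 0, 0, 0, 0, 0, 0, 0, 0, 0, 0, 0, 0, 0], 28),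
    ([1, 0, 0, 1, 1, 0, 1, 4, 0, 1, 0, 1, 0, 1, 1, 2, 1, 0, 0, 1, 0, 3, 2, 3, 0, 2, 2, 2, 6, 6, 4, 8, 0, 2, 0, 2, 6, 8, 0, 4, 0, 3, 8, 3, -1, 4, 6, 3, 0, 0, 6, 12, 2, 2, 4, 0], [1, 0, 0, 1, 1, 0, 1, 0, 1, 0, 0, 1, 0, 0, 0, 0, 0, 0, 0, 0, 0, 0, 0, 0, 0, 0, 0, 0, 0, 0, 0, 0, 0, 0, 0, 0, 0, 0, 0, 0, 0, 0, 0, 0, 0, 0, 0, 0, 0, 0, 0, 0, 0, 0, 0, 0], 22),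
    ([0, 0, 1, 1, 1, 1, 0, 2, 1, 0, 1, 2, 0, -3, 5, 2, 1, 1, 1, 1, 0, 6, 6, 6, 0, 6, 6, 6, 2, 6, 6, 10, 0, 8, 4, 4, 10, 10, 2, 4, 0, 7, 3, 6, 1, 6, 5, 4, 0, 4, 6, 6, 6, 8, 8, 2], [0, 0, 1, 1, 1, 1, 0, 1, 0, 1, 0, 1, 1, 1, 0, 0, 0, 0, 0, 0, 0, 0, 0, 0, 0, 0, 0, 0, 0, 0, 0, 0, 0, 0, 0, 0, 0, 0, 0, 0, 0, 0, 0, 0, 0, 0, 0, 0, 0, 0, 0, 0, 0, 0, 0, 0], 42),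
    ([1, 1, 1, 1, 0, 0, 0, 4, 1, 0, 0, 7, 1, 2, 1, 2, 0, 1, 0, 7, 0, 3, 1, 4, 0, 2, 4, 6, 2, 4, 8, 10, 0, 8, 4, 10, 8, 10, 2, 4, 0, 6, 7, 3, 1, 3, 4, 8, 0, 0, 6, 8, 2, 6, 4, 2], [1, 1, 1, 1, 0, 0, 0, 1, 0, 0, 1, 0, 1, 0, 0, 0, 0, 0, 0, 0, 0, 0, 0, 0, 0, 0, 0, 0, 0, 0, 0, 0, 0, 0, 0, 0, 0, 0, 0, 0, 0, 0, 0, 0, 0, 0, 0, 0, 0, 0, 0, 0, 0, 0, 0, 0], 46),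
    ([0, 1, 0, 1, 0, 1, 1, 6, 0, 1, 1, 0, 1, 2, 1, 6, 1, 1, 0, 6, 1, 3, 4, 10, 0, 10, 10, 6, 6, 8, 6, 14, 0, 4, 8, 8, 10, 12, 6, 6, 1, 7, 7, 3, 4, 4, 8, 6, 0, 4, 10, 12, 12, 12, 10, 2], [0, 1, 0, 1, 0, 1, 1, 0, 1, 1, 1, 1, 1, 0, 1, 0, 0, 1, 0, 0, 0, 0, 0, 0, 0, 0, 0, 0, 0, 0, 0, 0, 0, 0, 0, 0, 0, 0, 0, 0, 0, 0, 0, 0, 0, 0, 0, 0, 0, 0, 0, 0, 0, 0, 0, 0], 54),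
    ([0, 0, 0, 0, 0, 0, 0, 2, 0, 0, 0, 0, 0, 0, 0, 2, 0, 0, 0, 2, 0, 0, 0, 0, 1, 1, -1, -1, -1, -1, 1, 1, 0, 0, 2, 0, 0, 2, 2, 0, 0, 2, 0, 2, 2, 2, 0, 2, 0, 2, 2, 2, 0, 2, 2, 0], [0, 0, 0, 0, 0, 0, 0, 0, 0, 0, 0, 0, 0, 0, 0, 1, 0, 0, 0, 0, 0, 0, 0, 0, 0, 0, 0, 0, 0, 0, 0, 0, 0, 0, 0, 0, 0, 0, 0, 0, 0, 0, 0, 0, 0, 0, 0, 0, 0, 0, 0, 0, 0, 0, 0, 0], 6),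
    ([0, 0, 0, 0, 0, 0, 0, 2, 0, 0, 0, 0, 0, 0, 0, 2, 1, 1, 1, -1, 1, 1, 1, 3, 0, 4, 4, 4, 4, 6, 2, 6, 0, 2, 2, 0, 4, 4, 2, 4, 0, 2, 0, 4, 2, 0, 4, 2, 0, 2, 2, 2, 6, 2, 2, -2], [0, 0, 0, 0, 0, 0, 0, 0, 0, 0, 0, 1, 1, 1, 1, 0, 0, 0, 0, 0, 0, 0, 0, 0, 0, 0, 0, 0, 0, 0, 0, 0, 0, 0, 0, 0, 0, 0, 0, 0, 0, 0, 0, 0, 0, 0, 0, 0, 0, 0, 0, 0, 0, 0, 0, 0], 18),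
    ([0, 0, 0, 0, 0, 0, 0, 2, 1, 1, 1, -1, 1, -1, 1, 5, 0, 0, 0, 6, 0, 4, 4, 4, 0, 4, 6, 0, 0, 2, 0, 2, 0, 4, 4, 2, 4, 2, 2, 4, 0, 2, 2, 4, 2, 2, 2, 4, 0, 4, 6, 6, 4, 6, 6, 2], [0, 0, 0, 0, 0, 0, 0, 1, 1, 1, 1, 0, 0, 0, 0, 0, 0, 0, 0, 0, 0, 0, 0, 0, 0, 0, 0, 0, 0, 0, 0, 0, 0, 0, 0, 0, 0, 0, 0, 0, 0, 0, 0, 0, 0, 0, 0, 0, 0, 0, 0, 0, 0, 0, 0, 0], 22),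
    ([1, 1, 1, 1, 1, 1, 1, 1, 0, 0, 0, 4, 0, 2, 4, 0, 0, 0, 0, 2, 0, 4, 2, 2, 0, 4, 2, 6, 4, 2, 8, 12, 0, 2, 0, 8, 6, 10, 4, 0, 0, 6, 8, 0, -2, 6, 6, 6, 0, -2, 2, 8, 2, 4, 2, 2], [1, 1, 1, 1, 1, 1, 1, 0, 0, 0, 0, 0, 0, 0, 0, 0, 0, 0, 0, 0, 0, 0, 0, 0, 0, 0, 0, 0, 0, 0, 0, 0, 0, 0, 0, 0, 0, 0, 0, 0, 0, 0, 0, 0, 0, 0, 0, 0, 0, 0, 0, 0, 0, 0, 0, 0], 30)]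
  c0 := 0
  c1 := [1, 1, 4, 2, 0, 0, 0, 0, 0, 0, 0, 0, 0, 0, 0, 0, 0, 0, 0, 0, 0, 0, 0, 0, 0, 2, 4, 0, 1, 0, 1, 0, 0, 0, 0, 0, 0, 0, 0, 0, 0, 0, 2, 1, 7, 1, 0, 0, 0, 1, 0, 2, 1, 0, 0, 4]
  c2 := [
    [],
    [0],
    [0, 0],
    [0, 0, 0],
    [2, 8, 1, 1],
    [8, 2, 1, 1, 0],
    [1, 1, 8, 2, 0, 0],
    [1, 1, 2, 8, 0, 0, 0],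
    [1, 1, 4, 2, 0, 0, 0, 0],
    [1, 1, 3, 2, 0, 0, 0, 0, 0],
    [1, 1, 4, 2, 0, 0, 0, 0, 0, 0],
    [1, 1, 3, 2, 0, 0, 0, 0, 0, 0, 0],
    [1, 1, 4, 2, 0, 0, 0, 0, 0, 0, 0, 0],
    [1, 1, 3, 2, 0, 0, 0, 0, 0, 0, 0, 0, 0],
    [1, 1, 3, 2, 0, 0, 0, 0, 0, 0, 0, 0, 0, 0],
    [1, 1, 4, 2, 0, 0, 0, 0, 0, 0, 0, 0, 0, 0, 0],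
    [1, 1, 5, 2, 0, 0, 0, 0, 0, 0, 0, 0, 0, 0, 0, 0],
    [1, 1, 3, 2, 0, 0, 0, 0, 0, 0, 0, 0, 0, 0, 0, 0, 0],
    [1, 1, 3, 2, 0, 0, 0, 0, 0, 0, 0, 0, 0, 0, 0, 0, 0, 0],
    [1, 1, 5, 2, 0, 0, 0, 0, 0, 0, 0, 0, 0, 0, 0, 0, 0, 0, 0],
    [1, 1, 3, 2, 0, 0, 0, 0, 0, 0, 0, 0, 0, 0, 0, 0, 0, 0, 0, 0],
    [1, 1, 6, 2, 0, 0, 0, 0, 0, 0, 0, 0, 0, 0, 0, 0, 0, 0, 0, 0, 0],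
    [1, 1, 3, 2, 0, 0, 0, 0, 0, 0, 0, 0, 0, 0, 0, 0, 0, 0, 0, 0, 0, 0],
    [1, 1, 7, 2, 0, 0, 0, 0, 0, 0, 0, 0, 0, 0, 0, 0, 0, 0, 0, 0, 0, 0, 0],
    [1, 1, 3, 2, 0, 0, 0, 0, 0, 0, 0, 0, 0, 0, 0, 0, 0, 0, 0, 0, 0, 0, 0, 0],
    [0, 0, 0, 0, 1, 1, 2, 3, 2, 2, 2, 2, 2, 2, 2, 2, 2, 2, 2, 2, 2, 2, 2, 2, 2],
    [0, 0, 0, 0, 1, 1, 5, 2, 4, 3, 4, 3, 4, 3, 3, 4, 6, 3, 3, 7, 3, 5, 3, 5, 3, 0],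
    [1, 1, 2, 9, 0, 0, 0, 0, 0, 0, 0, 0, 0, 0, 0, 0, 0, 0, 0, 0, 0, 0, 0, 0, 0, 3, 2],
    [0, 0, 0, 0, 2, 3, 1, 1, 1, 1, 1, 1, 1, 1, 1, 1, 1, 1, 1, 1, 1, 1, 1, 1, 1, 0, 0, 1],
    [2, 3, 1, 1, 0, 0, 0, 0, 0, 0, 0, 0, 0, 0, 0, 0, 0, 0, 0, 0, 0, 0, 0, 0, 0, 1, 1, 0, 2],
    [0, 0, 0, 0, 6, 2, 1, 1, 1, 1, 1, 1, 1, 1, 1, 1, 1, 1, 1, 1, 1, 1, 1, 1, 1, 0, 0, 1, 0, 3],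
    [5, 2, 1, 1, 0, 0, 0, 0, 0, 0, 0, 0, 0, 0, 0, 0, 0, 0, 0, 0, 0, 0, 0, 0, 0, 1, 1, 0, 3, 0, 2],
    [0, 0, 0, 0, 0, 0, 0, 0, 0, 0, 0, 0, 0, 0, 0, 0, 0, 0, 0, 0, 0, 0, 0, 0, 0, 0, 0, 0, 0, 0, 0, 0],
    [0, 0, 0, 0, 0, 0, 0, 0, 0, 0, 0, 0, 0, 0, 0, 0, 0, 0, 0, 0, 0, 0, 0, 0, 0, 0, 0, 0, 0, 0, 0, 0, 0],
    [0, 0, 0, 0, 0, 0, 0, 0, 0, 0, 0, 0, 0, 0, 0, 0, 0, 0, 0, 0, 0, 0, 0, 0, 0, 0, 0, 0, 0, 0, 0, 0, 0, 0],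
    [0, 0, 0, 0, 0, 0, 0, 0, 0, 0, 0, 0, 0, 0, 0, 0, 0, 0, 0, 0, 0, 0, 0, 0, 0, 0, 0, 0, 0, 0, 0, 0, 0, 0, 0],
    [0, 0, 0, 0, 0, 0, 0, 0, 0, 0, 0, 0, 0, 0, 0, 0, 0, 0, 0, 0, 0, 0, 0, 0, 0, 0, 0, 0, 0, 0, 0, 0, 0, 0, 0, 0],
    [0, 0, 0, 0, 0, 0, 0, 0, 0, 0, 0, 0, 0, 0, 0, 0, 0, 0, 0, 0, 0, 0, 0, 0, 0, 0, 0, 0, 0, 0, 0, 0, 0, 0, 0, 0, 0],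
    [0, 0, 0, 0, 0, 0, 0, 0, 0, 0, 0, 0, 0, 0, 0, 0, 0, 0, 0, 0, 0, 0, 0, 0, 0, 0, 0, 0, 0, 0, 0, 0, 0, 0, 0, 0, 0, 0],
    [0, 0, 0, 0, 0, 0, 0, 0, 0, 0, 0, 0, 0, 0, 0, 0, 0, 0, 0, 0, 0, 0, 0, 0, 0, 0, 0, 0, 0, 0, 0, 0, 0, 0, 0, 0, 0, 0, 0],
    [1, 1, 4, 2, 0, 0, 0, 0, 0, 0, 0, 0, 0, 0, 0, 0, 0, 0, 0, 0, 0, 0, 0, 0, 0, 2, 4, 0, 1, 0, 1, 0, 0, 0, 0, 0, 0, 0, 0, 0],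
    [4, 2, 1, 1, 0, 0, 0, 0, 0, 0, 0, 0, 0, 0, 0, 0, 0, 0, 0, 0, 0, 0, 0, 0, 0, 1, 1, 0, 3, 0, 2, 0, 0, 0, 0, 0, 0, 0, 0, 0, 0],
    [0, 0, 0, 0, 1, 1, 2, 4, 2, 2, 2, 2, 2, 2, 2, 2, 2, 2, 2, 2, 2, 2, 2, 2, 2, 0, 0, 4, 0, 1, 0, 1, 0, 0, 0, 0, 0, 0, 0, 0, 2, 1],
    [0, 0, 0, 0, 4, 2, 1, 1, 1, 1, 1, 1, 1, 1, 1, 1, 1, 1, 1, 1, 1, 1, 1, 1, 1, 0, 0, 1, 0, 3, 0, 2, 0, 0, 0, 0, 0, 0, 0, 0, 1, 2, 0],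
    [0, 0, 0, 0, 1, 1, 4, 2, 5, 3, 5, 3, 6, 3, 3, 7, 4, 3, 3, 4, 3, 4, 3, 4, 3, 0, 0, 2, 0, 1, 0, 1, 0, 0, 0, 0, 0, 0, 0, 0, 8, 1, 0, 0],
    [0, 0, 0, 0, 2, 4, 1, 1, 1, 1, 1, 1, 1, 1, 1, 1, 1, 1, 1, 1, 1, 1, 1, 1, 1, 0, 0, 1, 0, 2, 0, 4, 0, 0, 0, 0, 0, 0, 0, 0, 1, 8, 0, 0, 0],
    [2, 4, 1, 1, 0, 0, 0, 0, 0, 0, 0, 0, 0, 0, 0, 0, 0, 0, 0, 0, 0, 0, 0, 0, 0, 1, 1, 0, 2, 0, 4, 0, 0, 0, 0, 0, 0, 0, 0, 0, 0, 0, 1, 8, 1, 2],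
    [1, 1, 2, 4, 0, 0, 0, 0, 0, 0, 0, 0, 0, 0, 0, 0, 0, 0, 0, 0, 0, 0, 0, 0, 0, 3, 2, 0, 1, 0, 1, 0, 0, 0, 0, 0, 0, 0, 0, 0, 0, 0, 8, 1, 2, 1, 0],
    [1, 1, 3, 2, 0, 0, 0, 0, 0, 0, 0, 0, 0, 0, 0, 0, 0, 0, 0, 0, 0, 0, 0, 0, 0, 2, 3, 0, 1, 0, 1, 0, 0, 0, 0, 0, 0, 0, 0, 0, 0, 0, 2, 1, 3, 1, 0, 0],
    [0, 0, 0, 0, 2, 3, 1, 1, 1, 1, 1, 1, 1, 1, 1, 1, 1, 1, 1, 1, 1, 1, 1, 1, 1, 0, 0, 1, 0, 2, 0, 3, 0, 0, 0, 0, 0, 0, 0, 0, 1, 3, 0, 0, 0, 0, 2, 1, 1],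
    [2, 3, 1, 1, 0, 0, 0, 0, 0, 0, 0, 0, 0, 0, 0, 0, 0, 0, 0, 0, 0, 0, 0, 0, 0, 1, 1, 0, 2, 0, 3, 0, 0, 0, 0, 0, 0, 0, 0, 0, 0, 0, 1, 3, 1, 2, 0, 0, 0, 2],
    [0, 0, 0, 0, 1, 1, 2, 3, 2, 2, 2, 2, 2, 2, 2, 2, 2, 2, 2, 2, 2, 2, 2, 2, 2, 0, 0, 3, 0, 1, 0, 1, 0, 0, 0, 0, 0, 0, 0, 0, 2, 1, 0, 0, 0, 0, 1, 3, 2, 0, 1],
    [0, 0, 0, 0, 6, 2, 1, 1, 1, 1, 1, 1, 1, 1, 1, 1, 1, 1, 1, 1, 1, 1, 1, 1, 1, 0, 0, 1, 0, 3, 0, 2, 0, 0, 0, 0, 0, 0, 0, 0, 1, 2, 0, 0, 0, 0, 4, 1, 1, 0, 3, 0],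
    [1, 1, 2, 8, 0, 0, 0, 0, 0, 0, 0, 0, 0, 0, 0, 0, 0, 0, 0, 0, 0, 0, 0, 0, 0, 3, 2, 0, 1, 0, 1, 0, 0, 0, 0, 0, 0, 0, 0, 0, 0, 0, 4, 1, 2, 1, 0, 0, 0, 1, 0, 3, 1],
    [5, 2, 1, 1, 0, 0, 0, 0, 0, 0, 0, 0, 0, 0, 0, 0, 0, 0, 0, 0, 0, 0, 0, 0, 0, 1, 1, 0, 3, 0, 2, 0, 0, 0, 0, 0, 0, 0, 0, 0, 0, 0, 1, 2, 1, 4, 0, 0, 0, 3, 0, 1, 2, 0],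
    [0, 0, 0, 0, 1, 1, 5, 2, 4, 3, 4, 3, 4, 3, 3, 4, 6, 3, 3, 7, 3, 5, 3, 5, 3, 0, 0, 2, 0, 1, 0, 1, 0, 0, 0, 0, 0, 0, 0, 0, 4, 1, 0, 0, 0, 0, 1, 2, 3, 0, 1, 0, 0, 2, 1]]

set_option Elab.async false in
theorem b8_4_ok : chkB8 colsD b8_4 = true := by decide +kernel

def b8_5 : B8 where
  m := 0xff0000000000
  pool := [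
    ([0, 1, 0, 1, 0, 1, 1, 0, 1, 0, 0, 3, 0, 1, 4, -1, 0, 0, 0, 4, 0, 2, 4, 2, 0, 6, 4, 6, 0, 2, 4, 6, 0, 1, 4, 3, 3, 6, 4, -1, 0, 8, 4, 2, 0, 0, 2, 4, 0, 1, 3, 6, 6, 3, 2, -1], [0, 1, 0, 1, 0, 1, 1, 1, 0, 0, 0, 0, 0, 0, 0, 0, 0, 0, 0, 0, 0, 0, 0, 0, 0, 0, 0, 0, 0, 0, 0, 0, 0, 0, 0, 0, 0, 0, 0, 0, 0, 0, 0, 0, 0, 0, 0, 0, 0, 0, 0, 0, 0, 0, 0, 0], 20),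
    ([1, 1, 0, 0, 1, 1, 0, 0, 1, 1, 0, 2, 0, 0, 5, 5, 0, 0, 0, 4, 0, 4, 4, 2, 0, 6, 4, 4, 4, 2, 4, 8, 0, 1, 3, 2, 4, 5, 4, 3, 0, 4, 6, 2, 0, 6, 6, 6, 0, -1, 5, 8, 7, 4, 1, 0], [1, 1, 0, 0, 1, 1, 0, 1, 1, 0, 0, 0, 0, 0, 0, 0, 0, 0, 0, 0, 0, 0, 0, 0, 0, 0, 0, 0, 0, 0, 0, 0, 0, 0, 0, 0, 0, 0, 0, 0, 0, 0, 0, 0, 0, 0, 0, 0, 0, 0, 0, 0, 0, 0, 0, 0], 30),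
    ([1, 0, 1, 0, 0, 1, 1, 0, 1, 1, 1, -1, 0, 0, 4, 4, 0, 0, 0, 4, 0, 6, 8, 4, 0, 10, 6, 2, 2, 2, 4, 8, 0, 3, 3, 4, 9, 4, 5, 4, 0, 2, 6, 4, -2, 6, 6, 6, 0, 4, 7, 7, 5, 7, 4, 0], [1, 0, 1, 0, 0, 1, 1, 1, 1, 1, 0, 0, 0, 0, 0, 0, 0, 0, 0, 0, 0, 0, 0, 0, 0, 0, 0, 0, 0, 0, 0, 0, 0, 0, 0, 0, 0, 0, 0, 0, 0, 0, 0, 0, 0, 0, 0, 0, 0, 0, 0, 0, 0, 0, 0, 0], 28),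
    ([0, 0, 0, 0, 0, 0, 0, 6, 0, 1, 0, -1, 0, -1, -1, 8, 0, 1, 1, 4, 1, 0, -1, 2, 1, 9, 4, 2, 5, 5, 2, 10, 0, 2, 6, 0, 6, 4, 4, 6, 0, 4, 0, 6, 6, 4, 8, 6, 1, 5, 3, 3, 6, 6, 4, 0], [0, 0, 0, 0, 0, 0, 0, 0, 1, 0, 0, 0, 1, 1, 1, 1, 0, 0, 1, 0, 0, 0, 0, 0, 0, 0, 0, 0, 0, 0, 0, 0, 0, 0, 0, 0, 0, 0, 0, 0, 0, 0, 0, 0, 0, 0, 0, 0, 0, 0, 0, 0, 0, 0, 0, 0], 34),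
    ([1, 1, 1, 1, 0, 0, 0, 2, 0, 0, 0, 6, 0, 2, 0, 0, 0, 1, 0, 3, 0, -1, -1, 2, 0, 1, 1, 4, 3, 2, 7, 8, 0, 6, 1, 9, 6, 8, 1, 3, 0, 2, 6, 2, 0, 4, 6, 6, 0, -2, 4, 4, 0, 4, 2, 0], [1, 1, 1, 1, 0, 0, 0, 0, 0, 0, 0, 0, 1, 0, 0, 0, 0, 0, 0, 0, 0, 0, 0, 0, 0, 0, 0, 0, 0, 0, 0, 0, 0, 0, 0, 0, 0, 0, 0, 0, 0, 0, 0, 0, 0, 0, 0, 0, 0, 0, 0, 0, 0, 0, 0, 0], 26),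
    ([1, 0, 1, 0, 0, 1, 1, 2, 0, 0, 0, 0, 0, 2, 2, 0, 0, 1, 1, 0, 0, 3, 4, 3, 0, 7, 6, 5, 4, 3, 7, 12, 0, 3, 1, 4, 9, 8, 5, 0, 0, 2, 4, 0, 0, 4, 6, 4, 0, 2, 0, 2, 4, 4, 2, -2], [1, 0, 1, 0, 0, 1, 1, 0, 0, 0, 0, 0, 1, 1, 0, 0, 0, 0, 0, 0, 0, 0, 0, 0, 0, 0, 0, 0, 0, 0, 0, 0, 0, 0, 0, 0, 0, 0, 0, 0, 0, 0, 0, 0, 0, 0, 0, 0, 0, 0, 0, 0, 0, 0, 0, 0], 20),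
    ([1, 0, 0, 1, 1, 0, 1, 4, 0, 0, 0, 2, 0, 2, 2, 0, 1, 0, 0, 1, 0, 3, 2, 3, 0, 0, 1, 3, 4, 6, 5, 7, 0, 2, -1, 3, 5, 9, 0, 2, 0, 4, 6, 2, -2, 2, 4, 2, 0, 0, 4, 10, 0, 0, 2, 0], [1, 0, 0, 1, 1, 0, 1, 0, 0, 0, 0, 1, 0, 0, 0, 0, 0, 0, 0, 0, 0, 0, 0, 0, 0, 0, 0, 0, 0, 0, 0, 0, 0, 0, 0, 0, 0, 0, 0, 0, 0, 0, 0, 0, 0, 0, 0, 0, 0, 0, 0, 0, 0, 0, 0, 0], 18),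
    ([0, 1, 1, 0, 1, 0, 1, 4, 0, 0, 0, 2, 0, 0, 4, 6, 0, 0, 1, 5, 1, 5, 0, -2, 1, 10, 3, 4, 4, 3, 5, 14, 1, 1, 3, 3, 4, 8, 6, 0, 0, 6, 4, 6, 2, 4, 8, 8, 0, 6, 0, 10, 6, 4, 6, 2], [0, 1, 1, 0, 1, 0, 1, 0, 0, 0, 0, 0, 0, 1, 1, 1, 1, 0, 0, 0, 0, 0, 0, 0, 0, 0, 0, 0, 0, 0, 0, 0, 0, 0, 0, 0, 0, 0, 0, 0, 0, 0, 0, 0, 0, 0, 0, 0, 0, 0, 0, 0, 0, 0, 0, 0], 38),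
    ([0, 0, 0, 0, 0, 0, 0, 2, 0, 0, 0, 0, 0, 0, 0, 2, 0, 0, 0, 2, 0, 0, 0, 0, 1, 1, -1, -1, -1, -1, 1, 1, 0, 0, 2, 0, 0, 2, 2, 0, 0, 2, 0, 2, 2, 2, 0, 2, 0, 2, 2, 2, 0, 2, 2, 0], [0, 0, 0, 0, 0, 0, 0, 0, 0, 0, 0, 0, 0, 0, 0, 1, 0, 0, 0, 0, 0, 0, 0, 0, 0, 0, 0, 0, 0, 0, 0, 0, 0, 0, 0, 0, 0, 0, 0, 0, 0, 0, 0, 0, 0, 0, 0, 0, 0, 0, 0, 0, 0, 0, 0, 0], 10),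
    ([0, 0, 0, 0, 0, 0, 0, 2, 0, 0, 0, 0, 0, 0, 0, 2, 1, 1, 1, -1, 1, 1, 1, 3, 0, 4, 4, 4, 4, 6, 2, 6, 0, 2, 2, 0, 4, 4, 2, 4, 0, 2, 0, 4, 2, 0, 4, 2, 0, 2, 2, 2, 6, 2, 2, -2], [0, 0, 0, 0, 0, 0, 0, 0, 0, 0, 0, 1, 1, 1, 1, 0, 0, 0, 0, 0, 0, 0, 0, 0, 0, 0, 0, 0, 0, 0, 0, 0, 0, 0, 0, 0, 0, 0, 0, 0, 0, 0, 0, 0, 0, 0, 0, 0, 0, 0, 0, 0, 0, 0, 0, 0], 14),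
    ([0, 0, 0, 0, 0, 0, 0, 2, 1, 1, 1, -1, 1, -1, 1, 5, 0, 0, 0, 6, 0, 4, 4, 4, 0, 4, 6, 0, 0, 2, 0, 2, 0, 4, 4, 2, 4, 2, 2, 4, 0, 2, 2, 4, 2, 2, 2, 4, 0, 4, 6, 6, 4, 6, 6, 2], [0, 0, 0, 0, 0, 0, 0, 1, 1, 1, 1, 0, 0, 0, 0, 0, 0, 0, 0, 0, 0, 0, 0, 0, 0, 0, 0, 0, 0, 0, 0, 0, 0, 0, 0, 0, 0, 0, 0, 0, 0, 0, 0, 0, 0, 0, 0, 0, 0, 0, 0, 0, 0, 0, 0, 0], 18),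
    ([1, 1, 1, 1, 1, 1, 1, 1, 0, 0, 0, 4, 0, 2, 4, 0, 0, 0, 0, 2, 0, 4, 2, 2, 0, 4, 2, 6, 4, 2, 8, 12, 0, 2, 0, 8, 6, 10, 4, 0, 0, 6, 8, 0, -2, 6, 6, 6, 0, -2, 2, 8, 2, 4, 2, 2], [1, 1, 1, 1, 1, 1, 1, 0, 0, 0, 0, 0, 0, 0, 0, 0, 0, 0, 0, 0, 0, 0, 0, 0, 0, 0, 0, 0, 0, 0, 0, 0, 0, 0, 0, 0, 0, 0, 0, 0, 0, 0, 0, 0, 0, 0, 0, 0, 0, 0, 0, 0, 0, 0, 0, 0], 30)]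
  c0 := 1
  c1 := [2, 0, 1, 0, 3, 0, 0, 1, 0, 2, 1, 0, 1, 0, 4, 0, 1, 1, 1, 1, 1, 1, 1, 1, 1, 1, 1, 1, 1, 1, 1, 1, 1, 0, 2, 0, 0, 3, 1, 0, 0, 0, 0, 0, 0, 0, 0, 0, 1, 0, 0, 1, 2, 0, 3, 0]
  c2 := [
    [],
    [0],
    [3, 0],
    [0, 3, 0],
    [1, 0, 2, 0],
    [0, 1, 0, 2, 0],
    [0, 2, 0, 1, 0, 3],
    [2, 0, 1, 0, 3, 0, 0],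
    [0, 1, 0, 2, 0, 1, 3, 0],
    [1, 0, 5, 0, 1, 0, 0, 2, 0],
    [3, 0, 1, 0, 2, 0, 0, 1, 0, 4],
    [0, 2, 0, 1, 0, 4, 1, 0, 4, 0, 0],
    [2, 0, 1, 0, 3, 0, 0, 1, 0, 2, 1, 0],
    [0, 6, 0, 1, 0, 2, 1, 0, 2, 0, 0, 1, 0],
    [1, 0, 2, 0, 1, 0, 0, 4, 0, 1, 2, 0, 4, 0],
    [0, 1, 0, 3, 0, 1, 2, 0, 1, 0, 0, 2, 0, 4, 0],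
    [2, 0, 1, 0, 3, 0, 0, 1, 0, 2, 1, 0, 1, 0, 4, 0],
    [2, 0, 1, 0, 5, 0, 0, 1, 0, 2, 1, 0, 1, 0, 3, 0, 1],
    [2, 0, 1, 0, 4, 0, 0, 1, 0, 2, 1, 0, 1, 0, 3, 0, 1, 1],
    [2, 0, 1, 0, 3, 0, 0, 1, 0, 2, 1, 0, 1, 0, 8, 0, 1, 1, 1],
    [2, 0, 1, 0, 4, 0, 0, 1, 0, 2, 1, 0, 1, 0, 3, 0, 1, 1, 1, 1],
    [2, 0, 1, 0, 3, 0, 0, 1, 0, 2, 1, 0, 1, 0, 5, 0, 1, 1, 1, 1, 1],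
    [2, 0, 1, 0, 8, 0, 0, 1, 0, 2, 1, 0, 1, 0, 3, 0, 1, 1, 1, 1, 1, 1],
    [2, 0, 1, 0, 3, 0, 0, 1, 0, 2, 1, 0, 1, 0, 4, 0, 1, 1, 1, 1, 1, 1, 1],
    [2, 0, 1, 0, 4, 0, 0, 1, 0, 2, 1, 0, 1, 0, 3, 0, 1, 1, 1, 1, 1, 1, 1, 1],
    [2, 0, 1, 0, 5, 0, 0, 1, 0, 2, 1, 0, 1, 0, 3, 0, 1, 1, 1, 1, 1, 1, 1, 1, 1],
    [2, 0, 1, 0, 3, 0, 0, 1, 0, 2, 1, 0, 1, 0, 9, 0, 1, 1, 1, 1, 1, 1, 1, 1, 1, 1],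
    [2, 0, 1, 0, 3, 0, 0, 1, 0, 2, 1, 0, 1, 0, 4, 0, 1, 1, 1, 1, 1, 1, 1, 1, 1, 1, 1],
    [2, 0, 1, 0, 9, 0, 0, 1, 0, 2, 1, 0, 1, 0, 3, 0, 1, 1, 1, 1, 1, 1, 1, 1, 1, 1, 1, 1],
    [2, 0, 1, 0, 4, 0, 0, 1, 0, 2, 1, 0, 1, 0, 3, 0, 1, 1, 1, 1, 1, 1, 1, 1, 1, 1, 1, 1, 1],
    [2, 0, 1, 0, 3, 0, 0, 1, 0, 2, 1, 0, 1, 0, 5, 0, 1, 1, 1, 1, 1, 1, 1, 1, 1, 1, 1, 1, 1, 1],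
    [2, 0, 1, 0, 3, 0, 0, 1, 0, 2, 1, 0, 1, 0, 4, 0, 1, 1, 1, 1, 1, 1, 1, 1, 1, 1, 1, 1, 1, 1, 1],
    [2, 0, 1, 0, 3, 0, 0, 1, 0, 2, 1, 0, 1, 0, 4, 0, 1, 1, 1, 1, 1, 1, 1, 1, 1, 1, 1, 1, 1, 1, 1, 1],
    [0, 1, 0, 2, 0, 1, 3, 0, 1, 0, 0, 4, 0, 2, 0, 1, 0, 0, 0, 0, 0, 0, 0, 0, 0, 0, 0, 0, 0, 0, 0, 0, 0],
    [1, 0, 3, 0, 1, 0, 0, 2, 0, 1, 3, 0, 2, 0, 1, 0, 2, 2, 2, 2, 2, 2, 2, 2, 2, 2, 2, 2, 2, 2, 2, 2, 2, 0],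
    [0, 3, 0, 1, 0, 2, 1, 0, 2, 0, 0, 1, 0, 1, 0, 3, 0, 0, 0, 0, 0, 0, 0, 0, 0, 0, 0, 0, 0, 0, 0, 0, 0, 2, 0],
    [0, 2, 0, 1, 0, 3, 1, 0, 3, 0, 0, 1, 0, 1, 0, 2, 0, 0, 0, 0, 0, 0, 0, 0, 0, 0, 0, 0, 0, 0, 0, 0, 0, 3, 0, 1],
    [1, 0, 2, 0, 1, 0, 0, 3, 0, 1, 2, 0, 3, 0, 1, 0, 3, 5, 4, 3, 4, 3, 7, 3, 4, 5, 3, 3, 7, 4, 3, 3, 3, 0, 1, 0, 0],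
    [3, 0, 1, 0, 2, 0, 0, 1, 0, 5, 1, 0, 1, 0, 2, 0, 1, 1, 1, 1, 1, 1, 1, 1, 1, 1, 1, 1, 1, 1, 1, 1, 1, 0, 3, 0, 0, 2],
    [0, 1, 0, 3, 0, 1, 2, 0, 1, 0, 0, 2, 0, 6, 0, 1, 0, 0, 0, 0, 0, 0, 0, 0, 0, 0, 0, 0, 0, 0, 0, 0, 0, 1, 0, 3, 2, 0, 0],
    [0, 0, 0, 0, 0, 0, 0, 0, 0, 0, 0, 0, 0, 0, 0, 0, 0, 0, 0, 0, 0, 0, 0, 0, 0, 0, 0, 0, 0, 0, 0, 0, 0, 0, 0, 0, 0, 0, 0, 0],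
    [0, 0, 0, 0, 0, 0, 0, 0, 0, 0, 0, 0, 0, 0, 0, 0, 0, 0, 0, 0, 0, 0, 0, 0, 0, 0, 0, 0, 0, 0, 0, 0, 0, 0, 0, 0, 0, 0, 0, 0, 0],
    [0, 0, 0, 0, 0, 0, 0, 0, 0, 0, 0, 0, 0, 0, 0, 0, 0, 0, 0, 0, 0, 0, 0, 0, 0, 0, 0, 0, 0, 0, 0, 0, 0, 0, 0, 0, 0, 0, 0, 0, 0, 0],
    [0, 0, 0, 0, 0, 0, 0, 0, 0, 0, 0, 0, 0, 0, 0, 0, 0, 0, 0, 0, 0, 0, 0, 0, 0, 0, 0, 0, 0, 0, 0, 0, 0, 0, 0, 0, 0, 0, 0, 0, 0, 0, 0],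
    [0, 0, 0, 0, 0, 0, 0, 0, 0, 0, 0, 0, 0, 0, 0, 0, 0, 0, 0, 0, 0, 0, 0, 0, 0, 0, 0, 0, 0, 0, 0, 0, 0, 0, 0, 0, 0, 0, 0, 0, 0, 0, 0, 0],
    [0, 0, 0, 0, 0, 0, 0, 0, 0, 0, 0, 0, 0, 0, 0, 0, 0, 0, 0, 0, 0, 0, 0, 0, 0, 0, 0, 0, 0, 0, 0, 0, 0, 0, 0, 0, 0, 0, 0, 0, 0, 0, 0, 0, 0],
    [0, 0, 0, 0, 0, 0, 0, 0, 0, 0, 0, 0, 0, 0, 0, 0, 0, 0, 0, 0, 0, 0, 0, 0, 0, 0, 0, 0, 0, 0, 0, 0, 0, 0, 0, 0, 0, 0, 0, 0, 0, 0, 0, 0, 0, 0],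
    [0, 0, 0, 0, 0, 0, 0, 0, 0, 0, 0, 0, 0, 0, 0, 0, 0, 0, 0, 0, 0, 0, 0, 0, 0, 0, 0, 0, 0, 0, 0, 0, 0, 0, 0, 0, 0, 0, 0, 0, 0, 0, 0, 0, 0, 0, 0],
    [2, 0, 1, 0, 4, 0, 0, 1, 0, 2, 1, 0, 1, 0, 3, 0, 1, 1, 1, 1, 1, 1, 1, 1, 1, 1, 1, 1, 1, 1, 1, 1, 1, 0, 2, 0, 0, 4, 1, 0, 0, 0, 0, 0, 0, 0, 0, 0],
    [0, 1, 0, 7, 0, 1, 2, 0, 1, 0, 0, 2, 0, 3, 0, 1, 0, 0, 0, 0, 0, 0, 0, 0, 0, 0, 0, 0, 0, 0, 0, 0, 0, 1, 0, 8, 2, 0, 0, 1, 0, 0, 0, 0, 0, 0, 0, 0, 0],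
    [0, 1, 0, 2, 0, 1, 4, 0, 1, 0, 0, 3, 0, 2, 0, 1, 0, 0, 0, 0, 0, 0, 0, 0, 0, 0, 0, 0, 0, 0, 0, 0, 0, 1, 0, 2, 4, 0, 0, 1, 0, 0, 0, 0, 0, 0, 0, 0, 0, 1],
    [5, 0, 1, 0, 2, 0, 0, 1, 0, 3, 1, 0, 1, 0, 2, 0, 1, 1, 1, 1, 1, 1, 1, 1, 1, 1, 1, 1, 1, 1, 1, 1, 1, 0, 5, 0, 0, 2, 1, 0, 0, 0, 0, 0, 0, 0, 0, 0, 1, 0, 0],
    [1, 0, 3, 0, 1, 0, 0, 2, 0, 1, 3, 0, 2, 0, 1, 0, 2, 2, 2, 2, 2, 2, 2, 2, 2, 2, 2, 2, 2, 2, 2, 2, 2, 0, 1, 0, 0, 1, 3, 0, 0, 0, 0, 0, 0, 0, 0, 0, 2, 0, 0, 4],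
    [0, 2, 0, 1, 0, 3, 1, 0, 3, 0, 0, 1, 0, 1, 0, 2, 0, 0, 0, 0, 0, 0, 0, 0, 0, 0, 0, 0, 0, 0, 0, 0, 0, 3, 0, 1, 1, 0, 0, 2, 0, 0, 0, 0, 0, 0, 0, 0, 0, 2, 4, 0, 0],
    [1, 0, 2, 0, 1, 0, 0, 3, 0, 1, 2, 0, 3, 0, 1, 0, 3, 5, 4, 3, 4, 3, 6, 3, 4, 5, 3, 3, 6, 4, 3, 3, 3, 0, 1, 0, 0, 1, 2, 0, 0, 0, 0, 0, 0, 0, 0, 0, 4, 0, 0, 2, 1, 0],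
    [0, 3, 0, 1, 0, 2, 1, 0, 2, 0, 0, 1, 0, 1, 0, 3, 0, 0, 0, 0, 0, 0, 0, 0, 0, 0, 0, 0, 0, 0, 0, 0, 0, 2, 0, 1, 1, 0, 0, 3, 0, 0, 0, 0, 0, 0, 0, 0, 0, 4, 2, 0, 0, 1, 0]]

set_option Elab.async false in
theorem b8_5_ok : chkB8 colsD b8_5 = true := by decide +kernel

def b8_6 : B8 where
  m := 0xff000000000000
  pool := [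
    ([0, 0, 0, 0, 0, 0, 0, 0, 1, 0, 0, 1, 0, -1, 2, 1, 0, 0, 0, 2, 0, 2, 2, 0, 0, 2, 1, 1, -1, 1, 0, 0, 0, 1, 2, -1, 1, 0, 0, 1, 0, 2, 0, 2, -1, -1, -1, 1, 0, 2, 2, 2, 2, 0, 0, 0], [0, 0, 0, 0, 0, 0, 0, 1, 0, 0, 0, 0, 0, 0, 0, 0, 0, 0, 0, 0, 0, 0, 0, 0, 0, 0, 0, 0, 0, 0, 0, 0, 0, 0, 0, 0, 0, 0, 0, 0, 0, 0, 0, 0, 0, 0, 0, 0, 0, 0, 0, 0, 0, 0, 0, 0], 8),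
    ([0, 0, 0, 0, 0, 0, 0, 0, 1, 1, 0, 0, 0, -2, 1, 3, 0, 0, 0, 2, 0, 2, 2, 0, 0, 4, 2, 0, 1, 1, -1, 1, 0, 1, 3, -2, 2, -1, 0, 3, 0, 1, 2, 3, 0, 1, 1, 2, 0, 2, 4, 4, 4, 2, 2, 0], [0, 0, 0, 0, 0, 0, 0, 1, 1, 0, 0, 0, 0, 0, 0, 0, 0, 0, 0, 0, 0, 0, 0, 0, 0, 0, 0, 0, 0, 0, 0, 0, 0, 0, 0, 0, 0, 0, 0, 0, 0, 0, 0, 0, 0, 0, 0, 0, 0, 0, 0, 0, 0, 0, 0, 0], 18),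
    ([0, 0, 0, 0, 0, 0, 0, 0, 0, 1, 1, -2, 0, -1, 0, 3, 0, 0, 0, 2, 0, 0, 2, 2, 0, 3, 3, -2, 1, 0, -1, 0, 0, 2, 1, 1, 2, 0, 1, 3, 0, -2, 1, 3, 1, 3, 4, 2, 0, 2, 4, 2, 2, 4, 4, 0], [0, 0, 0, 0, 0, 0, 0, 0, 1, 1, 0, 0, 0, 0, 0, 0, 0, 0, 0, 0, 0, 0, 0, 0, 0, 0, 0, 0, 0, 0, 0, 0, 0, 0, 0, 0, 0, 0, 0, 0, 0, 0, 0, 0, 0, 0, 0, 0, 0, 0, 0, 0, 0, 0, 0, 0], 18),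
    ([0, 1, 0, 1, 0, 1, 1, 6, 0, 1, 1, 0, 1, 2, 1, 6, 1, 1, 0, 6, 1, 3, 4, 10, 0, 10, 10, 6, 6, 8, 6, 14, 0, 4, 8, 8, 10, 12, 6, 6, 1, 7, 7, 3, 4, 4, 8, 6, 0, 4, 10, 12, 12, 12, 10, 2], [0, 1, 0, 1, 0, 1, 1, 0, 1, 1, 1, 1, 1, 0, 1, 0, 0, 1, 0, 0, 0, 0, 0, 0, 0, 0, 0, 0, 0, 0, 0, 0, 0, 0, 0, 0, 0, 0, 0, 0, 0, 0, 0, 0, 0, 0, 0, 0, 0, 0, 0, 0, 0, 0, 0, 0], 62),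
    ([1, 1, 1, 1, 0, 0, 0, 2, 0, 0, 0, 6, 0, 2, 0, 0, 0, 1, 0, 3, 0, -1, -1, 2, 0, 1, 1, 4, 3, 2, 7, 8, 0, 6, 1, 9, 6, 8, 1, 3, 0, 2, 6, 2, 0, 4, 6, 6, 0, -2, 4, 4, 0, 4, 2, 0], [1, 1, 1, 1, 0, 0, 0, 0, 0, 0, 0, 0, 1, 0, 0, 0, 0, 0, 0, 0, 0, 0, 0, 0, 0, 0, 0, 0, 0, 0, 0, 0, 0, 0, 0, 0, 0, 0, 0, 0, 0, 0, 0, 0, 0, 0, 0, 0, 0, 0, 0, 0, 0, 0, 0, 0], 12),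
    ([1, 0, 1, 0, 0, 1, 1, 2, 0, 0, 0, 0, 0, 2, 2, 0, 0, 1, 1, 0, 0, 3, 4, 3, 0, 7, 6, 5, 4, 3, 7, 12, 0, 3, 1, 4, 9, 8, 5, 0, 0, 2, 4, 0, 0, 4, 6, 4, 0, 2, 0, 2, 4, 4, 2, -2], [1, 0, 1, 0, 0, 1, 1, 0, 0, 0, 0, 0, 1, 1, 0, 0, 0, 0, 0, 0, 0, 0, 0, 0, 0, 0, 0, 0, 0, 0, 0, 0, 0, 0, 0, 0, 0, 0, 0, 0, 0, 0, 0, 0, 0, 0, 0, 0, 0, 0, 0, 0, 0, 0, 0, 0], 12),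
    ([1, 0, 0, 1, 1, 0, 1, 4, 0, 0, 0, 2, 0, 2, 2, 0, 1, 0, 0, 1, 0, 3, 2, 3, 0, 0, 1, 3, 4, 6, 5, 7, 0, 2, -1, 3, 5, 9, 0, 2, 0, 4, 6, 2, -2, 2, 4, 2, 0, 0, 4, 10, 0, 0, 2, 0], [1, 0, 0, 1, 1, 0, 1, 0, 0, 0, 0, 1, 0, 0, 0, 0, 0, 0, 0, 0, 0, 0, 0, 0, 0, 0, 0, 0, 0, 0, 0, 0, 0, 0, 0, 0, 0, 0, 0, 0, 0, 0, 0, 0, 0, 0, 0, 0, 0, 0, 0, 0, 0, 0, 0, 0], 16),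
    ([0, 1, 1, 0, 1, 0, 1, 4, 0, 0, 0, 2, 0, 0, 4, 6, 0, 0, 1, 5, 1, 5, 0, -2, 1, 10, 3, 4, 4, 3, 5, 14, 1, 1, 3, 3, 4, 8, 6, 0, 0, 6, 4, 6, 2, 4, 8, 8, 0, 6, 0, 10, 6, 4, 6, 2], [0, 1, 1, 0, 1, 0, 1, 0, 0, 0, 0, 0, 0, 1, 1, 1, 1, 0, 0, 0, 0, 0, 0, 0, 0, 0, 0, 0, 0, 0, 0, 0, 0, 0, 0, 0, 0, 0, 0, 0, 0, 0, 0, 0, 0, 0, 0, 0, 0, 0, 0, 0, 0, 0, 0, 0], 34),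
    ([0, 0, 0, 0, 0, 0, 0, 2, 0, 0, 0, 0, 0, 0, 0, 2, 0, 0, 0, 2, 0, 0, 0, 0, 1, 1, -1, -1, -1, -1, 1, 1, 0, 0, 2, 0, 0, 2, 2, 0, 0, 2, 0, 2, 2, 2, 0, 2, 0, 2, 2, 2, 0, 2, 2, 0], [0, 0, 0, 0, 0, 0, 0, 0, 0, 0, 0, 0, 0, 0, 0, 1, 0, 0, 0, 0, 0, 0, 0, 0, 0, 0, 0, 0, 0, 0, 0, 0, 0, 0, 0, 0, 0, 0, 0, 0, 0, 0, 0, 0, 0, 0, 0, 0, 0, 0, 0, 0, 0, 0, 0, 0], 10),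
    ([0, 0, 0, 0, 0, 0, 0, 2, 0, 0, 0, 0, 0, 0, 0, 2, 1, 1, 1, -1, 1, 1, 1, 3, 0, 4, 4, 4, 4, 6, 2, 6, 0, 2, 2, 0, 4, 4, 2, 4, 0, 2, 0, 4, 2, 0, 4, 2, 0, 2, 2, 2, 6, 2, 2, -2], [0, 0, 0, 0, 0, 0, 0, 0, 0, 0, 0, 1, 1, 1, 1, 0, 0, 0, 0, 0, 0, 0, 0, 0, 0, 0, 0, 0, 0, 0, 0, 0, 0, 0, 0, 0, 0, 0, 0, 0, 0, 0, 0, 0, 0, 0, 0, 0, 0, 0, 0, 0, 0, 0, 0, 0], 14),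
    ([0, 0, 0, 0, 0, 0, 0, 2, 1, 1, 1, -1, 1, -1, 1, 5, 0, 0, 0, 6, 0, 4, 4, 4, 0, 4, 6, 0, 0, 2, 0, 2, 0, 4, 4, 2, 4, 2, 2, 4, 0, 2, 2, 4, 2, 2, 2, 4, 0, 4, 6, 6, 4, 6, 6, 2], [0, 0, 0, 0, 0, 0, 0, 1, 1, 1, 1, 0, 0, 0, 0, 0, 0, 0, 0, 0, 0, 0, 0, 0, 0, 0, 0, 0, 0, 0, 0, 0, 0, 0, 0, 0, 0, 0, 0, 0, 0, 0, 0, 0, 0, 0, 0, 0, 0, 0, 0, 0, 0, 0, 0, 0], 34),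
    ([1, 1, 1, 1, 1, 1, 1, 1, 0, 0, 0, 4, 0, 2, 4, 0, 0, 0, 0, 2, 0, 4, 2, 2, 0, 4, 2, 6, 4, 2, 8, 12, 0, 2, 0, 8, 6, 10, 4, 0, 0, 6, 8, 0, -2, 6, 6, 6, 0, -2, 2, 8, 2, 4, 2, 2], [1, 1, 1, 1, 1, 1, 1, 0, 0, 0, 0, 0, 0, 0, 0, 0, 0, 0, 0, 0, 0, 0, 0, 0, 0, 0, 0, 0, 0, 0, 0, 0, 0, 0, 0, 0, 0, 0, 0, 0, 0, 0, 0, 0, 0, 0, 0, 0, 0, 0, 0, 0, 0, 0, 0, 0], 18)]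
  c0 := 1
  c1 := [1, 1, 1, 1, 1, 1, 1, 1, 0, 7, 1, 0, 1, 0, 2, 0, 1, 1, 1, 1, 1, 1, 1, 1, 1, 1, 0, 0, 0, 0, 3, 2, 1, 0, 3, 0, 0, 2, 1, 0, 1, 2, 1, 7, 0, 0, 0, 0, 0, 0, 0, 0, 0, 0, 0, 0]
  c2 := [
    [],
    [1],
    [1, 1],
    [1, 1, 1],
    [1, 1, 1, 1],
    [1, 1, 1, 1, 1],
    [1, 1, 1, 1, 1, 1],
    [1, 1, 1, 1, 1, 1, 1],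
    [0, 0, 0, 0, 0, 0, 0, 0],
    [4, 3, 4, 3, 6, 3, 3, 7, 0],
    [1, 1, 1, 1, 1, 1, 1, 1, 0, 2],
    [0, 0, 0, 0, 0, 0, 0, 0, 2, 0, 0],
    [1, 1, 1, 1, 1, 1, 1, 1, 0, 3, 1, 0],
    [0, 0, 0, 0, 0, 0, 0, 0, 3, 0, 0, 1, 0],
    [2, 2, 2, 2, 2, 2, 2, 2, 0, 1, 3, 0, 2, 0],
    [0, 0, 0, 0, 0, 0, 0, 0, 1, 0, 0, 3, 0, 2, 0],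
    [1, 1, 1, 1, 1, 1, 1, 1, 0, 3, 1, 0, 1, 0, 2, 0],
    [1, 1, 1, 1, 1, 1, 1, 1, 0, 3, 1, 0, 1, 0, 2, 0, 1],
    [1, 1, 1, 1, 1, 1, 1, 1, 0, 5, 1, 0, 1, 0, 2, 0, 1, 1],
    [1, 1, 1, 1, 1, 1, 1, 1, 0, 4, 1, 0, 1, 0, 2, 0, 1, 1, 1],
    [1, 1, 1, 1, 1, 1, 1, 1, 0, 3, 1, 0, 1, 0, 2, 0, 1, 1, 1, 1],
    [1, 1, 1, 1, 1, 1, 1, 1, 0, 3, 1, 0, 1, 0, 2, 0, 1, 1, 1, 1, 1],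
    [1, 1, 1, 1, 1, 1, 1, 1, 0, 4, 1, 0, 1, 0, 2, 0, 1, 1, 1, 1, 1, 1],
    [1, 1, 1, 1, 1, 1, 1, 1, 0, 5, 1, 0, 1, 0, 2, 0, 1, 1, 1, 1, 1, 1, 1],
    [1, 1, 1, 1, 1, 1, 1, 1, 0, 9, 1, 0, 1, 0, 2, 0, 1, 1, 1, 1, 1, 1, 1, 1],
    [1, 1, 1, 1, 1, 1, 1, 1, 0, 2, 1, 0, 1, 0, 4, 0, 1, 1, 1, 1, 1, 1, 1, 1, 1],
    [0, 0, 0, 0, 0, 0, 0, 0, 3, 0, 0, 1, 0, 1, 0, 2, 0, 0, 0, 0, 0, 0, 0, 0, 0, 0],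
    [0, 0, 0, 0, 0, 0, 0, 0, 2, 0, 0, 1, 0, 1, 0, 3, 0, 0, 0, 0, 0, 0, 0, 0, 0, 0, 1],
    [0, 0, 0, 0, 0, 0, 0, 0, 1, 0, 0, 3, 0, 2, 0, 1, 0, 0, 0, 0, 0, 0, 0, 0, 0, 0, 2, 3],
    [0, 0, 0, 0, 0, 0, 0, 0, 1, 0, 0, 2, 0, 3, 0, 1, 0, 0, 0, 0, 0, 0, 0, 0, 0, 0, 3, 2, 1],
    [3, 5, 3, 5, 3, 4, 4, 3, 0, 1, 2, 0, 4, 0, 1, 0, 4, 6, 3, 3, 4, 7, 3, 3, 3, 2, 0, 0, 0, 0],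
    [2, 2, 2, 2, 2, 2, 2, 2, 0, 1, 6, 0, 2, 0, 1, 0, 2, 2, 2, 2, 2, 2, 2, 2, 2, 3, 0, 0, 0, 0, 1],
    [1, 1, 1, 1, 1, 1, 1, 1, 0, 8, 1, 0, 1, 0, 2, 0, 1, 1, 1, 1, 1, 1, 1, 1, 1, 1, 0, 0, 0, 0, 3, 2],
    [0, 0, 0, 0, 0, 0, 0, 0, 1, 0, 0, 2, 0, 3, 0, 1, 0, 0, 0, 0, 0, 0, 0, 0, 0, 0, 3, 2, 1, 1, 0, 0, 0],
    [3, 5, 3, 5, 3, 4, 4, 3, 0, 1, 2, 0, 4, 0, 1, 0, 4, 6, 3, 3, 4, 7, 3, 3, 3, 2, 0, 0, 0, 0, 1, 1, 3, 0],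
    [0, 0, 0, 0, 0, 0, 0, 0, 3, 0, 0, 1, 0, 1, 0, 2, 0, 0, 0, 0, 0, 0, 0, 0, 0, 0, 1, 1, 2, 3, 0, 0, 0, 3, 0],
    [0, 0, 0, 0, 0, 0, 0, 0, 2, 0, 0, 1, 0, 1, 0, 3, 0, 0, 0, 0, 0, 0, 0, 0, 0, 0, 1, 1, 3, 2, 0, 0, 0, 2, 0, 1],
    [2, 2, 2, 2, 2, 2, 2, 2, 0, 1, 6, 0, 2, 0, 1, 0, 2, 2, 2, 2, 2, 2, 2, 2, 2, 3, 0, 0, 0, 0, 1, 1, 2, 0, 1, 0, 0],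
    [1, 1, 1, 1, 1, 1, 1, 1, 0, 2, 1, 0, 1, 0, 4, 0, 1, 1, 1, 1, 1, 1, 1, 1, 1, 1, 0, 0, 0, 0, 2, 3, 1, 0, 2, 0, 0, 3],
    [0, 0, 0, 0, 0, 0, 0, 0, 1, 0, 0, 3, 0, 2, 0, 1, 0, 0, 0, 0, 0, 0, 0, 0, 0, 0, 2, 3, 1, 1, 0, 0, 0, 1, 0, 2, 3, 0, 0],
    [1, 1, 1, 1, 1, 1, 1, 1, 0, 3, 1, 0, 1, 0, 2, 0, 1, 1, 1, 1, 1, 1, 1, 1, 1, 1, 0, 0, 0, 0, 4, 2, 1, 0, 4, 0, 0, 2, 1, 0],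
    [2, 2, 2, 2, 2, 2, 2, 2, 0, 1, 3, 0, 2, 0, 1, 0, 2, 2, 2, 2, 2, 2, 2, 2, 2, 4, 0, 0, 0, 0, 1, 1, 2, 0, 1, 0, 0, 1, 4, 0, 2],
    [1, 1, 1, 1, 1, 1, 1, 1, 0, 2, 1, 0, 1, 0, 3, 0, 1, 1, 1, 1, 1, 1, 1, 1, 1, 1, 0, 0, 0, 0, 2, 6, 1, 0, 2, 0, 0, 6, 1, 0, 1, 3],
    [4, 3, 4, 3, 6, 3, 3, 7, 0, 1, 2, 0, 3, 0, 1, 0, 3, 3, 5, 4, 3, 3, 4, 5, 9, 2, 0, 0, 0, 0, 1, 1, 8, 0, 1, 0, 0, 1, 2, 0, 3, 1, 2],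
    [0, 0, 0, 0, 0, 0, 0, 0, 3, 0, 0, 1, 0, 1, 0, 2, 0, 0, 0, 0, 0, 0, 0, 0, 0, 0, 1, 1, 2, 3, 0, 0, 0, 3, 0, 1, 1, 0, 0, 2, 0, 0, 0, 0],
    [0, 0, 0, 0, 0, 0, 0, 0, 1, 0, 0, 3, 0, 2, 0, 1, 0, 0, 0, 0, 0, 0, 0, 0, 0, 0, 2, 3, 1, 1, 0, 0, 0, 1, 0, 2, 3, 0, 0, 1, 0, 0, 0, 0, 2],
    [0, 0, 0, 0, 0, 0, 0, 0, 1, 0, 0, 2, 0, 3, 0, 1, 0, 0, 0, 0, 0, 0, 0, 0, 0, 0, 3, 2, 1, 1, 0, 0, 0, 1, 0, 3, 2, 0, 0, 1, 0, 0, 0, 0, 3, 1],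
    [0, 0, 0, 0, 0, 0, 0, 0, 2, 0, 0, 1, 0, 1, 0, 3, 0, 0, 0, 0, 0, 0, 0, 0, 0, 0, 1, 1, 3, 2, 0, 0, 0, 2, 0, 1, 1, 0, 0, 3, 0, 0, 0, 0, 1, 3, 2],
    [0, 0, 0, 0, 0, 0, 0, 0, 0, 0, 0, 0, 0, 0, 0, 0, 0, 0, 0, 0, 0, 0, 0, 0, 0, 0, 0, 0, 0, 0, 0, 0, 0, 0, 0, 0, 0, 0, 0, 0, 0, 0, 0, 0, 0, 0, 0, 0],
    [0, 0, 0, 0, 0, 0, 0, 0, 0, 0, 0, 0, 0, 0, 0, 0, 0, 0, 0, 0, 0, 0, 0, 0, 0, 0, 0, 0, 0, 0, 0, 0, 0, 0, 0, 0, 0, 0, 0, 0, 0, 0, 0, 0, 0, 0, 0, 0, 0],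
    [0, 0, 0, 0, 0, 0, 0, 0, 0, 0, 0, 0, 0, 0, 0, 0, 0, 0, 0, 0, 0, 0, 0, 0, 0, 0, 0, 0, 0, 0, 0, 0, 0, 0, 0, 0, 0, 0, 0, 0, 0, 0, 0, 0, 0, 0, 0, 0, 0, 0],
    [0, 0, 0, 0, 0, 0, 0, 0, 0, 0, 0, 0, 0, 0, 0, 0, 0, 0, 0, 0, 0, 0, 0, 0, 0, 0, 0, 0, 0, 0, 0, 0, 0, 0, 0, 0, 0, 0, 0, 0, 0, 0, 0, 0, 0, 0, 0, 0, 0, 0, 0],
    [0, 0, 0, 0, 0, 0, 0, 0, 0, 0, 0, 0, 0, 0, 0, 0, 0, 0, 0, 0, 0, 0, 0, 0, 0, 0, 0, 0, 0, 0, 0, 0, 0, 0, 0, 0, 0, 0, 0, 0, 0, 0, 0, 0, 0, 0, 0, 0, 0, 0, 0, 0],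
    [0, 0, 0, 0, 0, 0, 0, 0, 0, 0, 0, 0, 0, 0, 0, 0, 0, 0, 0, 0, 0, 0, 0, 0, 0, 0, 0, 0, 0, 0, 0, 0, 0, 0, 0, 0, 0, 0, 0, 0, 0, 0, 0, 0, 0, 0, 0, 0, 0, 0, 0, 0, 0],
    [0, 0, 0, 0, 0, 0, 0, 0, 0, 0, 0, 0, 0, 0, 0, 0, 0, 0, 0, 0, 0, 0, 0, 0, 0, 0, 0, 0, 0, 0, 0, 0, 0, 0, 0, 0, 0, 0, 0, 0, 0, 0, 0, 0, 0, 0, 0, 0, 0, 0, 0, 0, 0, 0],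
    [0, 0, 0, 0, 0, 0, 0, 0, 0, 0, 0, 0, 0, 0, 0, 0, 0, 0, 0, 0, 0, 0, 0, 0, 0, 0, 0, 0, 0, 0, 0, 0, 0, 0, 0, 0, 0, 0, 0, 0, 0, 0, 0, 0, 0, 0, 0, 0, 0, 0, 0, 0, 0, 0, 0]]

set_option Elab.async false in
theorem b8_6_ok : chkB8 colsD b8_6 = true := by decide +kernel

def b8All : List B8 := [b8_0, b8_1, b8_2, b8_3, b8_4, b8_5, b8_6]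

theorem b8All_ok : b8All.all (chkB8 colsD) = true := by
  simp only [b8All, List.all_cons, List.all_nil, Bool.and_true, Bool.and_eq_true]
  exact ⟨b8_0_ok, b8_1_ok, b8_2_ok, b8_3_ok, b8_4_ok, b8_5_ok, b8_6_ok⟩

def i4L : List ℕ := [0, 2, 1, 3, 87, 85, 84, 86, 91, 89, 88, 90, 403, 401, 400, 402, 5804, 5806, 5805, 5807, 8471, 8469, 8468, 8470, 8475, 8473, 8472, 8474, 11039, 11037, 11036, 11038, 3548, 3550, 3549, 3551, 5799, 5797, 5796, 5798, 5803, 5801, 5800, 5802, 8467, 8465, 8464, 8466, 1996, 1998, 1997, 1999, 3543, 3541, 3540, 3542, 3547, 3545, 3544, 3546, 5795, 5793, 5792, 5794, 1020, 1022, 1021, 1023, 1991, 1989, 1988, 1990,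 1995, 1993, 1992, 1994, 3539, 3537, 3536, 3538, 412, 414, 413, 415, 1015, 1013, 1012, 1014, 1019, 1017, 1016, 1018, 1987, 1985, 1984, 1986, 92, 94, 93, 95, 407, 405, 404, 406, 411, 409, 408, 410, 1011, 1009, 1008, 1010]

set_option Elab.async false in
theorem i4L_ok : chkI4 ent 16240 i4L = true := by decide +kernel

def colsP : List ℕ := [1, 2, 4, 8, 16, 32, 64, 127, 128, 256, 512, 997, 1024, 1494, 1898, 1753, 2048, 4096, 8192, 14396, 16384, 22634, 28761, 26639, 32768, 34334, 33198, 34691, 33473, 33926, 34174, 33546, 65536, 91365, 73011, 96640, 77802, 84736, 87641, 78565, 131072, 150355, 153160, 138609, 162295, 144065, 156880, 143244,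 262144, 274475, 286800, 282658, 268365, 272474, 280581, 292939]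

set_option Elab.async false in
theorem quads_ok : chkQuads pbsD colsP = true := by decide +kernel

end Cfsg.Agent.Helper2.RuL
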