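import Cfsg.Agent.Helper5.RuLatH

/-! Generic lemmas for the classification of the minimal vectors of the Rudvalis lattice
`2Λ ⊂ ℤ^56` (helper2; builds on helper5's `RuLat`).  Nothing here depends on data. -/

set_option autoImplicit false

namespace Cfsg.Agent.Helper2.RuL

open Cfsg.Agent.Helper5.RuLat

/-- `w` is the mask of the odd coordinates of `y`. -/
def OddM (y : W) (w : ℕ) : Prop := ∀ i : Fin 56, (y i % 2 = 1 ↔ w.testBit i.val = true)

/-- the vector with entries `s` on the bits of `P`, `-s` on the bits of `N`, `0` elsewhere. -/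
def vecM (P N : ℕ) (s : ℤ) : W :=
  fun i => if P.testBit i.val = true then s else if N.testBit i.val = true then -s else 0

/-- `y` is `±1` on the bits of `w` and `0` elsewhere. -/
def Pm1 (y : W) (w : ℕ) : Prop :=
  ∀ i : Fin 56, (w.testBit i.val = true → y i = 1 ∨ y i = -1) ∧ (w.testBit i.val = false → y i = 0)

theorem mem_bitsF {w : ℕ} {i : Fin 56} : i ∈ bitsF w ↔ w.testBit i.val = true := by
  simp [bitsF]

theorem sq_eq_one {t : ℤ} (h : t * t = 1) : t = 1 ∨ t = -1 := by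
  have : (t - 1) * (t + 1) = 0 := by ring_nf; linarith
  rcases mul_eq_zero.mp this with h | h
  · left; linarith
  · right; linarith

/-- weight 16: the vector is `±1` on its odd support and `0` elsewhere. -/
theorem shape16 {y : W} {w : ℕ} (ho : OddM y w) (hc : 16 ≤ (bitsF w).card) (hn : nrm y = 16) :
    Pm1 y w := by
  have hS : ∀ i ∈ bitsF w, 1 ≤ y i * y i := by
    intro i hi
    apply one_le_mul_self
    intro h0
    have := (ho i).mpr (mem_bitsF.mp hi)
    rw [h0] at this; simp at this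
  have hsplit := Finset.sum_add_sum_compl (bitsF w) (fun i => y i * y i)
  have hn' : ∑ i, y i * y i = 16 := hn
  have h1 : ((bitsF w).card : ℤ) ≤ ∑ i ∈ bitsF w, y i * y i := by
    have := card_le_sum y (bitsF w) 1 hS
    linarith
  have hnn : 0 ≤ ∑ i ∈ (bitsF w)ᶜ, y i * y i :=
    Finset.sum_nonneg (fun i _ => mul_self_nonneg _)
  have hcz : (16 : ℤ) ≤ (bitsF w).card := by exact_mod_cast hc
  have hcompl : ∑ i ∈ (bitsF w)ᶜ, y i * y i = 0 := by linarith
  have hSsum : ∑ i ∈ bitsF w, y i * y i = (bitsF w).card := by linarith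
  have hterm : ∀ i ∈ bitsF w, y i * y i = 1 := by
    have h0 : ∑ i ∈ bitsF w, (y i * y i - 1) = 0 := by
      rw [Finset.sum_sub_distrib]; simp [hSsum]
    have h2 := (Finset.sum_eq_zero_iff_of_nonneg (fun i hi => by linarith [hS i hi])).mp h0
    intro i hi; linarith [h2 i hi]
  intro i
  constructor
  · intro hi
    exact sq_eq_one (hterm i (mem_bitsF.mpr hi))
  · intro hi
    have hmem : i ∈ (bitsF w)ᶜ := by
      rw [Finset.mem_compl, mem_bitsF, hi]; simp
    have := (Finset.sum_eq_zero_iff_of_nonneg (fun i _ => mul_self_nonneg _)).mp hcompl i hmem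
    exact mul_self_eq_zero.mp this

/-- The shape exclusion lemma: if `y` is odd on `O`, `±2` on `E` and `0` elsewhere, and `r` is even
on `O`, then `ip y r ≡ Σ_O r + 2 Σ_E r (mod 4)`. -/
theorem excl_fs {y r : W} (O E : Finset (Fin 56)) (hdis : Disjoint O E)
    (hO : ∀ i ∈ O, y i % 2 = 1 ∧ r i % 2 = 0) (hE : ∀ i ∈ E, y i = 2 ∨ y i = -2)
    (hz : ∀ i, i ∉ O → i ∉ E → y i = 0)
    (hs : (∑ i ∈ O, r i + 2 * ∑ i ∈ E, r i) % 4 = 2) : ¬ (4 : ℤ) ∣ ip y r := by
  intro hd
  have hip : ip y r = ∑ i ∈ O, y i * r i + ∑ i ∈ E, y i * r i := by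
    rw [ip, ← Finset.sum_union hdis]
    symm
    apply Finset.sum_subset (Finset.subset_univ _)
    intro i _ hi
    rw [Finset.mem_union, not_or] at hi
    rw [hz i hi.1 hi.2, zero_mul]
  have h1 : (4 : ℤ) ∣ ∑ i ∈ O, y i * r i - ∑ i ∈ O, r i := by
    rw [← Finset.sum_sub_distrib]
    apply Finset.dvd_sum
    intro i hi
    obtain ⟨ha, hb⟩ := hO i hi
    have : y i * r i - r i = (y i - 1) * r i := by ring
    rw [this]
    obtain ⟨a, ha'⟩ : (2 : ℤ) ∣ y i - 1 := by omega
    obtain ⟨b, hb'⟩ : (2 : ℤ) ∣ r i := by omega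
    rw [ha', hb']; exact ⟨a * b, by ring⟩
  have h2 : (4 : ℤ) ∣ ∑ i ∈ E, y i * r i - 2 * ∑ i ∈ E, r i := by
    rw [Finset.mul_sum, ← Finset.sum_sub_distrib]
    apply Finset.dvd_sum
    intro i hi
    rcases hE i hi with h | h <;> rw [h]
    · exact ⟨0, by ring⟩
    · exact ⟨- r i, by ring⟩
  rw [hip] at hd
  have h3 : (4 : ℤ) ∣ ∑ i ∈ O, r i + 2 * ∑ i ∈ E, r i := by
    have := dvd_sub hd (dvd_add h1 h2)
    have e : ∑ i ∈ O, y i * r i + ∑ i ∈ E, y i * r i -
        (∑ i ∈ O, y i * r i - ∑ i ∈ O, r i + (∑ i ∈ E, y i * r i - 2 * ∑ i ∈ E, r i)) =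
        ∑ i ∈ O, r i + 2 * ∑ i ∈ E, r i := by ring
    rwa [e] at this
  omega

/-- the pivot lemma. -/
theorem pivot {y s r : W} {w : ℕ} {S : List ℕ} {p : Fin 56}
    (hy : (4 : ℤ) ∣ ip y r) (hs : (4 : ℤ) ∣ ip s r) (hyw : Pm1 y w) (hsw : Pm1 s w)
    (hag : ∀ i : Fin 56, i.val ∈ S → y i = s i)
    (hO : ∀ i : Fin 56, w.testBit i.val = true → r i % 2 = 1 → (i.val ∈ S ∨ i = p))
    (hp : r p % 2 = 1) (hpw : w.testBit p.val = true) : y p = s p := by
  have hsub : (4 : ℤ) ∣ ∑ i, (y i - s i) * r i := by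
    have h := dvd_sub hy hs
    have e : ip y r - ip s r = ∑ i, (y i - s i) * r i := by
      rw [ip, ip, ← Finset.sum_sub_distrib]
      apply Finset.sum_congr rfl
      intro i _
      ring
    rwa [e] at h
  rw [← Finset.add_sum_erase Finset.univ _ (Finset.mem_univ p)] at hsub
  have hrest : (4 : ℤ) ∣ ∑ i ∈ Finset.univ.erase p, (y i - s i) * r i := by
    apply Finset.dvd_sum
    intro i hi
    have hne : i ≠ p := (Finset.mem_erase.mp hi).1
    by_cases hw : w.testBit i.val = true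
    · by_cases hr : r i % 2 = 1
      · rcases hO i hw hr with h | h
        · rw [hag i h, sub_self, zero_mul]; exact dvd_zero _
        · exact absurd h hne
      · obtain ⟨b, hb⟩ : (2 : ℤ) ∣ r i := by omega
        rcases (hyw i).1 hw with h1 | h1 <;> rcases (hsw i).1 hw with h2 | h2 <;> rw [h1, h2, hb]
        · exact ⟨0, by ring⟩
        · exact ⟨b, by ring⟩
        · exact ⟨-b, by ring⟩
        · exact ⟨0, by ring⟩
    · have hw' : w.testBit i.val = false := by simpa using hw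
      rw [(hyw i).2 hw', (hsw i).2 hw']; simp
  have hpd : (4 : ℤ) ∣ (y p - s p) * r p := (Int.dvd_add_left hrest).mp hsub
  rcases (hyw p).1 hpw with h1 | h1 <;> rcases (hsw p).1 hpw with h2 | h2 <;> rw [h1, h2] at hpd ⊢
  · exfalso; omega
  · exfalso; omega

end Cfsg.Agent.Helper2.RuL
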