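import Cfsg.Agent.Helper2.RuL.InjDat
import Cfsg.Agent.Helper2.RuL.B8
import Cfsg.Agent.Helper2.RuL.AutT

/-! The facts on the master table used by the stabiliser chain (helper2). -/

set_option autoImplicit false

namespace Cfsg.Agent.Helper2.RuL

open Cfsg.Agent.Helper5.RuLat

/-- the index of the vector `4 e_j` -/
def bigI (j : ℕ) : ℕ := i4L.getD (2 * j) 0

theorem bigI_spec (j : Fin 56) : bigI j.val < N0 ∧ mv (bigI j.val) = Pi.single j 4 := by
  have h5 := (List.all_eq_true.mp i4L_ok) j.val (List.mem_range.mpr j.isLt)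
  simp only [force_eq, Bool.and_eq_true, decide_eq_true_eq] at h5
  obtain ⟨⟨⟨hk1, _⟩, ⟨⟨hP1, hN1⟩, hB1⟩⟩, _⟩ := h5
  refine ⟨hk1, ?_⟩
  funext i
  show Vof (ent (i4L.getD (2 * j.val) 0)) i = _
  rw [Vof, hP1, hN1, hB1]
  unfold vecM
  simp only [Nat.testBit_two_pow, Nat.zero_testBit, decide_eq_true_eq]
  by_cases h : j.val = i.val
  · have : i = j := Fin.ext h.symm
    subst this
    simp
  · have : i ≠ j := fun hc => h (by rw [hc])
    simp [h, this]

theorem tabFacts : TabFacts bigI where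
  wf := wfT
  inj := mv_inj
  big_lt := fun j => (bigI_spec j).1
  big := fun j => (bigI_spec j).2

theorem stabF_nil : stabF [] = GT :=
  le_antisymm inf_le_left (fun _ h => ⟨h, fun _ hu => absurd hu List.not_mem_nil⟩)

end Cfsg.Agent.Helper2.RuL
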