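import Cfsg.Agent.Helper2.RuL.ScanDat

/-! The steps proving that the last stabiliser is trivial, part 1 (helper2; generated). -/

set_option autoImplicit false
set_option maxRecDepth 100000

namespace Cfsg.Agent.Helper2.RuL

set_option Elab.async false in
theorem stp6_ok : stp6.ok = true := by decide +kernel

set_option Elab.async false in
theorem stp7_ok : stp7.ok = true := by decide +kernel

set_option Elab.async false in
theorem stp8_ok : stp8.ok = true := by decide +kernel

set_option Elab.async false in
theorem stp9_ok : stp9.ok = true := by decide +kernel

set_option Elab.async false in
theorem stp10_ok : stp10.ok = true := by decide +kernel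

end Cfsg.Agent.Helper2.RuL
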