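import Cfsg.Agent.Helper2.RuL.ScanDat

/-! The steps proving that the last stabiliser is trivial, part 3 (helper2; generated). -/

set_option autoImplicit false
set_option maxRecDepth 100000

namespace Cfsg.Agent.Helper2.RuL

set_option Elab.async false in
theorem stp16_ok : stp16.ok = true := by decide +kernel

set_option Elab.async false in
theorem stp17_ok : stp17.ok = true := by decide +kernel

set_option Elab.async false in
theorem stp18_ok : stp18.ok = true := by decide +kernel

set_option Elab.async false in
theorem stp19_ok : stp19.ok = true := by decide +kernel

set_option Elab.async false in
theorem stp20_ok : stp20.ok = true := by decide +kernel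

end Cfsg.Agent.Helper2.RuL
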