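import Cfsg.Agent.Helper2.RuL.ScanDat

/-! The steps proving that the last stabiliser is trivial, part 5 (helper2; generated). -/

set_option autoImplicit false
set_option maxRecDepth 100000

namespace Cfsg.Agent.Helper2.RuL

set_option Elab.async false in
theorem stp26_ok : stp26.ok = true := by decide +kernel

set_option Elab.async false in
theorem stp27_ok : stp27.ok = true := by decide +kernel

set_option Elab.async false in
theorem stp28_ok : stp28.ok = true := by decide +kernel

set_option Elab.async false in
theorem stp29_ok : stp29.ok = true := by decide +kernel

end Cfsg.Agent.Helper2.RuL
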