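import Cfsg.Agent.Helper2.RuL.ScanL
import Cfsg.Agent.Helper2.RuL.ScanS0
import Cfsg.Agent.Helper2.RuL.ScanS1
import Cfsg.Agent.Helper2.RuL.ScanS2
import Cfsg.Agent.Helper2.RuL.ScanS3
import Cfsg.Agent.Helper2.RuL.ScanS4
import Cfsg.Agent.Helper2.RuL.ScanS5
import Cfsg.Agent.Helper2.RuL.Facts

/-! The order of the group of the permutations of the master table preserving the inner products
and commuting with the multiplication by `i` is at most `4 |Ru|` (helper2; generated). -/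

set_option autoImplicit false
set_option maxRecDepth 100000

namespace Cfsg.Agent.Helper2.RuL

theorem card_GT_le : Nat.card GT ≤ 583704576000 := by
  have T := tabFacts
  have h_lev1 : Nat.card (stabF []) ≤ 16240 * Nat.card (stabF [0]) :=
    level_bound T lev1_valid (by decide +kernel) (by decide) 16240 (le_of_eq lev1_cnt)
  have h_lev2 : Nat.card (stabF [0]) ≤ 7020 * Nat.card (stabF [84, 0]) :=
    level_bound T lev2_valid (by decide +kernel) (by decide) 7020 (le_of_eq lev2_cnt)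
  have h_lev3 : Nat.card (stabF [84, 0]) ≤ 320 * Nat.card (stabF [5, 84, 0]) :=
    level_bound T lev3_valid (by decide +kernel) (by decide) 320 (le_of_eq lev3_cnt)
  have h_lev4 : Nat.card (stabF [5, 84, 0]) ≤ 8 * Nat.card (stabF [32, 5, 84, 0]) :=
    level_bound T lev4_valid (by decide +kernel) (by decide) 8 (le_of_eq lev4_cnt)
  have h_lev5 : Nat.card (stabF [32, 5, 84, 0]) ≤ 2 * Nat.card (stabF [1388, 32, 5, 84, 0]) :=
    level_bound T lev5_valid (by decide +kernel) (by decide) 2 (le_of_eq lev5_cnt)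
  have h_stp1 : stabF [1388, 32, 5, 84, 0] ≤ stabF [3468, 1388, 32, 5, 84, 0] :=
    fix_of_scan T stp1_ok (by decide +kernel) (by decide)
  have h_stp2 : stabF [3468, 1388, 32, 5, 84, 0] ≤ stabF [5336, 3468, 1388, 32, 5, 84, 0] :=
    fix_of_scan T stp2_ok (by decide +kernel) (by decide)
  have h_stp3 : stabF [5336, 3468, 1388, 32, 5, 84, 0] ≤ stabF [412, 5336, 3468, 1388, 32, 5, 84, 0] :=
    fix_of_scan T stp3_ok (by decide +kernel) (by decide)
  have h_stp4 : stabF [412, 5336, 3468, 1388, 32, 5, 84, 0] ≤ stabF [1016, 412, 5336, 3468, 1388, 32, 5, 84, 0] :=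
    fix_of_scan T stp4_ok (by decide +kernel) (by decide)
  have h_stp5 : stabF [1016, 412, 5336, 3468, 1388, 32, 5, 84, 0] ≤ stabF [8472, 1016, 412, 5336, 3468, 1388, 32, 5, 84, 0] :=
    fix_of_scan T stp5_ok (by decide +kernel) (by decide)
  have h_stp6 : stabF [8472, 1016, 412, 5336, 3468, 1388, 32, 5, 84, 0] ≤ stabF [92, 8472, 1016, 412, 5336, 3468, 1388, 32, 5, 84, 0] :=
    fix_of_scan T stp6_ok (by decide +kernel) (by decide)
  have h_stp7 : stabF [92, 8472, 1016, 412, 5336, 3468, 1388, 32, 5, 84, 0] ≤ stabF [404, 92, 8472, 1016, 412, 5336, 3468, 1388, 32, 5, 84, 0] :=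
    fix_of_scan T stp7_ok (by decide +kernel) (by decide)
  have h_stp8 : stabF [404, 92, 8472, 1016, 412, 5336, 3468, 1388, 32, 5, 84, 0] ≤ stabF [408, 404, 92, 8472, 1016, 412, 5336, 3468, 1388, 32, 5, 84, 0] :=
    fix_of_scan T stp8_ok (by decide +kernel) (by decide)
  have h_stp9 : stabF [408, 404, 92, 8472, 1016, 412, 5336, 3468, 1388, 32, 5, 84, 0] ≤ stabF [1008, 408, 404, 92, 8472, 1016, 412, 5336, 3468, 1388, 32, 5, 84, 0] :=
    fix_of_scan T stp9_ok (by decide +kernel) (by decide)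
  have h_stp10 : stabF [1008, 408, 404, 92, 8472, 1016, 412, 5336, 3468, 1388, 32, 5, 84, 0] ≤ stabF [1012, 1008, 408, 404, 92, 8472, 1016, 412, 5336, 3468, 1388, 32, 5, 84, 0] :=
    fix_of_scan T stp10_ok (by decide +kernel) (by decide)
  have h_stp11 : stabF [1012, 1008, 408, 404, 92, 8472, 1016, 412, 5336, 3468, 1388, 32, 5, 84, 0] ≤ stabF [1020, 1012, 1008, 408, 404, 92, 8472, 1016, 412, 5336, 3468, 1388, 32, 5, 84, 0] :=
    fix_of_scan T stp11_ok (by decide +kernel) (by decide)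
  have h_stp12 : stabF [1020, 1012, 1008, 408, 404, 92, 8472, 1016, 412, 5336, 3468, 1388, 32, 5, 84, 0] ≤ stabF [1984, 1020, 1012, 1008, 408, 404, 92, 8472, 1016, 412, 5336, 3468, 1388, 32, 5, 84, 0] :=
    fix_of_scan T stp12_ok (by decide +kernel) (by decide)
  have h_stp13 : stabF [1984, 1020, 1012, 1008, 408, 404, 92, 8472, 1016, 412, 5336, 3468, 1388, 32, 5, 84, 0] ≤ stabF [1992, 1984, 1020, 1012, 1008, 408, 404, 92, 8472, 1016, 412, 5336, 3468, 1388, 32, 5, 84, 0] :=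
    fix_of_scan T stp13_ok (by decide +kernel) (by decide)
  have h_stp14 : stabF [1992, 1984, 1020, 1012, 1008, 408, 404, 92, 8472, 1016, 412, 5336, 3468, 1388, 32, 5, 84, 0] ≤ stabF [1996, 1992, 1984, 1020, 1012, 1008, 408, 404, 92, 8472, 1016, 412, 5336, 3468, 1388, 32, 5, 84, 0] :=
    fix_of_scan T stp14_ok (by decide +kernel) (by decide)
  have h_stp15 : stabF [1996, 1992, 1984, 1020, 1012, 1008, 408, 404, 92, 8472, 1016, 412, 5336, 3468, 1388, 32, 5, 84, 0] ≤ stabF [3540, 1996, 1992, 1984, 1020, 1012, 1008, 408, 404, 92, 8472, 1016, 412, 5336, 3468, 1388, 32, 5, 84, 0] :=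
    fix_of_scan T stp15_ok (by decide +kernel) (by decide)
  have h_stp16 : stabF [3540, 1996, 1992, 1984, 1020, 1012, 1008, 408, 404, 92, 8472, 1016, 412, 5336, 3468, 1388, 32, 5, 84, 0] ≤ stabF [3544, 3540, 1996, 1992, 1984, 1020, 1012, 1008, 408, 404, 92, 8472, 1016, 412, 5336, 3468, 1388, 32, 5, 84, 0] :=
    fix_of_scan T stp16_ok (by decide +kernel) (by decide)
  have h_stp17 : stabF [3544, 3540, 1996, 1992, 1984, 1020, 1012, 1008, 408, 404, 92, 8472, 1016, 412, 5336, 3468, 1388, 32, 5, 84, 0] ≤ stabF [3548, 3544, 3540, 1996, 1992, 1984, 1020, 1012, 1008, 408, 404, 92, 8472, 1016, 412, 5336, 3468, 1388, 32, 5, 84, 0] :=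
    fix_of_scan T stp17_ok (by decide +kernel) (by decide)
  have h_stp18 : stabF [3548, 3544, 3540, 1996, 1992, 1984, 1020, 1012, 1008, 408, 404, 92, 8472, 1016, 412, 5336, 3468, 1388, 32, 5, 84, 0] ≤ stabF [5792, 3548, 3544, 3540, 1996, 1992, 1984, 1020, 1012, 1008, 408, 404, 92, 8472, 1016, 412, 5336, 3468, 1388, 32, 5, 84, 0] :=
    fix_of_scan T stp18_ok (by decide +kernel) (by decide)
  have h_stp19 : stabF [5792, 3548, 3544, 3540, 1996, 1992, 1984, 1020, 1012, 1008, 408, 404, 92, 8472, 1016, 412, 5336, 3468, 1388, 32, 5, 84, 0] ≤ stabF [5796, 5792, 3548, 3544, 3540, 1996, 1992, 1984, 1020, 1012, 1008, 408, 404, 92, 8472, 1016, 412, 5336, 3468, 1388, 32, 5, 84, 0] :=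
    fix_of_scan T stp19_ok (by decide +kernel) (by decide)
  have h_stp20 : stabF [5796, 5792, 3548, 3544, 3540, 1996, 1992, 1984, 1020, 1012, 1008, 408, 404, 92, 8472, 1016, 412, 5336, 3468, 1388, 32, 5, 84, 0] ≤ stabF [5800, 5796, 5792, 3548, 3544, 3540, 1996, 1992, 1984, 1020, 1012, 1008, 408, 404, 92, 8472, 1016, 412, 5336, 3468, 1388, 32, 5, 84, 0] :=
    fix_of_scan T stp20_ok (by decide +kernel) (by decide)
  have h_stp21 : stabF [5800, 5796, 5792, 3548, 3544, 3540, 1996, 1992, 1984, 1020, 1012, 1008, 408, 404, 92, 8472, 1016, 412, 5336, 3468, 1388, 32, 5, 84, 0] ≤ stabF [8464, 5800, 5796, 5792, 3548, 3544, 3540, 1996, 1992, 1984, 1020, 1012, 1008, 408, 404, 92, 8472, 1016, 412, 5336, 3468, 1388, 32, 5, 84, 0] :=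
    fix_of_scan T stp21_ok (by decide +kernel) (by decide)
  have h_stp22 : stabF [8464, 5800, 5796, 5792, 3548, 3544, 3540, 1996, 1992, 1984, 1020, 1012, 1008, 408, 404, 92, 8472, 1016, 412, 5336, 3468, 1388, 32, 5, 84, 0] ≤ stabF [8468, 8464, 5800, 5796, 5792, 3548, 3544, 3540, 1996, 1992, 1984, 1020, 1012, 1008, 408, 404, 92, 8472, 1016, 412, 5336, 3468, 1388, 32, 5, 84, 0] :=
    fix_of_scan T stp22_ok (by decide +kernel) (by decide)
  have h_stp23 : stabF [8468, 8464, 5800, 5796, 5792, 3548, 3544, 3540, 1996, 1992, 1984, 1020, 1012, 1008, 408, 404, 92, 8472, 1016, 412, 5336, 3468, 1388, 32, 5, 84, 0] ≤ stabF [11036, 8468, 8464, 5800, 5796, 5792, 3548, 3544, 3540, 1996, 1992, 1984, 1020, 1012, 1008, 408, 404, 92, 8472, 1016, 412, 5336, 3468, 1388, 32, 5, 84, 0] :=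
    fix_of_scan T stp23_ok (by decide +kernel) (by decide)
  have h_stp24 : stabF [11036, 8468, 8464, 5800, 5796, 5792, 3548, 3544, 3540, 1996, 1992, 1984, 1020, 1012, 1008, 408, 404, 92, 8472, 1016, 412, 5336, 3468, 1388, 32, 5, 84, 0] ≤ stabF [2756, 11036, 8468, 8464, 5800, 5796, 5792, 3548, 3544, 3540, 1996, 1992, 1984, 1020, 1012, 1008, 408, 404, 92, 8472, 1016, 412, 5336, 3468, 1388, 32, 5, 84, 0] :=
    fix_of_scan T stp24_ok (by decide +kernel) (by decide)
  have h_stp25 : stabF [2756, 11036, 8468, 8464, 5800, 5796, 5792, 3548, 3544, 3540, 1996, 1992, 1984, 1020, 1012, 1008, 408, 404, 92, 8472, 1016, 412, 5336, 3468, 1388, 32, 5, 84, 0] ≤ stabF [88, 2756, 11036, 8468, 8464, 5800, 5796, 5792, 3548, 3544, 3540, 1996, 1992, 1984, 1020, 1012, 1008, 408, 404, 92, 8472, 1016, 412, 5336, 3468, 1388, 32, 5, 84, 0] :=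
    fix_of_scan T stp25_ok (by decide +kernel) (by decide)
  have h_stp26 : stabF [88, 2756, 11036, 8468, 8464, 5800, 5796, 5792, 3548, 3544, 3540, 1996, 1992, 1984, 1020, 1012, 1008, 408, 404, 92, 8472, 1016, 412, 5336, 3468, 1388, 32, 5, 84, 0] ≤ stabF [400, 88, 2756, 11036, 8468, 8464, 5800, 5796, 5792, 3548, 3544, 3540, 1996, 1992, 1984, 1020, 1012, 1008, 408, 404, 92, 8472, 1016, 412, 5336, 3468, 1388, 32, 5, 84, 0] :=
    fix_of_scan T stp26_ok (by decide +kernel) (by decide)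
  have h_stp27 : stabF [400, 88, 2756, 11036, 8468, 8464, 5800, 5796, 5792, 3548, 3544, 3540, 1996, 1992, 1984, 1020, 1012, 1008, 408, 404, 92, 8472, 1016, 412, 5336, 3468, 1388, 32, 5, 84, 0] ≤ stabF [1988, 400, 88, 2756, 11036, 8468, 8464, 5800, 5796, 5792, 3548, 3544, 3540, 1996, 1992, 1984, 1020, 1012, 1008, 408, 404, 92, 8472, 1016, 412, 5336, 3468, 1388, 32, 5, 84, 0] :=
    fix_of_scan T stp27_ok (by decide +kernel) (by decide)
  have h_stp28 : stabF [1988, 400, 88, 2756, 11036, 8468, 8464, 5800, 5796, 5792, 3548, 3544, 3540, 1996, 1992, 1984, 1020, 1012, 1008, 408, 404, 92, 8472, 1016, 412, 5336, 3468, 1388, 32, 5, 84, 0] ≤ stabF [3536, 1988, 400, 88, 2756, 11036, 8468, 8464, 5800, 5796, 5792, 3548, 3544, 3540, 1996, 1992, 1984, 1020, 1012, 1008, 408, 404, 92, 8472, 1016, 412, 5336, 3468, 1388, 32, 5, 84, 0] :=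
    fix_of_scan T stp28_ok (by decide +kernel) (by decide)
  have h_stp29 : stabF [3536, 1988, 400, 88, 2756, 11036, 8468, 8464, 5800, 5796, 5792, 3548, 3544, 3540, 1996, 1992, 1984, 1020, 1012, 1008, 408, 404, 92, 8472, 1016, 412, 5336, 3468, 1388, 32, 5, 84, 0] ≤ stabF [5804, 3536, 1988, 400, 88, 2756, 11036, 8468, 8464, 5800, 5796, 5792, 3548, 3544, 3540, 1996, 1992, 1984, 1020, 1012, 1008, 408, 404, 92, 8472, 1016, 412, 5336, 3468, 1388, 32, 5, 84, 0] :=
    fix_of_scan T stp29_ok (by decide +kernel) (by decide)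
  have h_bot : stabF [5804, 3536, 1988, 400, 88, 2756, 11036, 8468, 8464, 5800, 5796, 5792, 3548, 3544, 3540, 1996, 1992, 1984, 1020, 1012, 1008, 408, 404, 92, 8472, 1016, 412, 5336, 3468, 1388, 32, 5, 84, 0] = ⊥ := stabF_eq_bot T (by decide) (by decide +kernel)
  have h_le : stabF [1388, 32, 5, 84, 0] ≤ ⊥ := by
    rw [← h_bot]
    exact le_trans (le_trans (le_trans (le_trans (le_trans (le_trans (le_trans (le_trans (le_trans (le_trans (le_trans (le_trans (le_trans (le_trans (le_trans (le_trans (le_trans (le_trans (le_trans (le_trans (le_trans (le_trans (le_trans (le_trans (le_trans (le_trans (le_trans (le_trans (h_stp1) h_stp2) h_stp3) h_stp4) h_stp5) h_stp6) h_stp7) h_stp8) h_stp9) h_stp10) h_stp11) h_stp12) h_stp13) h_stp14) h_stp15) h_stp16) h_stp17) h_stp18) h_stp19) h_stp20) h_stp21) h_stp22) h_stp23) h_stp24) h_stp25) h_stp26) h_stp27) h_stp28) h_stp29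
  have h_one : Nat.card (stabF [1388, 32, 5, 84, 0]) = 1 := by
    rw [le_bot_iff.mp h_le]; exact Subgroup.card_bot
  rw [← stabF_nil]
  rw [h_one] at h_lev5
  calc Nat.card (stabF []) ≤ 16240 * Nat.card (stabF [0]) := h_lev1
    _ ≤ 16240 * (7020 * Nat.card (stabF [84, 0])) := Nat.mul_le_mul_left _ h_lev2
    _ ≤ 16240 * (7020 * (320 * Nat.card (stabF [5, 84, 0]))) := Nat.mul_le_mul_left _ (Nat.mul_le_mul_left _ h_lev3)
    _ ≤ 16240 * (7020 * (320 * (8 * Nat.card (stabF [32, 5, 84, 0])))) := Nat.mul_le_mul_left _ (Nat.mul_le_mul_left _ (Nat.mul_le_mul_left _ h_lev4))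
    _ ≤ 16240 * (7020 * (320 * (8 * (2 * 1)))) := Nat.mul_le_mul_left _ (Nat.mul_le_mul_left _ (Nat.mul_le_mul_left _ (Nat.mul_le_mul_left _ h_lev5)))
    _ = 583704576000 := by norm_num

end Cfsg.Agent.Helper2.RuL
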