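import Cfsg.Agent.Helper2.RuL.Cmp
import Cfsg.Agent.Helper2.RuL.Facts
import Cfsg.Agent.Helper2.RuL.Chain

/-! The automorphism group of the Rudvalis lattice acts faithfully on the master table of the
minimal vectors (helper2). -/

set_option autoImplicit false

namespace Cfsg.Agent.Helper2.RuL

open Cfsg.Agent.Helper5.RuLat Cfsg.Spor

/-- the lattice in real coordinates -/
abbrev LD : AddSubgroup W := LW rowsD

/-- real coordinates, on the lattice -/
def rcL : ↥ruLattice →+ ↥LD where
  toFun v := ⟨rc v.1, ruLattice_le v.1 v.2⟩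
  map_zero' := Subtype.ext (map_zero rcHom)
  map_add' v w := Subtype.ext (map_add rcHom v.1 w.1)

theorem rcL_val (v : ↥ruLattice) : (rcL v).1 = rc v.1 := rfl

theorem rcL_bijective : Function.Bijective rcL := by
  constructor
  · rw [injective_iff_map_eq_zero]
    intro v hv
    have h1 : rc v.1 = 0 := congrArg Subtype.val hv
    exact Subtype.ext (rc_inj v.1 h1)
  · intro y
    obtain ⟨v, hv, hvy⟩ := mem_LW_iff.mp y.2
    exact ⟨⟨v, hv⟩, Subtype.ext hvy⟩

/-- the lattice and its image in real coordinates -/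
noncomputable def EL : ↥ruLattice ≃+ ↥LD := AddEquiv.ofBijective rcL rcL_bijective

theorem EL_val (v : ↥ruLattice) : (EL v).1 = rc v.1 := rfl

/-- multiplication by `i` on the lattice in real coordinates -/
def IL (y : ↥LD) : ↥LD := ⟨opW permI sgnI y.1, closedI y.1 y.2⟩

theorem EL_ruI (v : ↥ruLattice) : EL (ruI v) = IL (EL v) := Subtype.ext (rc_opI v.1)

/-- the action of a permutation of the lattice, in real coordinates -/
noncomputable def cj (f : Equiv.Perm ↥ruLattice) (y : ↥LD) : ↥LD := EL (f (EL.symm y))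

theorem cj_mul (f g : Equiv.Perm ↥ruLattice) (y : ↥LD) : cj (f * g) y = cj f (cj g y) := by
  unfold cj
  rw [AddEquiv.symm_apply_apply]
  rfl

theorem cj_one (y : ↥LD) : cj 1 y = y := by
  unfold cj
  exact EL.apply_symm_apply y

section fourRu
variable {f : Equiv.Perm ↥ruLattice} (hf : f ∈ fourRu)
include hf

theorem cj_add (y z : ↥LD) : cj f (y + z) = cj f y + cj f z := by
  unfold cj
  rw [map_add, hf.1, map_add]

theorem cj_nrm (y : ↥LD) : nrm (cj f y).1 = nrm y.1 := by
  unfold cj
  rw [EL_val, ← ruNorm_eq, hf.2.2, ruNorm_eq, ← EL_val, AddEquiv.apply_symm_apply]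

theorem cj_IL (y : ↥LD) : cj f (IL y) = IL (cj f y) := by
  unfold cj
  have h1 : EL.symm (IL y) = ruI (EL.symm y) := by
    rw [AddEquiv.symm_apply_eq, EL_ruI, AddEquiv.apply_symm_apply]
  rw [h1, hf.2.1, EL_ruI]

theorem cj_ip (y z : ↥LD) : ip (cj f y).1 (cj f z).1 = ip y.1 z.1 := by
  have h1 := nrm_add (cj f y).1 (cj f z).1
  have h2 := nrm_add y.1 z.1
  have h3 : nrm ((cj f y).1 + (cj f z).1) = nrm (y.1 + z.1) := by
    have := cj_nrm hf (y + z)
    rw [cj_add hf] at this
    exact this
  rw [cj_nrm hf y, cj_nrm hf z] at h1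
  linarith

end fourRu

/-- the vector number `k` of the table, in the lattice -/
def mvL (k : Fin N0) : ↥LD := ⟨mv k.val, mv_mem k.isLt⟩

theorem mvL_inj {a b : Fin N0} (h : mvL a = mvL b) : a = b :=
  Fin.ext (mv_inj a.val b.val a.isLt b.isLt (congrArg Subtype.val h))

theorem exists_index {y : ↥LD} (h : nrm y.1 = 16) : ∃ k : Fin N0, y = mvL k := by
  obtain ⟨k, hk, hy⟩ := complete_all y.1 y.2 h
  exact ⟨⟨k, hk⟩, Subtype.ext hy⟩

theorem inxF_mvL (k : Fin N0) : mvL (inxF k) = IL (mvL k) := Subtype.ext (mv_inx k.isLt)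

/-- the action on the indices of the table -/
noncomputable def psiF (f : ↥fourRu) (k : Fin N0) : Fin N0 :=
  Classical.choose (exists_index (y := cj f.1 (mvL k))
    (by rw [cj_nrm f.2]; exact mv_nrm k.isLt))

theorem psiF_spec (f : ↥fourRu) (k : Fin N0) : cj f.1 (mvL k) = mvL (psiF f k) :=
  Classical.choose_spec (exists_index (y := cj f.1 (mvL k))
    (by rw [cj_nrm f.2]; exact mv_nrm k.isLt))

theorem psiF_mul (f g : ↥fourRu) (k : Fin N0) : psiF (f * g) k = psiF f (psiF g k) := by
  apply mvL_inj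
  rw [← psiF_spec, ← psiF_spec, ← psiF_spec]
  exact cj_mul f.1 g.1 (mvL k)

theorem psiF_one (k : Fin N0) : psiF 1 k = k := by
  apply mvL_inj
  rw [← psiF_spec]
  exact cj_one (mvL k)

/-- the action on the indices of the table, as a homomorphism -/
noncomputable def psi : ↥fourRu →* Equiv.Perm (Fin N0) where
  toFun f :=
    { toFun := psiF f
      invFun := psiF f⁻¹
      left_inv := fun k => by rw [← psiF_mul, inv_mul_cancel, psiF_one]
      right_inv := fun k => by rw [← psiF_mul, mul_inv_cancel, psiF_one] }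
  map_one' := Equiv.ext psiF_one
  map_mul' f g := Equiv.ext (psiF_mul f g)

theorem psi_apply (f : ↥fourRu) (k : Fin N0) : psi f k = psiF f k := rfl

theorem psi_mem_GT (f : ↥fourRu) : psi f ∈ GT := by
  refine ⟨fun a b => ?_, fun a => ?_⟩
  · show ip (mvL (psiF f a)).1 (mvL (psiF f b)).1 = ip (mvL a).1 (mvL b).1
    rw [← psiF_spec, ← psiF_spec, cj_ip f.2]
  · apply mvL_inj
    rw [psi_apply, psi_apply, ← psiF_spec, inxF_mvL, inxF_mvL, cj_IL f.2, psiF_spec]

theorem ip_single_right (j : Fin 56) (y : W) : ip y (Pi.single j 4) = 4 * y j := by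
  rw [ip_comm, ip_single]

theorem psi_injective : Function.Injective psi := by
  rw [injective_iff_map_eq_one]
  intro f hf
  have hfix : ∀ k : Fin N0, cj f.1 (mvL k) = mvL k := by
    intro k
    rw [psiF_spec, ← psi_apply, hf]
    rfl
  have hid : ∀ y : ↥LD, cj f.1 y = y := by
    intro y
    apply Subtype.ext
    funext j
    have hb := bigI_spec j
    have h1 := cj_ip f.2 y (mvL ⟨bigI j.val, hb.1⟩)
    rw [hfix] at h1
    show (cj f.1 y).1 j = y.1 j
    have h2 : (mvL ⟨bigI j.val, hb.1⟩).1 = Pi.single j 4 := hb.2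
    rw [h2, ip_single_right, ip_single_right] at h1
    linarith
  apply Subtype.ext
  apply Equiv.ext
  intro v
  have := hid (EL v)
  unfold cj at this
  rw [AddEquiv.symm_apply_apply] at this
  exact EL.injective this

theorem card_fourRu_le : Nat.card ↥fourRu ≤ 583704576000 := by
  have h1 : Nat.card ↥fourRu ≤ Nat.card ↥GT :=
    Nat.card_le_card_of_injective (fun f => (⟨psi f, psi_mem_GT f⟩ : ↥GT))
      (fun f g h => psi_injective (congrArg Subtype.val h))
  exact le_trans h1 card_GT_le

instance : Finite ↥fourRu := Finite.of_injective psi psi_injective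

end Cfsg.Agent.Helper2.RuL
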