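import Cfsg.Agent.Helper2.RuL.Mem

/-! Scaled matrices commuting with the multiplication by `i` (helper2). -/

set_option autoImplicit false

namespace Cfsg.Agent.Helper2.RuL

open Cfsg.Agent.Helper5.RuLat

def commIB (cols : List (List ℤ)) : Bool :=
  (List.range 56).all fun j =>
    decide ((cols.getD (permI.getD j 0) []).map (fun x => sgnI.getD (permI.getD j 0) 0 * x) =
      opL permI sgnI (cols.getD j []))

theorem opW_apply' (y : W) (i : Fin 56) :
    opW permI sgnI y i = sgnI.getD i.val 0 * y (permIF i) := rfl

theorem permIF_val (i : Fin 56) : (permIF i).val = permI.getD i.val 0 := by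
  revert i; decide

theorem mulC_single (cols : List (List ℤ)) (j : Fin 56) (c : ℤ) (i : Fin 56) :
    mulC cols (Pi.single j c) i = c * (cols.getD j.val []).getD i.val 0 := by
  rw [mulC_apply, Finset.sum_eq_single j]
  · simp
  · intro b _ hb; simp [hb]
  · intro h; exact absurd (Finset.mem_univ j) h

theorem commIB_entry {cols : List (List ℤ)} (h : commIB cols = true) (j i : Fin 56) :
    sgnI.getD (permIF j).val 0 * (cols.getD (permIF j).val []).getD i.val 0 =
      sgnI.getD i.val 0 * (cols.getD j.val []).getD (permIF i).val 0 := by
  simp only [commIB, List.all_eq_true, List.mem_range, decide_eq_true_eq] at h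
  have h1 := h j.val j.isLt
  have h2 := congrArg (fun l => l.getD i.val 0) h1
  rw [opL, getD_map_range _ _ _ i.isLt] at h2
  rw [permIF_val, permIF_val, ← h2]
  have h3 : ∀ (l : List ℤ) (c : ℤ) (n : ℕ), (l.map (fun x => c * x)).getD n 0 = c * l.getD n 0 := by
    intro l c n
    have := List.getD_map (f := fun x => c * x) (l := l) (n := n) (d := (0 : ℤ))
    simpa using this
  rw [h3]

theorem mulC_commI {cols : List (List ℤ)} (h : commIB cols = true) (y : W) :
    mulC cols (opW permI sgnI y) = opW permI sgnI (mulC cols y) := by
  have key : (mulC cols).comp (opW permI sgnI) = (opW permI sgnI).comp (mulC cols) := by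
    apply AddMonoidHom.functions_ext
    intro j c
    funext i
    show mulC cols (opW permI sgnI (Pi.single j c)) i = opW permI sgnI (mulC cols (Pi.single j c)) i
    rw [opW_apply', mulC_single, mulC_apply, Finset.sum_eq_single (permIF j)]
    · rw [opW_apply', permIF_invol, Pi.single_eq_same]
      have := commIB_entry h j i
      linear_combination c * this
    · intro b _ hb
      rw [opW_apply']
      have : permIF b ≠ j := by
        intro hc
        apply hb
        rw [← hc, permIF_invol]
      rw [Pi.single_eq_of_ne this]
      ring
    · intro hn; exact absurd (Finset.mem_univ _) hn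
  exact DFunLike.congr_fun key y

end Cfsg.Agent.Helper2.RuL
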