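import Cfsg.Agent.Helper2.RuL.Bridge1
import Cfsg.Agent.Helper2.RuL.Comm

/-! A scaled matrix mapping the lattice to four times itself, orthogonal up to the scale and
commuting with `i`, gives an element of the automorphism group of the Rudvalis lattice
(helper2). -/

set_option autoImplicit false

namespace Cfsg.Agent.Helper2.RuL

open Cfsg.Agent.Helper5.RuLat Cfsg.Spor

/-- a scaled matrix acting on the lattice -/
structure MatOK (cols : List (List ℤ)) : Prop where
  lw : ∀ y ∈ LW rowsD, ∃ w ∈ LW rowsD, mulC cols y = (4 : ℤ) • w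
  gram : gramOK cols = true
  commI : commIB cols = true

theorem nrm_eq_zero {y : W} (h : nrm y = 0) : y = 0 := by
  by_contra hne
  have := nrm_pos hne
  omega

theorem abs_le_nrm (y : W) (i : Fin 56) : |y i| ≤ nrm y := by
  have h1 : y i * y i ≤ nrm y := by
    unfold nrm
    exact Finset.single_le_sum (f := fun j => y j * y j) (fun j _ => mul_self_nonneg (y j))
      (Finset.mem_univ i)
  have h2 : |y i| ≤ |y i| * |y i| := by
    rcases eq_or_ne (y i) 0 with h0 | h0
    · rw [h0]; simp
    · have : 1 ≤ |y i| := Int.one_le_abs h0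
      nlinarith
  rw [abs_mul_abs_self] at h2
  exact le_trans h2 h1

theorem finite_nrm_le (R : ℤ) : Finite {y : ↥LD // nrm y.1 ≤ R} := by
  have hfin : (Set.univ.pi fun _ : Fin 56 => Set.Icc (-R) R).Finite :=
    Set.Finite.pi fun _ => Set.finite_Icc _ _
  have : Finite ↥(Set.univ.pi fun _ : Fin 56 => Set.Icc (-R) R) := hfin
  refine Finite.of_injective
    (fun y : {y : ↥LD // nrm y.1 ≤ R} =>
      (⟨y.1.1, fun i _ => abs_le.mp (le_trans (abs_le_nrm y.1.1 i) y.2)⟩ :
        ↥(Set.univ.pi fun _ : Fin 56 => Set.Icc (-R) R))) ?_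
  intro y z hyz
  have h0 := congrArg Subtype.val hyz
  have h1 : y.1.1 = z.1.1 := h0
  exact Subtype.ext (Subtype.ext h1)

section MatOK

variable {cols : List (List ℤ)} (h : MatOK cols)

/-- the action of the matrix on the lattice -/
noncomputable def gWf (y : ↥LD) : ↥LD :=
  ⟨Classical.choose (h.lw y.1 y.2), (Classical.choose_spec (h.lw y.1 y.2)).1⟩

theorem gWf_spec (y : ↥LD) : mulC cols y.1 = (4 : ℤ) • (gWf h y).1 :=
  (Classical.choose_spec (h.lw y.1 y.2)).2

theorem gWf_add (y z : ↥LD) : gWf h (y + z) = gWf h y + gWf h z := by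
  apply Subtype.ext
  apply smul4_inj
  rw [← gWf_spec]
  show mulC cols (y.1 + z.1) = (4 : ℤ) • ((gWf h y).1 + (gWf h z).1)
  rw [map_add, smul_add, ← gWf_spec, ← gWf_spec]

theorem gWf_nrm (y : ↥LD) : nrm (gWf h y).1 = nrm y.1 := by
  have h1 := nrm_mulC h.gram y.1
  rw [gWf_spec h y, nrm_smul4] at h1
  linarith

theorem gWf_IL (y : ↥LD) : gWf h (IL y) = IL (gWf h y) := by
  apply Subtype.ext
  apply smul4_inj
  rw [← gWf_spec]
  show mulC cols (opW permI sgnI y.1) = (4 : ℤ) • opW permI sgnI (gWf h y).1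
  rw [mulC_commI h.commI, gWf_spec h y, map_zsmul]

/-- the action of the matrix on the lattice, additive -/
noncomputable def gWh : ↥LD →+ ↥LD := AddMonoidHom.mk' (gWf h) (gWf_add h)

theorem gWh_apply (y : ↥LD) : gWh h y = gWf h y := rfl

theorem gWh_injective : Function.Injective (gWh h) := by
  rw [injective_iff_map_eq_zero]
  intro y hy
  have h1 := gWf_nrm h y
  rw [← gWh_apply, hy] at h1
  have h2 : nrm y.1 = 0 := by rw [← h1]; exact nrm_zero
  exact Subtype.ext (nrm_eq_zero h2)

theorem gWh_surjective : Function.Surjective (gWh h) := by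
  intro z
  have := finite_nrm_le (nrm z.1)
  let F : {y : ↥LD // nrm y.1 ≤ nrm z.1} → {y : ↥LD // nrm y.1 ≤ nrm z.1} :=
    fun y => ⟨gWh h y.1, by rw [gWh_apply, gWf_nrm]; exact y.2⟩
  have hF : Function.Injective F := by
    intro a b hab
    exact Subtype.ext (gWh_injective h (congrArg Subtype.val hab))
  obtain ⟨y, hy⟩ := (Finite.injective_iff_surjective.mp hF) ⟨z, le_refl _⟩
  exact ⟨y.1, congrArg Subtype.val hy⟩

/-- the action of the matrix on the lattice, as a permutation -/
noncomputable def gWe : Equiv.Perm ↥LD :=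
  Equiv.ofBijective (gWh h) ⟨gWh_injective h, gWh_surjective h⟩

theorem gWe_apply (y : ↥LD) : gWe h y = gWf h y := rfl

/-- the permutation of the lattice `ruLattice` -/
noncomputable def gP : Equiv.Perm ↥ruLattice :=
  (EL.toEquiv.trans (gWe h)).trans EL.symm.toEquiv

theorem gP_apply (v : ↥ruLattice) : gP h v = EL.symm (gWf h (EL v)) := rfl

theorem EL_gP (v : ↥ruLattice) : EL (gP h v) = gWf h (EL v) := by
  rw [gP_apply, AddEquiv.apply_symm_apply]

theorem gP_mem : gP h ∈ fourRu := by
  refine ⟨fun v w => ?_, fun v => ?_, fun v => ?_⟩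
  · apply EL.injective
    rw [EL_gP, map_add EL v w, gWf_add, map_add EL, EL_gP, EL_gP]
  · apply EL.injective
    rw [EL_gP, EL_ruI, EL_ruI, EL_gP, gWf_IL]
  · rw [ruNorm_eq, ruNorm_eq, ← EL_val, ← EL_val, EL_gP, gWf_nrm]

/-- the element of the automorphism group -/
noncomputable def gEl : ↥fourRu := ⟨gP h, gP_mem h⟩

theorem cj_gEl (y : ↥LD) : cj (gEl h).1 y = gWf h y := by
  unfold cj
  show EL (gP h (EL.symm y)) = gWf h y
  rw [EL_gP, AddEquiv.apply_symm_apply]

/-- the action of the element on the table, from the action of the matrix -/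
theorem psi_gEl {k k' : ℕ} (hk : k < N0) (hk' : k' < N0)
    (hact : mulC cols (mv k) = (4 : ℤ) • mv k') : psi (gEl h) ⟨k, hk⟩ = ⟨k', hk'⟩ := by
  apply mvL_inj
  rw [psi_apply, ← psiF_spec, cj_gEl]
  apply Subtype.ext
  apply smul4_inj
  rw [← gWf_spec]
  exact hact

end MatOK

end Cfsg.Agent.Helper2.RuL
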