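import Cfsg.Agent.Helper2.RuL.Bridge2
import Cfsg.Agent.Helper2.RuM.Main
import Cfsg.Agent.Helper5.LPK

/-! The action of the automorphism group of the Rudvalis lattice on the 4060 lines of minimal
vectors, and the comparison with the permutation group `HRu` (helper2). -/

set_option autoImplicit false

namespace Cfsg.Agent.Helper2.RuL

open Cfsg.Agent.Helper5.RuLat Cfsg.Spor Cfsg.Agent.Helper9.OutG Cfsg.Agent.Helper9.J3
  Cfsg.Agent.Helper5.StemP Cfsg.Agent.Helper5.LTC

/-! ### the action on the lines -/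

theorem inx_div (k : ℕ) : inx k / 4 = k / 4 := by unfold inx; omega

/-- the first vector of a line -/
def baseF (p : Fin RuM.dD.n) : Fin N0 :=
  ⟨4 * p.val, by have : p.val < 4060 := p.isLt; unfold N0; omega⟩

theorem baseF_val (p : Fin RuM.dD.n) : (baseF p).val = 4 * p.val := rfl

section comm

variable (σ : Equiv.Perm (Fin N0)) (hσ : ∀ a, σ (inxF a) = inxF (σ a))
include hσ

theorem line_aux (a : Fin N0) : (σ (inxF a)).val / 4 = (σ a).val / 4 := by
  rw [hσ]; exact inx_div _

theorem line_eq (a b : Fin N0) (hb : b.val = 4 * (a.val / 4)) :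
    (σ a).val / 4 = (σ b).val / 4 := by
  have hcases : a = b ∨ a = inxF b ∨ a = inxF (inxF b) ∨ a = inxF (inxF (inxF b)) := by
    rcases (by omega : a.val % 4 = 0 ∨ a.val % 4 = 1 ∨ a.val % 4 = 2 ∨ a.val % 4 = 3)
      with h | h | h | h
    · left; apply Fin.ext; omega
    · right; left; apply Fin.ext; show a.val = inx b.val; unfold inx; omega
    · right; right; left; apply Fin.ext; show a.val = inx (inx b.val); unfold inx; omega
    · right; right; right; apply Fin.ext; show a.val = inx (inx (inx b.val)); unfold inx; omega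
  rcases hcases with h | h | h | h
  · rw [h]
  · rw [h, line_aux σ hσ]
  · rw [h, line_aux σ hσ, line_aux σ hσ]
  · rw [h, line_aux σ hσ, line_aux σ hσ, line_aux σ hσ]

end comm

/-- the action on the lines -/
def lamF (σ : Equiv.Perm (Fin N0)) (p : Fin RuM.dD.n) : Fin RuM.dD.n :=
  ⟨(σ (baseF p)).val / 4, by
    have := (σ (baseF p)).isLt
    show _ < 4060
    unfold N0 at this; omega⟩

theorem lamF_val (σ : Equiv.Perm (Fin N0)) (p : Fin RuM.dD.n) :
    (lamF σ p).val = (σ (baseF p)).val / 4 := rfl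

theorem lamF_mul (σ τ : Equiv.Perm (Fin N0)) (hσ : ∀ a, σ (inxF a) = inxF (σ a))
    (p : Fin RuM.dD.n) : lamF (σ * τ) p = lamF σ (lamF τ p) := by
  apply Fin.ext
  show (σ (τ (baseF p))).val / 4 = (σ (baseF (lamF τ p))).val / 4
  exact line_eq σ hσ _ _ (by rw [baseF_val, lamF_val])

theorem lamF_one (p : Fin RuM.dD.n) : lamF 1 p = p := by
  apply Fin.ext
  show 4 * p.val / 4 = p.val
  omega

theorem psi_comm (f : ↥fourRu) : ∀ a, psi f (inxF a) = inxF (psi f a) := (psi_mem_GT f).2

/-- the action of the automorphism group on the 4060 lines -/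
noncomputable def Phi : ↥fourRu →* RuM.PP where
  toFun f :=
    { toFun := lamF (psi f)
      invFun := lamF (psi f⁻¹)
      left_inv := fun p => by
        rw [← lamF_mul _ _ (psi_comm f⁻¹), ← map_mul, inv_mul_cancel, map_one, lamF_one]
      right_inv := fun p => by
        rw [← lamF_mul _ _ (psi_comm f), ← map_mul, mul_inv_cancel, map_one, lamF_one] }
  map_one' := by
    apply Equiv.ext
    intro p
    show lamF (psi 1) p = p
    rw [map_one, lamF_one]
  map_mul' f g := by
    apply Equiv.ext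
    intro p
    show lamF (psi (f * g)) p = lamF (psi f) (lamF (psi g) p)
    rw [map_mul, lamF_mul _ _ (psi_comm f)]

theorem Phi_apply (f : ↥fourRu) (p : Fin RuM.dD.n) : Phi f p = lamF (psi f) p := rfl

/-! ### the generators -/

/-- the images of the first vectors of the lines are in the table, on the right lines -/
noncomputable def tabChk (xt c : ℕ) : Bool :=
  allB (fun p => andB (ltB (fld14 xt p) 16240) (Nat.beq (fld14 xt p / 4) (T RuM.dD c p))) 4060

theorem Phi_gEl {cols : List (List ℤ)} (h : MatOK cols) {xt c : ℕ}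
    (hact : ∀ p, p < 4060 → mulC cols (mv (4 * p)) = (4 : ℤ) • mv (fld14 xt p))
    (htab : tabChk xt c = true) : Phi (gEl h) = El RuM.dD RuM.hD c := by
  apply Equiv.ext
  intro p
  apply Fin.ext
  have hp : p.val < 4060 := p.isLt
  have h1 := andB_true (allB_true htab hp)
  have h2 : fld14 xt p.val < N0 := ltB_true h1.1
  have h3 : fld14 xt p.val / 4 = T RuM.dD c p.val := Nat.eq_of_beq_eq_true h1.2
  have h4 : psi (gEl h) (baseF p) = ⟨fld14 xt p.val, h2⟩ :=
    psi_gEl h (baseF p).isLt h2 (hact p.val hp)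
  show (psi (gEl h) (baseF p)).val / 4 = T RuM.dD c p.val
  rw [h4]
  exact h3

theorem HRu_word (σ : RuM.PP) (hσ : σ ∈ RuM.HRu) :
    ∃ l : List ℕ, (∀ c ∈ l, c < 10) ∧ σ = permW RuM.dD RuM.hD l := by
  obtain ⟨z, rfl⟩ := hσ
  obtain ⟨l, hl, rfl⟩ := exists_word 5 RuM.mm RuM.relsR RuM.relsR 1 z
  refine ⟨l, fun c hc => by have := hl c hc; omega, ?_⟩
  rw [lprod_gC 5 RuM.mm RuM.relsR RuM.relsR 1 l hl]
  exact RuM.pi_evR l (fun c hc => by have := hl c hc; omega)

theorem HRu_le_of_gens (K : Subgroup RuM.PP) (hg : ∀ i, i < 5 → RuM.g i ∈ K) : RuM.HRu ≤ K := by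
  intro σ hσ
  obtain ⟨l, hl, rfl⟩ := HRu_word σ hσ
  rw [← RuM.word_perm l hl]
  apply Subgroup.list_prod_mem
  intro x hx
  obtain ⟨c, hc, rfl⟩ := List.mem_map.mp hx
  have hc10 := hl c hc
  obtain ⟨i, rfl | rfl⟩ : ∃ i, c = 2 * i ∨ c = 2 * i + 1 := ⟨c / 2, by omega⟩
  · rw [lval_even]; exact hg i (by omega)
  · rw [lval_odd]; exact inv_mem (hg i (by omega))

/-! ### the scalar `i` -/

theorem gI_sq : gI * gI = -1 := by
  apply Zsqrtd.ext <;> simp [gI]

theorem ruI_ruI (v : ↥ruLattice) : ruI (ruI v) = -v := by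
  apply Subtype.ext
  show gI • (gI • v.1) = -v.1
  rw [smul_smul, gI_sq, neg_one_smul]

theorem ruI_neg (v : ↥ruLattice) : ruI (-v) = -ruI v := by
  apply Subtype.ext
  show gI • (-v.1) = -(gI • v.1)
  rw [smul_neg]

theorem ruI4 (v : ↥ruLattice) : ruI (ruI (ruI (ruI v))) = v := by
  rw [ruI_ruI, ruI_ruI, neg_neg]

/-- multiplication by `i` as a permutation of the lattice -/
def sigP : Equiv.Perm ↥ruLattice where
  toFun := ruI
  invFun := fun v => ruI (ruI (ruI v))
  left_inv := ruI4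
  right_inv := ruI4

theorem sigP_apply (v : ↥ruLattice) : sigP v = ruI v := rfl

theorem sigP_mem : sigP ∈ fourRu := by
  refine ⟨fun v w => ?_, fun v => rfl, fun v => ?_⟩
  · apply Subtype.ext
    show gI • (v.1 + w.1) = gI • v.1 + gI • w.1
    rw [smul_add]
  · show ruNorm (gI • v.1) = ruNorm v.1
    rw [ruNorm_eq, ruNorm_eq, rc_opI, nrm_opI]

/-- multiplication by `i` in the automorphism group -/
def sigI : ↥fourRu := ⟨sigP, sigP_mem⟩

theorem sigI_central (f : ↥fourRu) : f * sigI = sigI * f := by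
  apply Subtype.ext
  apply Equiv.ext
  intro v
  exact f.2.2.1 v

theorem sigI_mem_center : sigI ∈ Subgroup.center ↥fourRu := by
  rw [Subgroup.mem_center_iff]
  intro f
  exact sigI_central f

theorem psi_sigI (k : Fin N0) : psi sigI k = inxF k := by
  apply mvL_inj
  rw [psi_apply, ← psiF_spec, inxF_mvL]
  unfold cj
  show EL (ruI (EL.symm (mvL k))) = IL (mvL k)
  rw [EL_ruI, AddEquiv.apply_symm_apply]

theorem Phi_sigI : Phi sigI = 1 := by
  apply Equiv.ext
  intro p
  apply Fin.ext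
  show (psi sigI (baseF p)).val / 4 = p.val
  rw [psi_sigI]
  show inx (4 * p.val) / 4 = p.val
  rw [inx_div]
  omega

theorem sigI_pow4 : sigI ^ 2 ^ (1 + 1) = 1 := by
  apply Subtype.ext
  apply Equiv.ext
  intro v
  show (sigP ^ 4) v = v
  have : sigP ^ 4 = sigP * sigP * sigP * sigP := by
    rw [pow_succ, pow_succ, pow_succ, pow_one]
  rw [this]
  exact ruI4 v

theorem sigI_pow2 : ¬ sigI ^ 2 ^ 1 = 1 := by
  intro h
  have h1 : psi (sigI ^ 2 ^ 1) ⟨0, by unfold N0; omega⟩ = ⟨0, by unfold N0; omega⟩ := by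
    rw [h, map_one]; rfl
  have h2 : sigI ^ 2 ^ 1 = sigI * sigI := by rw [pow_one, pow_two]
  rw [h2, map_mul, Equiv.Perm.mul_apply, psi_sigI, psi_sigI] at h1
  have h3 := congrArg Fin.val h1
  revert h3
  show ¬ inx (inx 0) = 0
  decide

theorem orderOf_sigI : orderOf sigI = 4 := orderOf_eq_prime_pow sigI_pow2 sigI_pow4

theorem card_zpowers_sigI : Nat.card ↥(Subgroup.zpowers sigI) = 4 := by
  rw [Nat.card_zpowers, orderOf_sigI]

theorem zpowers_le_ker : Subgroup.zpowers sigI ≤ Phi.ker := by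
  rw [Subgroup.zpowers_le]
  exact Phi_sigI

theorem zpowers_le_center : Subgroup.zpowers sigI ≤ Subgroup.center ↥fourRu := by
  rw [Subgroup.zpowers_le]
  exact sigI_mem_center

end Cfsg.Agent.Helper2.RuL
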