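import Cfsg.Agent.Helper2.RuL.Comm
import Cfsg.Agent.Helper2.RuL.MatA
import Cfsg.Agent.Helper2.RuL.MatB
import Cfsg.Agent.Helper2.RuL.MatC
import Cfsg.Agent.Helper2.RuL.MatU
import Cfsg.Agent.Helper2.RuL.MatY

/-! The five scaled matrices commute with the multiplication by `i` (helper2). -/

set_option autoImplicit false
set_option maxRecDepth 100000

namespace Cfsg.Agent.Helper2.RuL

open Cfsg.Agent.Helper5.RuLat

set_option Elab.async false in
theorem matA_commI : commIB matA.cols = true := by decide +kernel

set_option Elab.async false in
theorem matB_commI : commIB matB.cols = true := by decide +kernel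

set_option Elab.async false in
theorem matC_commI : commIB matC.cols = true := by decide +kernel

set_option Elab.async false in
theorem matU_commI : commIB matU.cols = true := by decide +kernel

set_option Elab.async false in
theorem matY_commI : commIB matY.cols = true := by decide +kernel

end Cfsg.Agent.Helper2.RuL
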