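import Cfsg.Agent.Helper2.RuL.Bridge3
import Cfsg.Agent.Helper2.RuL.MatI

/-! The Rudvalis group of the definitions is the permutation group `HRu` on 4060 points
(helper2). -/

set_option autoImplicit false
set_option maxRecDepth 100000

namespace Cfsg.Agent.Helper2.RuL

open Cfsg.Agent.Helper5.RuLat Cfsg.Spor Cfsg.Agent.Helper9.OutG Cfsg.Agent.Helper9.J3
  Cfsg.Agent.Helper5.StemP Cfsg.Agent.Helper5.LTC

theorem matA_ok : MatOK matA.cols := ⟨matA_LW, matA_gram, matA_commI⟩
theorem matB_ok : MatOK matB.cols := ⟨matB_LW, matB_gram, matB_commI⟩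
theorem matC_ok : MatOK matC.cols := ⟨matC_LW, matC_gram, matC_commI⟩
theorem matU_ok : MatOK matU.cols := ⟨matU_LW, matU_gram, matU_commI⟩
theorem matY_ok : MatOK matY.cols := ⟨matY_LW, matY_gram, matY_commI⟩

set_option Elab.async false in
theorem tabA_ok : tabChk xtA 0 = true := by decide +kernel

set_option Elab.async false in
theorem tabB_ok : tabChk xtB 2 = true := by decide +kernel

set_option Elab.async false in
theorem tabC_ok : tabChk xtC 4 = true := by decide +kernel

set_option Elab.async false in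
theorem tabU_ok : tabChk xtU 6 = true := by decide +kernel

set_option Elab.async false in
theorem tabY_ok : tabChk xtY 8 = true := by decide +kernel

theorem gens_mem : ∀ i, i < 5 → RuM.g i ∈ Phi.range := by
  intro i hi
  obtain rfl | rfl | rfl | rfl | rfl : i = 0 ∨ i = 1 ∨ i = 2 ∨ i = 3 ∨ i = 4 := by omega
  · exact ⟨gEl matA_ok, Phi_gEl matA_ok actA_all tabA_ok⟩
  · exact ⟨gEl matB_ok, Phi_gEl matB_ok actB_all tabB_ok⟩
  · exact ⟨gEl matC_ok, Phi_gEl matC_ok actC_all tabC_ok⟩
  · exact ⟨gEl matU_ok, Phi_gEl matU_ok actU_all tabU_ok⟩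
  · exact ⟨gEl matY_ok, Phi_gEl matY_ok actY_all tabY_ok⟩

theorem HRu_le_range : RuM.HRu ≤ Phi.range := HRu_le_of_gens Phi.range gens_mem

/-! ### the count -/

theorem card_mul : Nat.card ↥fourRu = Nat.card ↥Phi.range * Nat.card ↥Phi.ker := by
  rw [Subgroup.card_eq_card_quotient_mul_card_subgroup Phi.ker,
    Nat.card_congr (QuotientGroup.quotientKerEquivRange Phi).toEquiv]

theorem card_ker_ge : 4 ≤ Nat.card ↥Phi.ker := by
  rw [← card_zpowers_sigI]
  exact Subgroup.card_le_of_le zpowers_le_ker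

theorem card_range_ge : 145926144000 ≤ Nat.card ↥Phi.range := by
  rw [← RuM.card_HRu]
  exact Subgroup.card_le_of_le HRu_le_range

theorem card_ker : Nat.card ↥Phi.ker = 4 := by
  have h1 := card_mul
  have h2 := card_fourRu_le
  have h3 := card_ker_ge
  have h4 := card_range_ge
  rw [h1] at h2
  by_contra hne
  have h5 : 5 ≤ Nat.card ↥Phi.ker := by omega
  have h6 : 145926144000 * 5 ≤ Nat.card ↥Phi.range * Nat.card ↥Phi.ker := Nat.mul_le_mul h4 h5
  omega

theorem card_range : Nat.card ↥Phi.range = 145926144000 := by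
  have h1 := card_mul
  have h2 := card_fourRu_le
  have h4 := card_range_ge
  rw [h1, card_ker] at h2
  omega

theorem range_eq : Phi.range = RuM.HRu := by
  symm
  apply Subgroup.eq_of_le_of_card_ge HRu_le_range
  rw [card_range, RuM.card_HRu]

theorem ker_eq : Phi.ker = Subgroup.zpowers sigI := by
  symm
  apply Subgroup.eq_of_le_of_card_ge zpowers_le_ker
  rw [card_ker, card_zpowers_sigI]

theorem ker_le_center : Phi.ker ≤ Subgroup.center ↥fourRu := by
  rw [ker_eq]
  exact zpowers_le_center

theorem HRu_noncomm : ∃ a b : ↥RuM.HRu, a * b ≠ b * a := by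
  by_contra hc
  push Not at hc
  let _ : CommGroup ↥RuM.HRu := { (inferInstance : Group ↥RuM.HRu) with mul_comm := hc }
  have := RuM.simple_HRu
  have hp := IsSimpleGroup.prime_card (α := ↥RuM.HRu)
  rw [RuM.card_HRu] at hp
  norm_num at hp

/-- the quotient by the kernel is `HRu` -/
noncomputable def eQ : ↥fourRu ⧸ Phi.ker ≃* ↥RuM.HRu :=
  (QuotientGroup.quotientKerEquivRange Phi).trans (MulEquiv.subgroupCongr range_eq)

theorem center_eq_ker : Subgroup.center ↥fourRu = Phi.ker := by
  haveI := RuM.simple_HRu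
  exact Cfsg.Agent.Helper5.LP.center_eq_of_quotient_simple (K := ↥RuM.HRu)
    HRu_noncomm Phi.ker ker_le_center eQ

theorem card_center : Nat.card ↥(Subgroup.center ↥fourRu) = 4 := by
  rw [center_eq_ker, card_ker]

/-- **The Rudvalis group of the definitions is the permutation group on 4060 points.** -/
noncomputable def eRu : Cfsg.Spor.Ru ≃* ↥RuM.HRu :=
  (QuotientGroup.quotientMulEquivOfEq center_eq_ker).trans eQ

theorem card_Ru : Nat.card Cfsg.Spor.Ru = 145926144000 := by
  rw [Nat.card_congr eRu.toEquiv, RuM.card_HRu]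

theorem simple_Ru : IsSimpleGroup Cfsg.Spor.Ru := by
  have := RuM.simple_HRu
  exact eRu.isSimpleGroup

end Cfsg.Agent.Helper2.RuL
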