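import Cfsg.Agent.Helper2.RuL.Chk4
import Cfsg.Agent.Helper2.RuL.Tab

/-! Certificates for the weight-16 words of the parity code, chunk 1 (helper2; generated). -/

set_option autoImplicit false
set_option maxRecDepth 100000

namespace Cfsg.Agent.Helper2.RuL

open Cfsg.Agent.Helper5.RuLat

def c16_1 : List C16 := [
  C16.bad 0xc3cca90059 0x8026,
  C16.bad 0xc3cca900a6 0x159,
  C16.bad 0xcc566a000f 0x6b70,
  C16.bad 0xcc566a00f0 0x780,
  C16.bad 0xcc5695000f 0x390,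
  C16.bad 0xcc569500f0 0x1030f,
  C16.bad 0xcca96a000f 0x780,
  C16.bad 0xcca96a00f0 0x10300,
  C16.bad 0xcca995000f 0x70,
  C16.bad 0xcca99500f0 0x385,
  C16.bad 0xf0653c0056 0x780,
  C16.bad 0xf0653c00a9 0x56,
  C16.bad 0xf065c30056 0x4108,
  C16.bad 0xf065c300a9 0x780,
  C16.bad 0xf09a3c0056 0x10a1,
  C16.bad 0xf09a3c00a9 0x780,
  C16.bad 0xf09ac30056 0x780,
  C16.bad 0xf09ac300a9 0x20000,
  C16.bad 0xff000000ff 0x900,
  C16.bad 0xff0000ff00 0xf,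
  C16.bad 0xff00ff0000 0xf,
  C16.bad 0xffff000000 0x130f,
  C16.bad 0xf000033566a 0x11,
  C16.bad 0xf0000335695 0x2000,
  C16.bad 0xf000033a96a 0x2000,
  C16.bad 0xf000033a995 0x122,
  C16.bad 0xf0000cc566a 0x15,
  C16.bad 0xf0000cc5695 0x6a,
  C16.bad 0xf0000cca96a 0x10000,
  C16.bad 0xf0000cca995 0x6a,
  C16.bad 0xf653c005600 0x7f,
  C16.bad 0xf653c00a900 0x5800,
  C16.bad 0xf65c3005600 0x15,
  C16.bad 0xf65c300a900 0x6a,
  C16.bad 0xf9a3c005600 0x5895,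
  C16.bad 0xf9a3c00a900 0x7f,
  C16.bad 0xf9ac3005600 0x6a,
  C16.bad 0xf9ac300a900 0x15,
  C16.bad 0x330000590f65 0x1a,
  C16.bad 0x330000590f9a 0x8000,
  C16.bad 0x33000059f065 0x282,
  C16.bad 0x33000059f09a 0x380,
  C16.bad 0x330000a60f65 0x1a,
  C16.bad 0x330000a60f9a 0x65,
  C16.bad 0x330000a6f065 0x380,
  C16.bad 0x330000a6f09a 0x65,
  C16.bad 0x33566a000f00 0x7f,
  C16.bad 0x33566a00f000 0x339a,
  C16.bad 0x335695000f00 0x1a,
  C16.bad 0x33569500f000 0x65,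
  C16.bad 0x33a96a000f00 0x3000,
  C16.bad 0x33a96a00f000 0x7f,
  C16.bad 0x33a995000f00 0x1a,
  C16.bad 0x33a99500f000 0x380,
  C16.bad 0x3c00006a590f 0x10000,
  C16.bad 0x3c00006a59f0 0x8000,
  C16.bad 0x3c00006aa60f 0x4f0,
  C16.bad 0x3c00006aa6f0 0x48f,
  C16.bad 0x3c000095590f 0x1070,
  C16.bad 0x3c00009559f0 0x30f,
  C16.bad 0x3c000095a60f 0x10000,
  C16.bad 0x3c000095a6f0 0x6,
  C16.bad 0x3c3356005900 0x30f,
  C16.bad 0x3c335600a600 0x7f,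
  C16.bad 0x3c33a9005900 0x7f,
  C16.bad 0x3c33a900a600 0x680f,
  C16.bad 0x3ccc56005900 0x7f,
  C16.bad 0x3ccc5600a600 0x3899,
  C16.bad 0x3ccca9005900 0x1119,
  C16.bad 0x3ccca900a600 0x7f,
  C16.bad 0x5600000f653c 0x8000,
  C16.bad 0x5600000f65c3 0x403c,
  C16.bad 0x5600000f9a3c 0x2c3,
  C16.bad 0x5600000f9ac3 0x298,
  C16.bad 0x560000f0653c 0x3843,
  C16.bad 0x560000f065c3 0x53c,
  C16.bad 0x560000f09a3c 0x802,
  C16.bad 0x560000f09ac3 0x2bc,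
  C16.bad 0x566a59006500 0x7f,
  C16.good 0x566a59009a00 [30, 38, 42, 44, 46] (ST.node (ST.node (ST.node (ST.node (ST.node (ST.leaf 3756) (ST.leaf 2014)) (ST.node (ST.leaf 2058) (ST.leaf 1096))) (ST.node (ST.node (ST.leaf 3694) (ST.leaf 2060)) (ST.node (ST.leaf 2008) (ST.leaf 1130)))) (ST.node (ST.node (ST.node (ST.leaf 2154) (ST.leaf 1032)) (ST.node (ST.leaf 3628) (ST.leaf 2110))) (ST.node (ST.node (ST.leaf 2104) (ST.leaf 1066)) (ST.node (ST.leaf 3566) (ST.leaf 2156))))) (ST.node (ST.node (ST.node (ST.node (ST.leaf 2158) (ST.leaf 3564)) (ST.node (ST.leaf 1064) (ST.leaf 2106))) (ST.node (ST.node (ST.leaf 2108) (ST.leaf 3630)) (ST.node (ST.leaf 1034) (ST.leaf 2152)))) (ST.node (ST.node (ST.node (ST.leaf 1128) (ST.leaf 2010)) (ST.node (ST.leaf 2062) (ST.leaf 3692))) (ST.node (ST.node (ST.leaf 1098) (ST.leaf 2056)) (ST.node (ST.leaf 2012) (ST.leaf 3758)))))) [(9, 0x39e), (11, 0xa84),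 (12, 0xe92), (15, 0x8), (24, 0x8015), (27, 0x1a), (28, 0xf), (33, 0xa80), (35, 0x99), (37, 0x881), (41, 0x18)],
  C16.good 0x566aa6006500 [31, 38, 42, 44, 46] (ST.node (ST.node (ST.node (ST.node (ST.node (ST.leaf 3644) (ST.leaf 2118)) (ST.node (ST.leaf 3774) (ST.leaf 2020))) (ST.node (ST.node (ST.leaf 2026) (ST.leaf 1136)) (ST.node (ST.leaf 2120) (ST.leaf 1074)))) (ST.node (ST.node (ST.node (ST.leaf 2070) (ST.leaf 3708)) (ST.node (ST.leaf 2164) (ST.leaf 3582))) (ST.node (ST.node (ST.leaf 1040) (ST.leaf 2170)) (ST.node (ST.leaf 1106) (ST.leaf 2072))))) (ST.node (ST.node (ST.node (ST.node (ST.leaf 2074) (ST.leaf 1104)) (ST.node (ST.leaf 2168) (ST.leaf 1042))) (ST.node (ST.node (ST.leaf 3580) (ST.leaf 2166)) (ST.node (ST.leaf 3710) (ST.leaf 2068)))) (ST.node (ST.node (ST.node (ST.leaf 1072) (ST.leaf 2122)) (ST.node (ST.leaf 1138) (ST.leaf 2024))) (ST.node (ST.node (ST.leaf 2022)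 (ST.leaf 3772)) (ST.node (ST.leaf 2116) (ST.leaf 3646)))))) [(8, 0x1488), (10, 0x1336), (13, 0x39), (14, 0x7), (25, 0x40c), (26, 0x403), (29, 0x416), (33, 0x424), (35, 0x1000), (37, 0x1118), (41, 0x425)],
  C16.bad 0x566aa6009a00 0x7f,
  C16.good 0x569559006500 [30, 39, 42, 44, 46] (ST.node (ST.node (ST.node (ST.node (ST.node (ST.leaf 432) (ST.leaf 494)) (ST.node (ST.leaf 1112) (ST.leaf 1082))) (ST.node (ST.node (ST.leaf 1076) (ST.leaf 1110)) (ST.node (ST.leaf 2176) (ST.leaf 2034)))) (ST.node (ST.node (ST.node (ST.leaf 1050) (ST.leaf 1144)) (ST.node (ST.leaf 474) (ST.leaf 452))) (ST.node (ST.node (ST.leaf 2082) (ST.leaf 2128)) (ST.node (ST.leaf 1142) (ST.leaf 1044))))) (ST.node (ST.node (ST.node (ST.node (ST.leaf 1046) (ST.leaf 1140)) (ST.node (ST.leaf 2130) (ST.leaf 2080))) (ST.node (ST.node (ST.leaf 454) (ST.leaf 472)) (ST.node (ST.leaf 1146) (ST.leaf 1048)))) (ST.node (ST.node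 (ST.node (ST.leaf 2032) (ST.leaf 2178)) (ST.node (ST.leaf 1108) (ST.leaf 1078))) (ST.node (ST.node (ST.leaf 1080) (ST.leaf 1114)) (ST.node (ST.leaf 492) (ST.leaf 434)))))) [(8, 0x885), (10, 0x221), (13, 0x4), (14, 0x81c), (24, 0x8015), (27, 0x1a), (28, 0xf), (32, 0x1083c), (34, 0x28), (36, 0x814), (41, 0x3c)],
  C16.bad 0x569559009a00 0x7f,
  C16.bad 0x5695a6006500 0x7f,
  C16.good 0x5695a6009a00 [31, 39, 42, 44, 46] (ST.node (ST.node (ST.node (ST.node (ST.node (ST.leaf 2100) (ST.leaf 5882)) (ST.node (ST.leaf 2004) (ST.leaf 6026))) (ST.node (ST.node (ST.leaf 2148) (ST.leaf 5810)) (ST.node (ST.leaf 2052) (ST.leaf 5954)))) (ST.node (ST.node (ST.node (ST.leaf 3686) (ST.leaf 3616)) (ST.node (ST.leaf 3558) (ST.leaf 3744))) (ST.node (ST.node (ST.leaf 3750) (ST.leaf 3552)) (ST.node (ST.leaf 3622) (ST.leaf 3680))))) (ST.node (ST.node (ST.node (ST.node (ST.leaf 3682) (ST.leaf 3620)) (ST.node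 (ST.leaf 3554) (ST.leaf 3748))) (ST.node (ST.node (ST.leaf 3746) (ST.leaf 3556)) (ST.node (ST.leaf 3618) (ST.leaf 3684)))) (ST.node (ST.node (ST.node (ST.leaf 5952) (ST.leaf 2054)) (ST.node (ST.leaf 5808) (ST.leaf 2150))) (ST.node (ST.node (ST.leaf 6024) (ST.leaf 2006)) (ST.node (ST.leaf 5880) (ST.leaf 2102)))))) [(9, 0x18a), (11, 0x92), (12, 0x141d), (15, 0x1039), (25, 0x83), (26, 0x8c), (29, 0x99), (32, 0x1003e), (34, 0x1000), (36, 0x103e), (41, 0xaa)],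
  C16.bad 0x5900003c3356 0x200,
  C16.bad 0x5900003c33a9 0x200,
  C16.bad 0x5900003ccc56 0x1800,
  C16.bad 0x5900003ccca9 0x56,
  C16.bad 0x590000c33356 0x6000,
  C16.bad 0x590000c333a9 0x6,
  C16.bad 0x590000c3cc56 0x8000,
  C16.bad 0x590000c3cca9 0x580,
  C16.bad 0x590f65003300 0x200,
  C16.bad 0x590f6500cc00 0x56,
  C16.bad 0x590f9a003300 0x7f,
  C16.bad 0x590f9a00cc00 0x5a9,
  C16.bad 0x59f065003300 0x56,
  C16.bad 0x59f06500cc00 0x6580]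

set_option Elab.async false in
theorem c16_1_ok : c16_1.all (chkC16 ent 16240 pbsD colsD) = true := by decide +kernel

end Cfsg.Agent.Helper2.RuL
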