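import Cfsg.Agent.Helper2.RuL.Chk4
import Cfsg.Agent.Helper2.RuL.Tab

/-! Certificates for the weight-16 words of the parity code, chunk 10 (helper2; generated). -/

set_option autoImplicit false
set_option maxRecDepth 100000

namespace Cfsg.Agent.Helper2.RuL

open Cfsg.Agent.Helper5.RuLat

def c16_10 : List C16 := [
  C16.good 0x55442822060518 [29, 37, 46, 54] (ST.node (ST.node (ST.node (ST.node (ST.leaf 14366) (ST.leaf 300)) (ST.node (ST.leaf 1654) (ST.leaf 14356))) (ST.node (ST.node (ST.leaf 14352) (ST.leaf 810)) (ST.node (ST.leaf 804) (ST.leaf 14362)))) (ST.node (ST.node (ST.node (ST.leaf 14360) (ST.leaf 806)) (ST.node (ST.leaf 808) (ST.leaf 14354))) (ST.node (ST.node (ST.leaf 14358) (ST.leaf 1652)) (ST.node (ST.leaf 302) (ST.leaf 14364))))) [(3, 0x409), (4, 0x451), (8, 0x180), (10, 0x600), (17, 0x1503), (18, 0x2543), (25, 0x2), (35, 0x100), (42, 0x402), (48, 0x40442), (50, 0x443), (52, 0x1)],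
  C16.good 0x55444284090524 [31, 38, 46, 54] (ST.node (ST.node (ST.node (ST.node (ST.leaf 902) (ST.leaf 14648)) (ST.node (ST.leaf 14642) (ST.leaf 904))) (ST.node (ST.node (ST.leaf 1808) (ST.leaf 14646)) (ST.node (ST.leaf 14652) (ST.leaf 350)))) (ST.node (ST.node (ST.node (ST.leaf 348) (ST.leaf 14654)) (ST.node (ST.leaf 14644) (ST.leaf 1810))) (ST.node (ST.node (ST.leaf 906) (ST.leaf 14640)) (ST.node (ST.leaf 14650) (ST.leaf 900))))) [(2, 0x40c), (5, 0x473), (8, 0xd8), (10, 0x65a), (16, 0xc50), (19, 0x40b), (26, 0x2), (33, 0x5a), (42, 0x45a), (48, 0x40440), (50, 0x41b), (52, 0x5b)],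
  C16.good 0x55448148a00582 [30, 39, 46, 54] (ST.node (ST.node (ST.node (ST.node (ST.leaf 14064) (ST.leaf 714)) (ST.node (ST.leaf 708) (ST.leaf 14074))) (ST.node (ST.node (ST.leaf 14078) (ST.leaf 252)) (ST.node (ST.leaf 1498) (ST.leaf 14068)))) (ST.node (ST.node (ST.node (ST.leaf 14070) (ST.leaf 1496)) (ST.node (ST.leaf 254) (ST.leaf 14076))) (ST.node (ST.node (ST.leaf 14072) (ST.leaf 710)) (ST.node (ST.leaf 712) (ST.leaf 14066))))) [(1, 0x456), (7, 0x429), (8, 0x85), (10, 0x600), (21, 0x409), (23, 0x471), (27, 0x5), (32, 0x10000), (42, 0x405), (48, 0x40465), (50, 0x439), (52, 0x5c)],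
  C16.good 0x55881411090a24 [28, 36, 47, 54] (ST.node (ST.node (ST.node (ST.node (ST.leaf 14462) (ST.leaf 316)) (ST.node (ST.leaf 1706) (ST.leaf 14452))) (ST.node (ST.node (ST.leaf 14448) (ST.leaf 842)) (ST.node (ST.leaf 836) (ST.leaf 14458)))) (ST.node (ST.node (ST.node (ST.leaf 14456) (ST.leaf 838)) (ST.node (ST.leaf 840) (ST.leaf 14450))) (ST.node (ST.node (ST.leaf 14454) (ST.leaf 1704)) (ST.node (ST.leaf 318) (ST.leaf 14460))))) [(2, 0x56), (5, 0x29), (9, 0x55a), (11, 0x5a), (16, 0xc08), (19, 0x453), (24, 0x8000), (34, 0x2), (43, 0x402), (48, 0x40418), (50, 0x43), (52, 0x45b)],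
  C16.good 0x55882822a00a82 [29, 37, 47, 54] (ST.node (ST.node (ST.node (ST.node (ST.leaf 1964) (ST.leaf 14934)) (ST.node (ST.leaf 14940) (ST.leaf 398))) (ST.node (ST.node (ST.leaf 998) (ST.leaf 14936)) (ST.node (ST.leaf 14930) (ST.leaf 1000)))) (ST.node (ST.node (ST.node (ST.leaf 1002) (ST.leaf 14928)) (ST.node (ST.leaf 14938) (ST.leaf 996))) (ST.node (ST.node (ST.leaf 396) (ST.leaf 14942)) (ST.node (ST.leaf 14932) (ST.leaf 1966))))) [(1, 0x4297), (7, 0x42e8), (9, 0x4344), (11, 0x40c1), (21, 0x40cd), (23, 0x271), (25, 0x42c1), (35, 0x4041), (43, 0x42c4), (48, 0x40060), (50, 0x42fd), (52, 0x429d)],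
  C16.good 0x55884284500a41 [31, 38, 47, 54] (ST.node (ST.node (ST.node (ST.node (ST.leaf 676) (ST.leaf 13978)) (ST.node (ST.leaf 13968) (ST.leaf 682))) (ST.node (ST.node (ST.leaf 1446) (ST.leaf 13972)) (ST.node (ST.leaf 13982) (ST.leaf 236)))) (ST.node (ST.node (ST.node (ST.leaf 238) (ST.leaf 13980)) (ST.node (ST.leaf 13974) (ST.leaf 1444))) (ST.node (ST.node (ST.leaf 680) (ST.leaf 13970)) (ST.node (ST.leaf 13976) (ST.leaf 678))))) [(0, 0x29), (6, 0x56), (9, 0x3a2), (11, 0x200), (20, 0x4232), (22, 0x8e), (26, 0x2), (33, 0x282), (43, 0xa0), (48, 0x400ba), (50, 0x3e), (52, 0x84)],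
  C16.good 0x55888148060a18 [30, 39, 47, 54] (ST.node (ST.node (ST.node (ST.node (ST.leaf 14554) (ST.leaf 868)) (ST.node (ST.leaf 874) (ST.leaf 14544))) (ST.node (ST.node (ST.leaf 14548) (ST.leaf 1758)) (ST.node (ST.leaf 332) (ST.leaf 14558)))) (ST.node (ST.node (ST.node (ST.leaf 14556) (ST.leaf 334)) (ST.node (ST.leaf 1756) (ST.leaf 14550))) (ST.node (ST.node (ST.leaf 14546) (ST.leaf 872)) (ST.node (ST.leaf 870) (ST.leaf 14552))))) [(3, 0x2b), (4, 0x54), (9, 0x122), (11, 0x27), (17, 0x1024), (18, 0x2043), (27, 0x2), (32, 0x10000), (43, 0x7), (48, 0x40060), (50, 0x43), (52, 0x23)],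
  C16.bad 0x5600000f653c00 0x10000,
  C16.bad 0x5600000f65c300 0x7f,
  C16.bad 0x5600000f9a3c00 0x7f,
  C16.bad 0x5600000f9ac300 0x425,
  C16.bad 0x560000f0653c00 0x7f,
  C16.bad 0x560000f065c300 0x142a,
  C16.bad 0x560000f09a3c00 0x8125,
  C16.bad 0x560000f09ac300 0x7f,
  C16.bad 0x56005900003c33 0x180,
  C16.bad 0x56005900003ccc 0x180,
  C16.bad 0x5600590000c333 0x600,
  C16.bad 0x5600590000c3cc 0x2811,
  C16.bad 0x5600a600003c33 0x29cc,
  C16.bad 0x5600a600003ccc 0xa2,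
  C16.bad 0x5600a60000c333 0x564c,
  C16.bad 0x5600a60000c3cc 0x2e33,
  C16.bad 0x566a000f000033 0x4344,
  C16.bad 0x566a000f0000cc 0x780,
  C16.bad 0x566a00f0000033 0x780,
  C16.bad 0x566a00f00000cc 0x7321,
  C16.bad 0x566a5900650000 0x7f,
  C16.good 0x566a59009a0000 [38, 46, 50, 52, 54] (ST.node (ST.node (ST.node (ST.node (ST.node (ST.leaf 15046) (ST.leaf 14958)) (ST.node (ST.leaf 1062) (ST.leaf 460))) (ST.node (ST.node (ST.leaf 15016) (ST.leaf 14984)) (ST.node (ST.leaf 1028) (ST.leaf 482)))) (ST.node (ST.node (ST.node (ST.leaf 1126) (ST.leaf 420)) (ST.node (ST.leaf 14990) (ST.leaf 15014))) (ST.node (ST.node (ST.leaf 1092) (ST.leaf 442)) (ST.node (ST.leaf 14960) (ST.leaf 15040))))) (ST.node (ST.node (ST.node (ST.node (ST.leaf 15042) (ST.leaf 14962)) (ST.node (ST.leaf 440) (ST.leaf 1094))) (ST.node (ST.node (ST.leaf 15012) (ST.leaf 14988)) (ST.node (ST.leaf 422) (ST.leaf 1124)))) (ST.node (ST.node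 (ST.node (ST.leaf 480) (ST.leaf 1030)) (ST.node (ST.leaf 14986) (ST.leaf 15018))) (ST.node (ST.node (ST.leaf 462) (ST.leaf 1060)) (ST.node (ST.leaf 14956) (ST.leaf 15044)))))) [(17, 0x10a0), (19, 0x36), (20, 0x4097), (23, 0x32), (32, 0x10126), (35, 0x99), (36, 0x1bf), (41, 0x3c), (43, 0x1a), (45, 0x1a6), (49, 0x1b3)],
  C16.good 0x566aa600650000 [39, 46, 50, 52, 54] (ST.node (ST.node (ST.node (ST.node (ST.node (ST.leaf 14998) (ST.leaf 1102)) (ST.node (ST.leaf 15052) (ST.leaf 1036))) (ST.node (ST.node (ST.leaf 14966) (ST.leaf 484)) (ST.node (ST.leaf 15020) (ST.leaf 446)))) (ST.node (ST.node (ST.node (ST.leaf 1070) (ST.leaf 15026)) (ST.node (ST.leaf 1132) (ST.leaf 14968))) (ST.node (ST.node (ST.leaf 424) (ST.leaf 15050)) (ST.node (ST.leaf 466) (ST.leaf 14992))))) (ST.node (ST.node (ST.node (ST.node (ST.leaf 14994) (ST.leaf 464)) (ST.node (ST.leaf 15048) (ST.leaf 426))) (ST.node (ST.node (ST.leaf 14970)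 (ST.leaf 1134)) (ST.node (ST.leaf 15024) (ST.leaf 1068)))) (ST.node (ST.node (ST.node (ST.leaf 444) (ST.leaf 15022)) (ST.node (ST.leaf 486) (ST.leaf 14964))) (ST.node (ST.node (ST.leaf 1038) (ST.leaf 15054)) (ST.node (ST.leaf 1100) (ST.leaf 14996)))))) [(16, 0xa31), (18, 0x23b9), (21, 0x331), (22, 0x3a8), (33, 0x4), (34, 0x39e), (37, 0x2b8), (41, 0x3c), (43, 0x1a), (45, 0x84), (49, 0x91)],
  C16.bad 0x566aa6009a0000 0x7f,
  C16.bad 0x5695000f000033 0x180,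
  C16.bad 0x5695000f0000cc 0x180,
  C16.bad 0x569500f0000033 0x29cc,
  C16.bad 0x569500f00000cc 0x780,
  C16.good 0x56955900650000 [38, 47, 50, 52, 54] (ST.node (ST.node (ST.node (ST.node (ST.node (ST.leaf 104) (ST.leaf 142)) (ST.node (ST.leaf 13356) (ST.leaf 13314))) (ST.node (ST.node (ST.leaf 448) (ST.leaf 470)) (ST.node (ST.leaf 13406) (ST.leaf 13272)))) (ST.node (ST.node (ST.node (ST.leaf 13270) (ST.leaf 13400)) (ST.node (ST.leaf 130) (ST.leaf 116))) (ST.node (ST.node (ST.leaf 13316) (ST.leaf 13362)) (ST.node (ST.leaf 490) (ST.leaf 428))))) (ST.node (ST.node (ST.node (ST.node (ST.leaf 430) (ST.leaf 488)) (ST.node (ST.leaf 13360) (ST.leaf 13318))) (ST.node (ST.node (ST.leaf 118) (ST.leaf 128)) (ST.node (ST.leaf 13402) (ST.leaf 13268)))) (ST.node (ST.node (ST.node (ST.leaf 13274) (ST.leaf 13404)) (ST.node (ST.leaf 468) (ST.leaf 450))) (ST.node (ST.node (ST.leaf 13312) (ST.leaf 13358)) (ST.node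 (ST.leaf 140) (ST.leaf 106)))))) [(16, 0xa8d), (18, 0x2085), (21, 0x20d), (22, 0x14), (32, 0x10084), (35, 0x29e), (36, 0x21a), (40, 0x2001e), (42, 0x1a), (44, 0x4), (49, 0x11)],
  C16.bad 0x569559009a0000 0x7f,
  C16.bad 0x5695a600650000 0x7f,
  C16.good 0x5695a6009a0000 [39, 47, 50, 52, 54] (ST.node (ST.node (ST.node (ST.node (ST.node (ST.leaf 1088) (ST.leaf 15964)) (ST.node (ST.leaf 1024) (ST.leaf 15980))) (ST.node (ST.node (ST.leaf 1120) (ST.leaf 15956)) (ST.node (ST.leaf 1056) (ST.leaf 15972)))) (ST.node (ST.node (ST.node (ST.leaf 15970) (ST.leaf 2048)) (ST.node (ST.leaf 15954) (ST.leaf 2144))) (ST.node (ST.node (ST.leaf 15978) (ST.leaf 2000)) (ST.node (ST.leaf 15962) (ST.leaf 2096))))) (ST.node (ST.node (ST.node (ST.node (ST.leaf 2098) (ST.leaf 15960)) (ST.node (ST.leaf 2002) (ST.leaf 15976))) (ST.node (ST.node (ST.leaf 2146) (ST.leaf 15952)) (ST.node (ST.leaf 2050) (ST.leaf 15968)))) (ST.node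 (ST.node (ST.node (ST.leaf 15974) (ST.leaf 1058)) (ST.node (ST.leaf 15958) (ST.leaf 1122))) (ST.node (ST.node (ST.leaf 15982) (ST.leaf 1026)) (ST.node (ST.leaf 15966) (ST.leaf 1090)))))) [(17, 0x1039), (19, 0x30a), (20, 0x410e), (23, 0x32b), (33, 0x3), (34, 0x33c), (37, 0x21a), (40, 0x2003c), (42, 0x1a), (44, 0x26), (49, 0x33)],
  C16.bad 0x5900003c335600 0x6f,
  C16.bad 0x5900003c33a900 0x2000,
  C16.bad 0x5900003ccc5600 0x8015,
  C16.bad 0x5900003ccca900 0x7f,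
  C16.bad 0x590000c3335600 0x15,
  C16.bad 0x590000c333a900 0x6a,
  C16.bad 0x590000c3cc5600 0x15,
  C16.bad 0x590000c3cca900 0x5800,
  C16.bad 0x5900650000566a 0x15,
  C16.good 0x59006500005695 [14, 38, 51, 52, 54] (ST.node (ST.node (ST.node (ST.node (ST.node (ST.leaf 8660) (ST.leaf 8726)) (ST.node (ST.leaf 8534) (ST.leaf 8596))) (ST.node (ST.node (ST.leaf 8592) (ST.leaf 8530)) (ST.node (ST.leaf 8722) (ST.leaf 8656)))) (ST.node (ST.node (ST.node (ST.leaf 6022) (ST.leaf 6092)) (ST.node (ST.leaf 5876) (ST.leaf 5950))) (ST.node (ST.node (ST.leaf 8600) (ST.leaf 8538)) (ST.node (ST.leaf 8730) (ST.leaf 8664))))) (ST.node (ST.node (ST.node (ST.node (ST.leaf 8666) (ST.leaf 8728)) (ST.node (ST.leaf 8536) (ST.leaf 8602))) (ST.node (ST.node (ST.leaf 5948) (ST.leaf 5878)) (ST.node (ST.leaf 6094) (ST.leaf 6020)))) (ST.node (ST.node (ST.node (ST.leaf 8658) (ST.leaf 8720)) (ST.node (ST.leaf 8528) (ST.leaf 8594)))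 (ST.node (ST.node (ST.leaf 8598) (ST.leaf 8532)) (ST.node (ST.leaf 8724) (ST.leaf 8662)))))) [(0, 0x3), (2, 0xc), (4, 0x12), (7, 0x8), (9, 0x900), (10, 0xa0a), (12, 0x40a), (32, 0x10800), (34, 0xa), (37, 0x80a), (48, 0x40000)],
  C16.good 0x5900650000a96a [15, 38, 51, 52, 54] (ST.node (ST.node (ST.node (ST.node (ST.node (ST.leaf 13323) (ST.leaf 13371)) (ST.node (ST.leaf 13235) (ST.leaf 13283))) (ST.node (ST.node (ST.leaf 13279) (ST.leaf 13239)) (ST.node (ST.leaf 13367) (ST.leaf 13327)))) (ST.node (ST.node (ST.node (ST.leaf 13331) (ST.leaf 11209)) (ST.node (ST.leaf 13243) (ST.leaf 11105))) (ST.node (ST.node (ST.leaf 13287) (ST.leaf 11053)) (ST.node (ST.leaf 13375) (ST.leaf 11157))))) (ST.node (ST.node (ST.node (ST.node (ST.leaf 11159) (ST.leaf 13373)) (ST.node (ST.leaf 11055) (ST.leaf 13285))) (ST.node (ST.node (ST.leaf 11107) (ST.leaf 13241)) (ST.node (ST.leaf 11211) (ST.leaf 13329)))) (ST.node (ST.node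 (ST.node (ST.leaf 13325) (ST.leaf 13365)) (ST.node (ST.leaf 13237) (ST.leaf 13277))) (ST.node (ST.node (ST.leaf 13281) (ST.leaf 13233)) (ST.node (ST.leaf 13369) (ST.leaf 13321)))))) [(1, 0x7), (3, 0x8), (5, 0x21), (6, 0x44), (8, 0x84), (11, 0x1001), (13, 0x1005), (32, 0x10104), (34, 0x1000), (37, 0x1104), (48, 0x40000)],
  C16.bad 0x5900650000a995 0x700,
  C16.good 0x59009a0000566a [14, 39, 51, 52, 54] (ST.node (ST.node (ST.node (ST.node (ST.node (ST.leaf 11064) (ST.leaf 11114)) (ST.node (ST.leaf 11160) (ST.leaf 8700))) (ST.node (ST.node (ST.leaf 11222) (ST.leaf 11164)) (ST.node (ST.leaf 11110) (ST.leaf 8510)))) (ST.node (ST.node (ST.node (ST.leaf 11056) (ST.leaf 8572)) (ST.node (ST.leaf 11168) (ST.leaf 11218))) (ST.node (ST.node (ST.leaf 11214) (ST.leaf 8638)) (ST.node (ST.leaf 11118) (ST.leaf 11060))))) (ST.node (ST.node (ST.node (ST.node (ST.leaf 11062) (ST.leaf 11116)) (ST.node (ST.leaf 8636)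 (ST.leaf 11212))) (ST.node (ST.node (ST.leaf 11216) (ST.leaf 11170)) (ST.node (ST.leaf 8574) (ST.leaf 11058)))) (ST.node (ST.node (ST.node (ST.leaf 8508) (ST.leaf 11108)) (ST.node (ST.leaf 11166) (ST.leaf 11220))) (ST.node (ST.node (ST.leaf 8702) (ST.leaf 11162)) (ST.node (ST.leaf 11112) (ST.leaf 11066)))))) [(1, 0x1083), (3, 0x1089), (5, 0x10a0), (6, 0x10c0), (9, 0x181), (10, 0x1281), (12, 0x1480), (33, 0x1), (35, 0x1000), (36, 0x1081), (48, 0x40000)],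
  C16.bad 0x59009a00005695 0x5880,
  C16.bad 0x59009a0000a96a 0x15,
  C16.good 0x59009a0000a995 [15, 39, 51, 52, 54] (ST.node (ST.node (ST.node (ST.node (ST.node (ST.leaf 11079) (ST.leaf 11123)) (ST.node (ST.leaf 11173) (ST.leaf 11233))) (ST.node (ST.node (ST.leaf 8719) (ST.leaf 11177)) (ST.node (ST.leaf 11127) (ST.leaf 8525)))) (ST.node (ST.node (ST.node (ST.leaf 11071) (ST.leaf 11131)) (ST.node (ST.leaf 11181) (ST.leaf 11225))) (ST.node (ST.node (ST.leaf 11229) (ST.leaf 8655)) (ST.node (ST.leaf 8589) (ST.leaf 11075))))) (ST.node (ST.node (ST.node (ST.node (ST.leaf 11073) (ST.leaf 8591)) (ST.node (ST.leaf 8653) (ST.leaf 11231))) (ST.node (ST.node (ST.leaf 11227) (ST.leaf 11183)) (ST.node (ST.leaf 11129) (ST.leaf 11069)))) (ST.node (ST.node (ST.node (ST.leaf 8527) (ST.leaf 11125)) (ST.node (ST.leaf 11179) (ST.leaf 8717))) (ST.node (ST.node (ST.leaf 11235) (ST.leaf 11175)) (ST.node (ST.leaf 11121)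 (ST.leaf 11077)))))) [(0, 0xb2b), (2, 0xb24), (4, 0xb18), (7, 0xb02), (8, 0x8a2), (11, 0x90a), (13, 0xa), (33, 0x922), (35, 0x30a), (36, 0xb0a), (48, 0x40000)],
  C16.bad 0x590f003c00006a 0x5800,
  C16.bad 0x590f003c000095 0x76a,
  C16.bad 0x590f00c300006a 0x80,
  C16.bad 0x590f00c3000095 0x6a,
  C16.bad 0x590f6500330000 0x2000,
  C16.bad 0x590f6500cc0000 0x6a,
  C16.bad 0x590f9a00330000 0x15,
  C16.bad 0x590f9a00cc0000 0x15,
  C16.bad 0x59f0003c00006a 0x95,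
  C16.bad 0x59f0003c000095 0x7800,
  C16.bad 0x59f000c300006a 0x2015,
  C16.bad 0x59f000c3000095 0x76a,
  C16.bad 0x59f06500330000 0x5d,
  C16.bad 0x59f06500cc0000 0x5815,
  C16.bad 0x59f09a00330000 0x8000,
  C16.bad 0x59f09a00cc0000 0x7f,
  C16.good 0x5a121422090a82 [29, 36, 44, 54] (ST.node (ST.node (ST.node (ST.node (ST.leaf 1786) (ST.leaf 15760)) (ST.node (ST.leaf 15754) (ST.leaf 1788))) (ST.node (ST.node (ST.leaf 3212) (ST.leaf 15758)) (ST.node (ST.leaf 15764) (ST.leaf 890)))) (ST.node (ST.node (ST.node (ST.leaf 888) (ST.leaf 15766)) (ST.node (ST.leaf 15756) (ST.leaf 3214))) (ST.node (ST.node (ST.leaf 1790) (ST.leaf 15752)) (ST.node (ST.leaf 15762) (ST.leaf 1784))))) [(1, 0xe6), (7, 0x99), (9, 0x700), (11, 0x80), (16, 0xa50), (19, 0x2c4), (25, 0x4cd), (34, 0xcd), (41, 0x64d), (49, 0x8c), (51, 0x2bc), (52, 0x614)],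
  C16.good 0x5a122811a00a24 [28, 37, 44, 54] (ST.node (ST.node (ST.node (ST.node (ST.leaf 1478) (ST.leaf 15416)) (ST.node (ST.leaf 15426) (ST.leaf 1472))) (ST.node (ST.node (ST.leaf 696) (ST.leaf 15430)) (ST.node (ST.leaf 15420) (ST.leaf 2710)))) (ST.node (ST.node (ST.node (ST.leaf 2708) (ST.leaf 15422)) (ST.node (ST.leaf 15428) (ST.leaf 698))) (ST.node (ST.node (ST.leaf 1474) (ST.leaf 15424)) (ST.node (ST.leaf 15418) (ST.leaf 1476))))) [(2, 0xa9d), (5, 0xae2), (9, 0x190), (11, 0x210), (21, 0x209), (23, 0x8c0), (24, 0x8000), (35, 0x290), (41, 0x10), (49, 0xa88), (51, 0x53), (52, 0x49)],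
  C16.good 0x5a124248500a18 [30, 38, 44, 54] (ST.node (ST.node (ST.node (ST.node (ST.leaf 1160) (ST.leaf 15090)) (ST.node (ST.leaf 15080) (ST.leaf 1166))) (ST.node (ST.node (ST.leaf 2206) (ST.leaf 15084)) (ST.node (ST.leaf 15094) (ST.leaf 504)))) (ST.node (ST.node (ST.node (ST.leaf 506) (ST.leaf 15092)) (ST.node (ST.leaf 15086) (ST.leaf 2204))) (ST.node (ST.node (ST.leaf 1164) (ST.leaf 15082)) (ST.node (ST.leaf 15088) (ST.leaf 1162))))) [(3, 0x2b), (4, 0x54), (9, 0x300), (11, 0x480), (20, 0x4287), (22, 0xe6), (27, 0x622), (33, 0x222), (41, 0xa2), (49, 0x663), (51, 0xe1), (52, 0x6a6)],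
  C16.good 0x5a128184060a41 [31, 39, 44, 54] (ST.node (ST.node (ST.node (ST.node (ST.leaf 15590) (ST.leaf 2960)) (ST.node (ST.leaf 794) (ST.leaf 15596))) (ST.node (ST.node (ST.leaf 15592) (ST.leaf 1630)) (ST.node (ST.leaf 1632) (ST.leaf 15586)))) (ST.node (ST.node (ST.node (ST.leaf 15584) (ST.leaf 1634)) (ST.node (ST.leaf 1628) (ST.leaf 15594))) (ST.node (ST.node (ST.leaf 15598) (ST.leaf 792)) (ST.node (ST.leaf 2962) (ST.leaf 15588))))) [(0, 0x99), (6, 0xe6), (9, 0x190), (11, 0x32), (17, 0x1024), (18, 0x203e), (26, 0xb2), (32, 0x10000), (41, 0x10), (49, 0x3e), (51, 0x9e), (52, 0x84)],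
  C16.good 0x5a211422500518 [29, 36, 45, 54] (ST.node (ST.node (ST.node (ST.node (ST.leaf 15370) (ST.leaf 1420)) (ST.node (ST.leaf 1426) (ST.leaf 15360))) (ST.node (ST.node (ST.leaf 15364) (ST.leaf 2626)) (ST.node (ST.leaf 664) (ST.leaf 15374)))) (ST.node (ST.node (ST.node (ST.leaf 15372) (ST.leaf 666)) (ST.node (ST.leaf 2624) (ST.leaf 15366))) (ST.node (ST.node (ST.leaf 15362) (ST.leaf 1424)) (ST.node (ST.leaf 1422) (ST.leaf 15368))))) [(3, 0x12b), (4, 0x154), (8, 0x80), (10, 0x222), (20, 0x4007), (22, 0x66), (25, 0x22), (34, 0x100), (40, 0x20000), (49, 0x141), (51, 0x61), (52, 0x26)],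
  C16.good 0x5a212811060541 [28, 37, 45, 54] (ST.node (ST.node (ST.node (ST.node (ST.leaf 15706) (ST.leaf 1732)) (ST.node (ST.leaf 1738) (ST.leaf 15696))) (ST.node (ST.node (ST.leaf 15700) (ST.leaf 3130)) (ST.node (ST.leaf 856) (ST.leaf 15710)))) (ST.node (ST.node (ST.node (ST.leaf 15708) (ST.leaf 858)) (ST.node (ST.leaf 3128) (ST.leaf 15702))) (ST.node (ST.node (ST.leaf 15698) (ST.leaf 1736)) (ST.node (ST.leaf 1734) (ST.leaf 15704))))) [(0, 0x9), (6, 0x44), (8, 0x180), (10, 0x200), (17, 0x1106), (18, 0x210c), (24, 0x8000), (35, 0x100), (40, 0x20000), (49, 0xc), (51, 0xe), (52, 0x4)],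
  C16.good 0x5a214248090582 [30, 38, 45, 54] (ST.node (ST.node (ST.node (ST.node (ST.leaf 15646) (ST.leaf 3044)) (ST.node (ST.leaf 826) (ST.leaf 15652))) (ST.node (ST.node (ST.leaf 15648) (ST.leaf 1682)) (ST.node (ST.leaf 1684) (ST.leaf 15642)))) (ST.node (ST.node (ST.node (ST.leaf 15640) (ST.leaf 1686)) (ST.node (ST.leaf 1680) (ST.leaf 15650))) (ST.node (ST.node (ST.leaf 15654) (ST.leaf 824)) (ST.node (ST.leaf 3046) (ST.leaf 15644))))) [(1, 0x2b), (7, 0x54), (8, 0xcd), (10, 0x300), (16, 0x91d), (19, 0x44), (27, 0x100), (33, 0x14d), (40, 0x20000), (49, 0x141), (51, 0x3c), (52, 0x159)],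
  C16.good 0x5a218184a00524 [31, 39, 45, 54] (ST.node (ST.node (ST.node (ST.node (ST.leaf 15934) (ST.leaf 984)) (ST.node (ST.leaf 3466) (ST.leaf 15924))) (ST.node (ST.node (ST.leaf 15920) (ST.leaf 1946)) (ST.node (ST.leaf 1940) (ST.leaf 15930)))) (ST.node (ST.node (ST.node (ST.leaf 15928) (ST.leaf 1942)) (ST.node (ST.leaf 1944) (ST.leaf 15922))) (ST.node (ST.node (ST.leaf 15926) (ST.leaf 3464)) (ST.node (ST.leaf 986) (ST.leaf 15932))))) [(2, 0x80d), (5, 0x862), (8, 0x180), (10, 0x200), (21, 0x109), (23, 0x840), (26, 0x100), (32, 0x10000), (40, 0x20000), (49, 0x908), (51, 0x143), (52, 0x149)],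
  C16.good 0x5a441422069041 [29, 36, 46, 54] (ST.node (ST.node (ST.node (ST.node (ST.leaf 15192) (ST.leaf 1270)) (ST.node (ST.leaf 1264) (ST.leaf 15202))) (ST.node (ST.node (ST.leaf 15206) (ST.leaf 568)) (ST.node (ST.leaf 2374) (ST.leaf 15196)))) (ST.node (ST.node (ST.node (ST.leaf 15198) (ST.leaf 2372)) (ST.node (ST.leaf 570) (ST.leaf 15204))) (ST.node (ST.node (ST.leaf 15200) (ST.leaf 1266)) (ST.node (ST.leaf 1268) (ST.leaf 15194))))) [(0, 0x23b), (6, 0x244), (12, 0x6b2), (15, 0x80), (17, 0x12a4), (18, 0x222e), (25, 0x22), (34, 0xb2), (42, 0x2a2), (49, 0x22e), (51, 0x2bc), (52, 0x26)],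
  C16.good 0x5a442811509018 [28, 37, 46, 54] (ST.node (ST.node (ST.node (ST.node (ST.leaf 762) (ST.leaf 15540)) (ST.node (ST.leaf 15534) (ST.leaf 2876))) (ST.node (ST.node (ST.leaf 1580) (ST.leaf 15530)) (ST.node (ST.leaf 15536) (ST.leaf 1578)))) (ST.node (ST.node (ST.node (ST.leaf 1576) (ST.leaf 15538)) (ST.node (ST.leaf 15528) (ST.leaf 1582))) (ST.node (ST.node (ST.leaf 2878) (ST.leaf 15532)) (ST.node (ST.leaf 15542) (ST.leaf 760))))) [(3, 0x389), (4, 0x3d4), (12, 0x600), (15, 0x180), (20, 0x4307), (22, 0x244), (24, 0x8000), (35, 0x100), (42, 0x380), (49, 0x3c1), (51, 0x3c3), (52, 0x4)],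
  C16.good 0x5a444248a09024 [30, 38, 46, 54] (ST.node (ST.node (ST.node (ST.node (ST.leaf 3296) (ST.leaf 15814)) (ST.node (ST.leaf 15820) (ST.leaf 922))) (ST.node (ST.node (ST.leaf 1838) (ST.leaf 15816)) (ST.node (ST.leaf 15810) (ST.leaf 1840)))) (ST.node (ST.node (ST.node (ST.leaf 1842) (ST.leaf 15808)) (ST.node (ST.leaf 15818) (ST.leaf 1836))) (ST.node (ST.node (ST.leaf 920) (ST.leaf 15822)) (ST.node (ST.leaf 15812) (ST.leaf 3298))))) [(2, 0xa1d), (5, 0xa62), (12, 0x790), (15, 0x10), (21, 0x389), (23, 0xad0), (27, 0x100), (33, 0x190), (42, 0x310), (49, 0xb08), (51, 0x353), (52, 0x159)],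
  C16.good 0x5a448184099082 [31, 39, 46, 54] (ST.node (ST.node (ST.node (ST.node (ST.leaf 600) (ST.leaf 15262)) (ST.node (ST.leaf 15252) (ST.leaf 2458))) (ST.node (ST.node (ST.leaf 1322) (ST.leaf 15248)) (ST.node (ST.leaf 15258) (ST.leaf 1316)))) (ST.node (ST.node (ST.node (ST.leaf 1318) (ST.leaf 15256)) (ST.node (ST.leaf 15250) (ST.leaf 1320))) (ST.node (ST.node (ST.leaf 2456) (ST.leaf 15254)) (ST.node (ST.leaf 15260) (ST.leaf 602))))) [(1, 0x2ab), (7, 0x2d4), (12, 0x600), (15, 0x4d), (16, 0xa1d), (19, 0x289), (26, 0xcd), (32, 0x10000), (42, 0x24d), (49, 0x20c), (51, 0x2bc), (52, 0x94)],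
  C16.good 0x5a881422a06024 [29, 36, 47, 54] (ST.node (ST.node (ST.node (ST.node (ST.leaf 15472) (ST.leaf 1530)) (ST.node (ST.leaf 1524) (ST.leaf 15482))) (ST.node (ST.node (ST.leaf 15486) (ST.leaf 728)) (ST.node (ST.leaf 2794) (ST.leaf 15476)))) (ST.node (ST.node (ST.node (ST.leaf 15478) (ST.leaf 2792)) (ST.node (ST.leaf 730) (ST.leaf 15484))) (ST.node (ST.node (ST.leaf 15480) (ST.leaf 1526)) (ST.node (ST.leaf 1528) (ST.leaf 15474))))) [(2, 0xc9d), (5, 0xce2), (13, 0x80), (14, 0x410), (21, 0x489), (23, 0x11cb), (25, 0x500), (34, 0x1d1b), (43, 0x188b), (49, 0xc88), (51, 0x543), (52, 0x18d2)],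
  C16.good 0x5a882811096082 [28, 37, 47, 54] (ST.node (ST.node (ST.node (ST.node (ST.leaf 1216) (ST.leaf 15138)) (ST.node (ST.leaf 15144) (ST.leaf 1214))) (ST.node (ST.node (ST.leaf 538) (ST.leaf 15148)) (ST.node (ST.leaf 15142) (ST.leaf 2288)))) (ST.node (ST.node (ST.node (ST.leaf 2290) (ST.leaf 15140)) (ST.node (ST.leaf 15150) (ST.leaf 536))) (ST.node (ST.node (ST.leaf 1212) (ST.leaf 15146)) (ST.node (ST.leaf 15136) (ST.leaf 1218))))) [(1, 0x7ab), (7, 0x799), (13, 0x580), (14, 0x200), (16, 0xc9d), (19, 0x189), (24, 0x8000), (35, 0x500), (43, 0x380), (49, 0x78c), (51, 0x3c), (52, 0x394)],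
  C16.good 0x5a884248066041 [30, 38, 47, 54] (ST.node (ST.node (ST.node (ST.node (ST.leaf 1370) (ST.leaf 15312)) (ST.node (ST.leaf 15306) (ST.leaf 1372))) (ST.node (ST.node (ST.leaf 2540) (ST.leaf 15310)) (ST.node (ST.leaf 15316) (ST.leaf 634)))) (ST.node (ST.node (ST.node (ST.leaf 632) (ST.leaf 15318)) (ST.node (ST.leaf 15308) (ST.leaf 2542))) (ST.node (ST.node (ST.leaf 1374) (ST.leaf 15304)) (ST.node (ST.leaf 15314) (ST.leaf 1368))))) [(0, 0x4bb), (6, 0x4c4), (13, 0xb2), (14, 0x422), (17, 0x14b4), (18, 0x249c), (27, 0x532), (33, 0x500), (43, 0xa2), (49, 0x19c), (51, 0x3c), (52, 0x5b6)],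
  C16.good 0x5a888184506018 [31, 39, 47, 54] (ST.node (ST.node (ST.node (ST.node (ST.leaf 1890) (ST.leaf 15872)) (ST.node (ST.leaf 15866) (ST.leaf 1892))) (ST.node (ST.node (ST.leaf 3380) (ST.leaf 15870)) (ST.node (ST.leaf 15876) (ST.leaf 954)))) (ST.node (ST.node (ST.node (ST.leaf 952) (ST.leaf 15878)) (ST.node (ST.leaf 15868) (ST.leaf 3382))) (ST.node (ST.node (ST.leaf 1894) (ST.leaf 15864)) (ST.node (ST.leaf 15874) (ST.leaf 1888))))) [(3, 0x2ab), (4, 0x2d4), (13, 0x3a2), (14, 0x200), (20, 0x4187), (22, 0x2e6), (26, 0x322), (32, 0x10000), (43, 0x380), (49, 0x1e3), (51, 0x361), (52, 0x84)],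
  C16.good 0x60185512428406 [28, 38, 44, 54] (ST.node (ST.node (ST.node (ST.node (ST.leaf 2436) (ST.leaf 4158)) (ST.node (ST.leaf 4152) (ST.leaf 2434))) (ST.node (ST.node (ST.leaf 1306) (ST.leaf 2428)) (ST.node (ST.leaf 4146) (ST.leaf 2420)))) (ST.node (ST.node (ST.node (ST.leaf 2422) (ST.leaf 4144)) (ST.node (ST.leaf 2430) (ST.leaf 1304))) (ST.node (ST.node (ST.leaf 2432) (ST.leaf 4154)) (ST.node (ST.leaf 4156) (ST.leaf 2438))))) [(1, 0x84a), (2, 0x80d), (10, 0xa89), (15, 0xc11), (17, 0x1c10), (22, 0x99), (25, 0x809), (32, 0x10859), (34, 0x4c8), (36, 0xc91), (43, 0x841), (53, 0x818)],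
  C16.good 0x60185a88818450 [31, 38, 44, 54] (ST.node (ST.node (ST.node (ST.node (ST.leaf 5582) (ST.leaf 3396)) (ST.node (ST.leaf 5574) (ST.leaf 8204))) (ST.node (ST.node (ST.leaf 8216) (ST.leaf 5590)) (ST.node (ST.leaf 5584) (ST.leaf 8214)))) (ST.node (ST.node (ST.node (ST.leaf 8212) (ST.leaf 5586)) (ST.node (ST.leaf 5588) (ST.leaf 8218))) (ST.node (ST.node (ST.leaf 8206) (ST.leaf 5572)) (ST.node (ST.leaf 3398) (ST.leaf 5580))))) [(4, 0x3c), (6, 0x43), (10, 0x83a0), (15, 0x800a), (16, 0x88a8), (23, 0x8181), (27, 0x8000), (33, 0x8185), (35, 0xa5), (36, 0x81aa), (43, 0xf), (53, 0x8029)],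
  C16.good 0x60186644288409 [30, 38, 44, 54] (ST.node (ST.node (ST.node (ST.node (ST.leaf 2744) (ST.leaf 4622)) (ST.node (ST.leaf 7060) (ST.leaf 4614))) (ST.node (ST.node (ST.leaf 4630) (ST.leaf 7072)) (ST.node (ST.leaf 7070) (ST.leaf 4624)))) (ST.node (ST.node (ST.node (ST.leaf 4626) (ST.leaf 7068)) (ST.node (ST.leaf 7074) (ST.leaf 4628))) (ST.node (ST.node (ST.leaf 4612) (ST.leaf 7062)) (ST.node (ST.leaf 4620) (ST.leaf 2746))))) [(0, 0x401), (3, 0x47e), (10, 0xaf6), (15, 0xd76), (19, 0xdf2), (21, 0xe6), (26, 0x442), (33, 0x9b4), (34, 0x4f0), (37, 0x580), (43, 0x432), (53, 0x56)],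
  C16.good 0x601869211484a0 [29, 38, 44, 54] (ST.node (ST.node (ST.node (ST.node (ST.leaf 10035) (ST.leaf 7437)) (ST.node (ST.leaf 4943) (ST.leaf 7445))) (ST.node (ST.node (ST.leaf 10041) (ST.leaf 7451)) (ST.node (ST.leaf 7453) (ST.leaf 10047)))) (ST.node (ST.node (ST.node (ST.leaf 10045) (ST.leaf 7455)) (ST.node (ST.leaf 7449) (ST.leaf 10043))) (ST.node (ST.node (ST.leaf 7447) (ST.leaf 4941)) (ST.node (ST.leaf 7439) (ST.leaf 10033))))) [(5, 0x2b), (7, 0x4), (10, 0x38f), (15, 0xa), (18, 0x208c), (20, 0x410f), (24, 0x8000), (32, 0x1010f), (35, 0x8a), (37, 0x185), (43, 0xf), (53, 0x6)],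
  C16.good 0x601896211484a0 [29, 39, 44, 54] (ST.node (ST.node (ST.node (ST.node (ST.leaf 10176) (ST.leaf 7586)) (ST.node (ST.leaf 5064) (ST.leaf 7594))) (ST.node (ST.node (ST.leaf 10186) (ST.leaf 7596)) (ST.node (ST.leaf 7602) (ST.leaf 10188)))) (ST.node (ST.node (ST.node (ST.leaf 10190) (ST.leaf 7600)) (ST.node (ST.leaf 7598) (ST.leaf 10184))) (ST.node (ST.node (ST.leaf 7592) (ST.leaf 5066)) (ST.node (ST.leaf 7584) (ST.leaf 10178))))) [(5, 0x3c), (7, 0x43), (10, 0x21d), (15, 0x45f), (18, 0x2453), (20, 0x4047), (24, 0x8000), (33, 0x47), (34, 0x455), (36, 0x442), (43, 0xf), (53, 0x56)],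
  C16.good 0x60189944288409 [30, 39, 44, 54] (ST.node (ST.node (ST.node (ST.node (ST.leaf 4505) (ST.leaf 6927)) (ST.node (ST.leaf 6921) (ST.leaf 4503))) (ST.node (ST.node (ST.leaf 2663) (ST.leaf 4497)) (ST.node (ST.leaf 6915) (ST.leaf 4489)))) (ST.node (ST.node (ST.node (ST.leaf 4491) (ST.leaf 6913)) (ST.node (ST.leaf 4499) (ST.leaf 2661))) (ST.node (ST.node (ST.leaf 4501) (ST.leaf 6923)) (ST.node (ST.leaf 6925) (ST.leaf 4507))))) [(0, 0x181), (3, 0x1fe), (10, 0x7b2), (15, 0x32), (19, 0x1c6), (21, 0x416), (26, 0x1c2), (32, 0x10170), (35, 0x4f0), (36, 0x580), (43, 0x1b2), (53, 0x56)],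
  C16.good 0x6018a588818450 [31, 39, 44, 54] (ST.node (ST.node (ST.node (ST.node (ST.leaf 8057) (ST.leaf 5451)) (ST.node (ST.leaf 3313) (ST.leaf 5459))) (ST.node (ST.node (ST.leaf 8067) (ST.leaf 5461)) (ST.node (ST.leaf 5467) (ST.leaf 8069)))) (ST.node (ST.node (ST.node (ST.leaf 8071) (ST.leaf 5465)) (ST.node (ST.leaf 5463) (ST.leaf 8065))) (ST.node (ST.node (ST.leaf 5457) (ST.leaf 3315)) (ST.node (ST.leaf 5449) (ST.leaf 8059))))) [(4, 0x3c), (6, 0x43), (10, 0x2328), (15, 0x2008), (16, 0x92d), (23, 0x4), (27, 0x202d), (32, 0x12122), (34, 0x2f), (37, 0x210d), (43, 0xf), (53, 0x2004)],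
  C16.good 0x6018aa12428406 [28, 39, 44, 54] (ST.node (ST.node (ST.node (ST.node (ST.leaf 2353) (ST.leaf 4035)) (ST.node (ST.leaf 4029) (ST.leaf 2351))) (ST.node (ST.node (ST.leaf 1255) (ST.leaf 2345)) (ST.node (ST.leaf 4023) (ST.leaf 2337)))) (ST.node (ST.node (ST.node (ST.leaf 2339) (ST.leaf 4021)) (ST.node (ST.leaf 2347) (ST.leaf 1253))) (ST.node (ST.node (ST.leaf 2349) (ST.leaf 4031)) (ST.node (ST.leaf 4033) (ST.leaf 2355))))) [(1, 0x2b), (2, 0x54), (10, 0x3c8), (15, 0x448), (17, 0x1081), (22, 0x469), (25, 0x68), (33, 0x38), (35, 0x4f0), (37, 0x5e8), (43, 0x18), (53, 0x41)],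
  C16.good 0x60245512282209 [28, 38, 45, 54] (ST.node (ST.node (ST.node (ST.node (ST.leaf 2504) (ST.leaf 4270)) (ST.node (ST.leaf 2512) (ST.leaf 1358))) (ST.node (ST.node (ST.leaf 2518) (ST.leaf 4276)) (ST.node (ST.leaf 4282) (ST.leaf 2520)))) (ST.node (ST.node (ST.node (ST.leaf 2522) (ST.leaf 4280)) (ST.node (ST.leaf 4278) (ST.leaf 2516))) (ST.node (ST.node (ST.leaf 1356) (ST.leaf 2514)) (ST.node (ST.leaf 4268) (ST.leaf 2506))))) [(0, 0x33), (3, 0x4c), (9, 0x1b2), (13, 0x2f0), (19, 0x10d4), (21, 0x12b6), (25, 0x1220), (32, 0x10242), (34, 0x32), (36, 0x270), (42, 0x1250), (53, 0x26)],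
  C16.good 0x60245a881422a0 [31, 38, 45, 54] (ST.node (ST.node (ST.node (ST.node (ST.leaf 4716) (ST.leaf 7178)) (ST.node (ST.leaf 7180) (ST.leaf 4722))) (ST.node (ST.node (ST.leaf 4706) (ST.leaf 7168)) (ST.node (ST.leaf 4714) (ST.leaf 2808)))) (ST.node (ST.node (ST.node (ST.leaf 2810) (ST.leaf 4712)) (ST.node (ST.leaf 7170) (ST.leaf 4704))) (ST.node (ST.node (ST.leaf 4720) (ST.leaf 7182)) (ST.node (ST.leaf 7176) (ST.leaf 4718))))) [(5, 0x33), (7, 0x4c), (9, 0x81cd), (13, 0x8005), (18, 0xa0dc), (20, 0xc098), (27, 0x8000), (33, 0x804d), (35, 0xda), (36, 0x8012), (42, 0xf), (53, 0x8059)],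
  C16.good 0x60246644422206 [30, 38, 45, 54] (ST.node (ST.node (ST.node (ST.node (ST.leaf 3878) (ST.leaf 2240)) (ST.node (ST.leaf 3870) (ST.leaf 6172))) (ST.node (ST.node (ST.leaf 6184) (ST.leaf 3886)) (ST.node (ST.leaf 3880) (ST.leaf 6182)))) (ST.node (ST.node (ST.node (ST.leaf 6180) (ST.leaf 3882)) (ST.node (ST.leaf 3884) (ST.leaf 6186))) (ST.node (ST.node (ST.leaf 6174) (ST.leaf 3868)) (ST.node (ST.leaf 2242) (ST.leaf 3876))))) [(1, 0x33), (2, 0x4c), (9, 0x318), (13, 0x450), (17, 0x1469), (22, 0x2441), (26, 0x2460), (33, 0x2078), (34, 0x438), (37, 0x2610), (42, 0x2410), (53, 0x2439)],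
  C16.good 0x60246921812250 [29, 38, 45, 54] (ST.node (ST.node (ST.node (ST.node (ST.leaf 7899) (ST.leaf 10477)) (ST.node (ST.leaf 10475) (ST.leaf 7893))) (ST.node (ST.node (ST.leaf 5313) (ST.leaf 7891)) (ST.node (ST.leaf 10465) (ST.leaf 7883)))) (ST.node (ST.node (ST.node (ST.leaf 7881) (ST.leaf 10467)) (ST.node (ST.leaf 7889) (ST.leaf 5315))) (ST.node (ST.node (ST.leaf 7895) (ST.leaf 10473)) (ST.node (ST.leaf 10479) (ST.leaf 7897))))) [(4, 0x13), (6, 0x4c), (9, 0x38f), (13, 0x5), (16, 0xa8d), (23, 0x1), (24, 0x8000), (32, 0x1028a), (35, 0x85), (37, 0x20f), (42, 0xf), (53, 0x6)],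
  C16.good 0x60249621812250 [29, 39, 45, 54] (ST.node (ST.node (ST.node (ST.node (ST.leaf 10320) (ST.leaf 7734)) (ST.node (ST.leaf 5188) (ST.leaf 7742))) (ST.node (ST.node (ST.leaf 10330) (ST.leaf 7744)) (ST.node (ST.leaf 7750) (ST.leaf 10332)))) (ST.node (ST.node (ST.node (ST.leaf 10334) (ST.leaf 7748)) (ST.node (ST.leaf 7746) (ST.leaf 10328))) (ST.node (ST.node (ST.leaf 7740) (ST.leaf 5190)) (ST.node (ST.leaf 7732) (ST.leaf 10322))))) [(4, 0x33), (6, 0x4c), (9, 0x30a), (13, 0x42f), (16, 0xc2d), (23, 0x22e), (24, 0x8000), (33, 0x605), (34, 0x42a), (36, 0x20f), (42, 0xf), (53, 0x26)]]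

set_option Elab.async false in
theorem c16_10_ok : c16_10.all (chkC16 ent 16240 pbsD colsD) = true := by decide +kernel

end Cfsg.Agent.Helper2.RuL
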