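import Cfsg.Agent.Helper2.RuL.Chk4
import Cfsg.Agent.Helper2.RuL.Tab

/-! Certificates for the weight-16 words of the parity code, chunk 12 (helper2; generated). -/

set_option autoImplicit false
set_option maxRecDepth 100000

namespace Cfsg.Agent.Helper2.RuL

open Cfsg.Agent.Helper5.RuLat

def c16_12 : List C16 := [
  C16.good 0x6a5900650000a9 [30, 46, 51, 53, 54] (ST.node (ST.node (ST.node (ST.node (ST.node (ST.leaf 459) (ST.leaf 14947)) (ST.node (ST.leaf 439) (ST.leaf 15031))) (ST.node (ST.node (ST.leaf 479) (ST.leaf 14975)) (ST.node (ST.leaf 419) (ST.leaf 15003)))) (ST.node (ST.node (ST.node (ST.leaf 15007) (ST.leaf 14953)) (ST.node (ST.leaf 14979) (ST.leaf 15037))) (ST.node (ST.node (ST.leaf 15035) (ST.leaf 14981)) (ST.node (ST.leaf 14951) (ST.leaf 15009))))) (ST.node (ST.node (ST.node (ST.node (ST.leaf 15011) (ST.leaf 14949)) (ST.node (ST.leaf 14983) (ST.leaf 15033))) (ST.node (ST.node (ST.leaf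 15039) (ST.leaf 14977)) (ST.node (ST.leaf 14955) (ST.leaf 15005)))) (ST.node (ST.node (ST.node (ST.leaf 15001) (ST.leaf 417)) (ST.node (ST.leaf 14973) (ST.leaf 477))) (ST.node (ST.node (ST.leaf 15029) (ST.leaf 437)) (ST.node (ST.leaf 14945) (ST.leaf 457)))))) [(0, 0x17), (3, 0x11e), (5, 0x1a2), (7, 0x84), (24, 0xa086), (26, 0x194), (29, 0x2112), (40, 0x20094), (43, 0x2092), (44, 0x2006), (49, 0x6)],
  C16.good 0x6a59009a000056 [31, 46, 51, 53, 54] (ST.node (ST.node (ST.node (ST.node (ST.node (ST.leaf 120) (ST.leaf 13252)) (ST.node (ST.leaf 13290) (ST.leaf 13380))) (ST.node (ST.node (ST.leaf 13386) (ST.leaf 110)) (ST.node (ST.leaf 13250) (ST.leaf 13332)))) (ST.node (ST.node (ST.node (ST.leaf 13336) (ST.leaf 13246)) (ST.node (ST.leaf 13296) (ST.leaf 132))) (ST.node (ST.node (ST.leaf 13376) (ST.leaf 13294)) (ST.node (ST.leaf 98) (ST.leaf 13342))))) (ST.node (ST.node (ST.node (ST.node (ST.leaf 13340) (ST.leaf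 96)) (ST.node (ST.leaf 13292) (ST.leaf 13378))) (ST.node (ST.node (ST.leaf 134) (ST.leaf 13298)) (ST.node (ST.leaf 13244) (ST.leaf 13338)))) (ST.node (ST.node (ST.node (ST.leaf 13334) (ST.leaf 13248)) (ST.node (ST.leaf 108) (ST.leaf 13384))) (ST.node (ST.node (ST.leaf 13382) (ST.leaf 13288)) (ST.node (ST.leaf 13254) (ST.leaf 122)))))) [(1, 0x3a2), (2, 0x284), (4, 0x38), (6, 0x161), (25, 0x221), (27, 0x309), (28, 0x328), (40, 0x20209), (43, 0x2a8), (44, 0xa1), (49, 0x229)],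
  C16.bad 0x6a59009a0000a9 0x780,
  C16.bad 0x6a590f003c0000 0x580,
  C16.bad 0x6a590f00c30000 0x7f,
  C16.bad 0x6a59f0003c0000 0x7f,
  C16.bad 0x6a59f000c30000 0x780,
  C16.good 0x6aa60065000056 [30, 47, 51, 53, 54] (ST.node (ST.node (ST.node (ST.node (ST.node (ST.leaf 13396) (ST.leaf 13302)) (ST.node (ST.leaf 13256) (ST.leaf 13354))) (ST.node (ST.node (ST.leaf 13348) (ST.leaf 100)) (ST.node (ST.leaf 114) (ST.leaf 13394)))) (ST.node (ST.node (ST.node (ST.leaf 13390) (ST.leaf 13308)) (ST.node (ST.leaf 13266) (ST.leaf 13344))) (ST.node (ST.node (ST.leaf 124) (ST.leaf 13260)) (ST.node (ST.leaf 13306) (ST.leaf 138))))) (ST.node (ST.node (ST.node (ST.node (ST.leaf 136) (ST.leaf 13304)) (ST.node (ST.leaf 13262) (ST.leaf 126))) (ST.node (ST.node (ST.leaf 13346) (ST.leaf 13264)) (ST.node (ST.leaf 13310) (ST.leaf 13388)))) (ST.node (ST.node (ST.node (ST.leaf 13392) (ST.leaf 112)) (ST.node (ST.leaf 102) (ST.leaf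 13350))) (ST.node (ST.node (ST.leaf 13352) (ST.leaf 13258)) (ST.node (ST.leaf 13300) (ST.leaf 13398)))))) [(1, 0x83), (2, 0x1a5), (4, 0x319), (6, 0x240), (24, 0x81a1), (26, 0x209), (29, 0x3a8), (41, 0x309), (42, 0x28), (45, 0x121), (49, 0x229)],
  C16.bad 0x6aa600650000a9 0x780,
  C16.bad 0x6aa6009a000056 0x780,
  C16.good 0x6aa6009a0000a9 [31, 47, 51, 53, 54] (ST.node (ST.node (ST.node (ST.node (ST.node (ST.leaf 11239) (ST.leaf 11133)) (ST.node (ST.leaf 11087) (ST.leaf 11189))) (ST.node (ST.node (ST.leaf 11195) (ST.leaf 11089)) (ST.node (ST.leaf 9) (ST.leaf 19)))) (ST.node (ST.node (ST.node (ST.leaf 11245) (ST.leaf 11143)) (ST.node (ST.leaf 7) (ST.leaf 13))) (ST.node (ST.node (ST.leaf 11185) (ST.leaf 11083)) (ST.node (ST.leaf 11137) (ST.leaf 11243))))) (ST.node (ST.node (ST.node (ST.node (ST.leaf 11241) (ST.leaf 11139)) (ST.node (ST.leaf 11081) (ST.leaf 11187))) (ST.node (ST.node (ST.leaf 15) (ST.leaf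 5)) (ST.node (ST.leaf 11141) (ST.leaf 11247)))) (ST.node (ST.node (ST.node (ST.leaf 17) (ST.leaf 11)) (ST.node (ST.leaf 11091) (ST.leaf 11193))) (ST.node (ST.node (ST.leaf 11191) (ST.leaf 11085)) (ST.node (ST.leaf 11135) (ST.leaf 11237)))))) [(0, 0x3053), (3, 0x310a), (5, 0x30e6), (7, 0x31c0), (25, 0x31c4), (27, 0x114), (28, 0x2092), (41, 0x14), (42, 0x3000), (45, 0x2106), (49, 0x106)],
  C16.bad 0x6aa60f003c0000 0x7f,
  C16.bad 0x6aa60f00c30000 0x780,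
  C16.bad 0x6aa6f0003c0000 0x780,
  C16.bad 0x6aa6f000c30000 0x7f,
  C16.good 0x8111060a246621 [27, 34, 44, 55] (ST.node (ST.node (ST.node (ST.node (ST.leaf 13082) (ST.leaf 13056)) (ST.node (ST.leaf 13066) (ST.leaf 13076))) (ST.node (ST.node (ST.leaf 10856) (ST.leaf 13074)) (ST.node (ST.leaf 13060) (ST.leaf 13070)))) (ST.node (ST.node (ST.node (ST.leaf 13068) (ST.leaf 13062)) (ST.node (ST.leaf 13072) (ST.leaf 10858))) (ST.node (ST.node (ST.leaf 13078) (ST.leaf 13064)) (ST.node (ST.leaf 13058) (ST.leaf 13080))))) [(0, 0x15), (5, 0x26), (9, 0x50e), (10, 0x61e), (13, 0xa), (14, 0x404), (18, 0x2014), (21, 0x416), (25, 0x1a), (33, 0x14), (40, 0x20000), (48, 0x40000)],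
  C16.good 0x8111060a249921 [27, 34, 44, 55] (ST.node (ST.node (ST.node (ST.node (ST.leaf 12937) (ST.leaf 12947)) (ST.node (ST.leaf 10713) (ST.leaf 12951))) (ST.node (ST.node (ST.leaf 12943) (ST.leaf 12953)) (ST.node (ST.leaf 12959) (ST.leaf 12933)))) (ST.node (ST.node (ST.node (ST.leaf 12935) (ST.leaf 12957)) (ST.node (ST.leaf 12955) (ST.leaf 12941))) (ST.node (ST.node (ST.leaf 12949) (ST.leaf 10715)) (ST.node (ST.leaf 12945) (ST.leaf 12939))))) [(0, 0x15), (5, 0x26), (8, 0x94), (11, 0x100), (12, 0x50e), (15, 0xa), (18, 0x211e), (21, 0x18), (25, 0x1a), (33, 0x11e), (40, 0x20000), (48, 0x40000)],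
  C16.good 0x81110990186688 [31, 35, 44, 55] (ST.node (ST.node (ST.node (ST.node (ST.leaf 13180) (ST.leaf 13206)) (ST.node (ST.leaf 13200) (ST.leaf 13190))) (ST.node (ST.node (ST.leaf 13198) (ST.leaf 11000)) (ST.node (ST.leaf 13194) (ST.leaf 13184)))) (ST.node (ST.node (ST.node (ST.leaf 13186) (ST.leaf 13192)) (ST.node (ST.leaf 11002) (ST.leaf 13196))) (ST.node (ST.node (ST.leaf 13188) (ST.leaf 13202)) (ST.node (ST.leaf 13204) (ST.leaf 13182))))) [(3, 0x28), (7, 0x26), (9, 0x124), (10, 0x2a4), (13, 0xa7), (14, 0x83), (19, 0x85), (20, 0x4000), (28, 0x27), (32, 0x10000), (40, 0x20000), (48, 0x40000)],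
  C16.good 0x81110990189988 [31, 35, 44, 55] (ST.node (ST.node (ST.node (ST.node (ST.leaf 8843) (ST.leaf 11337)) (ST.node (ST.leaf 11327) (ST.leaf 11333))) (ST.node (ST.node (ST.leaf 11345) (ST.leaf 11323)) (ST.node (ST.leaf 11329) (ST.leaf 11343)))) (ST.node (ST.node (ST.node (ST.leaf 11341) (ST.leaf 11331)) (ST.node (ST.leaf 11321) (ST.leaf 11347))) (ST.node (ST.node (ST.leaf 11335) (ST.leaf 11325)) (ST.node (ST.leaf 11339) (ST.leaf 8841))))) [(3, 0x18), (7, 0x2), (8, 0x83), (11, 0x100), (12, 0x514), (15, 0x114), (19, 0x106), (20, 0x4000), (28, 0x17), (32, 0x10000), (40, 0x20000), (48, 0x40000)],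
  C16.good 0x81115060826644 [30, 38, 44, 55] (ST.node (ST.node (ST.node (ST.node (ST.leaf 12436) (ST.leaf 12462)) (ST.node (ST.leaf 12456) (ST.leaf 12446))) (ST.node (ST.node (ST.leaf 12454) (ST.leaf 10136)) (ST.node (ST.leaf 12450) (ST.leaf 12440)))) (ST.node (ST.node (ST.node (ST.leaf 12442) (ST.leaf 12448)) (ST.node (ST.leaf 10138) (ST.leaf 12452))) (ST.node (ST.node (ST.leaf 12444) (ST.leaf 12458)) (ST.node (ST.leaf 12460) (ST.leaf 12438))))) [(2, 0xf), (6, 0x59), (9, 0x119), (10, 0x209), (13, 0x10), (14, 0x83), (17, 0x1000), (23, 0x1), (29, 0x1a), (36, 0x8a), (40, 0x20000), (48, 0x40000)],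
  C16.good 0x81115060829944 [30, 38, 44, 55] (ST.node (ST.node (ST.node (ST.node (ST.leaf 12563) (ST.leaf 12585)) (ST.node (ST.leaf 12583) (ST.leaf 12569))) (ST.node (ST.node (ST.leaf 12577) (ST.leaf 10283)) (ST.node (ST.leaf 12573) (ST.leaf 12567)))) (ST.node (ST.node (ST.node (ST.leaf 12565) (ST.leaf 12575)) (ST.node (ST.leaf 10281) (ST.leaf 12579))) (ST.node (ST.node (ST.leaf 12571) (ST.leaf 12581)) (ST.node (ST.leaf 12587) (ST.leaf 12561))))) [(2, 0xf), (6, 0x59), (8, 0x83), (11, 0x4011), (12, 0x4412), (15, 0x10), (17, 0x1000), (23, 0x4000), (29, 0x1a), (36, 0x4018), (40, 0x20000), (48, 0x40000)],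
  C16.good 0x8111a005416612 [26, 39, 44, 55] (ST.node (ST.node (ST.node (ST.node (ST.leaf 11698) (ST.leaf 11704)) (ST.node (ST.leaf 9274) (ST.leaf 11708))) (ST.node (ST.node (ST.leaf 11700) (ST.leaf 11714)) (ST.node (ST.leaf 11716) (ST.leaf 11694)))) (ST.node (ST.node (ST.node (ST.leaf 11692) (ST.leaf 11718)) (ST.node (ST.leaf 11712) (ST.leaf 11702))) (ST.node (ST.node (ST.leaf 11710) (ST.leaf 9272)) (ST.node (ST.leaf 11706) (ST.leaf 11696))))) [(1, 0xf), (4, 0x15), (9, 0x410c), (10, 0x4208), (13, 0x4), (14, 0x9), (16, 0x4801), (22, 0x1), (24, 0x8000), (37, 0x4001), (40, 0x20000), (48, 0x40000)],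
  C16.good 0x8111a005419912 [26, 39, 44, 55] (ST.node (ST.node (ST.node (ST.node (ST.leaf 11839) (ST.leaf 11825)) (ST.node (ST.leaf 11819) (ST.leaf 11841))) (ST.node (ST.node (ST.leaf 11829) (ST.leaf 11823)) (ST.node (ST.leaf 11833) (ST.leaf 9419)))) (ST.node (ST.node (ST.node (ST.leaf 9417) (ST.leaf 11835)) (ST.node (ST.leaf 11821) (ST.leaf 11831))) (ST.node (ST.node (ST.leaf 11843) (ST.leaf 11817)) (ST.node (ST.leaf 11827) (ST.leaf 11837))))) [(1, 0x2), (4, 0x15), (8, 0x384), (11, 0x4), (12, 0x700), (15, 0x300), (16, 0x904), (22, 0x305), (24, 0x8000), (37, 0x104), (40, 0x20000), (48, 0x40000)],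
  C16.good 0x8122060a826944 [27, 34, 45, 55] (ST.node (ST.node (ST.node (ST.node (ST.leaf 14089) (ST.leaf 14099)) (ST.node (ST.leaf 12149) (ST.leaf 14103))) (ST.node (ST.node (ST.leaf 14095) (ST.leaf 14105)) (ST.node (ST.leaf 14111) (ST.leaf 14085)))) (ST.node (ST.node (ST.node (ST.leaf 14087) (ST.leaf 14109)) (ST.node (ST.leaf 14107) (ST.leaf 14093))) (ST.node (ST.node (ST.leaf 14101) (ST.leaf 12151)) (ST.node (ST.leaf 14097) (ST.leaf 14091))))) [(2, 0x15), (6, 0x6a), (8, 0x590), (11, 0x403), (13, 0x39), (14, 0x509), (17, 0x1000), (23, 0x51b), (25, 0x1a), (33, 0x12a), (41, 0x33), (48, 0x40000)],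
  C16.good 0x8122060a829644 [27, 34, 45, 55] (ST.node (ST.node (ST.node (ST.node (ST.leaf 14188) (ST.leaf 14202)) (ST.node (ST.leaf 14204) (ST.leaf 14182))) (ST.node (ST.node (ST.leaf 14186) (ST.leaf 14192)) (ST.node (ST.leaf 12274) (ST.leaf 14196)))) (ST.node (ST.node (ST.node (ST.leaf 14198) (ST.leaf 12272)) (ST.node (ST.leaf 14194) (ST.leaf 14184))) (ST.node (ST.node (ST.leaf 14180) (ST.leaf 14206)) (ST.node (ST.leaf 14200) (ST.leaf 14190))))) [(2, 0x15), (6, 0x6a), (9, 0x133), (10, 0x210), (12, 0x403), (15, 0x39), (17, 0x1000), (23, 0x2b), (25, 0x1a), (33, 0x20), (41, 0x33), (48, 0x40000)],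
  C16.good 0x81220990416912 [31, 35, 45, 55] (ST.node (ST.node (ST.node (ST.node (ST.leaf 13911) (ST.leaf 11901)) (ST.node (ST.leaf 13907) (ST.leaf 13897))) (ST.node (ST.node (ST.leaf 13893) (ST.leaf 13919)) (ST.node (ST.leaf 13913) (ST.leaf 13903)))) (ST.node (ST.node (ST.node (ST.leaf 13901) (ST.leaf 13915)) (ST.node (ST.leaf 13917) (ST.leaf 13895))) (ST.node (ST.node (ST.leaf 13899) (ST.leaf 13905)) (ST.node (ST.leaf 11903) (ST.leaf 13909))))) [(1, 0x112a), (4, 0x1130), (8, 0x11a1), (11, 0x1028), (13, 0x102c), (14, 0x1008), (16, 0x190c), (22, 0x1000), (28, 0x1125), (32, 0x10000), (41, 0x110c), (48, 0x40000)],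
  C16.good 0x81220990419612 [31, 35, 45, 55] (ST.node (ST.node (ST.node (ST.node (ST.leaf 12024) (ST.leaf 14006)) (ST.node (ST.leaf 13992) (ST.leaf 14002))) (ST.node (ST.node (ST.leaf 14014) (ST.leaf 13988)) (ST.node (ST.leaf 13998) (ST.leaf 14008)))) (ST.node (ST.node (ST.node (ST.leaf 14010) (ST.leaf 13996)) (ST.node (ST.leaf 13990) (ST.leaf 14012))) (ST.node (ST.node (ST.leaf 14000) (ST.leaf 13994)) (ST.node (ST.leaf 14004) (ST.leaf 12026))))) [(1, 0x1083), (4, 0x1099), (9, 0x1181), (10, 0x1201), (12, 0x1408), (15, 0x1008), (16, 0x1881), (22, 0x1000), (28, 0x1088), (32, 0x10000), (41, 0x1081), (48, 0x40000)],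
  C16.good 0x81225060246921 [30, 38, 45, 55] (ST.node (ST.node (ST.node (ST.node (ST.leaf 14583) (ST.leaf 12769)) (ST.node (ST.leaf 14579) (ST.leaf 14569))) (ST.node (ST.node (ST.leaf 14565) (ST.leaf 14591)) (ST.node (ST.leaf 14585) (ST.leaf 14575)))) (ST.node (ST.node (ST.node (ST.leaf 14573) (ST.leaf 14587)) (ST.node (ST.leaf 14589) (ST.leaf 14567))) (ST.node (ST.node (ST.leaf 14571) (ST.leaf 14577)) (ST.node (ST.leaf 12771) (ST.leaf 14581))))) [(0, 0xf), (5, 0x70), (8, 0x992), (11, 0x58), (13, 0x46), (14, 0x85e), (18, 0x2916), (21, 0x140), (29, 0x1a), (36, 0x916), (41, 0x56), (48, 0x40000)],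
  C16.good 0x81225060249621 [30, 38, 45, 55] (ST.node (ST.node (ST.node (ST.node (ST.leaf 14482) (ST.leaf 14472)) (ST.node (ST.leaf 14486) (ST.leaf 12644))) (ST.node (ST.node (ST.leaf 14488) (ST.leaf 14478)) (ST.node (ST.leaf 14468) (ST.leaf 14494)))) (ST.node (ST.node (ST.node (ST.leaf 14492) (ST.leaf 14470)) (ST.node (ST.leaf 14476) (ST.leaf 14490))) (ST.node (ST.node (ST.leaf 12646) (ST.leaf 14484)) (ST.node (ST.leaf 14474) (ST.leaf 14480))))) [(0, 0xf), (5, 0x6e), (9, 0x18a), (10, 0x2cc), (12, 0x480), (15, 0x46), (18, 0x20c2), (21, 0x8c), (29, 0x4), (36, 0xc2), (41, 0x48), (48, 0x40000)],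
  C16.good 0x8122a005186988 [26, 39, 45, 55] (ST.node (ST.node (ST.node (ST.node (ST.leaf 13611) (ST.leaf 13617)) (ST.node (ST.leaf 11531) (ST.leaf 13621))) (ST.node (ST.node (ST.leaf 13613) (ST.leaf 13627)) (ST.node (ST.leaf 13629) (ST.leaf 13607)))) (ST.node (ST.node (ST.node (ST.leaf 13605) (ST.leaf 13631)) (ST.node (ST.leaf 13625) (ST.leaf 13615))) (ST.node (ST.node (ST.leaf 13623) (ST.leaf 11529)) (ST.node (ST.leaf 13619) (ST.leaf 13609))))) [(3, 0xf), (7, 0x15), (8, 0x3a7), (11, 0x27), (13, 0x300), (14, 0x324), (19, 0x336), (20, 0x4103), (24, 0x8000), (37, 0x130), (41, 0x33), (48, 0x40000)],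
  C16.good 0x8122a005189688 [26, 39, 45, 55] (ST.node (ST.node (ST.node (ST.node (ST.leaf 11406) (ST.leaf 13524)) (ST.node (ST.leaf 13514) (ST.leaf 13520))) (ST.node (ST.node (ST.leaf 13532) (ST.leaf 13510)) (ST.node (ST.leaf 13516) (ST.leaf 13530)))) (ST.node (ST.node (ST.node (ST.leaf 13528) (ST.leaf 13518)) (ST.node (ST.leaf 13508) (ST.leaf 13534))) (ST.node (ST.node (ST.leaf 13522) (ST.leaf 13512)) (ST.node (ST.leaf 13526) (ST.leaf 11404))))) [(3, 0xf), (7, 0x15), (9, 0x911), (10, 0xa12), (12, 0x403), (15, 0x3), (19, 0x11), (20, 0x4811), (24, 0x8000), (37, 0x806), (41, 0x17), (48, 0x40000)],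
  C16.good 0x8148060a185588 [27, 34, 46, 55] (ST.node (ST.node (ST.node (ST.node (ST.leaf 10438) (ST.leaf 10444)) (ST.node (ST.leaf 7870) (ST.leaf 10448))) (ST.node (ST.node (ST.leaf 10440) (ST.leaf 10454)) (ST.node (ST.leaf 10456) (ST.leaf 10434)))) (ST.node (ST.node (ST.node (ST.leaf 10432) (ST.leaf 10458)) (ST.node (ST.leaf 10452) (ST.leaf 10442))) (ST.node (ST.node (ST.leaf 10450) (ST.leaf 7868)) (ST.node (ST.leaf 10446) (ST.leaf 10436))))) [(3, 0x6a), (7, 0x15), (8, 0xa7), (10, 0x217), (12, 0x403), (14, 0x41), (19, 0x60), (20, 0x4027), (25, 0x56), (33, 0x27), (43, 0x33), (48, 0x40000)],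
  C16.good 0x8148060a18aa88 [27, 34, 46, 55] (ST.node (ST.node (ST.node (ST.node (ST.leaf 8017) (ST.leaf 10595)) (ST.node (ST.leaf 10581) (ST.leaf 10591))) (ST.node (ST.node (ST.leaf 10603) (ST.leaf 10577)) (ST.node (ST.leaf 10587) (ST.leaf 10597)))) (ST.node (ST.node (ST.node (ST.leaf 10599) (ST.leaf 10585)) (ST.node (ST.leaf 10579) (ST.leaf 10601))) (ST.node (ST.node (ST.leaf 10589) (ST.leaf 10583)) (ST.node (ST.leaf 10593) (ST.leaf 8019))))) [(3, 0x6a), (7, 0x15), (9, 0x571), (11, 0x403), (13, 0x41), (15, 0x655), (19, 0x674), (20, 0x4271), (25, 0x56), (33, 0x271), (43, 0x33), (48, 0x40000)],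
  C16.good 0x81480990245521 [31, 35, 46, 55] (ST.node (ST.node (ST.node (ST.node (ST.leaf 8996) (ST.leaf 9006)) (ST.node (ST.leaf 6388) (ST.leaf 9010))) (ST.node (ST.node (ST.leaf 9002) (ST.leaf 9012)) (ST.node (ST.leaf 9018) (ST.leaf 8992)))) (ST.node (ST.node (ST.node (ST.leaf 8994) (ST.leaf 9016)) (ST.node (ST.leaf 9014) (ST.leaf 9000))) (ST.node (ST.node (ST.leaf 9008) (ST.leaf 6390)) (ST.node (ST.leaf 9004) (ST.leaf 8998))))) [(0, 0x43), (5, 0x32), (8, 0xd2), (10, 0x342), (12, 0x500), (14, 0x110), (18, 0x2000), (21, 0x112), (28, 0x52), (32, 0x10000), (43, 0x10), (48, 0x40000)],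
  C16.good 0x8148099024aa21 [31, 35, 46, 55] (ST.node (ST.node (ST.node (ST.node (ST.leaf 6539) (ST.leaf 9153)) (ST.node (ST.leaf 9143) (ST.leaf 9149))) (ST.node (ST.node (ST.leaf 9161) (ST.leaf 9139)) (ST.node (ST.leaf 9145) (ST.leaf 9159)))) (ST.node (ST.node (ST.node (ST.leaf 9157) (ST.leaf 9147)) (ST.node (ST.leaf 9137) (ST.leaf 9163))) (ST.node (ST.node (ST.leaf 9151) (ST.leaf 9141)) (ST.node (ST.leaf 9155) (ST.leaf 6537))))) [(0, 0x43), (5, 0x3c), (9, 0x11e), (11, 0xdc), (13, 0xd8), (15, 0xd2), (18, 0x2000), (21, 0xda), (28, 0x56), (32, 0x10000), (43, 0x1a), (48, 0x40000)],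
  C16.good 0x81485060415512 [30, 38, 46, 55] (ST.node (ST.node (ST.node (ST.node (ST.leaf 7426) (ST.leaf 10016)) (ST.node (ST.leaf 10006) (ST.leaf 10012))) (ST.node (ST.node (ST.leaf 10024) (ST.leaf 10002)) (ST.node (ST.leaf 10008) (ST.leaf 10022)))) (ST.node (ST.node (ST.node (ST.leaf 10020) (ST.leaf 10010)) (ST.node (ST.leaf 10000) (ST.leaf 10026))) (ST.node (ST.node (ST.leaf 10014) (ST.leaf 10004)) (ST.node (ST.leaf 10018) (ST.leaf 7424))))) [(1, 0x47), (4, 0x11), (8, 0x20cd), (10, 0x241), (12, 0x40d), (14, 0x2008), (16, 0x2801), (22, 0x49), (29, 0x4), (36, 0x2049), (43, 0x48), (48, 0x40000)],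
  C16.good 0x8148506041aa12 [30, 38, 46, 55] (ST.node (ST.node (ST.node (ST.node (ST.leaf 9881) (ST.leaf 9859)) (ST.node (ST.leaf 9865) (ST.leaf 9879))) (ST.node (ST.node (ST.leaf 7279) (ST.leaf 9873)) (ST.node (ST.leaf 9863) (ST.leaf 9869)))) (ST.node (ST.node (ST.node (ST.leaf 9871) (ST.leaf 9861)) (ST.node (ST.leaf 9875) (ST.leaf 7277))) (ST.node (ST.node (ST.leaf 9877) (ST.leaf 9867)) (ST.node (ST.leaf 9857) (ST.leaf 9883))))) [(1, 0x60b), (4, 0x65d), (9, 0x5c1), (11, 0x284), (13, 0x4c8), (15, 0x40d), (16, 0xa8d), (22, 0x8c), (29, 0x648), (36, 0x489), (43, 0x604), (48, 0x40000)],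
  C16.good 0x8148a005825544 [26, 39, 46, 55] (ST.node (ST.node (ST.node (ST.node (ST.leaf 9712) (ST.leaf 9738)) (ST.node (ST.leaf 9732) (ST.leaf 9722))) (ST.node (ST.node (ST.leaf 9730) (ST.leaf 7128)) (ST.node (ST.leaf 9726) (ST.leaf 9716)))) (ST.node (ST.node (ST.node (ST.leaf 9718) (ST.leaf 9724)) (ST.node (ST.leaf 7130) (ST.leaf 9728))) (ST.node (ST.node (ST.leaf 9720) (ST.leaf 9734)) (ST.node (ST.leaf 9736) (ST.leaf 9714))))) [(2, 0x15), (6, 0x43), (8, 0x80), (10, 0x310), (12, 0x403), (14, 0x13), (17, 0x1010), (23, 0x11), (24, 0x8000), (37, 0x103), (43, 0x10), (48, 0x40000)],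
  C16.good 0x8148a00582aa44 [26, 39, 46, 55] (ST.node (ST.node (ST.node (ST.node (ST.leaf 9593) (ST.leaf 9571)) (ST.node (ST.leaf 9577) (ST.leaf 9591))) (ST.node (ST.node (ST.leaf 6983) (ST.leaf 9585)) (ST.node (ST.leaf 9575) (ST.leaf 9581)))) (ST.node (ST.node (ST.node (ST.leaf 9583) (ST.leaf 9573)) (ST.node (ST.leaf 9587) (ST.leaf 6981))) (ST.node (ST.node (ST.leaf 9589) (ST.leaf 9579)) (ST.node (ST.leaf 9569) (ST.leaf 9595))))) [(2, 0x15), (6, 0x43), (9, 0x310), (11, 0x13), (13, 0x2002), (15, 0x2008), (17, 0x101a), (23, 0x2000), (24, 0x8000), (37, 0x221b), (43, 0x1a), (48, 0x40000)],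
  C16.good 0x8184060a415a12 [27, 34, 47, 55] (ST.node (ST.node (ST.node (ST.node (ST.leaf 12424) (ST.leaf 12414)) (ST.node (ST.leaf 12404) (ST.leaf 12430))) (ST.node (ST.node (ST.leaf 12418) (ST.leaf 12408)) (ST.node (ST.leaf 12422) (ST.leaf 10100)))) (ST.node (ST.node (ST.node (ST.leaf 10102) (ST.leaf 12420)) (ST.node (ST.leaf 12410) (ST.leaf 12416))) (ST.node (ST.node (ST.leaf 12428) (ST.leaf 12406)) (ST.node (ST.leaf 12412) (ST.leaf 12426))))) [(1, 0x26), (4, 0x15), (9, 0x329), (11, 0x289), (12, 0x680), (14, 0xa0), (16, 0x800), (22, 0x81), (25, 0x84), (33, 0x209), (42, 0xad), (48, 0x40000)],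
  C16.good 0x8184060a41a512 [27, 34, 47, 55] (ST.node (ST.node (ST.node (ST.node (ST.leaf 12549) (ST.leaf 12539)) (ST.node (ST.leaf 12529) (ST.leaf 12555))) (ST.node (ST.node (ST.leaf 12543) (ST.leaf 12533)) (ST.node (ST.leaf 12547) (ST.leaf 10245)))) (ST.node (ST.node (ST.node (ST.leaf 10247) (ST.leaf 12545)) (ST.node (ST.leaf 12535) (ST.leaf 12541))) (ST.node (ST.node (ST.leaf 12553) (ST.leaf 12531)) (ST.node (ST.leaf 12537) (ST.leaf 12551))))) [(1, 0x26), (4, 0x15), (8, 0x4a9), (10, 0x720), (13, 0x100), (15, 0x509), (16, 0x800), (22, 0x528), (25, 0x124), (33, 0x20), (42, 0x10d), (48, 0x40000)],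
  C16.good 0x81840990825a44 [31, 35, 47, 55] (ST.node (ST.node (ST.node (ST.node (ST.leaf 11672) (ST.leaf 11666)) (ST.node (ST.leaf 11676) (ST.leaf 9238))) (ST.node (ST.node (ST.leaf 11682) (ST.leaf 11668)) (ST.node (ST.leaf 11662) (ST.leaf 11684)))) (ST.node (ST.node (ST.node (ST.leaf 11686) (ST.leaf 11660)) (ST.node (ST.leaf 11670) (ST.leaf 11680))) (ST.node (ST.node (ST.leaf 9236) (ST.leaf 11678)) (ST.node (ST.leaf 11664) (ST.leaf 11674))))) [(2, 0x26), (6, 0x49), (9, 0x120), (11, 0xa3), (12, 0x489), (14, 0x83), (17, 0x100a), (23, 0x81), (28, 0x23), (32, 0x10000), (42, 0xa), (48, 0x40000)],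
  C16.good 0x8184099082a544 [31, 35, 47, 55] (ST.node (ST.node (ST.node (ST.node (ST.leaf 11795) (ST.leaf 11805)) (ST.node (ST.leaf 11811) (ST.leaf 11785))) (ST.node (ST.node (ST.leaf 11789) (ST.leaf 11799)) (ST.node (ST.leaf 9381) (ST.leaf 11803)))) (ST.node (ST.node (ST.node (ST.leaf 11801) (ST.leaf 9383)) (ST.node (ST.leaf 11797) (ST.leaf 11791))) (ST.node (ST.node (ST.leaf 11787) (ST.leaf 11809)) (ST.node (ST.leaf 11807) (ST.leaf 11793))))) [(2, 0x6), (6, 0x59), (8, 0x83), (10, 0x319), (13, 0x100), (15, 0x110), (17, 0x101a), (23, 0x102), (28, 0x13), (32, 0x10000), (42, 0x1a), (48, 0x40000)],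
  C16.good 0x81845060185a88 [30, 38, 47, 55] (ST.node (ST.node (ST.node (ST.node (ST.leaf 13040) (ST.leaf 10822)) (ST.node (ST.leaf 13036) (ST.leaf 13030))) (ST.node (ST.node (ST.leaf 13026) (ST.leaf 13048)) (ST.node (ST.leaf 13046) (ST.leaf 13032)))) (ST.node (ST.node (ST.node (ST.leaf 13034) (ST.leaf 13044)) (ST.node (ST.leaf 13050) (ST.leaf 13024))) (ST.node (ST.node (ST.leaf 13028) (ST.leaf 13038)) (ST.node (ST.leaf 10820) (ST.leaf 13042))))) [(3, 0x59), (7, 0x26), (9, 0x130), (11, 0x27), (12, 0x472), (14, 0x83), (19, 0x36), (20, 0x4056), (29, 0x33), (36, 0x94), (42, 0x56), (48, 0x40000)],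
  C16.good 0x8184506018a588 [30, 38, 47, 55] (ST.node (ST.node (ST.node (ST.node (ST.leaf 12921) (ST.leaf 12911)) (ST.node (ST.leaf 12901) (ST.leaf 12927))) (ST.node (ST.node (ST.leaf 12915) (ST.leaf 12905)) (ST.node (ST.leaf 12919) (ST.leaf 10677)))) (ST.node (ST.node (ST.node (ST.leaf 10679) (ST.leaf 12917)) (ST.node (ST.leaf 12907) (ST.leaf 12913))) (ST.node (ST.node (ST.leaf 12925) (ST.leaf 12903)) (ST.node (ST.leaf 12909) (ST.leaf 12923))))) [(3, 0x59), (7, 0x26), (8, 0x83), (10, 0x1221), (13, 0x1047), (15, 0x27), (19, 0x1056), (20, 0x4056), (29, 0x33), (36, 0x1050), (42, 0x56), (48, 0x40000)],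
  C16.good 0x8184a005245a21 [26, 39, 47, 55] (ST.node (ST.node (ST.node (ST.node (ST.leaf 13160) (ST.leaf 13154)) (ST.node (ST.leaf 13164) (ST.leaf 10966))) (ST.node (ST.node (ST.leaf 13170) (ST.leaf 13156)) (ST.node (ST.leaf 13150) (ST.leaf 13172)))) (ST.node (ST.node (ST.node (ST.leaf 13174) (ST.leaf 13148)) (ST.node (ST.leaf 13158) (ST.leaf 13168))) (ST.node (ST.node (ST.leaf 10964) (ST.leaf 13166)) (ST.node (ST.leaf 13152) (ST.leaf 13162))))) [(0, 0x5), (5, 0x26), (9, 0x30a), (11, 0x4), (12, 0x1402), (14, 0x1008), (18, 0x2000), (21, 0x100a), (24, 0x8000), (37, 0x1206), (42, 0xa), (48, 0x40000)],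
  C16.good 0x8184a00524a521 [26, 39, 47, 55] (ST.node (ST.node (ST.node (ST.node (ST.leaf 11297) (ST.leaf 11311)) (ST.node (ST.leaf 11313) (ST.leaf 11291))) (ST.node (ST.node (ST.leaf 11295) (ST.leaf 11301)) (ST.node (ST.leaf 8807) (ST.leaf 11305)))) (ST.node (ST.node (ST.node (ST.leaf 11307) (ST.leaf 8805)) (ST.node (ST.leaf 11303) (ST.leaf 11293))) (ST.node (ST.node (ST.leaf 11289) (ST.leaf 11315)) (ST.node (ST.leaf 11309) (ST.leaf 11299))))) [(0, 0x15), (5, 0x26), (8, 0x90), (10, 0x30a), (13, 0x4), (15, 0x14), (18, 0x2000), (21, 0x6), (24, 0x8000), (37, 0x104), (42, 0x1a), (48, 0x40000)],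
  C16.good 0x8255121411a060 [28, 36, 46, 55] (ST.node (ST.node (ST.node (ST.node (ST.leaf 1874) (ST.leaf 3340)) (ST.node (ST.leaf 3338) (ST.leaf 1868))) (ST.node (ST.node (ST.leaf 940) (ST.leaf 1866)) (ST.node (ST.leaf 5504) (ST.leaf 3350)))) (ST.node (ST.node (ST.node (ST.leaf 3348) (ST.leaf 5506)) (ST.node (ST.leaf 1864) (ST.leaf 942))) (ST.node (ST.node (ST.leaf 1870) (ST.leaf 3336)) (ST.node (ST.leaf 3342) (ST.leaf 1872))))) [(5, 0x131), (6, 0x14e), (13, 0x17), (15, 0x84), (16, 0x883), (20, 0x419d), (26, 0x194), (33, 0x104), (40, 0x20099), (42, 0x1a), (44, 0x83), (49, 0x102)],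
  C16.good 0x8255214284a090 [30, 37, 46, 55] (ST.node (ST.node (ST.node (ST.node (ST.leaf 750) (ST.leaf 1552)) (ST.node (ST.leaf 4762) (ST.leaf 2844))) (ST.node (ST.node (ST.leaf 1560) (ST.leaf 2838)) (ST.node (ST.leaf 2832) (ST.leaf 1558)))) (ST.node (ST.node (ST.node (ST.leaf 1556) (ST.leaf 2834)) (ST.node (ST.leaf 2836) (ST.leaf 1562))) (ST.node (ST.node (ST.leaf 2846) (ST.leaf 4760)) (ST.node (ST.leaf 1554) (ST.leaf 748))))) [(4, 0x35), (7, 0x4a), (13, 0x16c), (15, 0x180), (18, 0x21cb), (23, 0x1a1), (25, 0xef), (32, 0x10000), (40, 0x200e6), (42, 0x8a), (44, 0x6c), (49, 0x6)],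
  C16.good 0x8255448148a005 [31, 38, 46, 55] (ST.node (ST.node (ST.node (ST.node (ST.leaf 2754) (ST.leaf 1508)) (ST.node (ST.leaf 1506) (ST.leaf 2748))) (ST.node (ST.node (ST.leaf 1500) (ST.leaf 718)) (ST.node (ST.leaf 2760) (ST.leaf 4638)))) (ST.node (ST.node (ST.node (ST.leaf 4636) (ST.leaf 2762)) (ST.node (ST.leaf 716) (ST.leaf 1502))) (ST.node (ST.node (ST.leaf 2750) (ST.leaf 1504)) (ST.node (ST.leaf 1510) (ST.leaf 2752))))) [(0, 0x131), (2, 0x14e), (13, 0x3f2), (15, 0x21a), (19, 0x3d0), (22, 0xda), (24, 0x8000), (34, 0x39a), (40, 0x20172), (42, 0x1a), (44, 0x168), (49, 0x102)],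
  C16.good 0x8255882822a00a [29, 39, 46, 55] (ST.node (ST.node (ST.node (ST.node (ST.leaf 1974) (ST.leaf 3504)) (ST.node (ST.leaf 3510) (ST.leaf 1976))) (ST.node (ST.node (ST.leaf 3516) (ST.leaf 5754)) (ST.node (ST.leaf 1968) (ST.leaf 1006)))) (ST.node (ST.node (ST.node (ST.leaf 1004) (ST.leaf 1970)) (ST.node (ST.leaf 5752) (ST.leaf 3518))) (ST.node (ST.node (ST.leaf 1978) (ST.leaf 3508)) (ST.node (ST.leaf 3506) (ST.leaf 1972))))) [(1, 0x40e6), (3, 0x4099), (13, 0x471), (15, 0x14), (17, 0x10d5), (21, 0x4480), (27, 0x44b5), (35, 0x4425), (40, 0x240a5), (42, 0x44d0), (44, 0x475), (49, 0x40d5)],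
  C16.good 0x825a121422090a [28, 36, 46, 55] (ST.node (ST.node (ST.node (ST.node (ST.leaf 1792) (ST.leaf 3218)) (ST.node (ST.leaf 7904) (ST.leaf 5330))) (ST.node (ST.node (ST.leaf 3226) (ST.leaf 5320)) (ST.node (ST.leaf 5318) (ST.leaf 3220)))) (ST.node (ST.node (ST.node (ST.leaf 3222) (ST.leaf 5316)) (ST.node (ST.leaf 5322) (ST.leaf 3224))) (ST.node (ST.node (ST.leaf 5328) (ST.leaf 7906)) (ST.node (ST.leaf 3216) (ST.leaf 1794))))) [(1, 0x622), (3, 0x65d), (8, 0x84), (11, 0x704), (17, 0x1555), (21, 0x331), (26, 0x614), (33, 0x465), (41, 0x504), (43, 0x65), (44, 0x571), (49, 0x370)],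
  C16.good 0x825a2142480905 [30, 37, 46, 55] (ST.node (ST.node (ST.node (ST.node (ST.leaf 5074) (ST.leaf 3056)) (ST.node (ST.leaf 3054) (ST.leaf 5068))) (ST.node (ST.node (ST.leaf 3048) (ST.leaf 1690)) (ST.node (ST.leaf 5080) (ST.leaf 7610)))) (ST.node (ST.node (ST.node (ST.leaf 7608) (ST.leaf 5082)) (ST.node (ST.leaf 1688) (ST.leaf 3050))) (ST.node (ST.node (ST.leaf 5070) (ST.leaf 3052)) (ST.node (ST.leaf 3058) (ST.leaf 5072))))) [(0, 0x331), (2, 0x34e), (8, 0x1f2), (11, 0x268), (19, 0xb68), (22, 0x140), (25, 0x950), (32, 0x10000), (41, 0x938), (43, 0x94a), (44, 0x31a), (49, 0x370)],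
  C16.good 0x825a4481840990 [31, 38, 46, 55] (ST.node (ST.node (ST.node (ST.node (ST.leaf 2462) (ST.leaf 1324)) (ST.node (ST.leaf 4214) (ST.leaf 6572))) (ST.node (ST.node (ST.leaf 4204) (ST.leaf 2470)) (ST.node (ST.leaf 2464) (ST.leaf 4202)))) (ST.node (ST.node (ST.node (ST.leaf 4200) (ST.leaf 2466)) (ST.node (ST.leaf 2468) (ST.leaf 4206))) (ST.node (ST.node (ST.leaf 6574) (ST.leaf 4212)) (ST.node (ST.leaf 1326) (ST.leaf 2460))))) [(4, 0x453), (7, 0x42c), (8, 0x6ef), (11, 0x66), (18, 0x222d), (23, 0x247), (24, 0x8000), (34, 0x465), (41, 0x266), (43, 0x65), (44, 0x609), (49, 0x663)],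
  C16.good 0x825a8828110960 [29, 39, 46, 55] (ST.node (ST.node (ST.node (ST.node (ST.leaf 2296) (ST.leaf 3954)) (ST.node (ST.leaf 3956) (ST.leaf 2302))) (ST.node (ST.node (ST.leaf 3966) (ST.leaf 6276)) (ST.node (ST.leaf 2294) (ST.leaf 1220)))) (ST.node (ST.node (ST.node (ST.leaf 1222) (ST.leaf 2292)) (ST.node (ST.leaf 6278) (ST.leaf 3964))) (ST.node (ST.node (ST.leaf 2300) (ST.leaf 3958)) (ST.node (ST.leaf 3952) (ST.leaf 2298))))) [(5, 0x212a), (6, 0x2155), (8, 0x2091), (11, 0x2105), (16, 0x919), (20, 0x601f), (27, 0x211c), (35, 0x109), (41, 0x17), (43, 0x2106), (44, 0x2101), (49, 0x8)],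
  C16.good 0x82661214485005 [28, 36, 46, 55] (ST.node (ST.node (ST.node (ST.node (ST.leaf 4120) (ST.leaf 6466)) (ST.node (ST.leaf 2396) (ST.leaf 1286))) (ST.node (ST.node (ST.leaf 2402) (ST.leaf 4108)) (ST.node (ST.leaf 4114) (ST.leaf 2404)))) (ST.node (ST.node (ST.node (ST.leaf 2406) (ST.leaf 4112)) (ST.node (ST.leaf 4110) (ST.leaf 2400))) (ST.node (ST.node (ST.leaf 1284) (ST.leaf 2398)) (ST.node (ST.leaf 6464) (ST.leaf 4122))))) [(0, 0x1039), (2, 0x1046), (12, 0x1492), (14, 0x1160), (19, 0x41e2), (22, 0x1da), (26, 0x5048), (33, 0x1e8), (41, 0x4028), (42, 0x1a), (45, 0x5120), (49, 0x102)],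
  C16.good 0x8266214222500a [30, 37, 46, 55] (ST.node (ST.node (ST.node (ST.node (ST.leaf 4360) (ST.leaf 2574)) (ST.node (ST.leaf 2568) (ST.leaf 4358))) (ST.node (ST.node (ST.leaf 2566) (ST.leaf 1388)) (ST.node (ST.leaf 4370) (ST.leaf 6760)))) (ST.node (ST.node (ST.node (ST.leaf 6762) (ST.leaf 4368)) (ST.node (ST.leaf 1390) (ST.leaf 2564))) (ST.node (ST.node (ST.leaf 4356) (ST.leaf 2570)) (ST.node (ST.leaf 2572) (ST.leaf 4362))))) [(1, 0x32), (3, 0x4d), (12, 0x571), (14, 0x114), (17, 0x11d5), (21, 0x1a1), (25, 0x4), (32, 0x10000), (41, 0x14), (42, 0x61), (45, 0x80), (49, 0x95)],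
  C16.good 0x82664481115060 [31, 38, 46, 55] (ST.node (ST.node (ST.node (ST.node (ST.leaf 4982) (ST.leaf 2992)) (ST.node (ST.leaf 2990) (ST.leaf 4976))) (ST.node (ST.node (ST.leaf 2984) (ST.leaf 1650)) (ST.node (ST.leaf 4988) (ST.leaf 7502)))) (ST.node (ST.node (ST.node (ST.leaf 7500) (ST.leaf 4990)) (ST.node (ST.leaf 1648) (ST.leaf 2986))) (ST.node (ST.node (ST.leaf 4978) (ST.leaf 2988)) (ST.node (ST.leaf 2994) (ST.leaf 4980))))) [(5, 0x23b), (6, 0x240), (12, 0x690), (14, 0x83), (16, 0x810), (20, 0x4203), (24, 0x8000), (34, 0x209), (41, 0x219), (42, 0x1a), (45, 0x80), (49, 0x91)],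
  C16.good 0x82668828845090 [29, 39, 46, 55] (ST.node (ST.node (ST.node (ST.node (ST.leaf 3152) (ST.leaf 1754)) (ST.node (ST.leaf 5236) (ST.leaf 7798))) (ST.node (ST.node (ST.leaf 5230) (ST.leaf 3160)) (ST.node (ST.leaf 3158) (ST.leaf 5224)))) (ST.node (ST.node (ST.node (ST.leaf 5226) (ST.leaf 3156)) (ST.node (ST.leaf 3162) (ST.leaf 5228))) (ST.node (ST.node (ST.leaf 7796) (ST.leaf 5238)) (ST.node (ST.leaf 1752) (ST.leaf 3154))))) [(4, 0x181b), (7, 0x1864), (12, 0xcc4), (14, 0x8a1), (18, 0x3028), (23, 0x1860), (27, 0x182d), (35, 0x100f), (41, 0x6f), (42, 0x1848), (45, 0x8a2), (49, 0x10e5)],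
  C16.good 0x82691214840690 [28, 36, 46, 55] (ST.node (ST.node (ST.node (ST.node (ST.leaf 5681) (ST.leaf 8323)) (ST.node (ST.leaf 8317) (ST.leaf 5679))) (ST.node (ST.node (ST.leaf 3463) (ST.leaf 5673)) (ST.node (ST.leaf 10895) (ST.leaf 8329)))) (ST.node (ST.node (ST.node (ST.leaf 8331) (ST.leaf 10893)) (ST.node (ST.leaf 5675) (ST.leaf 3461))) (ST.node (ST.node (ST.leaf 5677) (ST.leaf 8319)) (ST.node (ST.leaf 8321) (ST.leaf 5683))))) [(4, 0x1033), (7, 0x1046), (9, 0x1160), (10, 0x1606), (18, 0x3022), (23, 0x422), (26, 0x1005), (33, 0x465), (40, 0x21463), (43, 0x65), (45, 0x1406), (49, 0x463)],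
  C16.good 0x82692142110660 [30, 37, 46, 55] (ST.node (ST.node (ST.node (ST.node (ST.leaf 4557) (ST.leaf 2707)) (ST.node (ST.leaf 6997) (ST.leaf 9599))) (ST.node (ST.node (ST.leaf 6991) (ST.leaf 4565)) (ST.node (ST.leaf 4563) (ST.leaf 6985)))) (ST.node (ST.node (ST.node (ST.leaf 6987) (ST.leaf 4561)) (ST.node (ST.leaf 4567) (ST.leaf 6989))) (ST.node (ST.node (ST.leaf 9597) (ST.leaf 6999)) (ST.node (ST.leaf 2705) (ST.leaf 4559))))) [(5, 0x32), (6, 0x47), (9, 0x114), (10, 0x217), (16, 0x814), (20, 0x4000), (25, 0x4), (32, 0x10000), (40, 0x20007), (43, 0x14), (45, 0x13), (49, 0x6)],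
  C16.good 0x8269448122060a [31, 38, 46, 55] (ST.node (ST.node (ST.node (ST.node (ST.leaf 9741) (ST.leaf 7147)) (ST.node (ST.leaf 2789) (ST.leaf 4683))) (ST.node (ST.node (ST.leaf 7135) (ST.leaf 4685)) (ST.node (ST.leaf 4691) (ST.leaf 7137)))) (ST.node (ST.node (ST.node (ST.leaf 7139) (ST.leaf 4689)) (ST.node (ST.leaf 4687) (ST.leaf 7133))) (ST.node (ST.node (ST.leaf 4681) (ST.leaf 2791)) (ST.node (ST.leaf 7145) (ST.leaf 9743))))) [(1, 0x43), (3, 0x38), (9, 0x110), (10, 0x280), (17, 0x10a0), (21, 0xa1), (24, 0x8000), (34, 0x71), (40, 0x200e1), (43, 0x61), (45, 0x80), (49, 0x91)],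
  C16.good 0x82698828480605 [29, 39, 46, 55] (ST.node (ST.node (ST.node (ST.node (ST.leaf 5425) (ST.leaf 3295)) (ST.node (ST.leaf 8033) (ST.leaf 10607))) (ST.node (ST.node (ST.leaf 8027) (ST.leaf 5433)) (ST.node (ST.leaf 5431) (ST.leaf 8021)))) (ST.node (ST.node (ST.node (ST.leaf 8023) (ST.leaf 5429)) (ST.node (ST.leaf 5435) (ST.leaf 8025))) (ST.node (ST.node (ST.leaf 10605) (ST.leaf 8035)) (ST.node (ST.leaf 3293) (ST.leaf 5427))))) [(0, 0x43), (2, 0x3c), (9, 0x217a), (10, 0x22e0), (19, 0x38), (22, 0x20ba), (27, 0x2088), (35, 0x2060), (40, 0x220fa), (43, 0x2092), (45, 0x68), (49, 0x208a)],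
  C16.good 0x82961214840690 [28, 36, 47, 55] (ST.node (ST.node (ST.node (ST.node (ST.leaf 3822) (ST.leaf 6100)) (ST.node (ST.leaf 6098) (ST.leaf 3816))) (ST.node (ST.node (ST.leaf 2200) (ST.leaf 3814)) (ST.node (ST.leaf 8732) (ST.leaf 6110)))) (ST.node (ST.node (ST.node (ST.leaf 6108) (ST.leaf 8734)) (ST.node (ST.leaf 3812) (ST.leaf 2202))) (ST.node (ST.node (ST.leaf 3818) (ST.leaf 6096)) (ST.node (ST.leaf 6102) (ST.leaf 3820))))) [(4, 0x450), (7, 0x42f), (9, 0x509), (10, 0x289), (18, 0x24c2), (23, 0x4ab), (26, 0x466), (33, 0x465), (41, 0xec), (42, 0x65), (44, 0x83), (49, 0x48f)],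
  C16.good 0x82962142110660 [30, 37, 47, 55] (ST.node (ST.node (ST.node (ST.node (ST.leaf 6848) (ST.leaf 9454)) (ST.node (ST.leaf 4432) (ST.leaf 2622))) (ST.node (ST.node (ST.leaf 4438) (ST.leaf 6836)) (ST.node (ST.leaf 6842) (ST.leaf 4440)))) (ST.node (ST.node (ST.node (ST.leaf 4442) (ST.leaf 6840)) (ST.node (ST.leaf 6838) (ST.leaf 4436))) (ST.node (ST.node (ST.leaf 2620) (ST.leaf 4434)) (ST.node (ST.leaf 9452) (ST.leaf 6850))))) [(5, 0x35), (6, 0x4a), (9, 0x113), (10, 0x20e), (16, 0x813), (20, 0x400a), (25, 0x3), (32, 0x10000), (41, 0x14), (42, 0x19), (44, 0x7), (49, 0x12)],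
  C16.good 0x8296448122060a [31, 38, 47, 55] (ST.node (ST.node (ST.node (ST.node (ST.leaf 9886) (ST.leaf 7292)) (ST.node (ST.leaf 2874) (ST.leaf 4804))) (ST.node (ST.node (ST.leaf 7280) (ST.leaf 4810)) (ST.node (ST.leaf 4812) (ST.leaf 7286)))) (ST.node (ST.node (ST.node (ST.leaf 7284) (ST.leaf 4814)) (ST.node (ST.leaf 4808) (ST.leaf 7282))) (ST.node (ST.node (ST.leaf 4806) (ST.leaf 2872)) (ST.node (ST.leaf 7294) (ST.leaf 9884))))) [(1, 0x453), (3, 0x42c), (9, 0x110), (10, 0x614), (17, 0x1045), (21, 0x450), (24, 0x8000), (34, 0x465), (41, 0x471), (42, 0x65), (44, 0x4), (49, 0x11)],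
  C16.good 0x82968828480605 [29, 39, 47, 55] (ST.node (ST.node (ST.node (ST.node (ST.leaf 5554) (ST.leaf 8168)) (ST.node (ST.leaf 8174) (ST.leaf 5556))) (ST.node (ST.node (ST.leaf 8180) (ST.leaf 10750)) (ST.node (ST.leaf 5548) (ST.leaf 3378)))) (ST.node (ST.node (ST.node (ST.leaf 3376) (ST.leaf 5550)) (ST.node (ST.leaf 10748) (ST.leaf 8182))) (ST.node (ST.node (ST.leaf 5558) (ST.leaf 8172)) (ST.node (ST.leaf 8170) (ST.leaf 5552))))) [(0, 0x40f1), (2, 0x408e), (9, 0x1e8), (10, 0x272), (19, 0x10c2), (22, 0x40f2), (27, 0x1088), (35, 0x4040), (41, 0x68), (42, 0x1092), (44, 0x5048), (49, 0x40aa)],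
  C16.good 0x82991214485005 [28, 36, 47, 55] (ST.node (ST.node (ST.node (ST.node (ST.leaf 2315) (ST.leaf 1233)) (ST.node (ST.leaf 3999) (ST.leaf 6317))) (ST.node (ST.node (ST.leaf 3989) (ST.leaf 2323)) (ST.node (ST.leaf 2317) (ST.leaf 3987)))) (ST.node (ST.node (ST.node (ST.leaf 3985) (ST.leaf 2319)) (ST.node (ST.leaf 2321) (ST.leaf 3991))) (ST.node (ST.node (ST.leaf 6319) (ST.leaf 3997)) (ST.node (ST.leaf 1235) (ST.leaf 2313))))) [(0, 0x131), (2, 0x14e), (12, 0x580), (14, 0x68), (19, 0x1ca), (22, 0x810), (26, 0x8a2), (33, 0x1f2), (40, 0x209ca), (43, 0x1a), (44, 0x9d0), (49, 0x118)],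
  C16.good 0x8299214222500a [30, 37, 47, 55] (ST.node (ST.node (ST.node (ST.node (ST.leaf 1337) (ST.leaf 2483)) (ST.node (ST.leaf 6613) (ST.leaf 4247))) (ST.node (ST.node (ST.leaf 2491) (ST.leaf 4237)) (ST.node (ST.leaf 4235) (ST.leaf 2485)))) (ST.node (ST.node (ST.node (ST.leaf 2487) (ST.leaf 4233)) (ST.node (ST.leaf 4239) (ST.leaf 2489))) (ST.node (ST.node (ST.leaf 4245) (ST.leaf 6615)) (ST.node (ST.leaf 2481) (ST.leaf 1339))))) [(1, 0x47), (3, 0x38), (12, 0x504), (14, 0x161), (17, 0x1141), (21, 0x140), (25, 0x71), (32, 0x10000), (40, 0x20061), (43, 0x14), (44, 0x75), (49, 0x60)],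
  C16.good 0x82994481115060 [31, 38, 47, 55] (ST.node (ST.node (ST.node (ST.node (ST.leaf 7649) (ST.leaf 5115)) (ST.node (ST.leaf 1701) (ST.leaf 3071))) (ST.node (ST.node (ST.leaf 5103) (ST.leaf 3073)) (ST.node (ST.leaf 3079) (ST.leaf 5105)))) (ST.node (ST.node (ST.node (ST.leaf 5107) (ST.leaf 3077)) (ST.node (ST.leaf 3075) (ST.leaf 5101))) (ST.node (ST.node (ST.leaf 3069) (ST.leaf 1703)) (ST.node (ST.leaf 5113) (ST.leaf 7651))))) [(5, 0x38), (6, 0x47), (12, 0x40d), (14, 0x19), (16, 0x810), (20, 0x4004), (24, 0x8000), (34, 0xe), (40, 0x2001e), (43, 0x1a), (44, 0x4), (49, 0x11)],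
  C16.good 0x82998828845090 [29, 39, 47, 55] (ST.node (ST.node (ST.node (ST.node (ST.leaf 1807) (ST.leaf 3237)) (ST.node (ST.leaf 7947) (ST.leaf 5361))) (ST.node (ST.node (ST.leaf 3245) (ST.leaf 5355)) (ST.node (ST.leaf 5349) (ST.leaf 3243)))) (ST.node (ST.node (ST.node (ST.leaf 3241) (ST.leaf 5351)) (ST.node (ST.leaf 5353) (ST.leaf 3247))) (ST.node (ST.node (ST.leaf 5363) (ST.leaf 7945)) (ST.node (ST.leaf 3239) (ST.leaf 1805))))) [(4, 0x40f1), (7, 0x408e), (12, 0x44c4), (14, 0x40a1), (18, 0x6060), (23, 0x47), (27, 0x40c7), (35, 0x8a), (40, 0x2006f), (43, 0x40a2), (44, 0x40cd), (49, 0x60)],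
  C16.good 0x82a5121422090a [28, 36, 47, 55] (ST.node (ST.node (ST.node (ST.node (ST.leaf 3135) (ST.leaf 1741)) (ST.node (ST.leaf 5207) (ST.leaf 7757))) (ST.node (ST.node (ST.leaf 5197) (ST.leaf 3143)) (ST.node (ST.leaf 3137) (ST.leaf 5195)))) (ST.node (ST.node (ST.node (ST.leaf 5193) (ST.leaf 3139)) (ST.node (ST.leaf 3141) (ST.leaf 5199))) (ST.node (ST.node (ST.leaf 7759) (ST.leaf 5205)) (ST.node (ST.leaf 1743) (ST.leaf 3133))))) [(1, 0x2127), (3, 0x2148), (8, 0x22e0), (11, 0x2001), (17, 0x3225), (21, 0x344), (26, 0x2101), (33, 0x104), (40, 0x22201), (42, 0x65), (45, 0x2264), (49, 0x360)],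
  C16.good 0x82a52142480905 [30, 37, 47, 55] (ST.node (ST.node (ST.node (ST.node (ST.leaf 7461) (ST.leaf 4959)) (ST.node (ST.leaf 1637) (ST.leaf 2967))) (ST.node (ST.node (ST.leaf 4947) (ST.leaf 2969)) (ST.node (ST.leaf 2975) (ST.leaf 4949)))) (ST.node (ST.node (ST.node (ST.leaf 4951) (ST.leaf 2973)) (ST.node (ST.leaf 2971) (ST.leaf 4945))) (ST.node (ST.node (ST.leaf 2965) (ST.leaf 1639)) (ST.node (ST.leaf 4957) (ST.leaf 7463))))) [(0, 0x59), (2, 0x26), (8, 0x29a), (11, 0x100), (19, 0x250), (22, 0x132), (25, 0x372), (32, 0x10000), (40, 0x20072), (42, 0x368), (45, 0x31a), (49, 0x370)],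
  C16.good 0x82a54481840990 [31, 38, 47, 55] (ST.node (ST.node (ST.node (ST.node (ST.leaf 2555) (ST.leaf 4329)) (ST.node (ST.leaf 4327) (ST.leaf 2549))) (ST.node (ST.node (ST.leaf 1377) (ST.leaf 2547)) (ST.node (ST.leaf 6721) (ST.leaf 4339)))) (ST.node (ST.node (ST.node (ST.leaf 4337) (ST.leaf 6723)) (ST.node (ST.leaf 2545) (ST.leaf 1379))) (ST.node (ST.node (ST.leaf 2551) (ST.leaf 4325)) (ST.node (ST.leaf 4331) (ST.leaf 2553))))) [(4, 0x59), (7, 0x26), (8, 0x83), (11, 0x16f), (18, 0x2127), (23, 0x14d), (24, 0x8000), (34, 0x6f), (40, 0x20109), (42, 0x65), (45, 0x16c), (49, 0x106)],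
  C16.good 0x82a58828110960 [29, 39, 47, 55] (ST.node (ST.node (ST.node (ST.node (ST.leaf 4083) (ST.leaf 2385)) (ST.node (ST.leaf 2383) (ST.leaf 4077))) (ST.node (ST.node (ST.leaf 2377) (ST.leaf 1275)) (ST.node (ST.leaf 4089) (ST.leaf 6427)))) (ST.node (ST.node (ST.node (ST.leaf 6425) (ST.leaf 4091)) (ST.node (ST.leaf 1273) (ST.leaf 2379))) (ST.node (ST.node (ST.leaf 4079) (ST.leaf 2381)) (ST.node (ST.leaf 2387) (ST.leaf 4081))))) [(5, 0x112d), (6, 0x1142), (8, 0x187), (11, 0x4), (16, 0x180f), (20, 0x410e), (27, 0x110b), (35, 0x100f), (40, 0x21106), (42, 0x1101), (45, 0x7), (49, 0x1109)],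
  C16.good 0x82aa121411a060 [28, 36, 47, 55] (ST.node (ST.node (ST.node (ST.node (ST.leaf 973) (ST.leaf 1919)) (ST.node (ST.leaf 5629) (ST.leaf 3435))) (ST.node (ST.node (ST.leaf 1927) (ST.leaf 3425)) (ST.node (ST.leaf 3423) (ST.leaf 1921)))) (ST.node (ST.node (ST.node (ST.leaf 1923) (ST.leaf 3421)) (ST.node (ST.leaf 3427) (ST.leaf 1925))) (ST.node (ST.node (ST.leaf 3433) (ST.leaf 5631)) (ST.node (ST.leaf 1917) (ST.leaf 975))))) [(5, 0x122e), (6, 0x1251), (13, 0x1308), (15, 0x111f), (16, 0xa07), (20, 0x411e), (26, 0x100f), (33, 0x303), (41, 0x21d), (43, 0x1a), (45, 0x1102), (49, 0x118)],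
  C16.good 0x82aa214284a090 [30, 37, 47, 55] (ST.node (ST.node (ST.node (ST.node (ST.leaf 4885) (ST.leaf 2931)) (ST.node (ST.leaf 781) (ST.leaf 1607))) (ST.node (ST.node (ST.leaf 2919) (ST.leaf 1609)) (ST.node (ST.leaf 1615) (ST.leaf 2921)))) (ST.node (ST.node (ST.node (ST.leaf 2923) (ST.leaf 1613)) (ST.node (ST.leaf 1611) (ST.leaf 2917))) (ST.node (ST.node (ST.leaf 1605) (ST.leaf 783)) (ST.node (ST.leaf 2929) (ST.leaf 4887))))) [(4, 0x145c), (7, 0x1423), (13, 0x1505), (15, 0x1160), (18, 0x3147), (23, 0x112d), (25, 0x100f), (32, 0x10000), (41, 0x46f), (43, 0x106a), (45, 0x403), (49, 0x469)],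
  C16.good 0x82aa448148a005 [31, 38, 47, 55] (ST.node (ST.node (ST.node (ST.node (ST.leaf 2671) (ST.leaf 1457)) (ST.node (ST.leaf 1455) (ST.leaf 2665))) (ST.node (ST.node (ST.leaf 1449) (ST.leaf 687)) (ST.node (ST.leaf 2677) (ST.leaf 4515)))) (ST.node (ST.node (ST.node (ST.leaf 4513) (ST.leaf 2679)) (ST.node (ST.leaf 685) (ST.leaf 1451))) (ST.node (ST.node (ST.leaf 2667) (ST.leaf 1453)) (ST.node (ST.leaf 1459) (ST.leaf 2669))))) [(0, 0x97b), (2, 0x904), (13, 0xbb8), (15, 0xa4a), (19, 0x2b8), (22, 0x9e2), (24, 0x8000), (34, 0x39a), (41, 0x938), (43, 0x1a), (45, 0x172), (49, 0x118)],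
  C16.good 0x82aa882822a00a [29, 39, 47, 55] (ST.node (ST.node (ST.node (ST.node (ST.leaf 2249) (ST.leaf 1199)) (ST.node (ST.leaf 1193) (ST.leaf 2247))) (ST.node (ST.node (ST.leaf 1191) (ST.leaf 525)) (ST.node (ST.leaf 2259) (ST.leaf 3893)))) (ST.node (ST.node (ST.node (ST.leaf 3895) (ST.leaf 2257)) (ST.node (ST.leaf 527) (ST.leaf 1189))) (ST.node (ST.node (ST.leaf 2245) (ST.leaf 1195)) (ST.node (ST.leaf 1197) (ST.leaf 2251))))) [(1, 0xc93), (3, 0xcec), (13, 0x4), (15, 0x461), (17, 0x1c05), (21, 0x1c4), (27, 0x8c0), (35, 0xdb1), (41, 0xcd0), (43, 0x8a5), (45, 0x194), (49, 0x941)],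
  C16.good 0x84060524661228 [29, 34, 42, 55] (ST.node (ST.node (ST.node (ST.node (ST.leaf 9972) (ST.leaf 9986)) (ST.node (ST.leaf 9988) (ST.leaf 12310))) (ST.node (ST.node (ST.leaf 9970) (ST.leaf 9976)) (ST.node (ST.leaf 7390) (ST.leaf 9980)))) (ST.node (ST.node (ST.node (ST.leaf 9982) (ST.leaf 7388)) (ST.node (ST.leaf 9978) (ST.leaf 9968))) (ST.node (ST.node (ST.leaf 12308) (ST.leaf 9990)) (ST.node (ST.leaf 9984) (ST.leaf 9974))))) [(3, 0xb), (5, 0x74), (9, 0x152), (12, 0x400), (17, 0x1007), (18, 0x2046), (21, 0x50), (22, 0x57), (26, 0x4), (32, 0x10000), (41, 0x56), (50, 0x11)],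
  C16.good 0x84060524991228 [29, 34, 42, 55] (ST.node (ST.node (ST.node (ST.node (ST.leaf 9825) (ST.leaf 9835)) (ST.node (ST.leaf 7241) (ST.leaf 9839))) (ST.node (ST.node (ST.leaf 9831) (ST.leaf 9841)) (ST.node (ST.leaf 9847) (ST.leaf 12185)))) (ST.node (ST.node (ST.node (ST.leaf 12187) (ST.leaf 9845)) (ST.node (ST.leaf 9843) (ST.leaf 9829))) (ST.node (ST.node (ST.leaf 9837) (ST.leaf 7243)) (ST.node (ST.leaf 9833) (ST.leaf 9827))))) [(3, 0xc), (5, 0x73), (9, 0x155), (12, 0x400), (16, 0x851), (19, 0x50), (20, 0x4017), (23, 0x57), (26, 0x3), (32, 0x10000), (41, 0x56), (50, 0x16)],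
  C16.good 0x84060a415a1281 [30, 35, 42, 55] (ST.node (ST.node (ST.node (ST.node (ST.leaf 10086) (ST.leaf 10076)) (ST.node (ST.leaf 10090) (ST.leaf 7496))) (ST.node (ST.node (ST.leaf 10092) (ST.leaf 10082)) (ST.node (ST.leaf 12400) (ST.leaf 10098)))) (ST.node (ST.node (ST.node (ST.leaf 10096) (ST.leaf 12402)) (ST.node (ST.leaf 10080) (ST.leaf 10094))) (ST.node (ST.node (ST.leaf 7498) (ST.leaf 10088)) (ST.node (ST.leaf 10078) (ST.leaf 10084))))) [(0, 0xf), (7, 0x54), (9, 0x156), (12, 0x480), (17, 0x105c), (19, 0xd0), (20, 0x4014), (22, 0x8c), (24, 0x8000), (33, 0x80), (41, 0x56), (50, 0x4e)],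
  C16.good 0x84060a41a51281 [30, 35, 42, 55] (ST.node (ST.node (ST.node (ST.node (ST.leaf 10241) (ST.leaf 12527)) (ST.node (ST.leaf 10225) (ST.leaf 10239))) (ST.node (ST.node (ST.leaf 7647) (ST.leaf 10233)) (ST.node (ST.leaf 10223) (ST.leaf 10229)))) (ST.node (ST.node (ST.node (ST.leaf 10231) (ST.leaf 10221)) (ST.node (ST.leaf 10235) (ST.leaf 7645))) (ST.node (ST.node (ST.leaf 10237) (ST.leaf 10227)) (ST.node (ST.leaf 12525) (ST.leaf 10243))))) [(0, 0xf), (7, 0x2c), (9, 0x10a), (12, 0x480), (16, 0x82e), (18, 0x201e), (21, 0x8c), (23, 0xa8), (24, 0x8000), (33, 0x80), (41, 0xa), (50, 0x36)],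
  C16.good 0x84066018551242 [28, 38, 42, 55] (ST.node (ST.node (ST.node (ST.node (ST.leaf 6524) (ST.leaf 4178)) (ST.node (ST.leaf 6520) (ST.leaf 6514))) (ST.node (ST.node (ST.leaf 9134) (ST.leaf 6532)) (ST.node (ST.leaf 6530) (ST.leaf 6516)))) (ST.node (ST.node (ST.node (ST.leaf 6518) (ST.leaf 6528)) (ST.node (ST.leaf 6534) (ST.leaf 9132))) (ST.node (ST.node (ST.leaf 6512) (ST.leaf 6522)) (ST.node (ST.leaf 4176) (ST.leaf 6526))))) [(1, 0xb), (6, 0x50), (9, 0x300), (12, 0x480), (16, 0xa80), (18, 0x2099), (20, 0x4219), (22, 0x8), (27, 0x80), (37, 0x209), (41, 0x89), (50, 0x91)],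
  C16.good 0x84066018aa1242 [28, 38, 42, 55] (ST.node (ST.node (ST.node (ST.node (ST.leaf 4055) (ST.leaf 6377)) (ST.node (ST.leaf 6367) (ST.leaf 6373))) (ST.node (ST.node (ST.leaf 6385) (ST.leaf 8991)) (ST.node (ST.leaf 6369) (ST.leaf 6383)))) (ST.node (ST.node (ST.node (ST.leaf 6381) (ST.leaf 6371)) (ST.node (ST.leaf 8989) (ST.leaf 6387))) (ST.node (ST.node (ST.leaf 6375) (ST.leaf 6365)) (ST.node (ST.leaf 6379) (ST.leaf 4053))))) [(1, 0xf), (6, 0x70), (9, 0x300), (12, 0x480), (17, 0x1020), (19, 0x2c), (21, 0xc), (23, 0x28), (27, 0x80), (37, 0x229), (41, 0xa9), (50, 0x95)],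
  C16.good 0x84069082691214 [31, 39, 42, 55] (ST.node (ST.node (ST.node (ST.node (ST.leaf 13129) (ST.leaf 10931)) (ST.node (ST.leaf 13125) (ST.leaf 13119))) (ST.node (ST.node (ST.leaf 14851) (ST.leaf 13137)) (ST.node (ST.leaf 13135) (ST.leaf 13121)))) (ST.node (ST.node (ST.node (ST.leaf 13123) (ST.leaf 13133)) (ST.node (ST.leaf 13139) (ST.leaf 14849))) (ST.node (ST.node (ST.leaf 13117) (ST.leaf 13127)) (ST.node (ST.leaf 10929) (ST.leaf 13131))))) [(2, 0x1087), (4, 0x10f8), (9, 0x1121), (12, 0x1408), (16, 0x1881), (19, 0xb), (21, 0xab), (22, 0x10a0), (25, 0x1088), (36, 0x80), (41, 0x10a1), (50, 0x6a)],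
  C16.good 0x84069082961214 [31, 39, 42, 55] (ST.node (ST.node (ST.node (ST.node (ST.leaf 11256) (ST.leaf 11266)) (ST.node (ST.leaf 8768) (ST.leaf 11270))) (ST.node (ST.node (ST.leaf 11262) (ST.leaf 11272)) (ST.node (ST.leaf 11278) (ST.leaf 13408)))) (ST.node (ST.node (ST.node (ST.leaf 13410) (ST.leaf 11276)) (ST.node (ST.leaf 11274) (ST.leaf 11260))) (ST.node (ST.node (ST.leaf 11268) (ST.leaf 8770)) (ST.node (ST.leaf 11264) (ST.leaf 11258))))) [(2, 0x2c), (4, 0x53), (9, 0x12a), (12, 0x403), (17, 0x1000), (18, 0x2041), (20, 0x406b), (23, 0xb), (25, 0x23), (36, 0x20), (41, 0xa), (50, 0x6a)],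
  C16.good 0x84090524554442 [29, 34, 43, 55] (ST.node (ST.node (ST.node (ST.node (ST.leaf 8012) (ST.leaf 10574)) (ST.node (ST.leaf 7996) (ST.leaf 8010))) (ST.node (ST.node (ST.leaf 5418) (ST.leaf 8004)) (ST.node (ST.leaf 7994) (ST.leaf 8000)))) (ST.node (ST.node (ST.node (ST.leaf 8002) (ST.leaf 7992)) (ST.node (ST.leaf 8006) (ST.leaf 5416))) (ST.node (ST.node (ST.leaf 8008) (ST.leaf 7998)) (ST.node (ST.leaf 10572) (ST.leaf 8014))))) [(1, 0xb), (6, 0x5d), (10, 0x20d), (14, 0xd), (16, 0x800), (18, 0x2010), (20, 0x4010), (22, 0x1), (26, 0x4), (32, 0x10000), (40, 0x20000), (50, 0x11)],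
  C16.good 0x84090524aa4442 [29, 34, 43, 55] (ST.node (ST.node (ST.node (ST.node (ST.leaf 7845) (ST.leaf 7855)) (ST.node (ST.leaf 5293) (ST.leaf 7859))) (ST.node (ST.node (ST.leaf 7851) (ST.leaf 7861)) (ST.node (ST.leaf 7867) (ST.leaf 10429)))) (ST.node (ST.node (ST.node (ST.leaf 10431) (ST.leaf 7865)) (ST.node (ST.leaf 7863) (ST.leaf 7849))) (ST.node (ST.node (ST.leaf 7857) (ST.leaf 5295)) (ST.node (ST.leaf 7853) (ST.leaf 7847))))) [(1, 0x8f), (6, 0xd9), (10, 0x380), (14, 0x180), (17, 0x1109), (19, 0x85), (21, 0x18c), (23, 0x1), (26, 0x80), (32, 0x10000), (40, 0x20000), (50, 0x95)],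
  C16.good 0x84090a41694414 [30, 35, 43, 55] (ST.node (ST.node (ST.node (ST.node (ST.leaf 13011) (ST.leaf 12997)) (ST.node (ST.leaf 14755) (ST.leaf 13013))) (ST.node (ST.node (ST.leaf 13001) (ST.leaf 12995)) (ST.node (ST.leaf 13005) (ST.leaf 10787)))) (ST.node (ST.node (ST.node (ST.leaf 10785) (ST.leaf 13007)) (ST.node (ST.leaf 12993) (ST.leaf 13003))) (ST.node (ST.node (ST.leaf 13015) (ST.leaf 14753)) (ST.node (ST.leaf 12999) (ST.leaf 13009))))) [(2, 0xf), (4, 0x59), (10, 0x300), (14, 0x100), (16, 0x989), (19, 0x8b), (21, 0x102), (22, 0x81), (24, 0x8000), (33, 0x80), (40, 0x20000), (50, 0x43)],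
  C16.good 0x84090a41964414 [30, 35, 43, 55] (ST.node (ST.node (ST.node (ST.node (ST.leaf 12868) (ST.leaf 12878)) (ST.node (ST.leaf 10640) (ST.leaf 12882))) (ST.node (ST.node (ST.leaf 12874) (ST.leaf 12884)) (ST.node (ST.leaf 12890) (ST.leaf 14656)))) (ST.node (ST.node (ST.node (ST.leaf 14658) (ST.leaf 12888)) (ST.node (ST.leaf 12886) (ST.leaf 12872))) (ST.node (ST.node (ST.leaf 12880) (ST.leaf 10642)) (ST.node (ST.leaf 12876) (ST.leaf 12870))))) [(2, 0x5), (4, 0x53), (10, 0x283), (14, 0x83), (17, 0x1000), (18, 0x2042), (20, 0x4042), (23, 0x81), (24, 0x8000), (33, 0x80), (40, 0x20000), (50, 0x43)],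
  C16.good 0x84096018664428 [28, 38, 43, 55] (ST.node (ST.node (ST.node (ST.node (ST.leaf 9694) (ST.leaf 7092)) (ST.node (ST.leaf 9690) (ST.leaf 9680))) (ST.node (ST.node (ST.leaf 12060) (ST.leaf 9702)) (ST.node (ST.leaf 9696) (ST.leaf 9686)))) (ST.node (ST.node (ST.node (ST.leaf 9684) (ST.leaf 9698)) (ST.node (ST.leaf 9700) (ST.leaf 12062))) (ST.node (ST.node (ST.leaf 9682) (ST.leaf 9688)) (ST.node (ST.leaf 7094) (ST.leaf 9692))))) [(3, 0xb), (5, 0x70), (10, 0x300), (14, 0x452), (17, 0x1451), (18, 0x2010), (21, 0x402), (22, 0x53), (27, 0x52), (37, 0x500), (40, 0x20000), (50, 0x43)],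
  C16.good 0x84096018994428 [28, 38, 43, 55] (ST.node (ST.node (ST.node (ST.node (ST.leaf 6947) (ST.leaf 9549)) (ST.node (ST.leaf 9539) (ST.leaf 9545))) (ST.node (ST.node (ST.leaf 9557) (ST.leaf 11939)) (ST.node (ST.leaf 9541) (ST.leaf 9555)))) (ST.node (ST.node (ST.node (ST.leaf 9553) (ST.leaf 9543)) (ST.node (ST.leaf 11937) (ST.leaf 9559))) (ST.node (ST.node (ST.leaf 9547) (ST.leaf 9537)) (ST.node (ST.leaf 9551) (ST.leaf 6945))))) [(3, 0xf), (5, 0x70), (10, 0x300), (14, 0x3), (16, 0x951), (19, 0x53), (20, 0x4141), (23, 0x57), (27, 0x56), (37, 0x155), (40, 0x20000), (50, 0x43)],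
  C16.good 0x840990825a4481 [31, 39, 43, 55] (ST.node (ST.node (ST.node (ST.node (ST.leaf 9224) (ST.leaf 6610)) (ST.node (ST.leaf 9220) (ST.leaf 9214))) (ST.node (ST.node (ST.leaf 11658) (ST.leaf 9232)) (ST.node (ST.leaf 9230) (ST.leaf 9216)))) (ST.node (ST.node (ST.node (ST.leaf 9218) (ST.leaf 9228)) (ST.node (ST.leaf 9234) (ST.leaf 11656))) (ST.node (ST.node (ST.leaf 9212) (ST.leaf 9222)) (ST.node (ST.leaf 6608) (ST.leaf 9226))))) [(0, 0x59), (7, 0x26), (10, 0x224), (14, 0xf2), (17, 0x100a), (19, 0x74), (20, 0x4014), (22, 0x7e), (25, 0x56), (36, 0x80), (40, 0x20000), (50, 0x6a)],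
  C16.good 0x84099082a54481 [31, 39, 43, 55] (ST.node (ST.node (ST.node (ST.node (ST.leaf 9367) (ST.leaf 9357)) (ST.node (ST.leaf 9371) (ST.leaf 6757))) (ST.node (ST.node (ST.leaf 9373) (ST.leaf 9363)) (ST.node (ST.leaf 11781) (ST.leaf 9379)))) (ST.node (ST.node (ST.node (ST.leaf 9377) (ST.leaf 11783)) (ST.node (ST.leaf 9361) (ST.leaf 9375))) (ST.node (ST.node (ST.leaf 6759) (ST.leaf 9369)) (ST.node (ST.leaf 9359) (ST.leaf 9365))))) [(0, 0x53), (7, 0x26), (10, 0x356), (14, 0x180), (16, 0x9f2), (18, 0x2094), (21, 0x106), (23, 0x74), (25, 0x56), (36, 0x80), (40, 0x20000), (50, 0x60)],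
  C16.good 0x84500524698814 [29, 34, 46, 55] (ST.node (ST.node (ST.node (ST.node (ST.leaf 11637) (ST.leaf 11631)) (ST.node (ST.leaf 11641) (ST.leaf 9203))) (ST.node (ST.node (ST.leaf 11647) (ST.leaf 11633)) (ST.node (ST.leaf 13699) (ST.leaf 11649)))) (ST.node (ST.node (ST.node (ST.leaf 11651) (ST.leaf 13697)) (ST.node (ST.leaf 11635) (ST.leaf 11645))) (ST.node (ST.node (ST.leaf 9201) (ST.leaf 11643)) (ST.node (ST.leaf 11629) (ST.leaf 11639))))) [(2, 0x28f), (4, 0x2d9), (11, 0x380), (15, 0x180), (16, 0x8b89), (19, 0x38b), (21, 0x282), (22, 0x8081), (26, 0x8000), (32, 0x10000), (44, 0x8280), (50, 0x2c3)],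
  C16.good 0x84500524968814 [29, 34, 46, 55] (ST.node (ST.node (ST.node (ST.node (ST.leaf 11768) (ST.leaf 11758)) (ST.node (ST.leaf 13792) (ST.leaf 11774))) (ST.node (ST.node (ST.leaf 11762) (ST.leaf 11752)) (ST.node (ST.leaf 11766) (ST.leaf 9344)))) (ST.node (ST.node (ST.node (ST.leaf 9346) (ST.leaf 11764)) (ST.node (ST.leaf 11754) (ST.leaf 11760))) (ST.node (ST.node (ST.leaf 11772) (ST.leaf 13794)) (ST.node (ST.leaf 11756) (ST.leaf 11770))))) [(2, 0x28f), (4, 0x2d9), (11, 0x289), (15, 0x89), (17, 0x1083), (18, 0x20c2), (20, 0x40c2), (23, 0x282), (26, 0x203), (32, 0x10000), (44, 0x83), (50, 0x2c3)],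
  C16.good 0x84500a41558842 [30, 35, 46, 55] (ST.node (ST.node (ST.node (ST.node (ST.leaf 4548) (ST.leaf 6970)) (ST.node (ST.leaf 6956) (ST.leaf 6966))) (ST.node (ST.node (ST.leaf 6978) (ST.leaf 9564)) (ST.node (ST.leaf 6962) (ST.leaf 6972)))) (ST.node (ST.node (ST.node (ST.leaf 6974) (ST.leaf 6960)) (ST.node (ST.leaf 9566) (ST.leaf 6976))) (ST.node (ST.node (ST.leaf 6964) (ST.leaf 6958)) (ST.node (ST.leaf 6968) (ST.leaf 4550))))) [(1, 0x386), (6, 0x3d0), (11, 0x284), (15, 0x84), (16, 0xb84), (18, 0x2190), (20, 0x4190), (22, 0x81), (24, 0x8000), (33, 0x104), (44, 0x384), (50, 0x391)],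
  C16.good 0x84500a41aa8842 [30, 35, 46, 55] (ST.node (ST.node (ST.node (ST.node (ST.leaf 7123) (ST.leaf 7109)) (ST.node (ST.leaf 9711) (ST.leaf 7125))) (ST.node (ST.node (ST.leaf 7113) (ST.leaf 7107)) (ST.node (ST.leaf 7117) (ST.leaf 4675)))) (ST.node (ST.node (ST.node (ST.leaf 4673) (ST.leaf 7119)) (ST.node (ST.leaf 7105) (ST.leaf 7115))) (ST.node (ST.node (ST.leaf 7127) (ST.leaf 9709)) (ST.node (ST.leaf 7111) (ST.leaf 7121))))) [(1, 0x4297), (6, 0x42c1), (11, 0x4398), (15, 0x4198), (17, 0x1389), (19, 0x419d), (21, 0x8c), (23, 0x81), (24, 0x8000), (33, 0x4018), (44, 0x4298), (50, 0x428d)],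
  C16.good 0x845060185a8881 [28, 38, 46, 55] (ST.node (ST.node (ST.node (ST.node (ST.leaf 10812) (ST.leaf 10802)) (ST.node (ST.leaf 13020) (ST.leaf 10818))) (ST.node (ST.node (ST.leaf 10806) (ST.leaf 10796)) (ST.node (ST.leaf 10810) (ST.leaf 8236)))) (ST.node (ST.node (ST.node (ST.leaf 8238) (ST.leaf 10808)) (ST.node (ST.leaf 10798) (ST.leaf 10804))) (ST.node (ST.node (ST.leaf 10816) (ST.leaf 13022)) (ST.node (ST.leaf 10800) (ST.leaf 10814))))) [(0, 0x759), (7, 0x702), (11, 0x3d6), (15, 0x456), (17, 0x140a), (19, 0x386), (20, 0x4514), (22, 0xda), (27, 0x56), (37, 0x5d6), (44, 0x756), (50, 0x74e)]]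

set_option Elab.async false in
theorem c16_12_ok : c16_12.all (chkC16 ent 16240 pbsD colsD) = true := by decide +kernel

end Cfsg.Agent.Helper2.RuL
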