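import Cfsg.Agent.Helper2.RuL.Chk4
import Cfsg.Agent.Helper2.RuL.Tab

/-! Certificates for the weight-16 words of the parity code, chunk 13 (helper2; generated). -/

set_option autoImplicit false
set_option maxRecDepth 100000

namespace Cfsg.Agent.Helper2.RuL

open Cfsg.Agent.Helper5.RuLat

def c16_13 : List C16 := [
  C16.good 0x84506018a58881 [28, 38, 46, 55] (ST.node (ST.node (ST.node (ST.node (ST.leaf 10673) (ST.leaf 12899)) (ST.node (ST.leaf 10657) (ST.leaf 10671))) (ST.node (ST.node (ST.leaf 8091) (ST.leaf 10665)) (ST.node (ST.leaf 10655) (ST.leaf 10661)))) (ST.node (ST.node (ST.node (ST.leaf 10663) (ST.leaf 10653)) (ST.node (ST.leaf 10667) (ST.leaf 8089))) (ST.node (ST.node (ST.leaf 10669) (ST.leaf 10659)) (ST.node (ST.leaf 12897) (ST.leaf 10675))))) [(0, 0x405), (7, 0x47a), (11, 0x8a), (15, 0x456), (16, 0x9f8), (18, 0x20c2), (21, 0xda), (23, 0xfe), (27, 0x56), (37, 0x5d6), (44, 0x40a), (50, 0x436)],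
  C16.good 0x84509082668828 [31, 39, 46, 55] (ST.node (ST.node (ST.node (ST.node (ST.leaf 10406) (ST.leaf 10416)) (ST.node (ST.leaf 10422) (ST.leaf 12680))) (ST.node (ST.node (ST.leaf 10400) (ST.leaf 10410)) (ST.node (ST.leaf 7832) (ST.leaf 10414)))) (ST.node (ST.node (ST.node (ST.leaf 10412) (ST.leaf 7834)) (ST.node (ST.leaf 10408) (ST.leaf 10402))) (ST.node (ST.node (ST.leaf 12682) (ST.leaf 10420)) (ST.node (ST.leaf 10418) (ST.leaf 10404))))) [(3, 0x28f), (5, 0x2f0), (11, 0x284), (15, 0x180), (17, 0x10d5), (18, 0x2094), (21, 0x3d0), (22, 0x1d3), (25, 0x56), (36, 0x152), (44, 0x2d6), (50, 0x2c3)],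
  C16.good 0x84509082998828 [31, 39, 46, 55] (ST.node (ST.node (ST.node (ST.node (ST.leaf 10549) (ST.leaf 10563)) (ST.node (ST.leaf 10565) (ST.leaf 12807))) (ST.node (ST.node (ST.leaf 10547) (ST.leaf 10553)) (ST.node (ST.leaf 7983) (ST.leaf 10557)))) (ST.node (ST.node (ST.node (ST.leaf 10559) (ST.leaf 7981)) (ST.node (ST.leaf 10555) (ST.leaf 10545))) (ST.node (ST.node (ST.leaf 12805) (ST.leaf 10567)) (ST.node (ST.leaf 10561) (ST.leaf 10551))))) [(3, 0x8c), (5, 0xf3), (11, 0x403), (15, 0x180), (16, 0x987), (19, 0x1d3), (20, 0x4542), (23, 0x557), (25, 0x56), (36, 0x5d6), (44, 0xd5), (50, 0xc0)],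
  C16.good 0x84a005245a2181 [29, 34, 47, 55] (ST.node (ST.node (ST.node (ST.node (ST.leaf 10946) (ST.leaf 10956)) (ST.node (ST.leaf 10962) (ST.leaf 13144))) (ST.node (ST.node (ST.leaf 10940) (ST.leaf 10950)) (ST.node (ST.leaf 8384) (ST.leaf 10954)))) (ST.node (ST.node (ST.node (ST.leaf 10952) (ST.leaf 8386)) (ST.node (ST.leaf 10948) (ST.leaf 10942))) (ST.node (ST.node (ST.leaf 13146) (ST.leaf 10960)) (ST.node (ST.leaf 10958) (ST.leaf 10944))))) [(0, 0x17d), (7, 0x102), (8, 0x1d6), (13, 0x24), (17, 0x1078), (19, 0x6), (20, 0x4130), (22, 0x28), (26, 0x124), (32, 0x10000), (45, 0x56), (50, 0x118)],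
  C16.good 0x84a00524a52181 [29, 34, 47, 55] (ST.node (ST.node (ST.node (ST.node (ST.leaf 8789) (ST.leaf 8783)) (ST.node (ST.leaf 8793) (ST.leaf 6167))) (ST.node (ST.node (ST.leaf 8799) (ST.leaf 8785)) (ST.node (ST.leaf 11287) (ST.leaf 8801)))) (ST.node (ST.node (ST.node (ST.leaf 8803) (ST.leaf 11285)) (ST.node (ST.leaf 8787) (ST.leaf 8797))) (ST.node (ST.node (ST.leaf 6165) (ST.leaf 8795)) (ST.node (ST.leaf 8781) (ST.leaf 8791))))) [(0, 0x153), (7, 0x12c), (8, 0x1d6), (13, 0xa), (16, 0x82e), (18, 0x2148), (21, 0x6), (23, 0x28), (26, 0x10a), (32, 0x10000), (45, 0x56), (50, 0x136)],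
  C16.good 0x84a00a41662128 [30, 35, 47, 55] (ST.node (ST.node (ST.node (ST.node (ST.leaf 8968) (ST.leaf 8962)) (ST.node (ST.leaf 8972) (ST.leaf 6354))) (ST.node (ST.node (ST.leaf 8978) (ST.leaf 8964)) (ST.node (ST.leaf 11442) (ST.leaf 8980)))) (ST.node (ST.node (ST.node (ST.leaf 8982) (ST.leaf 11440)) (ST.node (ST.leaf 8966) (ST.leaf 8976))) (ST.node (ST.node (ST.leaf 6352) (ST.leaf 8974)) (ST.node (ST.leaf 8960) (ST.leaf 8970))))) [(3, 0x59), (5, 0x26), (8, 0xd2), (13, 0x100), (17, 0x1007), (18, 0x2042), (21, 0x102), (22, 0x153), (24, 0x8000), (33, 0x104), (45, 0x56), (50, 0x43)],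
  C16.good 0x84a00a41992128 [30, 35, 47, 55] (ST.node (ST.node (ST.node (ST.node (ST.leaf 9125) (ST.leaf 11567)) (ST.node (ST.leaf 9109) (ST.leaf 9123))) (ST.node (ST.node (ST.leaf 6503) (ST.leaf 9117)) (ST.node (ST.leaf 9107) (ST.leaf 9113)))) (ST.node (ST.node (ST.node (ST.leaf 9115) (ST.leaf 9105)) (ST.node (ST.leaf 9119) (ST.leaf 6501))) (ST.node (ST.node (ST.leaf 9121) (ST.leaf 9111)) (ST.node (ST.leaf 11565) (ST.leaf 9127))))) [(3, 0x59), (5, 0x26), (8, 0x83), (13, 0x100), (16, 0x851), (19, 0x153), (20, 0x4014), (23, 0x102), (24, 0x8000), (33, 0x155), (45, 0x56), (50, 0x43)],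
  C16.good 0x84a06018692114 [28, 38, 47, 55] (ST.node (ST.node (ST.node (ST.node (ST.leaf 12379) (ST.leaf 12389)) (ST.node (ST.leaf 12395) (ST.leaf 14273))) (ST.node (ST.node (ST.leaf 12373) (ST.leaf 12383)) (ST.node (ST.leaf 10065) (ST.leaf 12387)))) (ST.node (ST.node (ST.node (ST.leaf 12385) (ST.leaf 10067)) (ST.node (ST.leaf 12381) (ST.leaf 12375))) (ST.node (ST.node (ST.leaf 14275) (ST.leaf 12393)) (ST.node (ST.leaf 12391) (ST.leaf 12377))))) [(2, 0x1007), (4, 0x1078), (8, 0x13a1), (13, 0x1308), (16, 0xa09), (19, 0x30b), (21, 0x32b), (22, 0x28), (27, 0x1021), (37, 0x229), (45, 0x1008), (50, 0x43)],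
  C16.good 0x84a06018962114 [28, 38, 47, 55] (ST.node (ST.node (ST.node (ST.node (ST.leaf 12514) (ST.leaf 12500)) (ST.node (ST.leaf 14370) (ST.leaf 12516))) (ST.node (ST.node (ST.leaf 12504) (ST.leaf 12498)) (ST.node (ST.leaf 12508) (ST.leaf 10210)))) (ST.node (ST.node (ST.node (ST.leaf 10208) (ST.leaf 12510)) (ST.node (ST.leaf 12496) (ST.leaf 12506))) (ST.node (ST.node (ST.leaf 12518) (ST.leaf 14368)) (ST.node (ST.leaf 12502) (ST.leaf 12512))))) [(2, 0x8006), (4, 0x8059), (8, 0x8083), (13, 0x800a), (17, 0x9009), (18, 0xa042), (20, 0x4141), (23, 0x8), (27, 0x8000), (37, 0x10a), (45, 0x8009), (50, 0x43)],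
  C16.good 0x84a09082552142 [31, 39, 47, 55] (ST.node (ST.node (ST.node (ST.node (ST.leaf 9854) (ST.leaf 7272)) (ST.node (ST.leaf 7270) (ST.leaf 7256))) (ST.node (ST.node (ST.leaf 7264) (ST.leaf 4798)) (ST.node (ST.leaf 7260) (ST.leaf 7254)))) (ST.node (ST.node (ST.node (ST.leaf 7252) (ST.leaf 7262)) (ST.node (ST.leaf 4796) (ST.leaf 7266))) (ST.node (ST.node (ST.leaf 7258) (ST.leaf 7268)) (ST.node (ST.leaf 7274) (ST.leaf 9852))))) [(1, 0x26), (6, 0x59), (8, 0x8d), (13, 0x120), (16, 0x820), (18, 0x2139), (20, 0x4014), (22, 0x10c), (25, 0x124), (36, 0x20), (45, 0x10d), (50, 0x118)],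
  C16.good 0x84a09082aa2142 [31, 39, 47, 55] (ST.node (ST.node (ST.node (ST.node (ST.leaf 7417) (ST.leaf 7407)) (ST.node (ST.leaf 9997) (ST.leaf 7423))) (ST.node (ST.node (ST.leaf 7411) (ST.leaf 7401)) (ST.node (ST.leaf 7415) (ST.leaf 4921)))) (ST.node (ST.node (ST.node (ST.leaf 4923) (ST.leaf 7413)) (ST.node (ST.leaf 7403) (ST.leaf 7409))) (ST.node (ST.node (ST.leaf 7421) (ST.leaf 9999)) (ST.node (ST.leaf 7405) (ST.leaf 7419))))) [(1, 0x26), (6, 0x59), (8, 0x4a9), (13, 0x329), (17, 0x1720), (19, 0x305), (21, 0x10c), (23, 0x528), (25, 0x500), (36, 0x229), (45, 0x529), (50, 0x53c)],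
  C16.good 0x881411090a2455 [27, 36, 44, 55] (ST.node (ST.node (ST.node (ST.node (ST.leaf 12610) (ST.leaf 12596)) (ST.node (ST.leaf 12590) (ST.leaf 312))) (ST.node (ST.node (ST.leaf 12600) (ST.leaf 12594)) (ST.node (ST.leaf 12604) (ST.leaf 62)))) (ST.node (ST.node (ST.node (ST.leaf 60) (ST.leaf 12606)) (ST.node (ST.leaf 12592) (ST.leaf 12602))) (ST.node (ST.node (ST.leaf 314) (ST.leaf 12588)) (ST.node (ST.leaf 12598) (ST.leaf 12608))))) [(0, 0x1), (2, 0x26), (4, 0x32), (6, 0x6a), (10, 0x2aa), (13, 0x80), (17, 0x108a), (19, 0xa2), (24, 0x8000), (32, 0x10000), (42, 0xaa), (51, 0x82)],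
  C16.good 0x881411090a24aa [27, 36, 44, 55] (ST.node (ST.node (ST.node (ST.node (ST.leaf 12481) (ST.leaf 59)) (ST.node (ST.leaf 12477) (ST.leaf 12471))) (ST.node (ST.node (ST.leaf 12467) (ST.leaf 297)) (ST.node (ST.leaf 12487) (ST.leaf 12473)))) (ST.node (ST.node (ST.node (ST.leaf 12475) (ST.leaf 12485)) (ST.node (ST.leaf 299) (ST.leaf 12465))) (ST.node (ST.node (ST.leaf 12469) (ST.leaf 12479)) (ST.node (ST.leaf 57) (ST.leaf 12483))))) [(1, 0x4042), (3, 0x4d), (5, 0x4065), (7, 0x1), (10, 0x2c1), (13, 0x80), (17, 0x5085), (19, 0x85), (24, 0x8000), (32, 0x10000), (42, 0xc1), (51, 0x40c1)],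
  C16.good 0x881422a060245a [31, 37, 44, 55] (ST.node (ST.node (ST.node (ST.node (ST.leaf 14116) (ST.leaf 14126)) (ST.node (ST.leaf 256) (ST.leaf 14130))) (ST.node (ST.node (ST.leaf 14122) (ST.leaf 14132)) (ST.node (ST.leaf 726) (ST.leaf 14112)))) (ST.node (ST.node (ST.node (ST.leaf 14114) (ST.leaf 724)) (ST.node (ST.leaf 14134) (ST.leaf 14120))) (ST.node (ST.node (ST.leaf 14128) (ST.leaf 258)) (ST.node (ST.leaf 14124) (ST.leaf 14118))))) [(1, 0x26), (3, 0x4828), (4, 0x4534), (6, 0xd45), (10, 0x604), (13, 0x100), (21, 0x800), (22, 0x4424), (29, 0x4521), (33, 0x4425), (42, 0x404), (51, 0x4c05)],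
  C16.good 0x881422a06024a5 [31, 37, 44, 55] (ST.node (ST.node (ST.node (ST.node (ST.leaf 14215) (ST.leaf 14221)) (ST.node (ST.leaf 275) (ST.leaf 14225))) (ST.node (ST.node (ST.leaf 14217) (ST.leaf 14231)) (ST.node (ST.leaf 757) (ST.leaf 14211)))) (ST.node (ST.node (ST.node (ST.leaf 14209) (ST.leaf 759)) (ST.node (ST.leaf 14229) (ST.leaf 14219))) (ST.node (ST.node (ST.leaf 14227) (ST.leaf 273)) (ST.node (ST.leaf 14223) (ST.leaf 14213))))) [(0, 0x59), (2, 0x20dc), (5, 0xa2), (7, 0x2058), (10, 0x680), (13, 0x100), (21, 0x598), (22, 0x2148), (29, 0xc8), (33, 0x148), (42, 0x480), (51, 0x240a)],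
  C16.good 0x88144806902466 [26, 38, 44, 55] (ST.node (ST.node (ST.node (ST.node (ST.leaf 13960) (ST.leaf 230)) (ST.node (ST.leaf 13956) (ST.leaf 13950))) (ST.node (ST.node (ST.leaf 13946) (ST.leaf 668)) (ST.node (ST.leaf 13966) (ST.leaf 13952)))) (ST.node (ST.node (ST.node (ST.leaf 13954) (ST.leaf 13964)) (ST.node (ST.leaf 670) (ST.leaf 13944))) (ST.node (ST.node (ST.leaf 13948) (ST.leaf 13958)) (ST.node (ST.leaf 228) (ST.leaf 13962))))) [(1, 0x108a), (2, 0x15), (5, 0x10b9), (6, 0x59), (10, 0x209), (13, 0x409), (20, 0x5001), (23, 0x1), (25, 0x419), (35, 0x489), (42, 0x410), (51, 0x1099)],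
  C16.good 0x88144806902499 [26, 38, 44, 55] (ST.node (ST.node (ST.node (ST.node (ST.leaf 14043) (ST.leaf 701)) (ST.node (ST.leaf 14063) (ST.leaf 14049))) (ST.node (ST.node (ST.leaf 14057) (ST.leaf 247)) (ST.node (ST.leaf 14053) (ST.leaf 14047)))) (ST.node (ST.node (ST.node (ST.leaf 14045) (ST.leaf 14055)) (ST.node (ST.leaf 245) (ST.leaf 14059))) (ST.node (ST.node (ST.leaf 14051) (ST.leaf 14061)) (ST.node (ST.leaf 703) (ST.leaf 14041))))) [(0, 0x104e3), (3, 0x6a), (4, 0x104d0), (7, 0x26), (10, 0x10680), (13, 0x10080), (20, 0x14424), (23, 0x104c4), (25, 0x466), (35, 0x10000), (42, 0x100e6), (51, 0x6)],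
  C16.good 0x88148450052469 [30, 39, 44, 55] (ST.node (ST.node (ST.node (ST.node (ST.leaf 15229) (ST.leaf 15239)) (ST.node (ST.leaf 593) (ST.leaf 15243))) (ST.node (ST.node (ST.leaf 15235) (ST.leaf 15245)) (ST.node (ST.leaf 1311) (ST.leaf 15225)))) (ST.node (ST.node (ST.node (ST.leaf 15227) (ST.leaf 1309)) (ST.node (ST.leaf 15247) (ST.leaf 15233))) (ST.node (ST.node (ST.leaf 15241) (ST.leaf 595)) (ST.node (ST.leaf 15237) (ST.leaf 15231))))) [(0, 0x91), (3, 0x418), (5, 0x26), (6, 0x4d0), (10, 0x694), (13, 0x4), (16, 0x814), (18, 0x2000), (28, 0x84), (34, 0x14), (42, 0x410), (51, 0x12)],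
  C16.good 0x88148450052496 [30, 39, 44, 55] (ST.node (ST.node (ST.node (ST.node (ST.leaf 626) (ST.leaf 15296)) (ST.node (ST.leaf 15286) (ST.leaf 15292))) (ST.node (ST.node (ST.leaf 1360) (ST.leaf 15282)) (ST.node (ST.leaf 15288) (ST.leaf 15302)))) (ST.node (ST.node (ST.node (ST.leaf 15300) (ST.leaf 15290)) (ST.node (ST.leaf 15280) (ST.leaf 1362))) (ST.node (ST.node (ST.leaf 15294) (ST.leaf 15284)) (ST.node (ST.leaf 15298) (ST.leaf 624))))) [(1, 0x410a), (2, 0x4065), (4, 0x59), (7, 0x149), (10, 0x4221), (13, 0x4128), (16, 0x4828), (18, 0x2000), (28, 0x4160), (34, 0x4028), (42, 0x141), (51, 0x4141)],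
  C16.good 0x8828110960825a [27, 36, 45, 55] (ST.node (ST.node (ST.node (ST.node (ST.leaf 13542) (ST.leaf 13548)) (ST.node (ST.leaf 162) (ST.leaf 13552))) (ST.node (ST.node (ST.leaf 13544) (ST.leaf 13558)) (ST.node (ST.leaf 532) (ST.leaf 13538)))) (ST.node (ST.node (ST.node (ST.leaf 13536) (ST.leaf 534)) (ST.node (ST.leaf 13556) (ST.leaf 13546))) (ST.node (ST.node (ST.leaf 13554) (ST.leaf 160)) (ST.node (ST.leaf 13550) (ST.leaf 13540))))) [(1, 0x4a2), (3, 0x809), (4, 0x11), (6, 0xcc1), (9, 0x580), (15, 0x80), (21, 0xc80), (22, 0x401), (24, 0x8000), (32, 0x10000), (43, 0x480), (51, 0x820)],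
  C16.good 0x882811096082a5 [27, 36, 45, 55] (ST.node (ST.node (ST.node (ST.node (ST.leaf 13649) (ST.leaf 179)) (ST.node (ST.leaf 13645) (ST.leaf 13639))) (ST.node (ST.node (ST.leaf 13635) (ST.leaf 565)) (ST.node (ST.leaf 13655) (ST.leaf 13641)))) (ST.node (ST.node (ST.node (ST.leaf 13643) (ST.leaf 13653)) (ST.node (ST.leaf 567) (ST.leaf 13633))) (ST.node (ST.node (ST.leaf 13637) (ST.leaf 13647)) (ST.node (ST.leaf 177) (ST.leaf 13651))))) [(0, 0x11), (2, 0x20dc), (5, 0x6a), (7, 0x20d8), (9, 0x148), (15, 0x80), (21, 0x50), (22, 0x2000), (24, 0x8000), (32, 0x10000), (43, 0x48), (51, 0x208a)],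
  C16.good 0x882822a00a8255 [31, 37, 45, 55] (ST.node (ST.node (ST.node (ST.node (ST.leaf 13218) (ST.leaf 13228)) (ST.node (ST.leaf 394) (ST.leaf 13208))) (ST.node (ST.node (ST.leaf 13212) (ST.leaf 13222)) (ST.node (ST.leaf 80) (ST.leaf 13226)))) (ST.node (ST.node (ST.node (ST.leaf 13224) (ST.leaf 82)) (ST.node (ST.leaf 13220) (ST.leaf 13214))) (ST.node (ST.node (ST.leaf 13210) (ST.leaf 392)) (ST.node (ST.leaf 13230) (ST.leaf 13216))))) [(0, 0x20a3), (2, 0x8c), (4, 0xb2), (6, 0x20e2), (9, 0x1aa), (15, 0x200), (17, 0x3228), (19, 0x208), (29, 0x2088), (33, 0x2208), (43, 0xaa), (51, 0x208a)],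
  C16.good 0x882822a00a82aa [31, 37, 45, 55] (ST.node (ST.node (ST.node (ST.node (ST.leaf 11349) (ST.leaf 155)) (ST.node (ST.leaf 11369) (ST.leaf 11359))) (ST.node (ST.node (ST.leaf 11367) (ST.leaf 21)) (ST.node (ST.leaf 11363) (ST.leaf 11353)))) (ST.node (ST.node (ST.node (ST.leaf 11355) (ST.leaf 11361)) (ST.node (ST.leaf 23) (ST.leaf 11365))) (ST.node (ST.node (ST.leaf 11357) (ST.leaf 11371)) (ST.node (ST.leaf 153) (ST.leaf 11351))))) [(1, 0x4892), (3, 0x8c), (5, 0x4230), (7, 0xa10), (9, 0x194), (15, 0x200), (17, 0x5085), (19, 0x894), (29, 0xa05), (33, 0x885), (43, 0x94), (51, 0x4885)],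
  C16.good 0x88284806058269 [26, 38, 45, 55] (ST.node (ST.node (ST.node (ST.node (ST.leaf 15805) (ST.leaf 15795)) (ST.node (ST.leaf 15785) (ST.leaf 1831))) (ST.node (ST.node (ST.leaf 15799) (ST.leaf 15789)) (ST.node (ST.leaf 15803) (ST.leaf 913)))) (ST.node (ST.node (ST.node (ST.leaf 915) (ST.leaf 15801)) (ST.node (ST.leaf 15791) (ST.leaf 15797))) (ST.node (ST.node (ST.leaf 1829) (ST.leaf 15787)) (ST.node (ST.leaf 15793) (ST.leaf 15807))))) [(0, 0x15), (3, 0x208), (5, 0x236), (6, 0x54), (9, 0x194), (15, 0x204), (16, 0x894), (18, 0x2284), (25, 0x4), (35, 0x284), (43, 0x210), (51, 0x6)],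
  C16.good 0x88284806058296 [26, 38, 45, 55] (ST.node (ST.node (ST.node (ST.node (ST.leaf 15844) (ST.leaf 15854)) (ST.node (ST.leaf 944) (ST.leaf 15858))) (ST.node (ST.node (ST.leaf 15850) (ST.leaf 15860)) (ST.node (ST.leaf 1882) (ST.leaf 15840)))) (ST.node (ST.node (ST.node (ST.leaf 15842) (ST.leaf 1880)) (ST.node (ST.leaf 15862) (ST.leaf 15848))) (ST.node (ST.node (ST.leaf 15856) (ST.leaf 946)) (ST.node (ST.leaf 15852) (ST.leaf 15846))))) [(1, 0x2b), (2, 0x405), (4, 0x618), (7, 0x208), (9, 0x389), (15, 0x409), (16, 0xa89), (18, 0x2489), (25, 0x609), (35, 0x489), (43, 0x600), (51, 0x428)],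
  C16.good 0x88288450908266 [30, 39, 45, 55] (ST.node (ST.node (ST.node (ST.node (ST.leaf 860) (ST.leaf 14522)) (ST.node (ST.leaf 14528) (ST.leaf 14542))) (ST.node (ST.node (ST.leaf 326) (ST.leaf 14536)) (ST.node (ST.leaf 14526) (ST.leaf 14532)))) (ST.node (ST.node (ST.node (ST.leaf 14534) (ST.leaf 14524)) (ST.node (ST.leaf 14538) (ST.leaf 324))) (ST.node (ST.node (ST.leaf 14540) (ST.leaf 14530)) (ST.node (ST.leaf 14520) (ST.leaf 862))))) [(1, 0x1101a), (2, 0x2004), (5, 0x1020), (6, 0x12041), (9, 0x2118), (15, 0x2008), (20, 0x5018), (23, 0x2000), (28, 0x2011), (34, 0x10000), (43, 0x12018), (51, 0x3018)],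
  C16.good 0x88288450908299 [30, 39, 45, 55] (ST.node (ST.node (ST.node (ST.node (ST.leaf 14637) (ST.leaf 14627)) (ST.node (ST.leaf 14617) (ST.leaf 895))) (ST.node (ST.node (ST.leaf 14631) (ST.leaf 14621)) (ST.node (ST.leaf 14635) (ST.leaf 341)))) (ST.node (ST.node (ST.node (ST.leaf 343) (ST.leaf 14633)) (ST.node (ST.leaf 14623) (ST.leaf 14629))) (ST.node (ST.node (ST.leaf 893) (ST.leaf 14619)) (ST.node (ST.leaf 14625) (ST.leaf 14639))))) [(0, 0x1847), (3, 0x1c28), (4, 0x1430), (7, 0x1020), (9, 0x1924), (15, 0x1c24), (20, 0x5800), (23, 0x1024), (28, 0x1c42), (34, 0x822), (43, 0x1006), (51, 0x824)],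
  C16.good 0x88421109054169 [27, 36, 46, 55] (ST.node (ST.node (ST.node (ST.node (ST.leaf 15505) (ST.leaf 1571)) (ST.node (ST.leaf 15525) (ST.leaf 15515))) (ST.node (ST.node (ST.leaf 15523) (ST.leaf 753)) (ST.node (ST.leaf 15519) (ST.leaf 15509)))) (ST.node (ST.node (ST.node (ST.leaf 15511) (ST.leaf 15517)) (ST.node (ST.leaf 755) (ST.leaf 15521))) (ST.node (ST.node (ST.leaf 15513) (ST.leaf 15527)) (ST.node (ST.leaf 1569) (ST.leaf 15507))))) [(0, 0x11), (3, 0x118), (5, 0x32), (6, 0x140), (8, 0x80), (14, 0x110), (16, 0x810), (18, 0x2000), (24, 0x8000), (32, 0x10000), (41, 0x10), (51, 0x102)],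
  C16.good 0x88421109054196 [27, 36, 46, 55] (ST.node (ST.node (ST.node (ST.node (ST.leaf 15454) (ST.leaf 15460)) (ST.node (ST.leaf 722) (ST.leaf 15464))) (ST.node (ST.node (ST.leaf 15456) (ST.leaf 15470)) (ST.node (ST.leaf 1516) (ST.leaf 15450)))) (ST.node (ST.node (ST.node (ST.leaf 15448) (ST.leaf 1518)) (ST.node (ST.leaf 15468) (ST.leaf 15458))) (ST.node (ST.node (ST.leaf 15466) (ST.leaf 720)) (ST.node (ST.leaf 15462) (ST.leaf 15452))))) [(1, 0x6a), (2, 0x4d), (4, 0x11), (7, 0x49), (8, 0x80), (14, 0x41), (16, 0x848), (18, 0x2000), (24, 0x8000), (32, 0x10000), (41, 0x48), (51, 0x28)],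
  C16.good 0x884222a0904166 [31, 37, 46, 55] (ST.node (ST.node (ST.node (ST.node (ST.leaf 14432) (ST.leaf 14446)) (ST.node (ST.leaf 828) (ST.leaf 14426))) (ST.node (ST.node (ST.leaf 14430) (ST.leaf 14436)) (ST.node (ST.leaf 310) (ST.leaf 14440)))) (ST.node (ST.node (ST.node (ST.leaf 14442) (ST.leaf 308)) (ST.node (ST.leaf 14438) (ST.leaf 14428))) (ST.node (ST.node (ST.leaf 14424) (ST.leaf 830)) (ST.node (ST.leaf 14444) (ST.leaf 14434))))) [(1, 0x1403), (2, 0x40c), (5, 0x1039), (6, 0x49), (8, 0x590), (14, 0x110), (20, 0x5001), (23, 0x118), (29, 0x419), (33, 0x109), (41, 0x10), (51, 0x1000)],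
  C16.good 0x884222a0904199 [31, 37, 46, 55] (ST.node (ST.node (ST.node (ST.node (ST.leaf 14351) (ST.leaf 14337)) (ST.node (ST.leaf 14331) (ST.leaf 797))) (ST.node (ST.node (ST.leaf 14341) (ST.leaf 14335)) (ST.node (ST.leaf 14345) (ST.leaf 295)))) (ST.node (ST.node (ST.node (ST.leaf 293) (ST.leaf 14347)) (ST.node (ST.leaf 14333) (ST.leaf 14343))) (ST.node (ST.node (ST.leaf 799) (ST.leaf 14329)) (ST.node (ST.leaf 14339) (ST.leaf 14349))))) [(0, 0x941), (3, 0x40c), (4, 0x36), (7, 0xd04), (8, 0x8a2), (14, 0xc22), (20, 0x4906), (23, 0x522), (29, 0x466), (33, 0xc44), (41, 0xd22), (51, 0xd42)],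
  C16.good 0x8842480660415a [26, 38, 46, 55] (ST.node (ST.node (ST.node (ST.node (ST.leaf 13836) (ST.leaf 13830)) (ST.node (ST.leaf 13840) (ST.leaf 210))) (ST.node (ST.node (ST.leaf 13846) (ST.leaf 13832)) (ST.node (ST.leaf 13826) (ST.leaf 628)))) (ST.node (ST.node (ST.node (ST.leaf 630) (ST.leaf 13824)) (ST.node (ST.leaf 13834) (ST.leaf 13844))) (ST.node (ST.node (ST.leaf 208) (ST.leaf 13842)) (ST.node (ST.leaf 13828) (ST.leaf 13838))))) [(1, 0x626), (3, 0xf0d), (4, 0x15), (6, 0x941), (8, 0x384), (14, 0x404), (21, 0xd04), (22, 0x601), (25, 0x4), (35, 0x304), (41, 0x600), (51, 0x920)],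
  C16.good 0x884248066041a5 [26, 38, 46, 55] (ST.node (ST.node (ST.node (ST.node (ST.leaf 13739) (ST.leaf 13749)) (ST.node (ST.leaf 599) (ST.leaf 13729))) (ST.node (ST.node (ST.leaf 13733) (ST.leaf 13743)) (ST.node (ST.leaf 193) (ST.leaf 13747)))) (ST.node (ST.node (ST.node (ST.leaf 13745) (ST.leaf 195)) (ST.node (ST.leaf 13741) (ST.leaf 13735))) (ST.node (ST.node (ST.leaf 13731) (ST.leaf 597)) (ST.node (ST.leaf 13751) (ST.leaf 13737))))) [(0, 0x659), (2, 0x235c), (5, 0x6a), (7, 0x2510), (8, 0x5c8), (14, 0x248), (21, 0x450), (22, 0x2548), (25, 0x648), (35, 0x548), (41, 0x600), (51, 0x2342)],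
  C16.good 0x884284500a4155 [30, 39, 46, 55] (ST.node (ST.node (ST.node (ST.node (ST.leaf 11982) (ST.leaf 11972)) (ST.node (ST.leaf 11986) (ST.leaf 40))) (ST.node (ST.node (ST.leaf 11988) (ST.leaf 11978)) (ST.node (ST.leaf 11968) (ST.leaf 234)))) (ST.node (ST.node (ST.node (ST.leaf 232) (ST.leaf 11970)) (ST.node (ST.leaf 11976) (ST.leaf 11990))) (ST.node (ST.node (ST.leaf 42) (ST.leaf 11984)) (ST.node (ST.leaf 11974) (ST.leaf 11980))))) [(0, 0x601), (2, 0x526), (4, 0x118), (6, 0x240), (8, 0x2aa), (14, 0x52a), (17, 0x150a), (19, 0x522), (28, 0x22a), (34, 0x12a), (41, 0x500), (51, 0x102)],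
  C16.good 0x884284500a41aa [30, 39, 46, 55] (ST.node (ST.node (ST.node (ST.node (ST.leaf 45) (ST.leaf 12111)) (ST.node (ST.leaf 12097) (ST.leaf 12107))) (ST.node (ST.node (ST.leaf 251) (ST.leaf 12093)) (ST.node (ST.leaf 12103) (ST.leaf 12113)))) (ST.node (ST.node (ST.node (ST.leaf 12115) (ST.leaf 12101)) (ST.node (ST.leaf 12095) (ST.leaf 249))) (ST.node (ST.node (ST.leaf 12105) (ST.leaf 12099)) (ST.node (ST.leaf 12109) (ST.leaf 47))))) [(1, 0x4203), (3, 0x118), (5, 0x4124), (7, 0x240), (8, 0x2d5), (14, 0x114), (17, 0x5250), (19, 0x244), (28, 0x255), (34, 0x155), (41, 0x141), (51, 0x4141)],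
  C16.good 0x88811109901866 [27, 36, 47, 55] (ST.node (ST.node (ST.node (ST.node (ST.leaf 14906) (ST.leaf 988)) (ST.node (ST.leaf 14926) (ST.leaf 14912))) (ST.node (ST.node (ST.leaf 14920) (ST.leaf 390)) (ST.node (ST.leaf 14916) (ST.leaf 14910)))) (ST.node (ST.node (ST.node (ST.leaf 14908) (ST.leaf 14918)) (ST.node (ST.leaf 388) (ST.leaf 14922))) (ST.node (ST.node (ST.leaf 14914) (ST.leaf 14924)) (ST.node (ST.leaf 990) (ST.leaf 14904))))) [(1, 0x100a), (2, 0x5), (5, 0x1029), (6, 0x49), (11, 0x9), (12, 0x400), (20, 0x5008), (23, 0x8), (24, 0x8000), (32, 0x10000), (40, 0x20000), (51, 0x1000)],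
  C16.good 0x88811109901899 [27, 36, 47, 55] (ST.node (ST.node (ST.node (ST.node (ST.leaf 13481) (ST.leaf 151)) (ST.node (ST.leaf 13477) (ST.leaf 13471))) (ST.node (ST.node (ST.leaf 13467) (ST.leaf 509)) (ST.node (ST.leaf 13487) (ST.leaf 13473)))) (ST.node (ST.node (ST.node (ST.leaf 13475) (ST.leaf 13485)) (ST.node (ST.leaf 511) (ST.leaf 13465))) (ST.node (ST.node (ST.leaf 13469) (ST.leaf 13479)) (ST.node (ST.leaf 149) (ST.leaf 13483))))) [(0, 0x5), (3, 0x6a), (4, 0x36), (7, 0x26), (11, 0x66), (12, 0x400), (20, 0x4024), (23, 0x44), (24, 0x8000), (32, 0x10000), (40, 0x20000), (51, 0x60)],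
  C16.good 0x888122a0051869 [31, 37, 47, 55] (ST.node (ST.node (ST.node (ST.node (ST.leaf 1257) (ST.leaf 15171)) (ST.node (ST.leaf 15177) (ST.leaf 15191))) (ST.node (ST.node (ST.leaf 563) (ST.leaf 15185)) (ST.node (ST.leaf 15175) (ST.leaf 15181)))) (ST.node (ST.node (ST.node (ST.leaf 15183) (ST.leaf 15173)) (ST.node (ST.leaf 15187) (ST.leaf 561))) (ST.node (ST.node (ST.leaf 15189) (ST.leaf 15179)) (ST.node (ST.leaf 15169) (ST.leaf 1259))))) [(0, 0x1007), (3, 0x8), (5, 0x26), (6, 0x1046), (11, 0x100), (12, 0x504), (16, 0x800), (18, 0x3106), (29, 0x1002), (33, 0x1106), (40, 0x20000), (51, 0x1000)],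
  C16.good 0x888122a0051896 [31, 37, 47, 55] (ST.node (ST.node (ST.node (ST.node (ST.leaf 530) (ST.leaf 15128)) (ST.node (ST.leaf 15118) (ST.leaf 15124))) (ST.node (ST.node (ST.leaf 1204) (ST.leaf 15114)) (ST.node (ST.leaf 15120) (ST.leaf 15134)))) (ST.node (ST.node (ST.node (ST.leaf 15132) (ST.leaf 15122)) (ST.node (ST.leaf 15112) (ST.leaf 1206))) (ST.node (ST.node (ST.leaf 15126) (ST.leaf 15116)) (ST.node (ST.leaf 15130) (ST.leaf 528))))) [(1, 0xa2), (2, 0x8c), (4, 0x18), (7, 0x8), (11, 0x100), (12, 0x580), (16, 0x800), (18, 0x2109), (29, 0x89), (33, 0x109), (40, 0x20000), (51, 0x21)],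
  C16.good 0x888148060a1855 [26, 38, 47, 55] (ST.node (ST.node (ST.node (ST.node (ST.leaf 328) (ST.leaf 12714)) (ST.node (ST.leaf 12720) (ST.leaf 12734))) (ST.node (ST.node (ST.leaf 66) (ST.leaf 12728)) (ST.node (ST.leaf 12718) (ST.leaf 12724)))) (ST.node (ST.node (ST.node (ST.leaf 12726) (ST.leaf 12716)) (ST.node (ST.leaf 12730) (ST.leaf 64))) (ST.node (ST.node (ST.leaf 12732) (ST.leaf 12722)) (ST.node (ST.leaf 12712) (ST.leaf 330))))) [(0, 0x2b), (2, 0x26), (4, 0x18), (6, 0x6a), (11, 0x2a), (12, 0x62a), (17, 0x10a0), (19, 0x222), (25, 0x22a), (35, 0xaa), (40, 0x20000), (51, 0x228)],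
  C16.good 0x888148060a18aa [26, 38, 47, 55] (ST.node (ST.node (ST.node (ST.node (ST.leaf 69) (ST.leaf 12855)) (ST.node (ST.leaf 12841) (ST.leaf 12851))) (ST.node (ST.node (ST.leaf 347) (ST.leaf 12837)) (ST.node (ST.leaf 12847) (ST.leaf 12857)))) (ST.node (ST.node (ST.node (ST.leaf 12859) (ST.leaf 12845)) (ST.node (ST.leaf 12839) (ST.leaf 345))) (ST.node (ST.node (ST.leaf 12849) (ST.leaf 12843)) (ST.node (ST.leaf 12853) (ST.leaf 71))))) [(1, 0x4297), (3, 0x18), (5, 0x42a4), (7, 0x15), (11, 0x14), (12, 0x614), (17, 0x5211), (19, 0x211), (25, 0x214), (35, 0x94), (40, 0x20000), (51, 0x4094)],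
  C16.good 0x8881845060185a [30, 39, 47, 55] (ST.node (ST.node (ST.node (ST.node (ST.leaf 14796) (ST.leaf 14790)) (ST.node (ST.leaf 14800) (ST.leaf 370))) (ST.node (ST.node (ST.leaf 14806) (ST.leaf 14792)) (ST.node (ST.leaf 14786) (ST.leaf 948)))) (ST.node (ST.node (ST.node (ST.leaf 950) (ST.leaf 14784)) (ST.node (ST.leaf 14794) (ST.leaf 14804))) (ST.node (ST.node (ST.leaf 368) (ST.leaf 14802)) (ST.node (ST.leaf 14788) (ST.leaf 14798))))) [(1, 0x26), (3, 0x889), (4, 0x91), (6, 0x841), (11, 0x4), (12, 0x504), (21, 0x904), (22, 0x185), (28, 0x84), (34, 0x104), (40, 0x20000), (51, 0x824)],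
  C16.good 0x888184506018a5 [30, 39, 47, 55] (ST.node (ST.node (ST.node (ST.node (ST.leaf 14705) (ST.leaf 355)) (ST.node (ST.leaf 14701) (ST.leaf 14695))) (ST.node (ST.node (ST.leaf 14691) (ST.leaf 917)) (ST.node (ST.leaf 14711) (ST.leaf 14697)))) (ST.node (ST.node (ST.node (ST.leaf 14699) (ST.leaf 14709)) (ST.node (ST.leaf 919) (ST.leaf 14689))) (ST.node (ST.node (ST.leaf 14693) (ST.leaf 14703)) (ST.node (ST.leaf 353) (ST.leaf 14707))))) [(0, 0x59), (2, 0x2114), (5, 0x1130), (7, 0x3002), (11, 0x1112), (12, 0x1412), (21, 0x100a), (22, 0x2000), (28, 0x115a), (34, 0x1012), (40, 0x20000), (51, 0x3018)],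
  C16.good 0x90185521141106 [29, 38, 44, 55] (ST.node (ST.node (ST.node (ST.node (ST.leaf 1410) (ST.leaf 2596)) (ST.node (ST.leaf 4394) (ST.leaf 2588))) (ST.node (ST.node (ST.leaf 2604) (ST.leaf 4406)) (ST.node (ST.leaf 4400) (ST.leaf 2602)))) (ST.node (ST.node (ST.node (ST.leaf 2600) (ST.leaf 4402)) (ST.node (ST.leaf 4404) (ST.leaf 2606))) (ST.node (ST.node (ST.leaf 2590) (ST.leaf 4392)) (ST.node (ST.leaf 2598) (ST.leaf 1408))))) [(1, 0x43), (2, 0x15), (8, 0x99), (12, 0x409), (18, 0x2019), (20, 0x4000), (24, 0x8000), (32, 0x10041), (34, 0x58), (36, 0x19), (43, 0x48), (52, 0x11)],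
  C16.good 0x90185a44281150 [30, 38, 44, 55] (ST.node (ST.node (ST.node (ST.node (ST.leaf 4828) (ST.leaf 7318)) (ST.node (ST.leaf 4836) (ST.leaf 2894))) (ST.node (ST.node (ST.leaf 4842) (ST.leaf 7324)) (ST.node (ST.leaf 7330) (ST.leaf 4844)))) (ST.node (ST.node (ST.node (ST.leaf 4846) (ST.leaf 7328)) (ST.node (ST.leaf 7326) (ST.leaf 4840))) (ST.node (ST.node (ST.leaf 2892) (ST.leaf 4838)) (ST.node (ST.leaf 7316) (ST.leaf 4830))))) [(4, 0x211e), (6, 0x2148), (8, 0x4082), (12, 0x4702), (19, 0x4109), (21, 0x2309), (26, 0x210b), (33, 0x2105), (35, 0x420c), (36, 0x200), (43, 0x6007), (52, 0x4103)],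
  C16.good 0x90186688811109 [31, 38, 44, 55] (ST.node (ST.node (ST.node (ST.node (ST.leaf 8392) (ST.leaf 5730)) (ST.node (ST.leaf 3500) (ST.leaf 5738))) (ST.node (ST.node (ST.leaf 8402) (ST.leaf 5740)) (ST.node (ST.leaf 5746) (ST.leaf 8404)))) (ST.node (ST.node (ST.node (ST.leaf 8406) (ST.leaf 5744)) (ST.node (ST.leaf 5742) (ST.leaf 8400))) (ST.node (ST.node (ST.leaf 5736) (ST.leaf 3502)) (ST.node (ST.leaf 5728) (ST.leaf 8394))))) [(0, 0x43), (3, 0x3c), (8, 0xe6), (12, 0x476), (16, 0x962), (23, 0x1024), (27, 0x56), (33, 0x30), (34, 0x1070), (37, 0x146), (43, 0x1060), (52, 0x1010)],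
  C16.good 0x901869124211a0 [28, 38, 44, 55] (ST.node (ST.node (ST.node (ST.node (ST.leaf 7733) (ST.leaf 10323)) (ST.node (ST.leaf 7741) (ST.leaf 5191))) (ST.node (ST.node (ST.leaf 7747) (ST.leaf 10329)) (ST.node (ST.leaf 10335) (ST.leaf 7749)))) (ST.node (ST.node (ST.node (ST.leaf 7751) (ST.leaf 10333)) (ST.node (ST.leaf 10331) (ST.leaf 7745))) (ST.node (ST.node (ST.leaf 5189) (ST.leaf 7743)) (ST.node (ST.leaf 10321) (ST.leaf 7735))))) [(5, 0x2b), (7, 0x15), (8, 0x389), (12, 0x409), (17, 0x131d), (22, 0xc), (25, 0x17), (32, 0x1011e), (35, 0x309), (37, 0x217), (43, 0x1e), (52, 0x6)],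
  C16.good 0x901896124211a0 [28, 39, 44, 55] (ST.node (ST.node (ST.node (ST.node (ST.leaf 7890) (ST.leaf 5312)) (ST.node (ST.leaf 7882) (ST.leaf 10464))) (ST.node (ST.node (ST.leaf 10476) (ST.leaf 7898)) (ST.node (ST.leaf 7892) (ST.leaf 10474)))) (ST.node (ST.node (ST.node (ST.leaf 10472) (ST.leaf 7894)) (ST.node (ST.leaf 7896) (ST.leaf 10478))) (ST.node (ST.node (ST.leaf 10466) (ST.leaf 7880)) (ST.node (ST.leaf 5314) (ST.leaf 7888))))) [(5, 0x6a), (7, 0x15), (8, 0x389), (12, 0x409), (17, 0x114b), (22, 0x305), (25, 0x56), (33, 0x15f), (34, 0x217), (36, 0x256), (43, 0x141), (52, 0x118)],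
  C16.good 0x90189988811109 [31, 39, 44, 55] (ST.node (ST.node (ST.node (ST.node (ST.leaf 3871) (ST.leaf 6173)) (ST.node (ST.leaf 3879) (ST.leaf 2241))) (ST.node (ST.node (ST.leaf 3881) (ST.leaf 6183)) (ST.node (ST.leaf 6185) (ST.leaf 3887)))) (ST.node (ST.node (ST.node (ST.leaf 3885) (ST.leaf 6187)) (ST.node (ST.leaf 6181) (ST.leaf 3883))) (ST.node (ST.node (ST.leaf 2243) (ST.leaf 3877)) (ST.node (ST.leaf 6175) (ST.leaf 3869))))) [(0, 0x43), (3, 0x3c), (8, 0x190), (12, 0x476), (16, 0x952), (23, 0x64), (27, 0x56), (32, 0x10146), (35, 0x176), (36, 0x30), (43, 0x10), (52, 0x60)],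
  C16.good 0x9018a544281150 [30, 39, 44, 55] (ST.node (ST.node (ST.node (ST.node (ST.leaf 7171) (ST.leaf 4705)) (ST.node (ST.leaf 2811) (ST.leaf 4713))) (ST.node (ST.node (ST.leaf 7177) (ST.leaf 4719)) (ST.node (ST.leaf 4721) (ST.leaf 7183)))) (ST.node (ST.node (ST.node (ST.leaf 7181) (ST.leaf 4723)) (ST.node (ST.leaf 4717) (ST.leaf 7179))) (ST.node (ST.node (ST.leaf 4715) (ST.leaf 2809)) (ST.node (ST.leaf 4707) (ST.leaf 7169))))) [(4, 0x8015), (6, 0x8043), (8, 0x8080), (12, 0x8700), (19, 0x305), (21, 0xc), (26, 0x8000), (32, 0x1820e), (34, 0x800e), (37, 0x200), (43, 0x30e), (52, 0x8301)],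
  C16.good 0x9018aa21141106 [29, 39, 44, 55] (ST.node (ST.node (ST.node (ST.node (ST.leaf 2513) (ST.leaf 1359)) (ST.node (ST.leaf 2505) (ST.leaf 4271))) (ST.node (ST.node (ST.leaf 4283) (ST.leaf 2521)) (ST.node (ST.leaf 2519) (ST.leaf 4277)))) (ST.node (ST.node (ST.node (ST.leaf 4279) (ST.leaf 2517)) (ST.node (ST.leaf 2523) (ST.leaf 4281))) (ST.node (ST.node (ST.leaf 4269) (ST.leaf 2507)) (ST.node (ST.leaf 1357) (ST.leaf 2515))))) [(1, 0x2), (2, 0x15), (8, 0x389), (12, 0x409), (18, 0x2309), (20, 0x4109), (24, 0x8000), (33, 0x19), (35, 0x310), (37, 0x200), (43, 0x10), (52, 0x8)],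
  C16.good 0x90245521814809 [29, 38, 45, 55] (ST.node (ST.node (ST.node (ST.node (ST.leaf 1252) (ST.leaf 2346)) (ST.node (ST.leaf 4020) (ST.leaf 2338))) (ST.node (ST.node (ST.leaf 2354) (ST.leaf 4032)) (ST.node (ST.leaf 4030) (ST.leaf 2348)))) (ST.node (ST.node (ST.node (ST.leaf 2350) (ST.leaf 4028)) (ST.node (ST.leaf 4034) (ST.leaf 2352))) (ST.node (ST.node (ST.leaf 2336) (ST.leaf 4022)) (ST.node (ST.leaf 2344) (ST.leaf 1254))))) [(0, 0x15), (3, 0x6a), (11, 0x476), (14, 0xb0), (16, 0x894), (23, 0x454), (24, 0x8000), (32, 0x104e6), (34, 0x10), (36, 0x4f6), (42, 0x56), (52, 0x26)],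
  C16.good 0x90245a444248a0 [30, 38, 45, 55] (ST.node (ST.node (ST.node (ST.node (ST.leaf 5458) (ST.leaf 3312)) (ST.node (ST.leaf 5450) (ST.leaf 8056))) (ST.node (ST.node (ST.leaf 8068) (ST.leaf 5466)) (ST.node (ST.leaf 5460) (ST.leaf 8066)))) (ST.node (ST.node (ST.node (ST.leaf 8064) (ST.leaf 5462)) (ST.node (ST.leaf 5464) (ST.leaf 8070))) (ST.node (ST.node (ST.leaf 8058) (ST.leaf 5448)) (ST.node (ST.leaf 3314) (ST.leaf 5456))))) [(5, 0x622), (7, 0x65d), (11, 0x241), (14, 0x5c1), (17, 0x1514), (22, 0x64d), (26, 0x648), (33, 0x441), (35, 0x51e), (36, 0x5d6), (42, 0x56), (52, 0x611)],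
  C16.good 0x90246688144806 [31, 38, 45, 55] (ST.node (ST.node (ST.node (ST.node (ST.leaf 2660) (ST.leaf 4498)) (ST.node (ST.leaf 6912) (ST.leaf 4490))) (ST.node (ST.node (ST.leaf 4506) (ST.leaf 6924)) (ST.node (ST.leaf 6922) (ST.leaf 4500)))) (ST.node (ST.node (ST.node (ST.leaf 4502) (ST.leaf 6920)) (ST.node (ST.leaf 6926) (ST.leaf 4504))) (ST.node (ST.node (ST.leaf 4488) (ST.leaf 6914)) (ST.node (ST.leaf 4496) (ST.leaf 2662))))) [(1, 0xa2), (2, 0xdd), (11, 0x409), (14, 0x78), (18, 0x2441), (20, 0x4109), (27, 0xc8), (33, 0x441), (34, 0x10), (37, 0x5a9), (42, 0xe1), (52, 0x91)],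
  C16.good 0x90246912284850 [28, 38, 45, 55] (ST.node (ST.node (ST.node (ST.node (ST.leaf 7593) (ST.leaf 5067)) (ST.node (ST.leaf 7585) (ST.leaf 10179))) (ST.node (ST.node (ST.leaf 10191) (ST.leaf 7601)) (ST.node (ST.leaf 7599) (ST.leaf 10185)))) (ST.node (ST.node (ST.node (ST.leaf 10187) (ST.leaf 7597)) (ST.node (ST.leaf 7603) (ST.leaf 10189))) (ST.node (ST.node (ST.leaf 10177) (ST.leaf 7587)) (ST.node (ST.leaf 5065) (ST.leaf 7595))))) [(4, 0x15), (6, 0x6a), (11, 0x27), (14, 0x429), (19, 0x1483), (21, 0x10ad), (25, 0x1486), (32, 0x1050e), (35, 0xa7), (37, 0x5a9), (42, 0x14af), (52, 0x26)],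
  C16.good 0x90249612284850 [28, 39, 45, 55] (ST.node (ST.node (ST.node (ST.node (ST.leaf 10046) (ST.leaf 7452)) (ST.node (ST.leaf 7450) (ST.leaf 10040))) (ST.node (ST.node (ST.leaf 7444) (ST.leaf 4942)) (ST.node (ST.leaf 7436) (ST.leaf 10034)))) (ST.node (ST.node (ST.node (ST.leaf 10032) (ST.leaf 7438)) (ST.node (ST.leaf 4940) (ST.leaf 7446))) (ST.node (ST.node (ST.leaf 10042) (ST.leaf 7448)) (ST.node (ST.leaf 7454) (ST.leaf 10044))))) [(4, 0x15), (6, 0x6a), (11, 0xaaf), (14, 0xb08), (19, 0x188b), (21, 0x100a), (25, 0x1ba7), (33, 0x9a1), (34, 0x329), (36, 0x38e), (42, 0x1b8e), (52, 0x26)],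
  C16.good 0x90249988144806 [31, 39, 45, 55] (ST.node (ST.node (ST.node (ST.node (ST.leaf 2745) (ST.leaf 4623)) (ST.node (ST.leaf 7061) (ST.leaf 4615))) (ST.node (ST.node (ST.leaf 4631) (ST.leaf 7073)) (ST.node (ST.leaf 7071) (ST.leaf 4625)))) (ST.node (ST.node (ST.node (ST.leaf 4627) (ST.leaf 7069)) (ST.node (ST.leaf 7075) (ST.leaf 4629))) (ST.node (ST.node (ST.leaf 4613) (ST.leaf 7063)) (ST.node (ST.leaf 4621) (ST.leaf 2747))))) [(1, 0x112a), (2, 0x1145), (11, 0x48), (14, 0x180), (18, 0x3188), (20, 0x4109), (27, 0x1140), (32, 0x11188), (35, 0x1060), (36, 0x1e8), (42, 0x1169), (52, 0x1109)],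
  C16.good 0x9024a5444248a0 [30, 39, 45, 55] (ST.node (ST.node (ST.node (ST.node (ST.leaf 8213) (ST.leaf 5587)) (ST.node (ST.leaf 5589) (ST.leaf 8219))) (ST.node (ST.node (ST.leaf 8207) (ST.leaf 5573)) (ST.node (ST.leaf 3399) (ST.leaf 5581)))) (ST.node (ST.node (ST.node (ST.leaf 5583) (ST.leaf 3397)) (ST.node (ST.leaf 5575) (ST.leaf 8205))) (ST.node (ST.node (ST.leaf 8217) (ST.leaf 5591)) (ST.node (ST.leaf 5585) (ST.leaf 8215))))) [(5, 0x806a), (7, 0x8015), (11, 0x8048), (14, 0x8341), (17, 0x100a), (22, 0x353), (26, 0x8000), (32, 0x18209), (34, 0x8356), (37, 0x15f), (42, 0x56), (52, 0x8059)],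
  C16.good 0x9024aa21814809 [29, 39, 45, 55] (ST.node (ST.node (ST.node (ST.node (ST.leaf 2437) (ST.leaf 4159)) (ST.node (ST.leaf 4153) (ST.leaf 2435))) (ST.node (ST.node (ST.leaf 1307) (ST.leaf 2429)) (ST.node (ST.leaf 4147) (ST.leaf 2421)))) (ST.node (ST.node (ST.node (ST.leaf 2423) (ST.leaf 4145)) (ST.node (ST.leaf 2431) (ST.leaf 1305))) (ST.node (ST.node (ST.leaf 2433) (ST.leaf 4155)) (ST.node (ST.leaf 4157) (ST.leaf 2439))))) [(0, 0x5), (3, 0x6a), (11, 0x466), (14, 0x3e6), (16, 0xd42), (23, 0x3e4), (24, 0x8000), (33, 0x7a0), (35, 0x346), (37, 0x5c6), (42, 0x46), (52, 0x26)],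
  C16.good 0x90415521282250 [29, 38, 46, 55] (ST.node (ST.node (ST.node (ST.node (ST.leaf 5640) (ST.leaf 3442)) (ST.node (ST.leaf 3444) (ST.leaf 5646))) (ST.node (ST.node (ST.leaf 5634) (ST.leaf 3428)) (ST.node (ST.leaf 1930) (ST.leaf 3436)))) (ST.node (ST.node (ST.node (ST.leaf 3438) (ST.leaf 1928)) (ST.node (ST.leaf 3430) (ST.leaf 5632))) (ST.node (ST.node (ST.leaf 5644) (ST.leaf 3446)) (ST.node (ST.leaf 3440) (ST.leaf 5642))))) [(4, 0x15), (6, 0x43), (9, 0x18e), (13, 0x280), (19, 0x28b), (21, 0x8c), (24, 0x8000), (32, 0x1020e), (34, 0xe), (36, 0x200), (40, 0x20000), (52, 0xf)],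
  C16.good 0x90415a44142206 [30, 38, 46, 55] (ST.node (ST.node (ST.node (ST.node (ST.leaf 6440) (ST.leaf 4102)) (ST.node (ST.leaf 4096) (ST.leaf 6438))) (ST.node (ST.node (ST.leaf 4094) (ST.leaf 2388)) (ST.node (ST.leaf 4086) (ST.leaf 6428)))) (ST.node (ST.node (ST.node (ST.leaf 6430) (ST.leaf 4084)) (ST.node (ST.leaf 2390) (ST.leaf 4092))) (ST.node (ST.node (ST.leaf 6436) (ST.leaf 4098)) (ST.node (ST.leaf 4100) (ST.leaf 6442))))) [(1, 0x45a), (2, 0x40c), (9, 0x5c1), (13, 0x10), (18, 0x2489), (20, 0x44d8), (26, 0x419), (33, 0x441), (35, 0x99), (36, 0x51), (40, 0x20000), (52, 0x440)],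
  C16.good 0x904166884222a0 [31, 38, 46, 55] (ST.node (ST.node (ST.node (ST.node (ST.leaf 5108) (ST.leaf 7654)) (ST.node (ST.leaf 5116) (ST.leaf 3082))) (ST.node (ST.node (ST.leaf 5122) (ST.leaf 7660)) (ST.node (ST.leaf 7666) (ST.leaf 5124)))) (ST.node (ST.node (ST.node (ST.leaf 5126) (ST.leaf 7664)) (ST.node (ST.leaf 7662) (ST.leaf 5120))) (ST.node (ST.node (ST.leaf 3080) (ST.leaf 5118)) (ST.node (ST.leaf 7652) (ST.leaf 5110))))) [(5, 0x3c), (7, 0x43), (9, 0x317), (13, 0x409), (17, 0x1455), (22, 0x44), (27, 0x56), (33, 0x441), (34, 0x41e), (37, 0x256), (40, 0x20000), (52, 0xf)],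
  C16.good 0x90416912812209 [28, 38, 46, 55] (ST.node (ST.node (ST.node (ST.node (ST.leaf 9467) (ST.leaf 6857)) (ST.node (ST.leaf 6863) (ST.leaf 9469))) (ST.node (ST.node (ST.leaf 9457) (ST.leaf 6847)) (ST.node (ST.leaf 4445) (ST.leaf 6855)))) (ST.node (ST.node (ST.node (ST.leaf 6853) (ST.leaf 4447)) (ST.node (ST.leaf 6845) (ST.leaf 9459))) (ST.node (ST.node (ST.leaf 9471) (ST.leaf 6861)) (ST.node (ST.leaf 6859) (ST.leaf 9465))))) [(0, 0x15), (3, 0x4a), (9, 0x3d6), (13, 0x46), (16, 0xa84), (23, 0x12), (25, 0x56), (32, 0x10290), (35, 0xc6), (37, 0x256), (40, 0x20000), (52, 0x6)],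
  C16.good 0x90419612812209 [28, 39, 46, 55] (ST.node (ST.node (ST.node (ST.node (ST.leaf 7006) (ST.leaf 9608)) (ST.node (ST.leaf 9614) (ST.leaf 7008))) (ST.node (ST.node (ST.leaf 6992) (ST.leaf 9602)) (ST.node (ST.leaf 7000) (ST.leaf 4570)))) (ST.node (ST.node (ST.node (ST.leaf 4568) (ST.leaf 7002)) (ST.node (ST.leaf 9600) (ST.leaf 6994))) (ST.node (ST.node (ST.leaf 7010) (ST.leaf 9612)) (ST.node (ST.leaf 9610) (ST.leaf 7004))))) [(0, 0x15), (3, 0x6a), (9, 0x310), (13, 0x476), (16, 0xc04), (23, 0x244), (25, 0x56), (33, 0x646), (34, 0x430), (36, 0x256), (40, 0x20000), (52, 0x26)],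
  C16.good 0x904199884222a0 [31, 39, 46, 55] (ST.node (ST.node (ST.node (ST.node (ST.leaf 7515) (ST.leaf 4997)) (ST.node (ST.leaf 5003) (ST.leaf 7517))) (ST.node (ST.node (ST.leaf 7505) (ST.leaf 4987)) (ST.node (ST.leaf 2997) (ST.leaf 4995)))) (ST.node (ST.node (ST.node (ST.leaf 4993) (ST.leaf 2999)) (ST.node (ST.leaf 4985) (ST.leaf 7507))) (ST.node (ST.node (ST.leaf 7519) (ST.leaf 5001)) (ST.node (ST.leaf 4999) (ST.leaf 7513))))) [(5, 0x3c), (7, 0x43), (9, 0x180), (13, 0x48), (17, 0x10d5), (22, 0x1b), (27, 0x56), (32, 0x1009e), (35, 0xc1), (36, 0x5f), (40, 0x20000), (52, 0xf)],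
  C16.good 0x9041a544142206 [30, 39, 46, 55] (ST.node (ST.node (ST.node (ST.node (ST.leaf 3979) (ST.leaf 6293)) (ST.node (ST.leaf 6291) (ST.leaf 3973))) (ST.node (ST.node (ST.leaf 2305) (ST.leaf 3971)) (ST.node (ST.leaf 6281) (ST.leaf 3963)))) (ST.node (ST.node (ST.node (ST.leaf 3961) (ST.leaf 6283)) (ST.node (ST.leaf 3969) (ST.leaf 2307))) (ST.node (ST.node (ST.leaf 3975) (ST.leaf 6289)) (ST.node (ST.leaf 6295) (ST.leaf 3977))))) [(1, 0x8012), (2, 0x8015), (9, 0x8310), (13, 0x8019), (18, 0x2000), (20, 0x4200), (26, 0x8000), (32, 0x18209), (34, 0x8009), (37, 0x200), (40, 0x20000), (52, 0x8008)],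
  C16.good 0x9041aa21282250 [29, 39, 46, 55] (ST.node (ST.node (ST.node (ST.node (ST.leaf 3361) (ST.leaf 5523)) (ST.node (ST.leaf 5517) (ST.leaf 3359))) (ST.node (ST.node (ST.leaf 1879) (ST.leaf 3353)) (ST.node (ST.leaf 5511) (ST.leaf 3345)))) (ST.node (ST.node (ST.node (ST.leaf 3347) (ST.leaf 5509)) (ST.node (ST.leaf 3355) (ST.leaf 1877))) (ST.node (ST.node (ST.leaf 3357) (ST.leaf 5519)) (ST.node (ST.leaf 5521) (ST.leaf 3363))))) [(4, 0x15), (6, 0x43), (9, 0x38e), (13, 0x40e), (19, 0x40b), (21, 0x40c), (24, 0x8000), (33, 0xe), (35, 0x480), (37, 0x200), (40, 0x20000), (52, 0xf)],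
  C16.good 0x908255214284a0 [29, 38, 47, 55] (ST.node (ST.node (ST.node (ST.node (ST.leaf 2848) (ST.leaf 1566)) (ST.node (ST.leaf 2840) (ST.leaf 4766))) (ST.node (ST.node (ST.leaf 4778) (ST.leaf 2856)) (ST.node (ST.leaf 2854) (ST.leaf 4772)))) (ST.node (ST.node (ST.node (ST.leaf 4774) (ST.leaf 2852)) (ST.node (ST.leaf 2858) (ST.leaf 4776))) (ST.node (ST.node (ST.leaf 4764) (ST.leaf 2842)) (ST.node (ST.leaf 1564) (ST.leaf 2850))))) [(5, 0x6a), (7, 0xb), (10, 0x2c8), (15, 0x441), (17, 0x1403), (22, 0x8c), (24, 0x8000), (32, 0x10041), (34, 0x480), (36, 0x4c1), (41, 0x48), (52, 0xf)],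
  C16.good 0x90825a44818409 [30, 38, 47, 55] (ST.node (ST.node (ST.node (ST.node (ST.leaf 4210) (ST.leaf 6576)) (ST.node (ST.leaf 4218) (ST.leaf 2472))) (ST.node (ST.node (ST.leaf 4220) (ST.leaf 6586)) (ST.node (ST.leaf 6588) (ST.leaf 4226)))) (ST.node (ST.node (ST.node (ST.leaf 4224) (ST.leaf 6590)) (ST.node (ST.leaf 6584) (ST.leaf 4222))) (ST.node (ST.node (ST.leaf 2474) (ST.leaf 4216)) (ST.node (ST.leaf 6578) (ST.leaf 4208))))) [(0, 0x473), (3, 0x40c), (10, 0x7c6), (15, 0x46), (16, 0x894), (23, 0x1e4), (26, 0x466), (33, 0x190), (35, 0xe6), (36, 0x5d6), (41, 0x56), (52, 0x416)],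
  C16.good 0x90826688288450 [31, 38, 47, 55] (ST.node (ST.node (ST.node (ST.node (ST.leaf 7802) (ST.leaf 5232)) (ST.node (ST.leaf 3166) (ST.leaf 5240))) (ST.node (ST.node (ST.leaf 7808) (ST.leaf 5246)) (ST.node (ST.leaf 5248) (ST.leaf 7814)))) (ST.node (ST.node (ST.node (ST.leaf 7812) (ST.leaf 5250)) (ST.node (ST.leaf 5244) (ST.leaf 7810))) (ST.node (ST.node (ST.leaf 5242) (ST.leaf 3164)) (ST.node (ST.leaf 5234) (ST.leaf 7800))))) [(4, 0x432), (6, 0x44d), (10, 0xaaf), (15, 0xd2f), (19, 0x983), (21, 0x4ab), (27, 0x427), (33, 0x988), (34, 0x480), (37, 0x5a9), (41, 0x40e), (52, 0xf)],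
  C16.good 0x90826912148406 [28, 38, 47, 55] (ST.node (ST.node (ST.node (ST.node (ST.leaf 8337) (ST.leaf 10907)) (ST.node (ST.leaf 10909) (ST.leaf 8343))) (ST.node (ST.node (ST.leaf 8327) (ST.leaf 10897)) (ST.node (ST.leaf 8335) (ST.leaf 5685)))) (ST.node (ST.node (ST.node (ST.leaf 5687) (ST.leaf 8333)) (ST.node (ST.leaf 10899) (ST.leaf 8325))) (ST.node (ST.node (ST.leaf 8341) (ST.leaf 10911)) (ST.node (ST.leaf 10905) (ST.leaf 8339))))) [(1, 0xb), (2, 0x15), (10, 0x799), (15, 0x19), (18, 0x2099), (20, 0x4100), (25, 0x419), (32, 0x10510), (35, 0x99), (37, 0x589), (41, 0x410), (52, 0x408)],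
  C16.good 0x90829612148406 [28, 39, 47, 55] (ST.node (ST.node (ST.node (ST.node (ST.leaf 6118) (ST.leaf 8744)) (ST.node (ST.leaf 8750) (ST.leaf 6120))) (ST.node (ST.node (ST.leaf 6104) (ST.leaf 8738)) (ST.node (ST.leaf 6112) (ST.leaf 3826)))) (ST.node (ST.node (ST.node (ST.leaf 3824) (ST.leaf 6114)) (ST.node (ST.leaf 8736) (ST.leaf 6106))) (ST.node (ST.node (ST.leaf 6122) (ST.leaf 8748)) (ST.node (ST.leaf 8746) (ST.leaf 6116))))) [(1, 0x6a), (2, 0x15), (10, 0x251), (15, 0x548), (18, 0x2551), (20, 0x4120), (25, 0x168), (33, 0x61), (34, 0x571), (36, 0x530), (41, 0x141), (52, 0x118)],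
  C16.good 0x90829988288450 [31, 39, 47, 55] (ST.node (ST.node (ST.node (ST.node (ST.leaf 5365) (ST.leaf 3251)) (ST.node (ST.leaf 5357) (ST.leaf 7951))) (ST.node (ST.node (ST.leaf 7963) (ST.leaf 5373)) (ST.node (ST.leaf 5371) (ST.leaf 7957)))) (ST.node (ST.node (ST.node (ST.leaf 7959) (ST.leaf 5369)) (ST.node (ST.leaf 5375) (ST.leaf 7961))) (ST.node (ST.node (ST.leaf 7949) (ST.leaf 5359)) (ST.node (ST.leaf 3249) (ST.leaf 5367))))) [(4, 0x19b), (6, 0x1e4), (10, 0x7a7), (15, 0x27), (19, 0xb), (21, 0x582), (27, 0x18e), (32, 0x10129), (35, 0x480), (36, 0x5a9), (41, 0x1a7), (52, 0xf)],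
  C16.good 0x9082a544818409 [30, 39, 47, 55] (ST.node (ST.node (ST.node (ST.node (ST.leaf 4347) (ST.leaf 6733)) (ST.node (ST.leaf 6739) (ST.leaf 4349))) (ST.node (ST.node (ST.leaf 4333) (ST.leaf 6727)) (ST.node (ST.leaf 4341) (ST.leaf 2559)))) (ST.node (ST.node (ST.node (ST.leaf 2557) (ST.leaf 4343)) (ST.node (ST.leaf 6725) (ST.leaf 4335))) (ST.node (ST.node (ST.leaf 4351) (ST.leaf 6737)) (ST.node (ST.leaf 6735) (ST.leaf 4345))))) [(0, 0x8015), (3, 0x806a), (10, 0x8346), (15, 0x8066), (16, 0x904), (23, 0x74), (26, 0x8000), (32, 0x18156), (34, 0x8020), (37, 0x176), (41, 0x56), (52, 0x8070)],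
  C16.good 0x9082aa214284a0 [29, 39, 47, 55] (ST.node (ST.node (ST.node (ST.node (ST.leaf 4901) (ST.leaf 2943)) (ST.node (ST.leaf 2937) (ST.leaf 4899))) (ST.node (ST.node (ST.leaf 2935) (ST.leaf 1617)) (ST.node (ST.leaf 2927) (ST.leaf 4889)))) (ST.node (ST.node (ST.node (ST.leaf 4891) (ST.leaf 2925)) (ST.node (ST.leaf 1619) (ST.leaf 2933))) (ST.node (ST.node (ST.leaf 4897) (ST.leaf 2939)) (ST.node (ST.leaf 2941) (ST.leaf 4903))))) [(5, 0x2b), (7, 0x15), (10, 0x39e), (15, 0x41e), (17, 0x1083), (22, 0x40c), (24, 0x8000), (33, 0x1e), (35, 0x480), (37, 0x597), (41, 0x17), (52, 0xf)],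
  C16.bad 0x950000653c3300 0x56,
  C16.bad 0x950000653ccc00 0x1800,
  C16.bad 0x95000065c33300 0x6000,
  C16.bad 0x95000065c3cc00 0x56,
  C16.bad 0x9500009a3c3300 0x229,
  C16.bad 0x9500009a3ccc00 0x7f,
  C16.bad 0x9500009ac33300 0x5f,
  C16.bad 0x9500009ac3cc00 0x5a9,
  C16.bad 0x95000f00003356 0x200,
  C16.bad 0x95000f000033a9 0x56,
  C16.bad 0x95000f0000cc56 0x1081,
  C16.bad 0x95000f0000cca9 0x580,
  C16.bad 0x9500f000003356 0x8000,
  C16.bad 0x9500f0000033a9 0x1a00,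
  C16.bad 0x9500f00000cc56 0x6580,
  C16.bad 0x9500f00000cca9 0x56,
  C16.good 0x95590065000056 [30, 46, 50, 52, 55] (ST.node (ST.node (ST.node (ST.node (ST.node (ST.leaf 11132) (ST.leaf 11238)) (ST.node (ST.leaf 11188) (ST.leaf 11086))) (ST.node (ST.node (ST.leaf 11088) (ST.leaf 11194)) (ST.node (ST.leaf 18) (ST.leaf 8)))) (ST.node (ST.node (ST.node (ST.leaf 11142) (ST.leaf 11244)) (ST.node (ST.leaf 12) (ST.leaf 6))) (ST.node (ST.node (ST.leaf 11082) (ST.leaf 11184)) (ST.node (ST.leaf 11242) (ST.leaf 11136))))) (ST.node (ST.node (ST.node (ST.node (ST.leaf 11138) (ST.leaf 11240)) (ST.node (ST.leaf 11186) (ST.leaf 11080))) (ST.node (ST.node (ST.leaf 4) (ST.leaf 14)) (ST.node (ST.leaf 11246) (ST.leaf 11140)))) (ST.node (ST.node (ST.node (ST.leaf 10) (ST.leaf 16)) (ST.node (ST.leaf 11192) (ST.leaf 11090))) (ST.node (ST.node (ST.leaf 11084) (ST.leaf 11190)) (ST.node (ST.leaf 11236) (ST.leaf 11134))))))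 [(1, 0x82), (2, 0x84), (4, 0x11), (6, 0x41), (24, 0xa080), (26, 0x8), (29, 0x2088), (40, 0x20001), (43, 0x2001), (44, 0x2000), (48, 0x40000)],
  C16.bad 0x955900650000a9 0x56,
  C16.bad 0x9559009a000056 0x5a9,
  C16.good 0x9559009a0000a9 [31, 46, 50, 52, 55] (ST.node (ST.node (ST.node (ST.node (ST.node (ST.leaf 13307) (ST.leaf 139)) (ST.node (ST.leaf 125) (ST.leaf 13261))) (ST.node (ST.node (ST.leaf 13267) (ST.leaf 13345)) (ST.node (ST.leaf 13391) (ST.leaf 13309)))) (ST.node (ST.node (ST.node (ST.leaf 115) (ST.leaf 13395)) (ST.node (ST.leaf 13349) (ST.leaf 101))) (ST.node (ST.node (ST.leaf 13257) (ST.leaf 13355)) (ST.node (ST.leaf 13397) (ST.leaf 13303))))) (ST.node (ST.node (ST.node (ST.node (ST.leaf 13301) (ST.leaf 13399)) (ST.node (ST.leaf 13353) (ST.leaf 13259))) (ST.node (ST.node (ST.leaf 103) (ST.leaf 13351)) (ST.node (ST.leaf 13393) (ST.leaf 113)))) (ST.node (ST.node (ST.node (ST.leaf 13311)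 (ST.leaf 13389)) (ST.node (ST.leaf 13347) (ST.leaf 13265))) (ST.node (ST.node (ST.leaf 13263) (ST.leaf 127)) (ST.node (ST.leaf 137) (ST.leaf 13305)))))) [(0, 0x47), (3, 0x11e), (5, 0x1f4), (7, 0xd2), (25, 0x1c4), (27, 0x6), (28, 0x194), (40, 0x20106), (43, 0x14), (44, 0x112), (48, 0x40000)],
  C16.bad 0x95590f003c0000 0x56,
  C16.bad 0x95590f00c30000 0x200,
  C16.bad 0x9559f0003c0000 0x780,
  C16.bad 0x9559f000c30000 0x56,
  C16.bad 0x95a60065000056 0x5a9]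

set_option Elab.async false in
theorem c16_13_ok : c16_13.all (chkC16 ent 16240 pbsD colsD) = true := by decide +kernel

end Cfsg.Agent.Helper2.RuL
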