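import Cfsg.Agent.Helper2.RuL.Chk4
import Cfsg.Agent.Helper2.RuL.Tab

/-! Certificates for the weight-16 words of the parity code, chunk 14 (helper2; generated). -/

set_option autoImplicit false
set_option maxRecDepth 100000

namespace Cfsg.Agent.Helper2.RuL

open Cfsg.Agent.Helper5.RuLat

def c16_14 : List C16 := [
  C16.good 0x95a600650000a9 [30, 47, 50, 52, 55] (ST.node (ST.node (ST.node (ST.node (ST.node (ST.leaf 13245) (ST.leaf 13339)) (ST.node (ST.leaf 135) (ST.leaf 13299))) (ST.node (ST.node (ST.leaf 13293) (ST.leaf 13379)) (ST.node (ST.leaf 13341) (ST.leaf 97)))) (ST.node (ST.node (ST.node (ST.leaf 13255) (ST.leaf 123)) (ST.node (ST.leaf 13383) (ST.leaf 13289))) (ST.node (ST.node (ST.leaf 109) (ST.leaf 13385)) (ST.node (ST.leaf 13335) (ST.leaf 13249))))) (ST.node (ST.node (ST.node (ST.node (ST.leaf 13251) (ST.leaf 13333)) (ST.node (ST.leaf 13387) (ST.leaf 111))) (ST.node (ST.node (ST.leaf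 13291) (ST.leaf 13381)) (ST.node (ST.leaf 121) (ST.leaf 13253)))) (ST.node (ST.node (ST.node (ST.leaf 99) (ST.leaf 13343)) (ST.node (ST.leaf 13377) (ST.leaf 13295))) (ST.node (ST.node (ST.leaf 13297) (ST.leaf 133)) (ST.node (ST.leaf 13337) (ST.leaf 13247)))))) [(0, 0x83), (3, 0x1da), (5, 0x130), (7, 0x16), (24, 0x8012), (26, 0x106), (29, 0x114), (41, 0x6), (42, 0xc2), (45, 0x92), (48, 0x40000)],
  C16.good 0x95a6009a000056 [31, 47, 50, 52, 55] (ST.node (ST.node (ST.node (ST.node (ST.node (ST.leaf 416) (ST.leaf 15000)) (ST.node (ST.leaf 476) (ST.leaf 14972))) (ST.node (ST.node (ST.leaf 436) (ST.leaf 15028)) (ST.node (ST.leaf 456) (ST.leaf 14944)))) (ST.node (ST.node (ST.node (ST.leaf 14948) (ST.leaf 15010)) (ST.node (ST.leaf 15032) (ST.leaf 14982))) (ST.node (ST.node (ST.leaf 14976) (ST.leaf 15038)) (ST.node (ST.leaf 15004) (ST.leaf 14954))))) (ST.node (ST.node (ST.node (ST.node (ST.leaf 14952) (ST.leaf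 15006)) (ST.node (ST.leaf 15036) (ST.leaf 14978))) (ST.node (ST.node (ST.leaf 14980) (ST.leaf 15034)) (ST.node (ST.leaf 15008) (ST.leaf 14950)))) (ST.node (ST.node (ST.node (ST.leaf 14946) (ST.leaf 458)) (ST.node (ST.leaf 15030) (ST.leaf 438))) (ST.node (ST.node (ST.leaf 14974) (ST.leaf 478)) (ST.node (ST.leaf 15002) (ST.leaf 418)))))) [(1, 0x310a), (2, 0x300c), (4, 0x3099), (6, 0x31c0), (25, 0x3008), (27, 0x181), (28, 0x2101), (41, 0x81), (42, 0x3000), (45, 0x2000), (48, 0x40000)],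
  C16.bad 0x95a6009a0000a9 0x256,
  C16.bad 0x95a60f003c0000 0x5a9,
  C16.bad 0x95a60f00c30000 0x7f,
  C16.bad 0x95a6f0003c0000 0x7f,
  C16.bad 0x95a6f000c30000 0x780,
  C16.good 0x96121484069082 [31, 36, 44, 55] (ST.node (ST.node (ST.node (ST.node (ST.leaf 15988) (ST.leaf 3810)) (ST.node (ST.leaf 1156) (ST.leaf 15998))) (ST.node (ST.node (ST.leaf 15994) (ST.leaf 2192)) (ST.node (ST.leaf 2198) (ST.leaf 15984)))) (ST.node (ST.node (ST.node (ST.leaf 15986) (ST.leaf 2196)) (ST.node (ST.leaf 2194) (ST.leaf 15992))) (ST.node (ST.node (ST.leaf 15996) (ST.leaf 1158)) (ST.node (ST.leaf 3808) (ST.leaf 15990))))) [(1, 0x25a), (7, 0x225), (12, 0x6f1), (15, 0x78), (17, 0x1024), (18, 0x22c8), (26, 0xf8), (34, 0x289), (41, 0x278), (49, 0x74), (50, 0x2bc), (52, 0x2d9)],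
  C16.good 0x96122848509024 [30, 37, 44, 55] (ST.node (ST.node (ST.node (ST.node (ST.leaf 16132) (ST.leaf 4926)) (ST.node (ST.leaf 1624) (ST.leaf 16142))) (ST.node (ST.node (ST.leaf 16138) (ST.leaf 2948)) (ST.node (ST.leaf 2954) (ST.leaf 16128)))) (ST.node (ST.node (ST.node (ST.leaf 16130) (ST.leaf 2952)) (ST.node (ST.leaf 2950) (ST.leaf 16136))) (ST.node (ST.node (ST.leaf 16140) (ST.leaf 1626)) (ST.node (ST.leaf 4924) (ST.leaf 16134))))) [(2, 0x54), (5, 0x2b), (12, 0x589), (15, 0x209), (20, 0x4310), (22, 0x25a), (27, 0x380), (35, 0x109), (41, 0x389), (49, 0xb), (50, 0x3ca), (52, 0x50)],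
  C16.good 0x96124211a09018 [28, 38, 44, 55] (ST.node (ST.node (ST.node (ST.node (ST.leaf 3206) (ST.leaf 16176)) (ST.node (ST.leaf 16186) (ST.leaf 3200))) (ST.node (ST.node (ST.leaf 1780) (ST.leaf 16190)) (ST.node (ST.leaf 16180) (ST.leaf 5298)))) (ST.node (ST.node (ST.node (ST.leaf 5296) (ST.leaf 16182)) (ST.node (ST.leaf 16188) (ST.leaf 1782))) (ST.node (ST.node (ST.leaf 3202) (ST.leaf 16184)) (ST.node (ST.leaf 16178) (ST.leaf 3204))))) [(3, 0x32c), (4, 0x353), (12, 0x480), (15, 0x300), (21, 0x1a5), (23, 0x2a2), (24, 0x8000), (33, 0x380), (41, 0x100), (49, 0x205), (50, 0x143), (52, 0x126)],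
  C16.good 0x96128122099041 [29, 39, 44, 55] (ST.node (ST.node (ST.node (ST.node (ST.leaf 16084) (ST.leaf 4554)) (ST.node (ST.leaf 1468) (ST.leaf 16094))) (ST.node (ST.node (ST.leaf 16090) (ST.leaf 2696)) (ST.node (ST.leaf 2702) (ST.leaf 16080)))) (ST.node (ST.node (ST.node (ST.leaf 16082) (ST.leaf 2700)) (ST.node (ST.leaf 2698) (ST.leaf 16088))) (ST.node (ST.node (ST.leaf 16092) (ST.leaf 1470)) (ST.node (ST.leaf 4552) (ST.leaf 16086))))) [(0, 0x2b), (6, 0x54), (12, 0x50e), (15, 0x80), (16, 0x88a), (19, 0xac), (25, 0x18e), (32, 0x10000), (41, 0x100), (49, 0x8c), (50, 0xb2), (52, 0x126)],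
  C16.good 0x96211484a06018 [31, 36, 45, 55] (ST.node (ST.node (ST.node (ST.node (ST.leaf 3038) (ST.leaf 16144)) (ST.node (ST.leaf 16154) (ST.leaf 3032))) (ST.node (ST.node (ST.leaf 1676) (ST.leaf 16158)) (ST.node (ST.leaf 16148) (ST.leaf 5050)))) (ST.node (ST.node (ST.node (ST.leaf 5048) (ST.leaf 16150)) (ST.node (ST.leaf 16156) (ST.leaf 1678))) (ST.node (ST.node (ST.leaf 3034) (ST.leaf 16152)) (ST.node (ST.leaf 16146) (ST.leaf 3036))))) [(3, 0x32c), (4, 0x353), (13, 0x580), (14, 0x200), (21, 0x7a5), (23, 0x5a2), (26, 0x500), (34, 0x380), (40, 0x20000), (49, 0x305), (50, 0x543), (52, 0x526)],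
  C16.good 0x96212848096041 [30, 37, 45, 55] (ST.node (ST.node (ST.node (ST.node (ST.leaf 16228) (ST.leaf 5670)) (ST.node (ST.leaf 1936) (ST.leaf 16238))) (ST.node (ST.node (ST.leaf 16234) (ST.leaf 3452)) (ST.node (ST.leaf 3458) (ST.leaf 16224)))) (ST.node (ST.node (ST.node (ST.leaf 16226) (ST.leaf 3456)) (ST.node (ST.leaf 3454) (ST.leaf 16232))) (ST.node (ST.node (ST.leaf 16236) (ST.leaf 1938)) (ST.node (ST.leaf 5668) (ST.leaf 16230))))) [(0, 0x425), (6, 0x45a), (13, 0x58e), (14, 0x180), (16, 0x88a), (19, 0x5a2), (27, 0xe), (35, 0x500), (40, 0x20000), (49, 0x402), (50, 0x3c), (52, 0x28)],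
  C16.good 0x96214211066082 [28, 38, 45, 55] (ST.node (ST.node (ST.node (ST.node (ST.leaf 16074) (ST.leaf 2612)) (ST.node (ST.leaf 2618) (ST.leaf 16064))) (ST.node (ST.node (ST.leaf 16068) (ST.leaf 4430)) (ST.node (ST.leaf 1416) (ST.leaf 16078)))) (ST.node (ST.node (ST.node (ST.leaf 16076) (ST.leaf 1418)) (ST.node (ST.leaf 4428) (ST.leaf 16070))) (ST.node (ST.node (ST.leaf 16066) (ST.leaf 2616)) (ST.node (ST.leaf 2614) (ST.leaf 16072))))) [(1, 0xa2), (7, 0xdd), (13, 0xf1), (14, 0x78), (17, 0x10ad), (18, 0x20b9), (24, 0x8000), (33, 0x71), (40, 0x20000), (49, 0xf4), (50, 0x3c), (52, 0x59)],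
  C16.good 0x96218122506024 [29, 39, 45, 55] (ST.node (ST.node (ST.node (ST.node (ST.leaf 5172) (ST.leaf 16166)) (ST.node (ST.leaf 16172) (ST.leaf 1730))) (ST.node (ST.node (ST.leaf 3118) (ST.leaf 16168)) (ST.node (ST.leaf 16162) (ST.leaf 3120)))) (ST.node (ST.node (ST.node (ST.leaf 3122) (ST.leaf 16160)) (ST.node (ST.leaf 16170) (ST.leaf 3116))) (ST.node (ST.node (ST.leaf 1728) (ST.leaf 16174)) (ST.node (ST.leaf 16164) (ST.leaf 5174))))) [(2, 0x154), (5, 0x12b), (13, 0x80), (14, 0x180), (20, 0x4119), (22, 0xd3), (25, 0x189), (32, 0x10000), (40, 0x20000), (49, 0x8b), (50, 0x1ca), (52, 0x59)],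
  C16.good 0x96441484090a41 [31, 36, 46, 55] (ST.node (ST.node (ST.node (ST.node (ST.leaf 16202) (ST.leaf 3284)) (ST.node (ST.leaf 3290) (ST.leaf 16192))) (ST.node (ST.node (ST.leaf 16196) (ST.leaf 5422)) (ST.node (ST.leaf 1832) (ST.leaf 16206)))) (ST.node (ST.node (ST.node (ST.leaf 16204) (ST.leaf 1834)) (ST.node (ST.leaf 5420) (ST.leaf 16198))) (ST.node (ST.node (ST.leaf 16194) (ST.leaf 3288)) (ST.node (ST.leaf 3286) (ST.leaf 16200))))) [(0, 0x20b7), (6, 0x20c8), (9, 0x239c), (11, 0x2092), (16, 0x2a98), (19, 0x20b0), (26, 0x2012), (34, 0x221c), (42, 0x2292), (49, 0x20c), (50, 0x2bc), (52, 0x2034)],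
  C16.good 0x96442848a00a18 [30, 37, 46, 55] (ST.node (ST.node (ST.node (ST.node (ST.leaf 1312) (ST.leaf 16046)) (ST.node (ST.leaf 16036) (ST.leaf 4182))) (ST.node (ST.node (ST.leaf 2450) (ST.leaf 16032)) (ST.node (ST.leaf 16042) (ST.leaf 2444)))) (ST.node (ST.node (ST.node (ST.leaf 2446) (ST.leaf 16040)) (ST.node (ST.leaf 16034) (ST.leaf 2448))) (ST.node (ST.node (ST.leaf 4180) (ST.leaf 16038)) (ST.node (ST.leaf 16044) (ST.leaf 1314))))) [(3, 0x10aa), (4, 0x10d5), (9, 0x180), (11, 0x600), (21, 0x12a3), (23, 0x12a4), (27, 0x1486), (35, 0x1206), (42, 0x1086), (49, 0x1483), (50, 0x10c5), (52, 0x14a0)],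
  C16.good 0x96444211500a24 [28, 38, 46, 55] (ST.node (ST.node (ST.node (ST.node (ST.leaf 16026) (ST.leaf 2360)) (ST.node (ST.leaf 2366) (ST.leaf 16016))) (ST.node (ST.node (ST.leaf 16020) (ST.leaf 4058)) (ST.node (ST.leaf 1260) (ST.leaf 16030)))) (ST.node (ST.node (ST.node (ST.leaf 16028) (ST.leaf 1262)) (ST.node (ST.leaf 4056) (ST.leaf 16022))) (ST.node (ST.node (ST.leaf 16018) (ST.leaf 2364)) (ST.node (ST.leaf 2362) (ST.leaf 16024))))) [(2, 0xdd), (5, 0xa2), (9, 0x389), (11, 0x289), (20, 0x4290), (22, 0xda), (24, 0x8000), (33, 0x209), (42, 0x89), (49, 0x2), (50, 0xca), (52, 0x59)],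
  C16.good 0x96448122060a82 [29, 39, 46, 55] (ST.node (ST.node (ST.node (ST.node (ST.leaf 16122) (ST.leaf 2864)) (ST.node (ST.leaf 2870) (ST.leaf 16112))) (ST.node (ST.node (ST.leaf 16116) (ST.leaf 4802)) (ST.node (ST.leaf 1572) (ST.leaf 16126)))) (ST.node (ST.node (ST.node (ST.leaf 16124) (ST.leaf 1574)) (ST.node (ST.leaf 4800) (ST.leaf 16118))) (ST.node (ST.node (ST.leaf 16114) (ST.leaf 2868)) (ST.node (ST.leaf 2866) (ST.leaf 16120))))) [(1, 0x409e), (7, 0x4099), (9, 0x180), (11, 0x80), (17, 0x10ad), (18, 0x608c), (25, 0x403c), (32, 0x10000), (42, 0x40b5), (49, 0x4039), (50, 0xb5), (52, 0x21)],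
  C16.good 0x96881484500524 [31, 36, 47, 55] (ST.node (ST.node (ST.node (ST.node (ST.leaf 16060) (ST.leaf 1366)) (ST.node (ST.leaf 4304) (ST.leaf 16054))) (ST.node (ST.node (ST.leaf 16050) (ST.leaf 2532)) (ST.node (ST.leaf 2530) (ST.leaf 16056)))) (ST.node (ST.node (ST.node (ST.leaf 16058) (ST.leaf 2528)) (ST.node (ST.leaf 2534) (ST.leaf 16048))) (ST.node (ST.node (ST.leaf 16052) (ST.leaf 4306)) (ST.node (ST.leaf 1364) (ST.leaf 16062))))) [(2, 0x80d), (5, 0x872), (8, 0x489), (10, 0x200), (20, 0x4410), (22, 0x5a), (26, 0x409), (34, 0xc50), (43, 0x850), (49, 0x85b), (50, 0x44a), (52, 0xc00)],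
  C16.good 0x96882848060582 [30, 37, 47, 55] (ST.node (ST.node (ST.node (ST.node (ST.leaf 3374) (ST.leaf 16208)) (ST.node (ST.leaf 16218) (ST.leaf 3368))) (ST.node (ST.node (ST.leaf 1884) (ST.leaf 16222)) (ST.node (ST.leaf 16212) (ST.leaf 5546)))) (ST.node (ST.node (ST.node (ST.leaf 5544) (ST.leaf 16214)) (ST.node (ST.leaf 16220) (ST.leaf 1886))) (ST.node (ST.node (ST.leaf 3370) (ST.leaf 16216)) (ST.node (ST.leaf 16210) (ST.leaf 3372))))) [(1, 0x2b), (7, 0x54), (8, 0x1f8), (10, 0x271), (17, 0x112d), (18, 0x2139), (27, 0x71), (35, 0x109), (43, 0x78), (49, 0xc), (50, 0x3c), (52, 0x50)],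
  C16.good 0x96884211090541 [28, 38, 47, 55] (ST.node (ST.node (ST.node (ST.node (ST.leaf 16098) (ST.leaf 2784)) (ST.node (ST.leaf 2782) (ST.leaf 16104))) (ST.node (ST.node (ST.leaf 16108) (ST.leaf 1522)) (ST.node (ST.leaf 4676) (ST.leaf 16102)))) (ST.node (ST.node (ST.node (ST.leaf 16100) (ST.leaf 4678)) (ST.node (ST.leaf 1520) (ST.leaf 16110))) (ST.node (ST.node (ST.leaf 16106) (ST.leaf 2780)) (ST.node (ST.leaf 2786) (ST.leaf 16096))))) [(0, 0x2b), (6, 0x54), (8, 0x8e), (10, 0x200), (16, 0x90a), (19, 0x12c), (24, 0x8000), (33, 0xe), (43, 0x100), (49, 0x2), (50, 0x3c), (52, 0x126)],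
  C16.good 0x96888122a00518 [29, 39, 47, 55] (ST.node (ST.node (ST.node (ST.node (ST.leaf 16012) (ST.leaf 1210)) (ST.node (ST.leaf 3932) (ST.leaf 16006))) (ST.node (ST.node (ST.leaf 16002) (ST.leaf 2280)) (ST.node (ST.leaf 2278) (ST.leaf 16008)))) (ST.node (ST.node (ST.node (ST.leaf 16010) (ST.leaf 2276)) (ST.node (ST.leaf 2282) (ST.leaf 16000))) (ST.node (ST.node (ST.leaf 16004) (ST.leaf 3934)) (ST.node (ST.leaf 1208) (ST.leaf 16014))))) [(3, 0x12c), (4, 0x153), (8, 0x80), (10, 0x700), (21, 0x525), (23, 0x422), (25, 0x500), (32, 0x10000), (43, 0x100), (49, 0x405), (50, 0x543), (52, 0x126)],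
  C16.good 0x99121448500582 [30, 36, 44, 55] (ST.node (ST.node (ST.node (ST.node (ST.leaf 1227) (ST.leaf 15161)) (ST.node (ST.leaf 15155) (ST.leaf 1229))) (ST.node (ST.node (ST.leaf 2309) (ST.leaf 15159)) (ST.node (ST.leaf 15165) (ST.leaf 547)))) (ST.node (ST.node (ST.node (ST.leaf 545) (ST.leaf 15167)) (ST.node (ST.leaf 15157) (ST.leaf 2311))) (ST.node (ST.node (ST.leaf 1231) (ST.leaf 15153)) (ST.node (ST.leaf 15163) (ST.leaf 1225))))) [(1, 0x806a), (7, 0x8015), (8, 0x8080), (10, 0x8248), (20, 0x4030), (22, 0xc), (27, 0x8000), (34, 0x8041), (41, 0x48), (48, 0x48065), (51, 0x74), (52, 0x8011)],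
  C16.good 0x99122884060524 [31, 37, 44, 55] (ST.node (ST.node (ST.node (ST.node (ST.leaf 15503) (ST.leaf 737)) (ST.node (ST.leaf 2815) (ST.leaf 15493))) (ST.node (ST.node (ST.leaf 15489) (ST.leaf 1543)) (ST.node (ST.leaf 1537) (ST.leaf 15499)))) (ST.node (ST.node (ST.node (ST.leaf 15497) (ST.leaf 1539)) (ST.node (ST.leaf 1541) (ST.leaf 15491))) (ST.node (ST.node (ST.leaf 15495) (ST.leaf 2813)) (ST.node (ST.leaf 739) (ST.leaf 15501))))) [(2, 0xc), (5, 0x32), (8, 0x190), (10, 0x210), (17, 0x1113), (18, 0x2109), (26, 0x19), (35, 0x109), (41, 0x10), (48, 0x4001a), (51, 0xb), (52, 0x11)],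
  C16.good 0x99124222090518 [29, 38, 44, 55] (ST.node (ST.node (ST.node (ST.node (ST.leaf 1901) (ST.leaf 15891)) (ST.node (ST.leaf 15881) (ST.leaf 1907))) (ST.node (ST.node (ST.leaf 3403) (ST.leaf 15885)) (ST.node (ST.leaf 15895) (ST.leaf 961)))) (ST.node (ST.node (ST.node (ST.leaf 963) (ST.leaf 15893)) (ST.node (ST.leaf 15887) (ST.leaf 3401))) (ST.node (ST.node (ST.leaf 1905) (ST.leaf 15883)) (ST.node (ST.leaf 15889) (ST.leaf 1903))))) [(3, 0x2b), (4, 0x15), (8, 0xa7), (10, 0x727), (16, 0xd04), (19, 0x522), (25, 0x427), (33, 0x27), (41, 0x100), (48, 0x40403), (51, 0x525), (52, 0x126)],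
  C16.good 0x99128111a00541 [28, 39, 44, 55] (ST.node (ST.node (ST.node (ST.node (ST.leaf 641) (ST.leaf 15335)) (ST.node (ST.leaf 15325) (ST.leaf 2563))) (ST.node (ST.node (ST.leaf 1387) (ST.leaf 15321)) (ST.node (ST.leaf 15331) (ST.leaf 1381)))) (ST.node (ST.node (ST.node (ST.leaf 1383) (ST.leaf 15329)) (ST.node (ST.leaf 15323) (ST.leaf 1385))) (ST.node (ST.node (ST.leaf 2561) (ST.leaf 15327)) (ST.node (ST.leaf 15333) (ST.leaf 643))))) [(0, 0x15), (6, 0x6a), (8, 0x80), (10, 0x210), (21, 0xc), (23, 0x32), (24, 0x8000), (32, 0x10000), (41, 0x10), (48, 0x4001a), (51, 0x2c), (52, 0x36)],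
  C16.good 0x99211448090a18 [30, 36, 45, 55] (ST.node (ST.node (ST.node (ST.node (ST.leaf 2899) (ST.leaf 15549)) (ST.node (ST.leaf 15559) (ST.leaf 769))) (ST.node (ST.node (ST.leaf 1589) (ST.leaf 15555)) (ST.node (ST.leaf 15545) (ST.leaf 1595)))) (ST.node (ST.node (ST.node (ST.leaf 1593) (ST.leaf 15547)) (ST.node (ST.leaf 15553) (ST.leaf 1591))) (ST.node (ST.node (ST.leaf 771) (ST.leaf 15557)) (ST.node (ST.leaf 15551) (ST.leaf 2897))))) [(3, 0x806a), (4, 0x8015), (9, 0x8127), (11, 0x8066), (16, 0x823), (19, 0x44), (27, 0x8000), (34, 0x8041), (40, 0x20000), (48, 0x48065), (51, 0x43), (52, 0x8026)],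
  C16.good 0x99212884a00a41 [31, 37, 45, 55] (ST.node (ST.node (ST.node (ST.node (ST.leaf 15221) (ST.leaf 579)) (ST.node (ST.leaf 2393) (ST.leaf 15215))) (ST.node (ST.node (ST.leaf 15211) (ST.leaf 1281)) (ST.node (ST.leaf 1279) (ST.leaf 15217)))) (ST.node (ST.node (ST.node (ST.leaf 15219) (ST.leaf 1277)) (ST.node (ST.leaf 1283) (ST.leaf 15209))) (ST.node (ST.node (ST.leaf 15213) (ST.leaf 2395)) (ST.node (ST.leaf 577) (ST.leaf 15223))))) [(0, 0x1083), (6, 0x10ec), (9, 0x180), (11, 0x200), (21, 0x20c), (23, 0x222), (26, 0x1086), (35, 0x1206), (40, 0x20000), (48, 0x4000a), (51, 0x10aa), (52, 0x10a0)],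
  C16.good 0x99214222500a82 [29, 38, 45, 55] (ST.node (ST.node (ST.node (ST.node (ST.leaf 609) (ST.leaf 15279)) (ST.node (ST.leaf 15269) (ST.leaf 2479))) (ST.node (ST.node (ST.leaf 1335) (ST.leaf 15265)) (ST.node (ST.leaf 15275) (ST.leaf 1329)))) (ST.node (ST.node (ST.node (ST.leaf 1331) (ST.leaf 15273)) (ST.node (ST.leaf 15267) (ST.leaf 1333))) (ST.node (ST.node (ST.leaf 2477) (ST.leaf 15271)) (ST.node (ST.leaf 15277) (ST.leaf 611))))) [(1, 0x2b), (7, 0x15), (9, 0x389), (11, 0x289), (20, 0x4230), (22, 0x8c), (25, 0x89), (33, 0x209), (40, 0x20000), (48, 0x400ad), (51, 0xb5), (52, 0x18)],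
  C16.good 0x99218111060a24 [28, 39, 45, 55] (ST.node (ST.node (ST.node (ST.node (ST.leaf 1853) (ST.leaf 15827)) (ST.node (ST.leaf 15833) (ST.leaf 1851))) (ST.node (ST.node (ST.leaf 931) (ST.leaf 15837)) (ST.node (ST.leaf 15831) (ST.leaf 3317)))) (ST.node (ST.node (ST.node (ST.leaf 3319) (ST.leaf 15829)) (ST.node (ST.leaf 15839) (ST.leaf 929))) (ST.node (ST.node (ST.leaf 1849) (ST.leaf 15835)) (ST.node (ST.leaf 15825) (ST.leaf 1855))))) [(2, 0x5), (5, 0x2b), (9, 0x109), (11, 0x9), (17, 0x100a), (18, 0x2000), (24, 0x8000), (32, 0x10000), (40, 0x20000), (48, 0x4000a), (51, 0x2), (52, 0x8)],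
  C16.good 0x99441448a06041 [30, 36, 46, 55] (ST.node (ST.node (ST.node (ST.node (ST.leaf 15721) (ST.leaf 1747)) (ST.node (ST.leaf 1749) (ST.leaf 15715))) (ST.node (ST.node (ST.leaf 15719) (ST.leaf 3149)) (ST.node (ST.leaf 867) (ST.leaf 15725)))) (ST.node (ST.node (ST.node (ST.leaf 15727) (ST.leaf 865)) (ST.node (ST.leaf 3151) (ST.leaf 15717))) (ST.node (ST.node (ST.leaf 15713) (ST.leaf 1751)) (ST.node (ST.leaf 1745) (ST.leaf 15723))))) [(0, 0x8015), (6, 0x806a), (13, 0x8080), (14, 0x8110), (21, 0x28c), (23, 0xa2), (27, 0x8000), (34, 0x8090), (42, 0x310), (48, 0x4830a), (51, 0x32c), (52, 0x8026)],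
  C16.good 0x99442884096018 [31, 37, 46, 55] (ST.node (ST.node (ST.node (ST.node (ST.leaf 15389) (ST.leaf 675)) (ST.node (ST.leaf 2645) (ST.leaf 15383))) (ST.node (ST.node (ST.leaf 15379) (ST.leaf 1437)) (ST.node (ST.leaf 1435) (ST.leaf 15385)))) (ST.node (ST.node (ST.node (ST.leaf 15387) (ST.leaf 1433)) (ST.node (ST.leaf 1439) (ST.leaf 15377))) (ST.node (ST.node (ST.leaf 15381) (ST.leaf 2647)) (ST.node (ST.leaf 673) (ST.leaf 15391))))) [(3, 0x4d), (4, 0x32), (13, 0x241), (14, 0x180), (16, 0x884), (19, 0x263), (26, 0x27), (35, 0x2e6), (42, 0x380), (48, 0x403e5), (51, 0x3e4), (52, 0x1)],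
  C16.good 0x99444222066024 [29, 38, 46, 55] (ST.node (ST.node (ST.node (ST.node (ST.leaf 15941) (ST.leaf 3487)) (ST.node (ST.leaf 993) (ST.leaf 15951))) (ST.node (ST.node (ST.leaf 15947) (ST.leaf 1953)) (ST.node (ST.leaf 1959) (ST.leaf 15937)))) (ST.node (ST.node (ST.node (ST.leaf 15939) (ST.leaf 1957)) (ST.node (ST.leaf 1955) (ST.leaf 15945))) (ST.node (ST.node (ST.leaf 15949) (ST.leaf 995)) (ST.node (ST.leaf 3485) (ST.leaf 15943))))) [(2, 0x15), (5, 0x6a), (13, 0xd8), (14, 0x1d8), (17, 0x10d2), (18, 0x2058), (25, 0xc8), (33, 0x58), (42, 0x141), (48, 0x40193), (51, 0x1ca), (52, 0x59)],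
  C16.good 0x99448111506082 [28, 39, 46, 55] (ST.node (ST.node (ST.node (ST.node (ST.leaf 15665) (ST.leaf 1695)) (ST.node (ST.leaf 1697) (ST.leaf 15659))) (ST.node (ST.node (ST.leaf 15663) (ST.leaf 3065)) (ST.node (ST.leaf 835) (ST.leaf 15669)))) (ST.node (ST.node (ST.node (ST.leaf 15671) (ST.leaf 833)) (ST.node (ST.leaf 3067) (ST.leaf 15661))) (ST.node (ST.node (ST.leaf 15657) (ST.leaf 1699)) (ST.node (ST.leaf 1693) (ST.leaf 15667))))) [(1, 0x6a), (7, 0x15), (13, 0x48), (14, 0x148), (20, 0x4071), (22, 0x4d), (24, 0x8000), (32, 0x10000), (42, 0x141), (48, 0x40124), (51, 0x17d), (52, 0x59)],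
  C16.good 0x99881448069024 [30, 36, 47, 55] (ST.node (ST.node (ST.node (ST.node (ST.leaf 1491) (ST.leaf 15433)) (ST.node (ST.leaf 15443) (ST.leaf 1485))) (ST.node (ST.node (ST.leaf 705) (ST.leaf 15447)) (ST.node (ST.leaf 15437) (ST.leaf 2731)))) (ST.node (ST.node (ST.node (ST.leaf 2729) (ST.leaf 15439)) (ST.node (ST.leaf 15445) (ST.leaf 707))) (ST.node (ST.node (ST.leaf 1487) (ST.leaf 15441)) (ST.node (ST.leaf 15435) (ST.leaf 1489))))) [(2, 0x8015), (5, 0x806a), (12, 0x8410), (15, 0x8019), (17, 0x105b), (18, 0x2000), (27, 0x8000), (34, 0x8041), (43, 0x48), (48, 0x48052), (51, 0x43), (52, 0x8011)],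
  C16.good 0x99882884509082 [31, 37, 47, 55] (ST.node (ST.node (ST.node (ST.node (ST.leaf 899) (ST.leaf 15781)) (ST.node (ST.leaf 15775) (ST.leaf 3233))) (ST.node (ST.node (ST.leaf 1801) (ST.leaf 15771)) (ST.node (ST.leaf 15777) (ST.leaf 1799)))) (ST.node (ST.node (ST.node (ST.leaf 1797) (ST.leaf 15779)) (ST.node (ST.leaf 15769) (ST.leaf 1803))) (ST.node (ST.node (ST.leaf 3235) (ST.leaf 15773)) (ST.node (ST.leaf 15783) (ST.leaf 897))))) [(1, 0x3a2), (7, 0x39c), (12, 0x580), (15, 0x200), (20, 0x40b0), (22, 0x20c), (26, 0x389), (35, 0x109), (43, 0x380), (48, 0x403a4), (51, 0x3b5), (52, 0x11)],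
  C16.good 0x99884222a09041 [29, 38, 47, 55] (ST.node (ST.node (ST.node (ST.node (ST.leaf 15615) (ST.leaf 801)) (ST.node (ST.leaf 2983) (ST.leaf 15605))) (ST.node (ST.node (ST.leaf 15601) (ST.leaf 1647)) (ST.node (ST.leaf 1641) (ST.leaf 15611)))) (ST.node (ST.node (ST.node (ST.leaf 15609) (ST.leaf 1643)) (ST.node (ST.leaf 1645) (ST.leaf 15603))) (ST.node (ST.node (ST.leaf 15607) (ST.leaf 2981)) (ST.node (ST.leaf 803) (ST.leaf 15613))))) [(0, 0x15), (6, 0x6a), (12, 0x1516), (15, 0x1186), (21, 0x8c), (23, 0xb2), (25, 0x1096), (33, 0x1106), (43, 0x100), (48, 0x4118c), (51, 0x10aa), (52, 0x126)],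
  C16.good 0x99888111099018 [28, 39, 47, 55] (ST.node (ST.node (ST.node (ST.node (ST.leaf 2225) (ST.leaf 15103)) (ST.node (ST.leaf 15109) (ST.leaf 515))) (ST.node (ST.node (ST.leaf 1175) (ST.leaf 15105)) (ST.node (ST.leaf 15099) (ST.leaf 1177)))) (ST.node (ST.node (ST.node (ST.leaf 1179) (ST.leaf 15097)) (ST.node (ST.leaf 15107) (ST.leaf 1173))) (ST.node (ST.node (ST.leaf 513) (ST.leaf 15111)) (ST.node (ST.leaf 15101) (ST.leaf 2227))))) [(3, 0x2b), (4, 0x15), (12, 0x527), (15, 0x27), (16, 0x904), (19, 0x122), (24, 0x8000), (32, 0x10000), (43, 0x100), (48, 0x40124), (51, 0x2), (52, 0x126)],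
  C16.good 0x9a0000566a5900 [22, 30, 51, 52, 55] (ST.node (ST.node (ST.node (ST.node (ST.node (ST.leaf 5976) (ST.leaf 3640)) (ST.node (ST.leaf 6054) (ST.leaf 5828))) (ST.node (ST.node (ST.leaf 3578) (ST.leaf 6050)) (ST.node (ST.leaf 5902) (ST.leaf 5980)))) (ST.node (ST.node (ST.node (ST.leaf 3704) (ST.leaf 5904)) (ST.node (ST.leaf 6044) (ST.leaf 5838))) (ST.node (ST.node (ST.leaf 5834) (ST.leaf 3770)) (ST.node (ST.leaf 5908) (ST.leaf 5974))))) (ST.node (ST.node (ST.node (ST.node (ST.leaf 5972) (ST.leaf 5910)) (ST.node (ST.leaf 3768) (ST.leaf 5832))) (ST.node (ST.node (ST.leaf 5836) (ST.leaf 6046)) (ST.node (ST.leaf 5906) (ST.leaf 3706)))) (ST.node (ST.node (ST.node (ST.leaf 5982) (ST.leaf 5900)) (ST.node (ST.leaf 6048) (ST.leaf 3576))) (ST.node (ST.node (ST.leaf 5830) (ST.leaf 6052)) (ST.node (ST.leaf 3642) (ST.leaf 5978)))))) [(8, 0x3a8), (11, 0x32), (12, 0x50e), (14, 0x114), (17, 0x1120), (19,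 0xa), (21, 0x225), (25, 0x1a), (26, 0x26), (28, 0x33c), (49, 0x30f)],
  C16.bad 0x9a0000566aa600 0x7f,
  C16.bad 0x9a000056955900 0x7f,
  C16.good 0x9a00005695a600 [23, 30, 51, 52, 55] (ST.node (ST.node (ST.node (ST.node (ST.node (ST.leaf 5892) (ST.leaf 8610)) (ST.node (ST.leaf 5820) (ST.leaf 8674))) (ST.node (ST.node (ST.leaf 6036) (ST.leaf 8482)) (ST.node (ST.leaf 5964) (ST.leaf 8546)))) (ST.node (ST.node (ST.node (ST.leaf 8548) (ST.leaf 8616)) (ST.node (ST.leaf 8484) (ST.leaf 8680))) (ST.node (ST.node (ST.leaf 8676) (ST.leaf 8488)) (ST.node (ST.leaf 8612) (ST.leaf 8552))))) (ST.node (ST.node (ST.node (ST.node (ST.leaf 8554) (ST.leaf 8614)) (ST.node (ST.leaf 8490) (ST.leaf 8678))) (ST.node (ST.node (ST.leaf 8682) (ST.leaf 8486)) (ST.node (ST.leaf 8618) (ST.leaf 8550)))) (ST.node (ST.node (ST.node (ST.leaf 8544) (ST.leaf 5966)) (ST.node (ST.leaf 8480) (ST.leaf 6038))) (ST.node (ST.node (ST.leaf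 8672) (ST.leaf 5822)) (ST.node (ST.leaf 8608) (ST.leaf 5894)))))) [(9, 0x11e), (10, 0x21d), (13, 0x38), (15, 0x32), (16, 0x800), (18, 0x2006), (20, 0x4000), (25, 0x1a), (26, 0x26), (28, 0x35), (49, 0x6)],
  C16.bad 0x9a0000a96a5900 0x7f,
  C16.good 0x9a0000a96aa600 [22, 31, 51, 52, 55] (ST.node (ST.node (ST.node (ST.node (ST.node (ST.leaf 3729) (ST.leaf 3673)) (ST.node (ST.leaf 3795) (ST.leaf 3611))) (ST.node (ST.node (ST.leaf 3607) (ST.leaf 2189)) (ST.node (ST.leaf 3669) (ST.leaf 2143)))) (ST.node (ST.node (ST.node (ST.leaf 3739) (ST.leaf 3667)) (ST.node (ST.leaf 3801) (ST.leaf 3601))) (ST.node (ST.node (ST.leaf 2047) (ST.leaf 3797)) (ST.node (ST.leaf 2093) (ST.leaf 3735))))) (ST.node (ST.node (ST.node (ST.node (ST.leaf 3733) (ST.leaf 2095)) (ST.node (ST.leaf 3799) (ST.leaf 2045))) (ST.node (ST.node (ST.leaf 3603) (ST.leaf 3803)) (ST.node (ST.leaf 3665) (ST.leaf 3737)))) (ST.node (ST.node (ST.node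 (ST.leaf 2141) (ST.leaf 3671)) (ST.node (ST.leaf 2191) (ST.leaf 3605))) (ST.node (ST.node (ST.leaf 3609) (ST.leaf 3793)) (ST.node (ST.leaf 3675) (ST.leaf 3731)))))) [(9, 0x194), (10, 0x20e), (13, 0xb2), (15, 0x28), (17, 0x1020), (19, 0x8a), (21, 0xa5), (24, 0x801a), (27, 0x26), (29, 0x3c), (49, 0xf)],
  C16.good 0x9a0000a9955900 [23, 31, 51, 52, 55] (ST.node (ST.node (ST.node (ST.node (ST.node (ST.leaf 5927) (ST.leaf 6001)) (ST.node (ST.leaf 5859) (ST.leaf 6069))) (ST.node (ST.node (ST.leaf 6073) (ST.leaf 5855)) (ST.node (ST.leaf 5997) (ST.leaf 5931)))) (ST.node (ST.node (ST.node (ST.leaf 3659) (ST.leaf 5995)) (ST.node (ST.leaf 5849) (ST.leaf 3785))) (ST.node (ST.node (ST.leaf 6067) (ST.leaf 3595)) (ST.node (ST.leaf 3721) (ST.leaf 5921))))) (ST.node (ST.node (ST.node (ST.node (ST.leaf 5923) (ST.leaf 3723)) (ST.node (ST.leaf 3593) (ST.leaf 6065))) (ST.node (ST.node (ST.leaf 3787) (ST.leaf 5851))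 (ST.node (ST.leaf 5993) (ST.leaf 3657)))) (ST.node (ST.node (ST.node (ST.leaf 5929) (ST.leaf 5999)) (ST.node (ST.leaf 5853) (ST.leaf 6075))) (ST.node (ST.node (ST.leaf 6071) (ST.leaf 5857)) (ST.node (ST.leaf 6003) (ST.leaf 5925)))))) [(8, 0xa2), (11, 0x28), (12, 0x40d), (14, 0x7), (16, 0x800), (18, 0x200f), (20, 0x4000), (24, 0x800a), (27, 0x26), (29, 0x2c), (49, 0xf)],
  C16.bad 0x9a0000a995a600 0x7f,
  C16.bad 0x9a00330000590f 0x6860,
  C16.bad 0x9a0033000059f0 0x100f,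
  C16.bad 0x9a00330000a60f 0x480,
  C16.bad 0x9a00330000a6f0 0x100f,
  C16.bad 0x9a00cc0000590f 0x1370,
  C16.bad 0x9a00cc000059f0 0x130f,
  C16.bad 0x9a00cc0000a60f 0x68e0,
  C16.bad 0x9a00cc0000a6f0 0x10480,
  C16.bad 0x9a3c005600000f 0x10000,
  C16.bad 0x9a3c00560000f0 0x309,
  C16.bad 0x9a3c00a900000f 0x780,
  C16.bad 0x9a3c00a90000f0 0x100f,
  C16.bad 0x9a3c33006a0000 0x780,
  C16.bad 0x9a3c3300950000 0x7f,
  C16.bad 0x9a3ccc006a0000 0x7f,
  C16.bad 0x9a3ccc00950000 0x599,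
  C16.bad 0x9ac3005600000f 0x780,
  C16.bad 0x9ac300560000f0 0x130f,
  C16.bad 0x9ac300a900000f 0x1070,
  C16.bad 0x9ac300a90000f0 0x480,
  C16.bad 0x9ac333006a0000 0x7f,
  C16.bad 0x9ac33300950000 0x419,
  C16.bad 0x9ac3cc006a0000 0x780,
  C16.bad 0x9ac3cc00950000 0x7f,
  C16.good 0xa0051869888122 [30, 36, 42, 55] (ST.node (ST.node (ST.node (ST.node (ST.leaf 9053) (ST.leaf 11499)) (ST.node (ST.leaf 9029) (ST.leaf 9051))) (ST.node (ST.node (ST.leaf 6423) (ST.leaf 9045)) (ST.node (ST.leaf 11503) (ST.leaf 9041)))) (ST.node (ST.node (ST.node (ST.leaf 9043) (ST.leaf 11501)) (ST.node (ST.leaf 9047) (ST.leaf 6421))) (ST.node (ST.node (ST.leaf 9049) (ST.leaf 9031)) (ST.node (ST.leaf 11497) (ST.leaf 9055))))) [(1, 0xf), (5, 0x70), (8, 0x1085), (15, 0x1149), (19, 0x50), (23, 0x18), (24, 0x911c), (27, 0x1150), (29, 0x4c), (35, 0x1050), (40, 0x20000), (53, 0x1109)],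
  C16.good 0xa0051896888122 [31, 36, 42, 55] (ST.node (ST.node (ST.node (ST.node (ST.leaf 8898) (ST.leaf 11376)) (ST.node (ST.leaf 8902) (ST.leaf 6272))) (ST.node (ST.node (ST.leaf 8904) (ST.leaf 8886)) (ST.node (ST.leaf 11372) (ST.leaf 8910)))) (ST.node (ST.node (ST.node (ST.leaf 8908) (ST.leaf 11374)) (ST.node (ST.leaf 8884) (ST.leaf 8906))) (ST.node (ST.node (ST.leaf 6274) (ST.leaf 8900)) (ST.node (ST.leaf 11378) (ST.leaf 8896))))) [(1, 0x25a), (5, 0x225), (8, 0x10099), (15, 0x10155), (19, 0x10305), (23, 0x10118), (25, 0x10319), (26, 0x10100), (28, 0x4c), (35, 0x10000), (40, 0x20000), (53, 0x10159)],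
  C16.good 0xa005245a218184 [30, 37, 42, 55] (ST.node (ST.node (ST.node (ST.node (ST.leaf 8380) (ST.leaf 10934)) (ST.node (ST.leaf 8356) (ST.leaf 8378))) (ST.node (ST.node (ST.leaf 5718) (ST.leaf 8372)) (ST.node (ST.leaf 10938) (ST.leaf 8368)))) (ST.node (ST.node (ST.node (ST.leaf 8370) (ST.leaf 10936)) (ST.node (ST.leaf 8374) (ST.leaf 5716))) (ST.node (ST.node (ST.leaf 8376) (ST.leaf 8358)) (ST.node (ST.leaf 10932) (ST.leaf 8382))))) [(2, 0x47), (7, 0x38), (8, 0x2fb), (15, 0x10a), (16, 0xb03), (21, 0x25a), (25, 0x7b), (27, 0x342), (28, 0x33), (34, 0x242), (40, 0x20000), (53, 0x31b)],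
  C16.good 0xa00524a5218184 [31, 37, 42, 55] (ST.node (ST.node (ST.node (ST.node (ST.leaf 6153) (ST.leaf 3859)) (ST.node (ST.leaf 6149) (ST.leaf 8779))) (ST.node (ST.node (ST.leaf 8775) (ST.leaf 6161)) (ST.node (ST.leaf 6159) (ST.leaf 6137)))) (ST.node (ST.node (ST.node (ST.leaf 6139) (ST.leaf 6157)) (ST.node (ST.leaf 6163) (ST.leaf 8773))) (ST.node (ST.node (ST.leaf 8777) (ST.leaf 6151)) (ST.node (ST.leaf 3857) (ST.leaf 6155))))) [(2, 0x47), (7, 0x38), (8, 0x18a), (15, 0x171), (16, 0x841), (21, 0x118), (24, 0x807b), (26, 0x48), (29, 0x33), (34, 0x148), (40, 0x20000), (53, 0x11)],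
  C16.good 0xa0054166128111 [30, 38, 42, 55] (ST.node (ST.node (ST.node (ST.node (ST.leaf 6634) (ST.leaf 9244)) (ST.node (ST.leaf 6638) (ST.leaf 4260))) (ST.node (ST.node (ST.leaf 6640) (ST.leaf 6622)) (ST.node (ST.leaf 9240) (ST.leaf 6646)))) (ST.node (ST.node (ST.node (ST.leaf 6644) (ST.leaf 9242)) (ST.node (ST.leaf 6620) (ST.leaf 6642))) (ST.node (ST.node (ST.leaf 4262) (ST.leaf 6636)) (ST.node (ST.leaf 9246) (ST.leaf 6632))))) [(0, 0x47), (4, 0x38), (8, 0xaa), (15, 0x46), (17, 0x1000), (20, 0x4000), (25, 0x68), (26, 0x20), (29, 0x4c), (32, 0x10000), (40, 0x20000), (53, 0x6)],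
  C16.good 0xa0054199128111 [31, 38, 42, 55] (ST.node (ST.node (ST.node (ST.node (ST.leaf 9389) (ST.leaf 6783)) (ST.node (ST.leaf 4385) (ST.leaf 6787))) (ST.node (ST.node (ST.leaf 6771) (ST.leaf 6789)) (ST.node (ST.leaf 6795) (ST.leaf 9385)))) (ST.node (ST.node (ST.node (ST.leaf 9387) (ST.leaf 6793)) (ST.node (ST.leaf 6791) (ST.leaf 6769))) (ST.node (ST.node (ST.leaf 6785) (ST.leaf 4387)) (ST.node (ST.leaf 6781) (ST.leaf 9391))))) [(0, 0x43), (4, 0x18), (8, 0xc2), (15, 0x10a), (17, 0x1000), (20, 0x4000), (24, 0x8148), (27, 0x100), (28, 0x48), (32, 0x10000), (40, 0x20000), (53, 0x102)],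
  C16.good 0xa0058255448148 [30, 39, 42, 55] (ST.node (ST.node (ST.node (ST.node (ST.leaf 4644) (ST.leaf 4666)) (ST.node (ST.leaf 4668) (ST.leaf 7098))) (ST.node (ST.node (ST.leaf 7102) (ST.leaf 4656)) (ST.node (ST.leaf 2778) (ST.leaf 4660)))) (ST.node (ST.node (ST.node (ST.leaf 4662) (ST.leaf 2776)) (ST.node (ST.leaf 4658) (ST.leaf 7100))) (ST.node (ST.node (ST.leaf 7096) (ST.leaf 4670)) (ST.node (ST.leaf 4664) (ST.leaf 4646))))) [(3, 0x118), (6, 0x143), (8, 0x284), (15, 0x217), (18, 0x2303), (22, 0x305), (24, 0x8117), (26, 0x100), (28, 0x17), (33, 0x104), (40, 0x20000), (53, 0x102)],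
  C16.good 0xa00582aa448148 [31, 39, 42, 55] (ST.node (ST.node (ST.node (ST.node (ST.leaf 6951) (ST.leaf 4545)) (ST.node (ST.leaf 4543) (ST.leaf 4521))) (ST.node (ST.node (ST.leaf 4537) (ST.leaf 2695)) (ST.node (ST.leaf 4533) (ST.leaf 6955)))) (ST.node (ST.node (ST.node (ST.leaf 6953) (ST.leaf 4535)) (ST.node (ST.leaf 2693) (ST.leaf 4539))) (ST.node (ST.node (ST.leaf 4523) (ST.leaf 4541)) (ST.node (ST.leaf 4547) (ST.leaf 6949))))) [(3, 0x18), (6, 0x67), (8, 0x284), (15, 0x317), (18, 0x2330), (22, 0x236), (25, 0x17), (27, 0x100), (29, 0x33), (33, 0x20), (40, 0x20000), (53, 0x126)],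
  C16.good 0xa00a1869442848 [30, 36, 43, 55] (ST.node (ST.node (ST.node (ST.node (ST.leaf 6719) (ST.leaf 9333)) (ST.node (ST.leaf 11751) (ST.leaf 9329))) (ST.node (ST.node (ST.leaf 9341) (ST.leaf 11747)) (ST.node (ST.leaf 9317) (ST.leaf 9339)))) (ST.node (ST.node (ST.node (ST.leaf 9337) (ST.leaf 9319)) (ST.node (ST.leaf 11745) (ST.leaf 9343))) (ST.node (ST.node (ST.leaf 9331) (ST.leaf 11749)) (ST.node (ST.leaf 9335) (ST.leaf 6717))))) [(3, 0xf), (6, 0x70), (11, 0x20), (13, 0x613), (18, 0x24a7), (22, 0x201), (24, 0x8213), (27, 0x424), (29, 0x637), (35, 0x4a0), (41, 0x604), (53, 0x206)],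
  C16.good 0xa00a1896442848 [31, 36, 43, 55] (ST.node (ST.node (ST.node (ST.node (ST.leaf 11620) (ST.leaf 9198)) (ST.node (ST.leaf 9192) (ST.leaf 9174))) (ST.node (ST.node (ST.leaf 9190) (ST.leaf 6568)) (ST.node (ST.leaf 9186) (ST.leaf 11624)))) (ST.node (ST.node (ST.node (ST.leaf 11626) (ST.leaf 9184)) (ST.node (ST.leaf 6570) (ST.leaf 9188))) (ST.node (ST.node (ST.leaf 9172) (ST.leaf 9194)) (ST.node (ST.leaf 9196) (ST.leaf 11622))))) [(3, 0x8ad), (6, 0x8d2), (11, 0x10806), (13, 0x10a11), (18, 0x12ab6), (22, 0x10834), (25, 0x10a35), (26, 0x10826), (28, 0xab1), (35, 0x10000), (41, 0xa82), (53, 0x10282)],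
  C16.good 0xa00a245a122811 [30, 37, 43, 55] (ST.node (ST.node (ST.node (ST.node (ST.leaf 7042) (ST.leaf 4600)) (ST.node (ST.leaf 7038) (ST.leaf 9640))) (ST.node (ST.node (ST.leaf 9636) (ST.leaf 7050)) (ST.node (ST.leaf 7044) (ST.leaf 7026)))) (ST.node (ST.node (ST.node (ST.leaf 7024) (ST.leaf 7046)) (ST.node (ST.leaf 7048) (ST.leaf 9638))) (ST.node (ST.node (ST.leaf 9642) (ST.leaf 7036)) (ST.node (ST.leaf 4602) (ST.leaf 7040))))) [(0, 0x449), (4, 0x436), (11, 0x10a), (13, 0x66c), (17, 0x112a), (20, 0x4368), (25, 0x762), (27, 0x424), (28, 0x324), (34, 0x12a), (41, 0x368), (53, 0x76a)],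
  C16.good 0xa00a24a5122811 [31, 37, 43, 55] (ST.node (ST.node (ST.node (ST.node (ST.leaf 6895) (ST.leaf 4477)) (ST.node (ST.leaf 6891) (ST.leaf 9497))) (ST.node (ST.node (ST.leaf 9493) (ST.leaf 6903)) (ST.node (ST.leaf 6897) (ST.leaf 6879)))) (ST.node (ST.node (ST.node (ST.leaf 6877) (ST.leaf 6899)) (ST.node (ST.leaf 6901) (ST.leaf 9495))) (ST.node (ST.node (ST.leaf 9499) (ST.leaf 6889)) (ST.node (ST.leaf 4479) (ST.leaf 6893))))) [(0, 0x349), (4, 0x336), (11, 0x22e), (13, 0x10e), (17, 0x1148), (20, 0x402e), (24, 0x8324), (26, 0x346), (29, 0x62), (34, 0x148), (41, 0x2e), (53, 0x34e)],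
  C16.good 0xa00a4166212884 [30, 38, 43, 55] (ST.node (ST.node (ST.node (ST.node (ST.leaf 6326) (ST.leaf 6344)) (ST.node (ST.leaf 6350) (ST.leaf 8952))) (ST.node (ST.node (ST.leaf 8956) (ST.leaf 6338)) (ST.node (ST.leaf 4012) (ST.leaf 6342)))) (ST.node (ST.node (ST.node (ST.leaf 6340) (ST.leaf 4014)) (ST.node (ST.leaf 6336) (ST.leaf 8958))) (ST.node (ST.node (ST.leaf 8954) (ST.leaf 6348)) (ST.node (ST.leaf 6346) (ST.leaf 6324))))) [(2, 0x285), (7, 0x2fa), (11, 0x60a), (13, 0x39), (16, 0xc89), (21, 0x6a1), (25, 0xfb), (26, 0x271), (29, 0x4c2), (32, 0x10000), (41, 0x4f1), (53, 0x6d9)],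
  C16.good 0xa00a4199212884 [31, 38, 43, 55] (ST.node (ST.node (ST.node (ST.node (ST.leaf 9097) (ST.leaf 6499)) (ST.node (ST.leaf 6493) (ST.leaf 6475))) (ST.node (ST.node (ST.leaf 6491) (ST.leaf 4137)) (ST.node (ST.leaf 6487) (ST.leaf 9101)))) (ST.node (ST.node (ST.node (ST.leaf 9103) (ST.leaf 6485)) (ST.node (ST.leaf 4139) (ST.leaf 6489))) (ST.node (ST.node (ST.leaf 6473) (ST.leaf 6495)) (ST.node (ST.leaf 6497) (ST.leaf 9099))))) [(2, 0x27e), (7, 0x201), (11, 0xb9), (13, 0xc2), (16, 0x84b), (21, 0x298), (24, 0x80fb), (27, 0x28a), (28, 0x271), (32, 0x10000), (41, 0x242), (53, 0x91)],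
  C16.good 0xa00a8255882822 [30, 39, 43, 55] (ST.node (ST.node (ST.node (ST.node (ST.leaf 3532) (ST.leaf 5778)) (ST.node (ST.leaf 8432) (ST.leaf 5774))) (ST.node (ST.node (ST.leaf 5786) (ST.leaf 8428)) (ST.node (ST.leaf 5762) (ST.leaf 5780)))) (ST.node (ST.node (ST.node (ST.leaf 5782) (ST.leaf 5760)) (ST.node (ST.leaf 8430) (ST.leaf 5784))) (ST.node (ST.node (ST.leaf 5772) (ST.leaf 8434)) (ST.node (ST.leaf 5776) (ST.leaf 3534))))) [(1, 0x65a), (5, 0x625), (11, 0x24c), (13, 0x555), (19, 0x1000), (23, 0x354), (24, 0x8655), (26, 0x151c), (28, 0x1349), (33, 0x155), (41, 0x1305), (53, 0x640)],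
  C16.good 0xa00a82aa882822 [31, 39, 43, 55] (ST.node (ST.node (ST.node (ST.node (ST.leaf 3903) (ST.leaf 3921)) (ST.node (ST.leaf 3927) (ST.leaf 6209))) (ST.node (ST.node (ST.leaf 6213) (ST.leaf 3915)) (ST.node (ST.leaf 2273) (ST.leaf 3919)))) (ST.node (ST.node (ST.node (ST.leaf 3917) (ST.leaf 2275)) (ST.node (ST.leaf 3913) (ST.leaf 6215))) (ST.node (ST.node (ST.leaf 6211) (ST.leaf 3925)) (ST.node (ST.leaf 3923) (ST.leaf 3901))))) [(1, 0x8d2), (5, 0x8ad), (11, 0xc5d), (13, 0xbdd), (19, 0x51c), (23, 0xb10), (25, 0x8dd), (27, 0x655), (29, 0x99), (33, 0x1cc), (41, 0xd5), (53, 0x6d9)],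
  C16.good 0xa0601869211484 [30, 36, 46, 55] (ST.node (ST.node (ST.node (ST.node (ST.leaf 10061) (ST.leaf 12367)) (ST.node (ST.leaf 10037) (ST.leaf 10059))) (ST.node (ST.node (ST.leaf 7459) (ST.leaf 10053)) (ST.node (ST.leaf 12371) (ST.leaf 10049)))) (ST.node (ST.node (ST.node (ST.leaf 10051) (ST.leaf 12369)) (ST.node (ST.leaf 10055) (ST.leaf 7457))) (ST.node (ST.node (ST.leaf 10057) (ST.leaf 10039)) (ST.node (ST.leaf 12365) (ST.leaf 10063))))) [(2, 0x47), (7, 0x38), (10, 0x239), (12, 0x40a), (16, 0x8f2), (21, 0x18), (24, 0x800a), (27, 0x71), (29, 0x7b), (35, 0xc2), (45, 0x48), (53, 0x28)],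
  C16.good 0xa0601896211484 [31, 36, 46, 55] (ST.node (ST.node (ST.node (ST.node (ST.leaf 10206) (ST.leaf 12488)) (ST.node (ST.leaf 10182) (ST.leaf 10200))) (ST.node (ST.node (ST.leaf 7604) (ST.leaf 10198)) (ST.node (ST.leaf 12492) (ST.leaf 10194)))) (ST.node (ST.node (ST.node (ST.leaf 10192) (ST.leaf 12494)) (ST.node (ST.leaf 10196) (ST.leaf 7606))) (ST.node (ST.node (ST.leaf 10202) (ST.leaf 10180)) (ST.node (ST.leaf 12490) (ST.leaf 10204))))) [(2, 0x47), (7, 0x32), (10, 0x102f1), (12, 0x104c2), (16, 0x10841), (21, 0x100a1), (25, 0x100c2), (26, 0x100b3), (28, 0x1092), (35, 0x10000), (45, 0x10a1), (53, 0x100e0)],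
  C16.good 0xa060245a881422 [30, 37, 46, 55] (ST.node (ST.node (ST.node (ST.node (ST.leaf 7188) (ST.leaf 4726)) (ST.node (ST.leaf 7184) (ST.leaf 9786))) (ST.node (ST.node (ST.leaf 9782) (ST.leaf 7196)) (ST.node (ST.leaf 7194) (ST.leaf 7172)))) (ST.node (ST.node (ST.node (ST.leaf 7174) (ST.leaf 7192)) (ST.node (ST.leaf 7198) (ST.leaf 9780))) (ST.node (ST.node (ST.leaf 9784) (ST.leaf 7186)) (ST.node (ST.leaf 4724) (ST.leaf 7190))))) [(1, 0x91e), (5, 0x961), (10, 0xb44), (12, 0xc5d), (19, 0x814), (23, 0x14d), (25, 0x95d), (27, 0x55), (28, 0x190d), (34, 0x155), (45, 0x1941), (53, 0xc)],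
  C16.good 0xa06024a5881422 [31, 37, 46, 55] (ST.node (ST.node (ST.node (ST.node (ST.leaf 7345) (ST.leaf 9927)) (ST.node (ST.leaf 7321) (ST.leaf 7343))) (ST.node (ST.node (ST.leaf 4851) (ST.leaf 7337)) (ST.node (ST.leaf 9931) (ST.leaf 7333)))) (ST.node (ST.node (ST.node (ST.leaf 7335) (ST.leaf 9929)) (ST.node (ST.leaf 7339) (ST.leaf 4849))) (ST.node (ST.node (ST.leaf 7341) (ST.leaf 7323)) (ST.node (ST.leaf 9925) (ST.leaf 7347))))) [(1, 0x16), (5, 0x69), (10, 0x2d5), (12, 0x555), (19, 0x149), (23, 0x118), (24, 0x8055), (26, 0xcc), (29, 0x99), (34, 0x1cc), (45, 0xd5), (53, 0x95)],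
  C16.good 0xa0604166441448 [30, 38, 46, 55] (ST.node (ST.node (ST.node (ST.node (ST.leaf 10542) (ST.leaf 7964)) (ST.node (ST.leaf 5378) (ST.leaf 7968))) (ST.node (ST.node (ST.leaf 7952) (ST.leaf 7974)) (ST.node (ST.leaf 7976) (ST.leaf 10538)))) (ST.node (ST.node (ST.node (ST.leaf 10536) (ST.leaf 7978)) (ST.node (ST.leaf 7972) (ST.leaf 7954))) (ST.node (ST.node (ST.leaf 7970) (ST.leaf 5376)) (ST.node (ST.leaf 7966) (ST.leaf 10540))))) [(3, 0x38), (6, 0x47), (10, 0x217), (12, 0x424), (18, 0x2007), (22, 0x4000), (25, 0x4016), (26, 0x20), (29, 0x4032), (32, 0x10000), (45, 0x4001), (53, 0x6)],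
  C16.good 0xa0604199441448 [31, 38, 46, 55] (ST.node (ST.node (ST.node (ST.node (ST.leaf 10399) (ST.leaf 7817)) (ST.node (ST.leaf 5255) (ST.leaf 7821))) (ST.node (ST.node (ST.leaf 7805) (ST.leaf 7827)) (ST.node (ST.leaf 7829) (ST.leaf 10395)))) (ST.node (ST.node (ST.node (ST.leaf 10393) (ST.leaf 7831)) (ST.node (ST.leaf 7825) (ST.leaf 7807))) (ST.node (ST.node (ST.leaf 7823) (ST.leaf 5253)) (ST.node (ST.leaf 7819) (ST.leaf 10397))))) [(3, 0x18), (6, 0x43), (10, 0x280), (12, 0x493), (18, 0x3091), (22, 0x81), (24, 0x9001), (27, 0x93), (28, 0x1092), (32, 0x10000), (45, 0x1081), (53, 0x91)],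
  C16.good 0xa0608255121411 [30, 39, 46, 55] (ST.node (ST.node (ST.node (ST.node (ST.leaf 8136) (ST.leaf 5526)) (ST.node (ST.leaf 3364) (ST.leaf 5530))) (ST.node (ST.node (ST.leaf 5514) (ST.leaf 5532)) (ST.node (ST.leaf 5538) (ST.leaf 8132)))) (ST.node (ST.node (ST.node (ST.leaf 8134) (ST.leaf 5536)) (ST.node (ST.leaf 5534) (ST.leaf 5512))) (ST.node (ST.node (ST.leaf 5528) (ST.leaf 3366)) (ST.node (ST.leaf 5524) (ST.leaf 8138))))) [(0, 0x143), (4, 0x112), (10, 0x246), (12, 0x504), (17, 0x3006), (20, 0x4104), (24, 0xa140), (26, 0x100), (28, 0x2040), (33, 0x104), (45, 0x2006), (53, 0x102)],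
  C16.good 0xa06082aa121411 [31, 39, 46, 55] (ST.node (ST.node (ST.node (ST.node (ST.leaf 3449) (ST.leaf 5655)) (ST.node (ST.leaf 8285) (ST.leaf 5651))) (ST.node (ST.node (ST.leaf 5663) (ST.leaf 8281)) (ST.node (ST.leaf 5639) (ST.leaf 5657)))) (ST.node (ST.node (ST.node (ST.leaf 5659) (ST.leaf 5637)) (ST.node (ST.leaf 8283) (ST.leaf 5661))) (ST.node (ST.node (ST.leaf 5649) (ST.leaf 8287)) (ST.node (ST.leaf 5653) (ST.leaf 3451))))) [(0, 0x67), (4, 0x18), (10, 0x284), (12, 0x4e8), (17, 0x10aa), (20, 0x4020), (25, 0xc2), (27, 0xec), (29, 0xe6), (33, 0x20), (45, 0xaa), (53, 0xca)],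
  C16.good 0xa0901869124211 [30, 36, 47, 55] (ST.node (ST.node (ST.node (ST.node (ST.leaf 10347) (ST.leaf 10325)) (ST.node (ST.leaf 12615) (ST.leaf 10349))) (ST.node (ST.node (ST.leaf 10337) (ST.leaf 12619)) (ST.node (ST.leaf 10341) (ST.leaf 7755)))) (ST.node (ST.node (ST.node (ST.leaf 7753) (ST.leaf 10343)) (ST.node (ST.leaf 12617) (ST.leaf 10339))) (ST.node (ST.node (ST.leaf 10351) (ST.leaf 12613)) (ST.node (ST.leaf 10327) (ST.leaf 10345))))) [(0, 0x47), (4, 0x38), (9, 0x1a4), (14, 0x68), (17, 0x10c2), (20, 0x40c2), (24, 0x8042), (27, 0xe), (29, 0x4c), (35, 0x8a), (44, 0x48), (53, 0x60)],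
  C16.good 0xa0901896124211 [31, 36, 47, 55] (ST.node (ST.node (ST.node (ST.node (ST.leaf 10482) (ST.leaf 12740)) (ST.node (ST.leaf 10486) (ST.leaf 7900))) (ST.node (ST.node (ST.leaf 10488) (ST.leaf 10470)) (ST.node (ST.leaf 12736) (ST.leaf 10494)))) (ST.node (ST.node (ST.node (ST.leaf 10492) (ST.leaf 12738)) (ST.node (ST.leaf 10468) (ST.leaf 10490))) (ST.node (ST.node (ST.leaf 7902) (ST.leaf 10484)) (ST.node (ST.leaf 12742) (ST.leaf 10480))))) [(0, 0x47), (4, 0x38), (9, 0x10120), (14, 0x100ec), (17, 0x1100a), (20, 0x1400a), (25, 0x100c8), (26, 0x100c6), (28, 0x4c), (35, 0x10000), (44, 0xa), (53, 0x100ea)],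
  C16.good 0xa090245a444248 [30, 37, 47, 55] (ST.node (ST.node (ST.node (ST.node (ST.leaf 10648) (ST.leaf 8074)) (ST.node (ST.leaf 5468) (ST.leaf 8078))) (ST.node (ST.node (ST.leaf 8062) (ST.leaf 8080)) (ST.node (ST.leaf 8086) (ST.leaf 10644)))) (ST.node (ST.node (ST.node (ST.leaf 10646) (ST.leaf 8084)) (ST.node (ST.leaf 8082) (ST.leaf 8060))) (ST.node (ST.node (ST.leaf 8076) (ST.leaf 5470)) (ST.node (ST.leaf 8072) (ST.leaf 10650))))) [(3, 0x38), (6, 0x47), (9, 0x504), (14, 0x284), (18, 0x22b0), (22, 0x6b2), (25, 0x493), (27, 0x424), (28, 0x33), (34, 0x633), (44, 0x497), (53, 0x95)],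
  C16.good 0xa09024a5444248 [31, 37, 47, 55] (ST.node (ST.node (ST.node (ST.node (ST.leaf 8223) (ST.leaf 10793)) (ST.node (ST.leaf 8227) (ST.leaf 5593))) (ST.node (ST.node (ST.leaf 8229) (ST.leaf 8211)) (ST.node (ST.leaf 10789) (ST.leaf 8235)))) (ST.node (ST.node (ST.node (ST.leaf 8233) (ST.leaf 10791)) (ST.node (ST.leaf 8209) (ST.leaf 8231))) (ST.node (ST.node (ST.leaf 5595) (ST.leaf 8225)) (ST.node (ST.leaf 10795) (ST.leaf 8221))))) [(3, 0x38), (6, 0x47), (9, 0x120), (14, 0x200), (18, 0x2207), (22, 0x810), (24, 0x8a02), (26, 0xa31), (29, 0x33), (34, 0x217), (44, 0xa06), (53, 0x11)],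
  C16.good 0xa0904166884222 [30, 38, 47, 55] (ST.node (ST.node (ST.node (ST.node (ST.leaf 7656) (ST.leaf 7678)) (ST.node (ST.leaf 7680) (ST.leaf 10250))) (ST.node (ST.node (ST.leaf 10254) (ST.leaf 7668)) (ST.node (ST.leaf 5130) (ST.leaf 7672)))) (ST.node (ST.node (ST.node (ST.leaf 7674) (ST.leaf 5128)) (ST.node (ST.leaf 7670) (ST.leaf 10252))) (ST.node (ST.node (ST.leaf 10248) (ST.leaf 7682)) (ST.node (ST.leaf 7676) (ST.leaf 7658))))) [(1, 0x1046), (5, 0x1039), (9, 0x1349), (14, 0x1285), (19, 0x250), (23, 0x1251), (25, 0x1085), (26, 0x129c), (29, 0x4c), (32, 0x10000), (44, 0x1250), (53, 0x95)]]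

set_option Elab.async false in
theorem c16_14_ok : c16_14.all (chkC16 ent 16240 pbsD colsD) = true := by decide +kernel

end Cfsg.Agent.Helper2.RuL
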