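import Cfsg.Agent.Helper2.RuL.Chk4
import Cfsg.Agent.Helper2.RuL.Tab

/-! Certificates for the weight-16 words of the parity code, chunk 15 (helper2; generated). -/

set_option autoImplicit false
set_option maxRecDepth 100000

namespace Cfsg.Agent.Helper2.RuL

open Cfsg.Agent.Helper5.RuLat

def c16_15 : List C16 := [
  C16.good 0xa0904199884222 [31, 38, 47, 55] (ST.node (ST.node (ST.node (ST.node (ST.leaf 10111) (ST.leaf 7521)) (ST.node (ST.leaf 5007) (ST.leaf 7525))) (ST.node (ST.node (ST.leaf 7509) (ST.leaf 7531)) (ST.node (ST.leaf 7533) (ST.leaf 10107)))) (ST.node (ST.node (ST.node (ST.leaf 10105) (ST.leaf 7535)) (ST.node (ST.leaf 7529) (ST.leaf 7511))) (ST.node (ST.node (ST.leaf 7527) (ST.leaf 5005)) (ST.node (ST.leaf 7523) (ST.leaf 10109))))) [(1, 0x40c2), (5, 0x40bd), (9, 0x41d4), (14, 0x4018), (19, 0x4004), (23, 0x81), (24, 0xc001), (27, 0x404d), (28, 0x4c), (32, 0x10000), (44, 0x4081), (53, 0x95)],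
  C16.good 0xa0908255214284 [30, 39, 47, 55] (ST.node (ST.node (ST.node (ST.node (ST.leaf 7250) (ST.leaf 4780)) (ST.node (ST.leaf 2862) (ST.leaf 4784))) (ST.node (ST.node (ST.leaf 4768) (ST.leaf 4790)) (ST.node (ST.leaf 4792) (ST.leaf 7246)))) (ST.node (ST.node (ST.node (ST.leaf 7244) (ST.leaf 4794)) (ST.node (ST.leaf 4788) (ST.leaf 4770))) (ST.node (ST.node (ST.leaf 4786) (ST.leaf 2860)) (ST.node (ST.leaf 4782) (ST.leaf 7248))))) [(2, 0x674), (7, 0x60b), (9, 0x57b), (14, 0x233), (16, 0xa78), (21, 0x463), (24, 0x8671), (26, 0x642), (28, 0x33), (33, 0x633), (44, 0xa), (53, 0x611)],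
  C16.good 0xa09082aa214284 [31, 39, 47, 55] (ST.node (ST.node (ST.node (ST.node (ST.leaf 4917) (ST.leaf 7395)) (ST.node (ST.leaf 4893) (ST.leaf 4915))) (ST.node (ST.node (ST.leaf 2947) (ST.leaf 4909)) (ST.node (ST.leaf 7399) (ST.leaf 4905)))) (ST.node (ST.node (ST.node (ST.leaf 4907) (ST.leaf 7397)) (ST.node (ST.leaf 4911) (ST.leaf 2945))) (ST.node (ST.node (ST.leaf 4913) (ST.leaf 4895)) (ST.node (ST.leaf 7393) (ST.leaf 4919))))) [(2, 0xcd), (7, 0xb2), (9, 0x3c2), (14, 0x2fb), (16, 0xa83), (21, 0x2209), (25, 0x2028), (27, 0x20d3), (29, 0x33), (33, 0x8a), (44, 0x20ea), (53, 0x60)],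
  C16.good 0xa5121422090a82 [29, 36, 44, 55] (ST.node (ST.node (ST.node (ST.node (ST.leaf 857) (ST.leaf 15711)) (ST.node (ST.leaf 15701) (ST.leaf 3131))) (ST.node (ST.node (ST.leaf 1739) (ST.leaf 15697)) (ST.node (ST.leaf 15707) (ST.leaf 1733)))) (ST.node (ST.node (ST.node (ST.leaf 1735) (ST.leaf 15705)) (ST.node (ST.leaf 15699) (ST.leaf 1737))) (ST.node (ST.node (ST.leaf 3129) (ST.leaf 15703)) (ST.node (ST.leaf 15709) (ST.leaf 859))))) [(1, 0x25a), (7, 0x225), (9, 0x324), (11, 0x80), (16, 0xadc), (19, 0xf4), (25, 0x255), (34, 0x271), (41, 0xd5), (48, 0x40230), (50, 0x2bc), (53, 0x8c)],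
  C16.good 0xa5122811a00a24 [28, 37, 44, 55] (ST.node (ST.node (ST.node (ST.node (ST.leaf 2625) (ST.leaf 15367)) (ST.node (ST.leaf 15373) (ST.leaf 667))) (ST.node (ST.node (ST.leaf 1423) (ST.leaf 15369)) (ST.node (ST.leaf 15363) (ST.leaf 1425)))) (ST.node (ST.node (ST.node (ST.leaf 1427) (ST.leaf 15361)) (ST.node (ST.leaf 15371) (ST.leaf 1421))) (ST.node (ST.node (ST.leaf 665) (ST.leaf 15375)) (ST.node (ST.leaf 15365) (ST.leaf 2627))))) [(2, 0xf), (5, 0x70), (9, 0x18a), (11, 0x20a), (21, 0x25a), (23, 0x201), (24, 0x8000), (35, 0x28a), (41, 0xa), (48, 0x4001a), (50, 0x49), (53, 0x53)],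
  C16.good 0xa5124248500a18 [30, 38, 44, 55] (ST.node (ST.node (ST.node (ST.node (ST.leaf 987) (ST.leaf 15933)) (ST.node (ST.leaf 15927) (ST.leaf 3465))) (ST.node (ST.node (ST.leaf 1945) (ST.leaf 15923)) (ST.node (ST.leaf 15929) (ST.leaf 1943)))) (ST.node (ST.node (ST.node (ST.leaf 1941) (ST.leaf 15931)) (ST.node (ST.leaf 15921) (ST.leaf 1947))) (ST.node (ST.node (ST.leaf 3467) (ST.leaf 15925)) (ST.node (ST.leaf 15935) (ST.leaf 985))))) [(3, 0xf), (4, 0x54), (9, 0x300), (11, 0x480), (20, 0x4242), (22, 0x685), (27, 0x84), (33, 0x484), (41, 0x604), (48, 0x400c5), (50, 0x647), (53, 0x682)],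
  C16.good 0xa5128184060a41 [31, 39, 44, 55] (ST.node (ST.node (ST.node (ST.node (ST.leaf 827) (ST.leaf 15653)) (ST.node (ST.leaf 15647) (ST.leaf 3045))) (ST.node (ST.node (ST.leaf 1685) (ST.leaf 15643)) (ST.node (ST.leaf 15649) (ST.leaf 1683)))) (ST.node (ST.node (ST.node (ST.leaf 1681) (ST.leaf 15651)) (ST.node (ST.leaf 15641) (ST.leaf 1687))) (ST.node (ST.node (ST.leaf 3047) (ST.leaf 15645)) (ST.node (ST.leaf 15655) (ST.leaf 825))))) [(0, 0x201), (6, 0x25a), (9, 0x10e), (11, 0x20a), (17, 0x1000), (18, 0x201a), (26, 0x20e), (32, 0x10000), (41, 0xa), (48, 0x4001a), (50, 0x21c), (53, 0x206)],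
  C16.good 0xa5211422500518 [29, 36, 45, 55] (ST.node (ST.node (ST.node (ST.node (ST.leaf 697) (ST.leaf 15431)) (ST.node (ST.leaf 15421) (ST.leaf 2711))) (ST.node (ST.node (ST.leaf 1479) (ST.leaf 15417)) (ST.node (ST.leaf 15427) (ST.leaf 1473)))) (ST.node (ST.node (ST.node (ST.leaf 1475) (ST.leaf 15425)) (ST.node (ST.leaf 15419) (ST.leaf 1477))) (ST.node (ST.node (ST.leaf 2709) (ST.leaf 15423)) (ST.node (ST.leaf 15429) (ST.leaf 699))))) [(3, 0xb), (4, 0x74), (8, 0x80), (10, 0x204), (20, 0x4066), (22, 0x21), (25, 0x4), (34, 0x20), (40, 0x20000), (48, 0x40061), (50, 0x47), (53, 0x26)],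
  C16.good 0xa5212811060541 [28, 37, 45, 55] (ST.node (ST.node (ST.node (ST.node (ST.leaf 889) (ST.leaf 15767)) (ST.node (ST.leaf 15757) (ST.leaf 3215))) (ST.node (ST.node (ST.leaf 1791) (ST.leaf 15753)) (ST.node (ST.leaf 15763) (ST.leaf 1785)))) (ST.node (ST.node (ST.node (ST.leaf 1787) (ST.leaf 15761)) (ST.node (ST.leaf 15755) (ST.leaf 1789))) (ST.node (ST.node (ST.leaf 3213) (ST.leaf 15759)) (ST.node (ST.leaf 15765) (ST.leaf 891))))) [(0, 0x1), (6, 0x50), (8, 0x180), (10, 0x200), (17, 0x1100), (18, 0x2110), (24, 0x8000), (35, 0x100), (40, 0x20000), (48, 0x40010), (50, 0x12), (53, 0x2)],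
  C16.good 0xa5214248090582 [30, 38, 45, 55] (ST.node (ST.node (ST.node (ST.node (ST.leaf 15599) (ST.leaf 793)) (ST.node (ST.leaf 2963) (ST.leaf 15589))) (ST.node (ST.node (ST.leaf 15585) (ST.leaf 1635)) (ST.node (ST.leaf 1629) (ST.leaf 15595)))) (ST.node (ST.node (ST.node (ST.leaf 15593) (ST.leaf 1631)) (ST.node (ST.leaf 1633) (ST.leaf 15587))) (ST.node (ST.node (ST.leaf 15591) (ST.leaf 2961)) (ST.node (ST.leaf 795) (ST.leaf 15597))))) [(1, 0xf), (7, 0x54), (8, 0xd5), (10, 0x300), (16, 0x85c), (19, 0x105), (27, 0x100), (33, 0x155), (40, 0x20000), (48, 0x40141), (50, 0x18), (53, 0x159)],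
  C16.good 0xa5218184a00524 [31, 39, 45, 55] (ST.node (ST.node (ST.node (ST.node (ST.leaf 1161) (ST.leaf 15091)) (ST.node (ST.leaf 15081) (ST.leaf 1167))) (ST.node (ST.node (ST.leaf 2207) (ST.leaf 15085)) (ST.node (ST.leaf 15095) (ST.leaf 505)))) (ST.node (ST.node (ST.node (ST.leaf 507) (ST.leaf 15093)) (ST.node (ST.leaf 15087) (ST.leaf 2205))) (ST.node (ST.node (ST.leaf 1165) (ST.leaf 15083)) (ST.node (ST.leaf 15089) (ST.leaf 1163))))) [(2, 0x105), (5, 0x170), (8, 0x180), (10, 0x200), (21, 0x50), (23, 0x1), (26, 0x100), (32, 0x10000), (40, 0x20000), (48, 0x40010), (50, 0x143), (53, 0x153)],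
  C16.good 0xa5441422069041 [29, 36, 46, 55] (ST.node (ST.node (ST.node (ST.node (ST.leaf 15143) (ST.leaf 2289)) (ST.node (ST.leaf 539) (ST.leaf 15149))) (ST.node (ST.node (ST.leaf 15145) (ST.leaf 1215)) (ST.node (ST.leaf 1217) (ST.leaf 15139)))) (ST.node (ST.node (ST.node (ST.leaf 15137) (ST.leaf 1219)) (ST.node (ST.leaf 1213) (ST.leaf 15147))) (ST.node (ST.node (ST.leaf 15151) (ST.leaf 537)) (ST.node (ST.leaf 2291) (ST.leaf 15141))))) [(0, 0xa1), (6, 0xde), (12, 0x40e), (15, 0x80), (17, 0x108a), (18, 0x20b4), (25, 0x4), (34, 0x20), (42, 0xaa), (48, 0x400b4), (50, 0x92), (53, 0x26)],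
  C16.good 0xa5442811509018 [28, 37, 46, 55] (ST.node (ST.node (ST.node (ST.node (ST.leaf 731) (ST.leaf 15485)) (ST.node (ST.leaf 15479) (ST.leaf 2793))) (ST.node (ST.node (ST.leaf 1529) (ST.leaf 15475)) (ST.node (ST.leaf 15481) (ST.leaf 1527)))) (ST.node (ST.node (ST.node (ST.leaf 1525) (ST.leaf 15483)) (ST.node (ST.leaf 15473) (ST.leaf 1531))) (ST.node (ST.node (ST.leaf 2795) (ST.leaf 15477)) (ST.node (ST.leaf 15487) (ST.leaf 729))))) [(3, 0x38b), (4, 0x3d0), (12, 0x600), (15, 0x180), (20, 0x40c2), (22, 0x181), (24, 0x8000), (35, 0x100), (42, 0x380), (48, 0x403c1), (50, 0x3c3), (53, 0x2)],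
  C16.good 0xa5444248a09024 [30, 38, 46, 55] (ST.node (ST.node (ST.node (ST.node (ST.leaf 15875) (ST.leaf 1889)) (ST.node (ST.leaf 1895) (ST.leaf 15865))) (ST.node (ST.node (ST.leaf 15869) (ST.leaf 3383)) (ST.node (ST.leaf 953) (ST.leaf 15879)))) (ST.node (ST.node (ST.node (ST.leaf 15877) (ST.leaf 955)) (ST.node (ST.leaf 3381) (ST.leaf 15871))) (ST.node (ST.node (ST.leaf 15867) (ST.leaf 1893)) (ST.node (ST.leaf 1891) (ST.leaf 15873))))) [(2, 0x10d5), (5, 0x10aa), (12, 0x145a), (15, 0x11d0), (21, 0xda), (23, 0x81), (27, 0x100), (33, 0x1050), (42, 0x10da), (48, 0x411c0), (50, 0x1099), (53, 0x159)],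
  C16.good 0xa5448184099082 [31, 39, 46, 55] (ST.node (ST.node (ST.node (ST.node (ST.leaf 15307) (ST.leaf 1373)) (ST.node (ST.leaf 1371) (ST.leaf 15313))) (ST.node (ST.node (ST.leaf 15317) (ST.leaf 635)) (ST.node (ST.leaf 2541) (ST.leaf 15311)))) (ST.node (ST.node (ST.node (ST.leaf 15309) (ST.leaf 2543)) (ST.node (ST.leaf 633) (ST.leaf 15319))) (ST.node (ST.node (ST.leaf 15315) (ST.leaf 1369)) (ST.node (ST.leaf 1375) (ST.leaf 15305))))) [(1, 0x1da), (7, 0x181), (12, 0x555), (15, 0x180), (16, 0x9dc), (19, 0x85), (26, 0x100), (32, 0x10000), (42, 0xd5), (48, 0x40094), (50, 0x1cd), (53, 0x159)],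
  C16.good 0xa5881422a06024 [29, 36, 47, 55] (ST.node (ST.node (ST.node (ST.node (ST.leaf 1581) (ST.leaf 15531)) (ST.node (ST.leaf 15537) (ST.leaf 1579))) (ST.node (ST.node (ST.leaf 763) (ST.leaf 15541)) (ST.node (ST.leaf 15535) (ST.leaf 2877)))) (ST.node (ST.node (ST.node (ST.leaf 2879) (ST.leaf 15533)) (ST.node (ST.leaf 15543) (ST.leaf 761))) (ST.node (ST.node (ST.leaf 1577) (ST.leaf 15539)) (ST.node (ST.leaf 15529) (ST.leaf 1583))))) [(2, 0x305), (5, 0x37a), (13, 0x80), (14, 0x700), (21, 0x2da), (23, 0x681), (25, 0x500), (34, 0x8a), (43, 0x60a), (48, 0x40310), (50, 0x543), (53, 0x653)],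
  C16.good 0xa5882811096082 [28, 37, 47, 55] (ST.node (ST.node (ST.node (ST.node (ST.leaf 15199) (ST.leaf 2373)) (ST.node (ST.leaf 571) (ST.leaf 15205))) (ST.node (ST.node (ST.leaf 15201) (ST.leaf 1267)) (ST.node (ST.leaf 1269) (ST.leaf 15195)))) (ST.node (ST.node (ST.node (ST.leaf 15193) (ST.leaf 1271)) (ST.node (ST.leaf 1265) (ST.leaf 15203))) (ST.node (ST.node (ST.leaf 15207) (ST.leaf 569)) (ST.node (ST.leaf 2375) (ST.leaf 15197))))) [(1, 0x38f), (7, 0x381), (13, 0x1a4), (14, 0x200), (16, 0xb2d), (19, 0x221), (24, 0x8000), (35, 0x124), (43, 0x380), (48, 0x40394), (50, 0x3c), (53, 0x3a8)],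
  C16.good 0xa5884248066041 [30, 38, 47, 55] (ST.node (ST.node (ST.node (ST.node (ST.leaf 2457) (ST.leaf 15255)) (ST.node (ST.leaf 15261) (ST.leaf 603))) (ST.node (ST.node (ST.leaf 1319) (ST.leaf 15257)) (ST.node (ST.leaf 15251) (ST.leaf 1321)))) (ST.node (ST.node (ST.node (ST.leaf 1323) (ST.leaf 15249)) (ST.node (ST.leaf 15259) (ST.leaf 1317))) (ST.node (ST.node (ST.leaf 601) (ST.leaf 15263)) (ST.node (ST.leaf 15253) (ST.leaf 2459))))) [(0, 0x221), (6, 0x25e), (13, 0x8e), (14, 0x284), (17, 0x122e), (18, 0x223a), (27, 0x84), (33, 0x8a), (43, 0x22e), (48, 0x402b0), (50, 0x3c), (53, 0x28c)],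
  C16.good 0xa5888184506018 [31, 39, 47, 55] (ST.node (ST.node (ST.node (ST.node (ST.leaf 3297) (ST.leaf 15815)) (ST.node (ST.leaf 15821) (ST.leaf 923))) (ST.node (ST.node (ST.leaf 1839) (ST.leaf 15817)) (ST.node (ST.leaf 15811) (ST.leaf 1841)))) (ST.node (ST.node (ST.node (ST.leaf 1843) (ST.leaf 15809)) (ST.node (ST.leaf 15819) (ST.leaf 1837))) (ST.node (ST.node (ST.leaf 921) (ST.leaf 15823)) (ST.node (ST.leaf 15813) (ST.leaf 3299))))) [(3, 0x22f), (4, 0x250), (13, 0x120), (14, 0x200), (20, 0x4262), (22, 0x305), (26, 0x124), (32, 0x10000), (43, 0x304), (48, 0x40361), (50, 0x167), (53, 0x206)],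
  C16.bad 0xa600003c335600 0x2095,
  C16.bad 0xa600003c33a900 0x7f,
  C16.bad 0xa600003ccc5600 0x7f,
  C16.bad 0xa600003ccca900 0x8700,
  C16.bad 0xa60000c3335600 0x75,
  C16.bad 0xa60000c333a900 0x700,
  C16.bad 0xa60000c3cc5600 0x5815,
  C16.bad 0xa60000c3cca900 0x7f,
  C16.good 0xa600650000566a [14, 38, 50, 53, 55] (ST.node (ST.node (ST.node (ST.node (ST.node (ST.leaf 11232) (ST.leaf 11172)) (ST.node (ST.leaf 11122) (ST.leaf 11078))) (ST.node (ST.node (ST.leaf 8524) (ST.leaf 11126)) (ST.node (ST.leaf 11176) (ST.leaf 8718)))) (ST.node (ST.node (ST.node (ST.leaf 11224) (ST.leaf 11180)) (ST.node (ST.leaf 11130) (ST.leaf 11070))) (ST.node (ST.node (ST.leaf 11074) (ST.leaf 8588)) (ST.node (ST.leaf 8654) (ST.leaf 11228))))) (ST.node (ST.node (ST.node (ST.node (ST.leaf 11230) (ST.leaf 8652)) (ST.node (ST.leaf 8590) (ST.leaf 11072))) (ST.node (ST.node (ST.leaf 11068) (ST.leaf 11128)) (ST.node (ST.leaf 11182)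 (ST.leaf 11226)))) (ST.node (ST.node (ST.node (ST.leaf 8716) (ST.leaf 11178)) (ST.node (ST.leaf 11124) (ST.leaf 8526))) (ST.node (ST.node (ST.leaf 11076) (ST.leaf 11120)) (ST.node (ST.leaf 11174) (ST.leaf 11234)))))) [(1, 0x3), (3, 0x19), (5, 0x21), (6, 0x40), (9, 0x900), (10, 0xa10), (12, 0x410), (32, 0x10800), (34, 0x10), (37, 0x810), (49, 0x11)],
  C16.bad 0xa6006500005695 0x586a,
  C16.bad 0xa600650000a96a 0x700,
  C16.good 0xa600650000a995 [15, 38, 50, 53, 55] (ST.node (ST.node (ST.node (ST.node (ST.node (ST.leaf 11215) (ST.leaf 8639)) (ST.node (ST.leaf 11119) (ST.leaf 11061))) (ST.node (ST.node (ST.leaf 11057) (ST.leaf 8573)) (ST.node (ST.leaf 11169) (ST.leaf 11219)))) (ST.node (ST.node (ST.node (ST.leaf 11223) (ST.leaf 11165)) (ST.node (ST.leaf 11111) (ST.leaf 8511))) (ST.node (ST.node (ST.leaf 11065) (ST.leaf 11115)) (ST.node (ST.leaf 11161) (ST.leaf 8701))))) (ST.node (ST.node (ST.node (ST.node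 (ST.leaf 8703) (ST.leaf 11163)) (ST.node (ST.leaf 11113) (ST.leaf 11067))) (ST.node (ST.node (ST.leaf 8509) (ST.leaf 11109)) (ST.node (ST.leaf 11167) (ST.leaf 11221)))) (ST.node (ST.node (ST.node (ST.leaf 11217) (ST.leaf 11171)) (ST.node (ST.leaf 8575) (ST.leaf 11059))) (ST.node (ST.node (ST.leaf 11063) (ST.leaf 11117)) (ST.node (ST.leaf 8637) (ST.leaf 11213)))))) [(0, 0x21), (2, 0x44), (4, 0x78), (7, 0x62), (8, 0xa2), (11, 0x1042), (13, 0x1060), (32, 0x10122), (34, 0x106a), (37, 0x1148), (49, 0x6a)],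
  C16.bad 0xa6009a0000566a 0x2095,
  C16.good 0xa6009a00005695 [14, 39, 50, 53, 55] (ST.node (ST.node (ST.node (ST.node (ST.node (ST.leaf 11104) (ST.leaf 13242)) (ST.node (ST.leaf 11208) (ST.leaf 13330))) (ST.node (ST.node (ST.leaf 11156) (ST.leaf 13374)) (ST.node (ST.leaf 11052) (ST.leaf 13286)))) (ST.node (ST.node (ST.node (ST.leaf 13282) (ST.leaf 13234)) (ST.node (ST.leaf 13370) (ST.leaf 13322))) (ST.node (ST.node (ST.leaf 13326) (ST.leaf 13366)) (ST.node (ST.leaf 13238) (ST.leaf 13278))))) (ST.node (ST.node (ST.node (ST.node (ST.leaf 13276) (ST.leaf 13236)) (ST.node (ST.leaf 13364) (ST.leaf 13324))) (ST.node (ST.node (ST.leaf 13320) (ST.leaf 13368)) (ST.node (ST.leaf 13232) (ST.leaf 13280)))) (ST.node (ST.node (ST.node (ST.leaf 13284) (ST.leaf 11054)) (ST.node (ST.leaf 13372) (ST.leaf 11158))) (ST.node (ST.node (ST.leaf 13328) (ST.leaf 11210)) (ST.node (ST.leaf 13240) (ST.leaf 11106)))))) [(0, 0x10e3),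 (2, 0x1086), (4, 0x10b0), (7, 0x10a0), (9, 0x1a2), (10, 0x12c2), (12, 0x14e0), (33, 0x22), (35, 0x1060), (36, 0x10c2), (49, 0x60)],
  C16.good 0xa6009a0000a96a [15, 39, 50, 53, 55] (ST.node (ST.node (ST.node (ST.node (ST.node (ST.leaf 8593) (ST.leaf 8531)) (ST.node (ST.leaf 8723) (ST.leaf 8657))) (ST.node (ST.node (ST.leaf 8661) (ST.leaf 8727)) (ST.node (ST.leaf 8535) (ST.leaf 8597)))) (ST.node (ST.node (ST.node (ST.leaf 8601) (ST.leaf 8539)) (ST.node (ST.leaf 8731) (ST.leaf 8665))) (ST.node (ST.node (ST.leaf 6023) (ST.leaf 6093)) (ST.node (ST.leaf 5877) (ST.leaf 5951))))) (ST.node (ST.node (ST.node (ST.node (ST.leaf 5949) (ST.leaf 5879)) (ST.node (ST.leaf 6095) (ST.leaf 6021))) (ST.node (ST.node (ST.leaf 8667) (ST.leaf 8729)) (ST.node (ST.leaf 8537) (ST.leaf 8603)))) (ST.node (ST.node (ST.node (ST.leaf 8599) (ST.leaf 8533)) (ST.node (ST.leaf 8725) (ST.leaf 8663))) (ST.node (ST.node (ST.leaf 8659) (ST.leaf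 8721)) (ST.node (ST.leaf 8529) (ST.leaf 8595)))))) [(1, 0xb17), (3, 0xb0d), (5, 0xb31), (6, 0xb54), (8, 0x884), (11, 0x910), (13, 0x10), (33, 0x904), (35, 0x310), (36, 0xb10), (49, 0x15)],
  C16.bad 0xa6009a0000a995 0x276a,
  C16.bad 0xa60f003c00006a 0x780,
  C16.bad 0xa60f003c000095 0x58ea,
  C16.bad 0xa60f00c300006a 0x80,
  C16.bad 0xa60f00c3000095 0x80,
  C16.bad 0xa60f6500330000 0x7b,
  C16.bad 0xa60f6500cc0000 0x80,
  C16.bad 0xa60f9a00330000 0x2095,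
  C16.bad 0xa60f9a00cc0000 0x7f,
  C16.bad 0xa6f0003c00006a 0x7800,
  C16.bad 0xa6f0003c000095 0x780,
  C16.bad 0xa6f000c300006a 0x780,
  C16.bad 0xa6f000c3000095 0x206a,
  C16.bad 0xa6f06500330000 0x8000,
  C16.bad 0xa6f06500cc0000 0x7f,
  C16.bad 0xa6f09a00330000 0x7f,
  C16.bad 0xa6f09a00cc0000 0x8000,
  C16.bad 0xa900000f653c00 0x33,
  C16.bad 0xa900000f65c300 0x600,
  C16.bad 0xa900000f9a3c00 0x33,
  C16.bad 0xa900000f9ac300 0x4c,
  C16.bad 0xa90000f0653c00 0x10a5,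
  C16.bad 0xa90000f065c300 0x7f,
  C16.bad 0xa90000f09a3c00 0x7f,
  C16.bad 0xa90000f09ac300 0x10000,
  C16.bad 0xa9005900003c33 0x4c,
  C16.bad 0xa9005900003ccc 0x5000,
  C16.bad 0xa900590000c333 0x48,
  C16.bad 0xa900590000c3cc 0x33,
  C16.bad 0xa900a600003c33 0x2904,
  C16.bad 0xa900a600003ccc 0x2980,
  C16.bad 0xa900a60000c333 0x2e00,
  C16.bad 0xa900a60000c3cc 0x33,
  C16.bad 0xa96a000f000033 0x64c,
  C16.bad 0xa96a000f0000cc 0x2833,
  C16.bad 0xa96a00f0000033 0x1cc,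
  C16.bad 0xa96a00f00000cc 0x633,
  C16.good 0xa96a5900650000 [38, 46, 51, 53, 55] (ST.node (ST.node (ST.node (ST.node (ST.node (ST.leaf 15975) (ST.leaf 1059)) (ST.node (ST.leaf 15959) (ST.leaf 1123))) (ST.node (ST.node (ST.leaf 15983) (ST.leaf 1027)) (ST.node (ST.leaf 15967) (ST.leaf 1091)))) (ST.node (ST.node (ST.node (ST.leaf 2099) (ST.leaf 15961)) (ST.node (ST.leaf 2003) (ST.leaf 15977))) (ST.node (ST.node (ST.leaf 2147) (ST.leaf 15953)) (ST.node (ST.leaf 2051) (ST.leaf 15969))))) (ST.node (ST.node (ST.node (ST.node (ST.leaf 15971) (ST.leaf 2049)) (ST.node (ST.leaf 15955) (ST.leaf 2145))) (ST.node (ST.node (ST.leaf 15979) (ST.leaf 2001)) (ST.node (ST.leaf 15963) (ST.leaf 2097)))) (ST.node (ST.node (ST.node (ST.leaf 1089) (ST.leaf 15965)) (ST.node (ST.leaf 1025) (ST.leaf 15981))) (ST.node (ST.node (ST.leaf 1121) (ST.leaf 15957)) (ST.node (ST.leaf 1057) (ST.leaf 15973)))))) [(16, 0xaa0), (18, 0x20b2),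 (21, 0x213), (22, 0x32), (32, 0x10091), (35, 0x2b8), (36, 0x229), (41, 0x38), (43, 0x1a), (45, 0x11), (48, 0x40000)],
  C16.bad 0xa96a59009a0000 0x7f,
  C16.bad 0xa96aa600650000 0x7f,
  C16.good 0xa96aa6009a0000 [39, 46, 51, 53, 55] (ST.node (ST.node (ST.node (ST.node (ST.node (ST.leaf 13271) (ST.leaf 13401)) (ST.node (ST.leaf 131) (ST.leaf 117))) (ST.node (ST.node (ST.leaf 13317) (ST.leaf 13363)) (ST.node (ST.leaf 491) (ST.leaf 429)))) (ST.node (ST.node (ST.node (ST.leaf 105) (ST.leaf 143)) (ST.node (ST.leaf 13357) (ST.leaf 13315))) (ST.node (ST.node (ST.leaf 449) (ST.leaf 471)) (ST.node (ST.leaf 13407) (ST.leaf 13273))))) (ST.node (ST.node (ST.node (ST.node (ST.leaf 13275) (ST.leaf 13405)) (ST.node (ST.leaf 469) (ST.leaf 451))) (ST.node (ST.node (ST.leaf 13313) (ST.leaf 13359)) (ST.node (ST.leaf 141) (ST.leaf 107)))) (ST.node (ST.node (ST.node (ST.leaf 431) (ST.leaf 489)) (ST.node (ST.leaf 13361) (ST.leaf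 13319))) (ST.node (ST.node (ST.leaf 119) (ST.leaf 129)) (ST.node (ST.leaf 13403) (ST.leaf 13269)))))) [(17, 0x1039), (19, 0x339), (20, 0x4128), (23, 0x331), (33, 0xc), (34, 0x30f), (37, 0x229), (41, 0x3c), (43, 0x1a), (45, 0x15), (48, 0x40000)],
  C16.bad 0xa995000f000033 0x5000,
  C16.bad 0xa995000f0000cc 0x33,
  C16.bad 0xa99500f0000033 0x1cc,
  C16.bad 0xa99500f00000cc 0x1b3,
  C16.bad 0xa9955900650000 0x4c,
  C16.good 0xa99559009a0000 [38, 47, 51, 53, 55] (ST.node (ST.node (ST.node (ST.node (ST.node (ST.leaf 14995) (ST.leaf 465)) (ST.node (ST.leaf 15049) (ST.leaf 427))) (ST.node (ST.node (ST.leaf 14971) (ST.leaf 1135)) (ST.node (ST.leaf 15025) (ST.leaf 1069)))) (ST.node (ST.node (ST.node (ST.leaf 445) (ST.leaf 15023)) (ST.node (ST.leaf 487) (ST.leaf 14965))) (ST.node (ST.node (ST.leaf 1039) (ST.leaf 15055)) (ST.node (ST.leaf 1101) (ST.leaf 14997))))) (ST.node (ST.node (ST.node (ST.node (ST.leaf 14999)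 (ST.leaf 1103)) (ST.node (ST.leaf 15053) (ST.leaf 1037))) (ST.node (ST.node (ST.leaf 14967) (ST.leaf 485)) (ST.node (ST.leaf 15021) (ST.leaf 447)))) (ST.node (ST.node (ST.node (ST.leaf 1071) (ST.leaf 15027)) (ST.node (ST.leaf 1133) (ST.leaf 14969))) (ST.node (ST.node (ST.leaf 425) (ST.leaf 15051)) (ST.node (ST.leaf 467) (ST.leaf 14993)))))) [(17, 0x109c), (19, 0x5), (20, 0x408d), (23, 0x14), (32, 0x10095), (35, 0x96), (36, 0x3), (40, 0x2000f), (42, 0x1a), (44, 0x15), (48, 0x40000)],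
  C16.good 0xa995a600650000 [39, 47, 51, 53, 55] (ST.node (ST.node (ST.node (ST.node (ST.node (ST.leaf 15047) (ST.leaf 14959)) (ST.node (ST.leaf 1063) (ST.leaf 461))) (ST.node (ST.node (ST.leaf 15017) (ST.leaf 14985)) (ST.node (ST.leaf 1029) (ST.leaf 483)))) (ST.node (ST.node (ST.node (ST.leaf 1127) (ST.leaf 421)) (ST.node (ST.leaf 14991) (ST.leaf 15015))) (ST.node (ST.node (ST.leaf 1093) (ST.leaf 443)) (ST.node (ST.leaf 14961) (ST.leaf 15041))))) (ST.node (ST.node (ST.node (ST.node (ST.leaf 15043) (ST.leaf 14963)) (ST.node (ST.leaf 441) (ST.leaf 1095))) (ST.node (ST.node (ST.leaf 15013) (ST.leaf 14989)) (ST.node (ST.leaf 423) (ST.leaf 1125)))) (ST.node (ST.node (ST.node (ST.leaf 481) (ST.leaf 1031)) (ST.node (ST.leaf 14987) (ST.leaf 15019))) (ST.node (ST.node (ST.leaf 463) (ST.leaf 1061)) (ST.node (ST.leaf 14957) (ST.leaf 15045)))))) [(16, 0xa18), (18, 0x230e), (21, 0x318), (22, 0x30a), (33, 0x11), (34,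 0x30f), (37, 0x21a), (40, 0x2000f), (42, 0x1a), (44, 0x15), (48, 0x40000)],
  C16.bad 0xa995a6009a0000 0x4c,
  C16.good 0xaa121411a06082 [28, 36, 44, 55] (ST.node (ST.node (ST.node (ST.node (ST.leaf 967) (ST.leaf 14841)) (ST.node (ST.leaf 14835) (ST.leaf 969))) (ST.node (ST.node (ST.leaf 1913) (ST.leaf 14839)) (ST.node (ST.leaf 14845) (ST.leaf 383)))) (ST.node (ST.node (ST.node (ST.leaf 381) (ST.leaf 14847)) (ST.node (ST.leaf 14837) (ST.leaf 1915))) (ST.node (ST.node (ST.leaf 971) (ST.leaf 14833)) (ST.node (ST.leaf 14843) (ST.leaf 965))))) [(1, 0x336), (7, 0x349), (13, 0x80), (14, 0x700), (21, 0x4d0), (23, 0x3cd), (24, 0x8000), (34, 0x380), (41, 0x500), (49, 0x605), (51, 0x53c), (53, 0x559)],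
  C16.good 0xaa122822096024 [29, 37, 44, 55] (ST.node (ST.node (ST.node (ST.node (ST.leaf 13873) (ST.leaf 651)) (ST.node (ST.leaf 645) (ST.leaf 13883))) (ST.node (ST.node (ST.leaf 13887) (ST.leaf 221)) (ST.node (ST.leaf 1395) (ST.leaf 13877)))) (ST.node (ST.node (ST.node (ST.leaf 13879) (ST.leaf 1393)) (ST.node (ST.leaf 223) (ST.leaf 13885))) (ST.node (ST.node (ST.leaf 13881) (ST.leaf 647)) (ST.node (ST.leaf 649) (ST.leaf 13875))))) [(2, 0x4d), (5, 0x32), (13, 0x4343), (14, 0x435a), (16, 0xb10), (19, 0x408a), (25, 0x380), (35, 0x43c3), (41, 0x42da), (49, 0x42db), (51, 0x4119), (53, 0x4283)],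
  C16.good 0xaa124284066018 [31, 38, 44, 55] (ST.node (ST.node (ST.node (ST.node (ST.leaf 13597) (ST.leaf 175)) (ST.node (ST.leaf 1237) (ST.leaf 13591))) (ST.node (ST.node (ST.leaf 13587) (ST.leaf 553)) (ST.node (ST.leaf 551) (ST.leaf 13593)))) (ST.node (ST.node (ST.node (ST.leaf 13595) (ST.leaf 549)) (ST.node (ST.leaf 555) (ST.leaf 13585))) (ST.node (ST.node (ST.leaf 13589) (ST.leaf 1239)) (ST.node (ST.leaf 173) (ST.leaf 13599))))) [(3, 0x349), (4, 0x336), (13, 0x766), (14, 0x62), (17, 0x1720), (18, 0x2441), (26, 0x466), (33, 0x304), (41, 0x262), (49, 0x167), (51, 0x647), (53, 0x622)],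
  C16.good 0xaa128148506041 [30, 39, 44, 55] (ST.node (ST.node (ST.node (ST.node (ST.leaf 14167) (ST.leaf 1549)) (ST.node (ST.leaf 271) (ST.leaf 14173))) (ST.node (ST.node (ST.leaf 14169) (ST.leaf 743)) (ST.node (ST.leaf 745) (ST.leaf 14163)))) (ST.node (ST.node (ST.node (ST.leaf 14161) (ST.leaf 747)) (ST.node (ST.leaf 741) (ST.leaf 14171))) (ST.node (ST.node (ST.leaf 14175) (ST.leaf 269)) (ST.node (ST.leaf 1551) (ST.leaf 14165))))) [(0, 0x4af), (6, 0x4d0), (13, 0x4), (14, 0x480), (20, 0x408a), (22, 0xb6), (27, 0x84), (32, 0x10000), (41, 0x500), (49, 0x19c), (51, 0x53c), (53, 0x5a2)],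
  C16.good 0xaa211411069018 [28, 36, 45, 55] (ST.node (ST.node (ST.node (ST.node (ST.leaf 1343) (ST.leaf 13781)) (ST.node (ST.leaf 13791) (ST.leaf 205))) (ST.node (ST.node (ST.leaf 613) (ST.leaf 13787)) (ST.node (ST.leaf 13777) (ST.leaf 619)))) (ST.node (ST.node (ST.node (ST.leaf 617) (ST.leaf 13779)) (ST.node (ST.leaf 13785) (ST.leaf 615))) (ST.node (ST.node (ST.leaf 207) (ST.leaf 13789)) (ST.node (ST.leaf 13783) (ST.leaf 1341))))) [(3, 0x12b), (4, 0x150), (12, 0x562), (15, 0x62), (17, 0x1020), (18, 0x2141), (24, 0x8000), (34, 0x100), (40, 0x20000), (49, 0x163), (51, 0x43), (53, 0x22)],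
  C16.good 0xaa212822509041 [29, 37, 45, 55] (ST.node (ST.node (ST.node (ST.node (ST.leaf 14741) (ST.leaf 1863)) (ST.node (ST.leaf 365) (ST.leaf 14751))) (ST.node (ST.node (ST.leaf 14747) (ST.leaf 933)) (ST.node (ST.leaf 939) (ST.leaf 14737)))) (ST.node (ST.node (ST.node (ST.leaf 14739) (ST.leaf 937)) (ST.node (ST.leaf 935) (ST.leaf 14745))) (ST.node (ST.node (ST.leaf 14749) (ST.leaf 367)) (ST.node (ST.leaf 1861) (ST.leaf 14743))))) [(0, 0x2b), (6, 0x54), (12, 0x584), (15, 0x180), (20, 0x408a), (22, 0x1b2), (25, 0x4), (35, 0x100), (40, 0x20000), (49, 0x18), (51, 0x38), (53, 0x26)],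
  C16.good 0xaa214284a09082 [31, 38, 45, 55] (ST.node (ST.node (ST.node (ST.node (ST.leaf 14265) (ST.leaf 775)) (ST.node (ST.leaf 777) (ST.leaf 14259))) (ST.node (ST.node (ST.leaf 14263) (ST.leaf 1601)) (ST.node (ST.leaf 287) (ST.leaf 14269)))) (ST.node (ST.node (ST.node (ST.leaf 14271) (ST.leaf 285)) (ST.node (ST.leaf 1603) (ST.leaf 14261))) (ST.node (ST.node (ST.leaf 14257) (ST.leaf 779)) (ST.node (ST.leaf 773) (ST.leaf 14267))))) [(1, 0x336), (7, 0x349), (12, 0x580), (15, 0x200), (21, 0x3d0), (23, 0x1cd), (26, 0x100), (33, 0x380), (40, 0x20000), (49, 0x305), (51, 0x13c), (53, 0x159)],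
  C16.good 0xaa218148099024 [30, 39, 45, 55] (ST.node (ST.node (ST.node (ST.node (ST.leaf 13693) (ST.leaf 191)) (ST.node (ST.leaf 1289) (ST.leaf 13687))) (ST.node (ST.node (ST.leaf 13683) (ST.leaf 585)) (ST.node (ST.leaf 583) (ST.leaf 13689)))) (ST.node (ST.node (ST.node (ST.leaf 13691) (ST.leaf 581)) (ST.node (ST.leaf 587) (ST.leaf 13681))) (ST.node (ST.node (ST.leaf 13685) (ST.leaf 1291)) (ST.node (ST.leaf 189) (ST.leaf 13695))))) [(2, 0x54), (5, 0x2b), (12, 0x419), (15, 0x119), (16, 0x909), (19, 0x50), (27, 0x100), (32, 0x10000), (40, 0x20000), (49, 0x18), (51, 0x43), (53, 0x159)],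
  C16.good 0xaa441411500541 [28, 36, 46, 55] (ST.node (ST.node (ST.node (ST.node (ST.leaf 14933) (ST.leaf 1967)) (ST.node (ST.leaf 397) (ST.leaf 14943))) (ST.node (ST.node (ST.leaf 14939) (ST.leaf 997)) (ST.node (ST.leaf 1003) (ST.leaf 14929)))) (ST.node (ST.node (ST.node (ST.leaf 14931) (ST.leaf 1001)) (ST.node (ST.leaf 999) (ST.leaf 14937))) (ST.node (ST.node (ST.leaf 14941) (ST.leaf 399)) (ST.node (ST.leaf 1965) (ST.leaf 14935))))) [(0, 0x42b), (6, 0x450), (8, 0x80), (10, 0x700), (20, 0x410a), (22, 0x132), (24, 0x8000), (34, 0x100), (42, 0x500), (49, 0x418), (51, 0x538), (53, 0x22)],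
  C16.good 0xaa442822060518 [29, 37, 46, 55] (ST.node (ST.node (ST.node (ST.node (ST.leaf 1707) (ST.leaf 14453)) (ST.node (ST.leaf 14463) (ST.leaf 317))) (ST.node (ST.node (ST.leaf 837) (ST.leaf 14459)) (ST.node (ST.leaf 14449) (ST.leaf 843)))) (ST.node (ST.node (ST.node (ST.leaf 841) (ST.leaf 14451)) (ST.node (ST.leaf 14457) (ST.leaf 839))) (ST.node (ST.node (ST.leaf 319) (ST.leaf 14461)) (ST.node (ST.leaf 14455) (ST.leaf 1705))))) [(3, 0x4d), (4, 0x32), (8, 0x180), (10, 0x262), (17, 0x1146), (18, 0x2127), (25, 0x4), (35, 0x100), (42, 0x66), (49, 0x1), (51, 0x21), (53, 0x26)],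
  C16.good 0xaa444284090524 [31, 38, 46, 55] (ST.node (ST.node (ST.node (ST.node (ST.leaf 333) (ST.leaf 14559)) (ST.node (ST.leaf 14549) (ST.leaf 1759))) (ST.node (ST.node (ST.leaf 875) (ST.leaf 14545)) (ST.node (ST.leaf 14555) (ST.leaf 869)))) (ST.node (ST.node (ST.node (ST.leaf 871) (ST.leaf 14553)) (ST.node (ST.leaf 14547) (ST.leaf 873))) (ST.node (ST.node (ST.leaf 1757) (ST.leaf 14551)) (ST.node (ST.leaf 14557) (ST.leaf 335))))) [(2, 0x1046), (5, 0x1039), (8, 0x118b), (10, 0x1312), (16, 0x810), (19, 0x149), (26, 0x100), (33, 0x100b), (42, 0x1112), (49, 0x100a), (51, 0x1051), (53, 0x159)],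
  C16.good 0xaa448148a00582 [30, 39, 46, 55] (ST.node (ST.node (ST.node (ST.node (ST.leaf 13975) (ST.leaf 1445)) (ST.node (ST.leaf 239) (ST.leaf 13981))) (ST.node (ST.node (ST.leaf 13977) (ST.leaf 679)) (ST.node (ST.leaf 681) (ST.leaf 13971)))) (ST.node (ST.node (ST.node (ST.leaf 13969) (ST.leaf 683)) (ST.node (ST.leaf 677) (ST.leaf 13979))) (ST.node (ST.node (ST.leaf 13983) (ST.leaf 237)) (ST.node (ST.leaf 1447) (ST.leaf 13973))))) [(1, 0x136), (7, 0x149), (8, 0x180), (10, 0x600), (21, 0x550), (23, 0x14d), (27, 0x100), (32, 0x10000), (42, 0x500), (49, 0x105), (51, 0x53c), (53, 0x159)],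
  C16.good 0xaa881411090a24 [28, 36, 47, 55] (ST.node (ST.node (ST.node (ST.node (ST.leaf 14359) (ST.leaf 1653)) (ST.node (ST.leaf 303) (ST.leaf 14365))) (ST.node (ST.node (ST.leaf 14361) (ST.leaf 807)) (ST.node (ST.leaf 809) (ST.leaf 14355)))) (ST.node (ST.node (ST.node (ST.leaf 14353) (ST.leaf 811)) (ST.node (ST.leaf 805) (ST.leaf 14363))) (ST.node (ST.node (ST.leaf 14367) (ST.leaf 301)) (ST.node (ST.leaf 1655) (ST.leaf 14357))))) [(2, 0x1046), (5, 0x1039), (9, 0x519), (11, 0x19), (16, 0x810), (19, 0x105b), (24, 0x8000), (34, 0x1012), (43, 0x1412), (49, 0x418), (51, 0x43), (53, 0x144b)],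
  C16.good 0xaa882822a00a82 [29, 37, 47, 55] (ST.node (ST.node (ST.node (ST.node (ST.leaf 13491) (ST.leaf 521)) (ST.node (ST.leaf 519) (ST.leaf 13497))) (ST.node (ST.node (ST.leaf 13501) (ST.leaf 159)) (ST.node (ST.leaf 1185) (ST.leaf 13495)))) (ST.node (ST.node (ST.node (ST.leaf 13493) (ST.leaf 1187)) (ST.node (ST.leaf 157) (ST.leaf 13503))) (ST.node (ST.node (ST.leaf 13499) (ST.leaf 517)) (ST.node (ST.leaf 523) (ST.leaf 13489))))) [(1, 0x10df), (7, 0x10a0), (9, 0x1569), (11, 0x12e9), (21, 0x250), (23, 0x12a4), (25, 0x10e9), (35, 0x1269), (43, 0x14e9), (49, 0x405), (51, 0x10d5), (53, 0x14b0)],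
  C16.good 0xaa884284500a41 [31, 38, 47, 55] (ST.node (ST.node (ST.node (ST.node (ST.leaf 14079) (ST.leaf 253)) (ST.node (ST.leaf 1499) (ST.leaf 14069))) (ST.node (ST.node (ST.leaf 14065) (ST.leaf 715)) (ST.node (ST.leaf 709) (ST.leaf 14075)))) (ST.node (ST.node (ST.node (ST.leaf 14073) (ST.leaf 711)) (ST.node (ST.leaf 713) (ST.leaf 14067))) (ST.node (ST.node (ST.leaf 14071) (ST.leaf 1497)) (ST.node (ST.leaf 255) (ST.leaf 14077))))) [(0, 0x80d), (6, 0x872), (9, 0x504), (11, 0x200), (20, 0x4a28), (22, 0x810), (26, 0x826), (33, 0xa22), (43, 0xe22), (49, 0x61c), (51, 0x81a), (53, 0x622)],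
  C16.good 0xaa888148060a18 [30, 39, 47, 55] (ST.node (ST.node (ST.node (ST.node (ST.leaf 349) (ST.leaf 14655)) (ST.node (ST.leaf 14645) (ST.leaf 1811))) (ST.node (ST.node (ST.leaf 907) (ST.leaf 14641)) (ST.node (ST.leaf 14651) (ST.leaf 901)))) (ST.node (ST.node (ST.node (ST.leaf 903) (ST.leaf 14649)) (ST.node (ST.leaf 14643) (ST.leaf 905))) (ST.node (ST.node (ST.leaf 1809) (ST.leaf 14647)) (ST.node (ST.leaf 14653) (ST.leaf 351))))) [(3, 0x2b), (4, 0x54), (9, 0x504), (11, 0x4), (17, 0x1024), (18, 0x2023), (27, 0x62), (32, 0x10000), (43, 0x462), (49, 0x405), (51, 0x43), (53, 0x426)],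
  C16.bad 0xc300006a590f00 0x7f]

set_option Elab.async false in
theorem c16_15_ok : c16_15.all (chkC16 ent 16240 pbsD colsD) = true := by decide +kernel

end Cfsg.Agent.Helper2.RuL
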