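import Cfsg.Agent.Helper2.RuL.Chk4
import Cfsg.Agent.Helper2.RuL.Tab

/-! Certificates for the weight-16 words of the parity code, chunk 16 (helper2; generated). -/

set_option autoImplicit false
set_option maxRecDepth 100000

namespace Cfsg.Agent.Helper2.RuL

open Cfsg.Agent.Helper5.RuLat

def c16_16 : List C16 := [
  C16.bad 0xc300006a59f000 0x39a,
  C16.bad 0xc300006aa60f00 0x41a,
  C16.bad 0xc300006aa6f000 0x7f,
  C16.bad 0xc3000095590f00 0x400,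
  C16.bad 0xc300009559f000 0x1a,
  C16.bad 0xc3000095a60f00 0x65,
  C16.bad 0xc3000095a6f000 0x1a,
  C16.bad 0xc3005600000f65 0x3400,
  C16.bad 0xc3005600000f9a 0x65,
  C16.bad 0xc300560000f065 0x1a,
  C16.bad 0xc300560000f09a 0x65,
  C16.bad 0xc300a900000f65 0x3000,
  C16.bad 0xc300a900000f9a 0x400,
  C16.bad 0xc300a90000f065 0x1a,
  C16.bad 0xc300a90000f09a 0x4800,
  C16.bad 0xc333006a000065 0x4800,
  C16.bad 0xc333006a00009a 0x465,
  C16.bad 0xc3330095000065 0x1a,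
  C16.bad 0xc333009500009a 0x380,
  C16.bad 0xc3335600590000 0x1a,
  C16.bad 0xc3335600a60000 0x1a,
  C16.bad 0xc333a900590000 0x1a,
  C16.bad 0xc333a900a60000 0x1a,
  C16.bad 0xc3cc006a000065 0x39a,
  C16.bad 0xc3cc006a00009a 0x7121,
  C16.bad 0xc3cc0095000065 0x39a,
  C16.bad 0xc3cc009500009a 0x3e5,
  C16.bad 0xc3cc5600590000 0x7f,
  C16.bad 0xc3cc5600a60000 0x780,
  C16.bad 0xc3cca900590000 0x39a,
  C16.bad 0xc3cca900a60000 0x7f,
  C16.bad 0xcc0000590f6500 0x12a,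
  C16.bad 0xcc0000590f9a00 0x7f,
  C16.bad 0xcc000059f06500 0x7f,
  C16.bad 0xcc000059f09a00 0x10a5,
  C16.bad 0xcc0000a60f6500 0x7f,
  C16.bad 0xcc0000a60f9a00 0xaa,
  C16.bad 0xcc0000a6f06500 0x10000,
  C16.bad 0xcc0000a6f09a00 0x7f,
  C16.bad 0xcc006a0000653c 0x3042,
  C16.bad 0xcc006a000065c3 0x3d3c,
  C16.bad 0xcc006a00009a3c 0x42c3,
  C16.bad 0xcc006a00009ac3 0x10a8,
  C16.bad 0xcc00950000653c 0x4043,
  C16.bad 0xcc0095000065c3 0x500,
  C16.bad 0xcc009500009a3c 0x8000,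
  C16.bad 0xcc009500009ac3 0x383c,
  C16.bad 0xcc56005900003c 0x4043,
  C16.bad 0xcc5600590000c3 0x780,
  C16.bad 0xcc5600a600003c 0x780,
  C16.bad 0xcc5600a60000c3 0x7800,
  C16.bad 0xcc566a000f0000 0x7f,
  C16.bad 0xcc566a00f00000 0x780,
  C16.bad 0xcc5695000f0000 0x22a,
  C16.bad 0xcc569500f00000 0x7f,
  C16.bad 0xcca9005900003c 0x500,
  C16.bad 0xcca900590000c3 0x383c,
  C16.bad 0xcca900a600003c 0x42c3,
  C16.bad 0xcca900a60000c3 0x780,
  C16.bad 0xcca96a000f0000 0x3aa,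
  C16.bad 0xcca96a00f00000 0x7f,
  C16.bad 0xcca995000f0000 0x7f,
  C16.bad 0xcca99500f00000 0x500,
  C16.bad 0xf0000033566a00 0x10000,
  C16.bad 0xf0000033569500 0x5f,
  C16.bad 0xf0000033a96a00 0x7f,
  C16.bad 0xf0000033a99500 0x10000,
  C16.bad 0xf00000cc566a00 0x7f,
  C16.bad 0xf00000cc569500 0x8100,
  C16.bad 0xf00000cca96a00 0x8680,
  C16.bad 0xf00000cca99500 0x7f,
  C16.bad 0xf0003c00006a59 0xea6,
  C16.bad 0xf0003c00006aa6 0x8000,
  C16.bad 0xf0003c00009559 0x8000,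
  C16.bad 0xf0003c000095a6 0x48,
  C16.bad 0xf000c300006a59 0x680,
  C16.bad 0xf000c300006aa6 0x7059,
  C16.bad 0xf000c300009559 0x100,
  C16.bad 0xf000c3000095a6 0x100,
  C16.bad 0xf0650033000059 0x680,
  C16.bad 0xf06500330000a6 0x10000,
  C16.bad 0xf06500cc000059 0x8100,
  C16.bad 0xf06500cc0000a6 0x780,
  C16.bad 0xf0653c00560000 0x8000,
  C16.bad 0xf0653c00a90000 0x7f,
  C16.bad 0xf065c300560000 0x7f,
  C16.bad 0xf065c300a90000 0x100,
  C16.bad 0xf09a0033000059 0x10000,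
  C16.bad 0xf09a00330000a6 0x780,
  C16.bad 0xf09a00cc000059 0x320,
  C16.bad 0xf09a00cc0000a6 0x8859,
  C16.bad 0xf09a3c00560000 0x7f,
  C16.bad 0xf09a3c00a90000 0x8000,
  C16.bad 0xf09ac300560000 0x826,
  C16.bad 0xf09ac300a90000 0x7f,
  C16.bad 0xff0000000000ff 0x100,
  C16.bad 0xff00000000ff00 0x826,
  C16.bad 0xff000000ff0000 0x80,
  C16.bad 0xff0000ff000000 0x2095,
  C16.bad 0xff00ff00000000 0x130f]

set_option Elab.async false in
theorem c16_16_ok : c16_16.all (chkC16 ent 16240 pbsD colsD) = true := by decide +kernel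

end Cfsg.Agent.Helper2.RuL
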