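import Cfsg.Agent.Helper2.RuL.Chk4
import Cfsg.Agent.Helper2.RuL.Tab

/-! Certificates for the weight-16 words of the parity code, chunk 2 (helper2; generated). -/

set_option autoImplicit false
set_option maxRecDepth 100000

namespace Cfsg.Agent.Helper2.RuL

open Cfsg.Agent.Helper5.RuLat

def c16_2 : List C16 := [
  C16.bad 0x59f09a003300 0x1a29,
  C16.bad 0x59f09a00cc00 0x7f,
  C16.bad 0x650000566a59 0x680,
  C16.good 0x650000566aa6 [14, 22, 42, 45, 46] (ST.node (ST.node (ST.node (ST.node (ST.node (ST.leaf 8522) (ST.leaf 8708)) (ST.node (ST.leaf 8582) (ST.leaf 8648))) (ST.node (ST.node (ST.leaf 8644) (ST.leaf 8586)) (ST.node (ST.leaf 8712) (ST.leaf 8518)))) (ST.node (ST.node (ST.node (ST.leaf 8512) (ST.leaf 6076)) (ST.node (ST.leaf 5934) (ST.leaf 8642))) (ST.node (ST.node (ST.leaf 6004) (ST.leaf 8576)) (ST.node (ST.leaf 8706) (ST.leaf 5862))))) (ST.node (ST.node (ST.node (ST.node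 (ST.leaf 5860) (ST.leaf 8704)) (ST.node (ST.leaf 8578) (ST.leaf 6006))) (ST.node (ST.node (ST.leaf 8640) (ST.leaf 5932)) (ST.node (ST.leaf 6078) (ST.leaf 8514)))) (ST.node (ST.node (ST.node (ST.leaf 8516) (ST.leaf 8714)) (ST.node (ST.leaf 8584) (ST.leaf 8646))) (ST.node (ST.node (ST.leaf 8650) (ST.leaf 8580)) (ST.node (ST.leaf 8710) (ST.leaf 8520)))))) [(1, 0x12), (2, 0x1d), (5, 0x21), (7, 0x8), (9, 0x111), (11, 0x9), (13, 0x18), (17, 0x1000), (18, 0x2000), (20, 0x4000), (40, 0x20000)],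
  C16.good 0x650000569559 [15, 22, 42, 45, 46] (ST.node (ST.node (ST.node (ST.node (ST.node (ST.leaf 6086) (ST.leaf 3612)) (ST.node (ST.leaf 6012) (ST.leaf 3678))) (ST.node (ST.node (ST.leaf 5936) (ST.leaf 6016)) (ST.node (ST.leaf 5866) (ST.leaf 6090)))) (ST.node (ST.node (ST.node (ST.leaf 3806) (ST.leaf 5868)) (ST.node (ST.leaf 3740) (ST.leaf 5942))) (ST.node (ST.node (ST.leaf 5946) (ST.leaf 6010)) (ST.node (ST.leaf 5872) (ST.leaf 6080))))) (ST.node (ST.node (ST.node (ST.node (ST.leaf 6082) (ST.leaf 5874)) (ST.node (ST.leaf 6008) (ST.leaf 5944))) (ST.node (ST.node (ST.leaf 5940) (ST.leaf 3742)) (ST.node (ST.leaf 5870) (ST.leaf 3804)))) (ST.node (ST.node (ST.node (ST.leaf 6088) (ST.leaf 5864)) (ST.node (ST.leaf 6018) (ST.leaf 5938))) (ST.node (ST.node (ST.leaf 3676) (ST.leaf 6014)) (ST.node (ST.leaf 3614) (ST.leaf 6084)))))) [(0, 0x1), (3, 0x8), (4, 0x10), (6, 0x40), (8, 0x80), (10,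 0x200), (12, 0x400), (17, 0x1000), (18, 0x2000), (20, 0x4000), (40, 0x20000)],
  C16.bad 0x6500005695a6 0x59,
  C16.good 0x650000a96a59 [14, 23, 42, 45, 46] (ST.node (ST.node (ST.node (ST.node (ST.node (ST.leaf 11047) (ST.leaf 11207)) (ST.node (ST.leaf 11099) (ST.leaf 11155))) (ST.node (ST.node (ST.leaf 11151) (ST.leaf 11103)) (ST.node (ST.leaf 11203) (ST.leaf 11051)))) (ST.node (ST.node (ST.node (ST.leaf 8495) (ST.leaf 11197)) (ST.node (ST.leaf 8559) (ST.leaf 11145))) (ST.node (ST.node (ST.leaf 8623) (ST.leaf 11093)) (ST.node (ST.leaf 8687) (ST.leaf 11041))))) (ST.node (ST.node (ST.node (ST.node (ST.leaf 11043) (ST.leaf 8685)) (ST.node (ST.leaf 11095) (ST.leaf 8621))) (ST.node (ST.node (ST.leaf 11147) (ST.leaf 8557)) (ST.node (ST.leaf 11199) (ST.leaf 8493)))) (ST.node (ST.node (ST.node (ST.leaf 11049) (ST.leaf 11201)) (ST.node (ST.leaf 11101) (ST.leaf 11149))) (ST.node (ST.node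 (ST.leaf 11153) (ST.leaf 11097)) (ST.node (ST.leaf 11205) (ST.leaf 11045)))))) [(0, 0x201), (3, 0x20e), (4, 0x214), (6, 0x242), (9, 0x180), (11, 0x200), (13, 0x280), (16, 0xa06), (19, 0x84), (21, 0x282), (40, 0x20000)],
  C16.bad 0x650000a96aa6 0x59,
  C16.bad 0x650000a99559 0x7000,
  C16.good 0x650000a995a6 [15, 23, 42, 45, 46] (ST.node (ST.node (ST.node (ST.node (ST.node (ST.leaf 8695) (ST.leaf 5843)) (ST.node (ST.leaf 8633) (ST.leaf 8563))) (ST.node (ST.node (ST.leaf 5913) (ST.leaf 8629)) (ST.node (ST.leaf 8497) (ST.leaf 8699)))) (ST.node (ST.node (ST.node (ST.leaf 6059) (ST.leaf 8503)) (ST.node (ST.leaf 8627) (ST.leaf 8569))) (ST.node (ST.node (ST.leaf 8565) (ST.leaf 5985)) (ST.node (ST.leaf 8507) (ST.leaf 8689))))) (ST.node (ST.node (ST.node (ST.node (ST.leaf 8691) (ST.leaf 8505)) (ST.node (ST.leaf 5987) (ST.leaf 8567))) (ST.node (ST.node (ST.leaf 8571) (ST.leaf 8625)) (ST.node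 (ST.leaf 8501) (ST.leaf 6057)))) (ST.node (ST.node (ST.node (ST.leaf 8697) (ST.leaf 8499)) (ST.node (ST.leaf 8631) (ST.leaf 5915))) (ST.node (ST.node (ST.leaf 8561) (ST.leaf 8635)) (ST.node (ST.leaf 5841) (ST.leaf 8693)))))) [(1, 0x1b), (2, 0x14), (5, 0x28), (7, 0x1), (8, 0x80), (10, 0x200), (12, 0x400), (16, 0x809), (19, 0x11), (21, 0x18), (40, 0x20000)],
  C16.bad 0x653c33006a00 0x26,
  C16.bad 0x653c33009500 0x26,
  C16.bad 0x653ccc006a00 0x7f,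
  C16.bad 0x653ccc009500 0x10126,
  C16.bad 0x65c333006a00 0x59,
  C16.bad 0x65c333009500 0x100,
  C16.bad 0x65c3cc006a00 0x8026,
  C16.bad 0x65c3cc009500 0x5b,
  C16.bad 0x6a0000653c33 0x1cc,
  C16.bad 0x6a0000653ccc 0x91,
  C16.bad 0x6a000065c333 0x10000,
  C16.bad 0x6a000065c3cc 0x633,
  C16.bad 0x6a00009a3c33 0x1cc,
  C16.bad 0x6a00009a3ccc 0x1b3,
  C16.bad 0x6a00009ac333 0x64c,
  C16.bad 0x6a00009ac3cc 0x633,
  C16.bad 0x6a590f003c00 0x7f,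
  C16.bad 0x6a590f00c300 0x416,
  C16.bad 0x6a59f0003c00 0x38a5,
  C16.bad 0x6a59f000c300 0x7f,
  C16.bad 0x6aa60f003c00 0x5119,
  C16.bad 0x6aa60f00c300 0x7f,
  C16.bad 0x6aa6f0003c00 0x7f,
  C16.bad 0x6aa6f000c300 0x3a19,
  C16.bad 0x950000653c33 0x104,
  C16.bad 0x950000653ccc 0x180,
  C16.bad 0x95000065c333 0x600,
  C16.bad 0x95000065c3cc 0x11,
  C16.bad 0x9500009a3c33 0x4c,
  C16.bad 0x9500009a3ccc 0x10000,
  C16.bad 0x9500009ac333 0x4c,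
  C16.bad 0x9500009ac3cc 0x33,
  C16.bad 0x95590f003c00 0x33,
  C16.bad 0x95590f00c300 0x4c,
  C16.bad 0x9559f0003c00 0x7f,
  C16.bad 0x9559f000c300 0x5000,
  C16.bad 0x95a60f003c00 0x33,
  C16.bad 0x95a60f00c300 0x2e00,
  C16.bad 0x95a6f0003c00 0x5116,
  C16.bad 0x95a6f000c300 0x7f,
  C16.good 0x9a0000566a59 [14, 22, 43, 44, 47] (ST.node (ST.node (ST.node (ST.node (ST.node (ST.leaf 8628) (ST.leaf 5912)) (ST.node (ST.leaf 8698) (ST.leaf 8496))) (ST.node (ST.node (ST.leaf 5842) (ST.leaf 8694)) (ST.node (ST.leaf 8562) (ST.leaf 8632)))) (ST.node (ST.node (ST.node (ST.leaf 5984) (ST.leaf 8564)) (ST.node (ST.leaf 8688) (ST.leaf 8506))) (ST.node (ST.node (ST.leaf 8502) (ST.leaf 6058)) (ST.node (ST.leaf 8568) (ST.leaf 8626))))) (ST.node (ST.node (ST.node (ST.node (ST.leaf 8624) (ST.leaf 8570)) (ST.node (ST.leaf 6056) (ST.leaf 8500))) (ST.node (ST.node (ST.leaf 8504) (ST.leaf 8690)) (ST.node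 (ST.leaf 8566) (ST.leaf 5986)))) (ST.node (ST.node (ST.node (ST.leaf 8634) (ST.leaf 8560)) (ST.node (ST.leaf 8692) (ST.leaf 5840))) (ST.node (ST.node (ST.leaf 8498) (ST.leaf 8696)) (ST.node (ST.leaf 5914) (ST.leaf 8630)))))) [(0, 0x7), (3, 0x8), (4, 0x12), (6, 0x62), (9, 0x122), (11, 0x20), (13, 0x24), (17, 0x1000), (18, 0x2000), (20, 0x4026), (41, 0x26)],
  C16.bad 0x9a0000566aa6 0x859,
  C16.bad 0x9a0000569559 0x8000,
  C16.good 0x9a00005695a6 [15, 22, 43, 44, 47] (ST.node (ST.node (ST.node (ST.node (ST.node (ST.leaf 8556) (ST.leaf 11146)) (ST.node (ST.leaf 8492) (ST.leaf 11198))) (ST.node (ST.node (ST.leaf 8684) (ST.leaf 11042)) (ST.node (ST.leaf 8620) (ST.leaf 11094)))) (ST.node (ST.node (ST.node (ST.leaf 11096) (ST.leaf 11152)) (ST.node (ST.leaf 11044) (ST.leaf 11204))) (ST.node (ST.node (ST.leaf 11200) (ST.leaf 11048)) (ST.node (ST.leaf 11148) (ST.leaf 11100))))) (ST.node (ST.node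 (ST.node (ST.node (ST.leaf 11102) (ST.leaf 11150)) (ST.node (ST.leaf 11050) (ST.leaf 11202))) (ST.node (ST.node (ST.leaf 11206) (ST.leaf 11046)) (ST.node (ST.leaf 11154) (ST.leaf 11098)))) (ST.node (ST.node (ST.node (ST.leaf 11092) (ST.leaf 8622)) (ST.node (ST.leaf 11040) (ST.leaf 8686))) (ST.node (ST.node (ST.leaf 11196) (ST.leaf 8494)) (ST.node (ST.leaf 11144) (ST.leaf 8558)))))) [(1, 0x3), (2, 0xc), (5, 0x28), (7, 0x8), (8, 0x80), (10, 0x209), (12, 0x400), (17, 0x1000), (18, 0x2000), (20, 0x4009), (41, 0x9)],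
  C16.bad 0x9a0000a96a59 0x6a6,
  C16.good 0x9a0000a96aa6 [14, 23, 43, 44, 47] (ST.node (ST.node (ST.node (ST.node (ST.node (ST.leaf 6009) (ST.leaf 5945)) (ST.node (ST.leaf 6083) (ST.leaf 5875))) (ST.node (ST.node (ST.leaf 5871) (ST.leaf 3805)) (ST.node (ST.leaf 5941) (ST.leaf 3743)))) (ST.node (ST.node (ST.node (ST.leaf 6019) (ST.leaf 5939)) (ST.node (ST.leaf 6089) (ST.leaf 5865))) (ST.node (ST.node (ST.leaf 3615) (ST.leaf 6085)) (ST.node (ST.leaf 3677) (ST.leaf 6015))))) (ST.node (ST.node (ST.node (ST.node (ST.leaf 6013) (ST.leaf 3679)) (ST.node (ST.leaf 6087) (ST.leaf 3613))) (ST.node (ST.node (ST.leaf 5867) (ST.leaf 6091)) (ST.node (ST.leaf 5937) (ST.leaf 6017)))) (ST.node (ST.node (ST.node (ST.leaf 3741) (ST.leaf 5943)) (ST.node (ST.leaf 3807) (ST.leaf 5869))) (ST.node (ST.node (ST.leaf 5873) (ST.leaf 6081)) (ST.node (ST.leaf 5947) (ST.leaf 6011)))))) [(1, 0x21b), (2, 0x214),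 (5, 0x271), (7, 0x201), (9, 0x1d9), (11, 0x259), (13, 0x2d9), (16, 0xa50), (19, 0x91), (21, 0x298), (41, 0x59)],
  C16.good 0x9a0000a99559 [15, 23, 43, 44, 47] (ST.node (ST.node (ST.node (ST.node (ST.node (ST.leaf 8583) (ST.leaf 8649)) (ST.node (ST.leaf 8523) (ST.leaf 8709))) (ST.node (ST.node (ST.leaf 8713) (ST.leaf 8519)) (ST.node (ST.leaf 8645) (ST.leaf 8587)))) (ST.node (ST.node (ST.node (ST.leaf 5935) (ST.leaf 8643)) (ST.node (ST.leaf 8513) (ST.leaf 6077))) (ST.node (ST.node (ST.leaf 8707) (ST.leaf 5863)) (ST.node (ST.leaf 6005) (ST.leaf 8577))))) (ST.node (ST.node (ST.node (ST.node (ST.leaf 8579) (ST.leaf 6007)) (ST.node (ST.leaf 5861) (ST.leaf 8705))) (ST.node (ST.node (ST.leaf 6079) (ST.leaf 8515)) (ST.node (ST.leaf 8641) (ST.leaf 5933)))) (ST.node (ST.node (ST.node (ST.leaf 8585) (ST.leaf 8647)) (ST.node (ST.leaf 8517) (ST.leaf 8715))) (ST.node (ST.node (ST.leaf 8711) (ST.leaf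 8521)) (ST.node (ST.leaf 8651) (ST.leaf 8581)))))) [(0, 0x27), (3, 0x28), (4, 0x32), (6, 0x42), (8, 0x80), (10, 0x226), (12, 0x400), (16, 0x806), (19, 0x4), (21, 0x24), (41, 0x26)],
  C16.bad 0x9a0000a995a6 0x159,
  C16.bad 0x9a3c33006a00 0x7f,
  C16.bad 0x9a3c33009500 0x900,
  C16.bad 0x9a3ccc006a00 0x106a6,
  C16.bad 0x9a3ccc009500 0x7f,
  C16.bad 0x9ac333006a00 0x6a6,
  C16.bad 0x9ac333009500 0x3e,
  C16.bad 0x9ac3cc006a00 0x7f,
  C16.bad 0x9ac3cc009500 0x8826,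
  C16.bad 0xa600003c3356 0x229,
  C16.bad 0xa600003c33a9 0x8000,
  C16.bad 0xa600003ccc56 0x5a9,
  C16.bad 0xa600003ccca9 0x1856,
  C16.bad 0xa60000c33356 0x6009,
  C16.bad 0xa60000c333a9 0x6056,
  C16.bad 0xa60000c3cc56 0x5a9,
  C16.bad 0xa60000c3cca9 0x106,
  C16.bad 0xa60f65003300 0x7f,
  C16.bad 0xa60f6500cc00 0x5a9,
  C16.bad 0xa60f9a003300 0x229,
  C16.bad 0xa60f9a00cc00 0x7f,
  C16.bad 0xa6f065003300 0x1a00,
  C16.bad 0xa6f06500cc00 0x7f,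
  C16.bad 0xa6f09a003300 0x7f,
  C16.bad 0xa6f09a00cc00 0x7800,
  C16.bad 0xa900000f653c 0x43,
  C16.bad 0xa900000f65c3 0x3c,
  C16.bad 0xa900000f9a3c 0x2,
  C16.bad 0xa900000f9ac3 0x4000,
  C16.bad 0xa90000f0653c 0x500,
  C16.bad 0xa90000f065c3 0x3c,
  C16.bad 0xa90000f09a3c 0x3800,
  C16.bad 0xa90000f09ac3 0x8000,
  C16.good 0xa96a59006500 [30, 38, 43, 45, 47] (ST.node (ST.node (ST.node (ST.node (ST.node (ST.leaf 5953) (ST.leaf 2055)) (ST.node (ST.leaf 5809) (ST.leaf 2151))) (ST.node (ST.node (ST.leaf 6025) (ST.leaf 2007)) (ST.node (ST.leaf 5881) (ST.leaf 2103)))) (ST.node (ST.node (ST.node (ST.leaf 3683) (ST.leaf 3621)) (ST.node (ST.leaf 3555) (ST.leaf 3749))) (ST.node (ST.node (ST.leaf 3747) (ST.leaf 3557)) (ST.node (ST.leaf 3619) (ST.leaf 3685))))) (ST.node (ST.node (ST.node (ST.node (ST.leaf 3687) (ST.leaf 3617)) (ST.node (ST.leaf 3559) (ST.leaf 3745))) (ST.node (ST.node (ST.leaf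 3751) (ST.leaf 3553)) (ST.node (ST.leaf 3623) (ST.leaf 3681)))) (ST.node (ST.node (ST.node (ST.leaf 2101) (ST.leaf 5883)) (ST.node (ST.leaf 2005) (ST.leaf 6027))) (ST.node (ST.node (ST.leaf 2149) (ST.leaf 5811)) (ST.node (ST.leaf 2053) (ST.leaf 5955)))))) [(8, 0x1091), (10, 0x131f), (13, 0x10), (14, 0x8), (24, 0x8015), (27, 0x1a), (28, 0xf), (33, 0x14), (35, 0x1000), (37, 0x1102), (40, 0x20000)],
  C16.bad 0xa96a59009a00 0x3c,
  C16.bad 0xa96aa6006500 0x7f,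
  C16.good 0xa96aa6009a00 [31, 38, 43, 45, 47] (ST.node (ST.node (ST.node (ST.node (ST.node (ST.leaf 1051) (ST.leaf 1145)) (ST.node (ST.leaf 475) (ST.leaf 453))) (ST.node (ST.node (ST.leaf 2083) (ST.leaf 2129)) (ST.node (ST.leaf 1143) (ST.leaf 1045)))) (ST.node (ST.node (ST.node (ST.leaf 433) (ST.leaf 495)) (ST.node (ST.leaf 1113) (ST.leaf 1083))) (ST.node (ST.node (ST.leaf 1077) (ST.leaf 1111)) (ST.node (ST.leaf 2177) (ST.leaf 2035))))) (ST.node (ST.node (ST.node (ST.node (ST.leaf 2033) (ST.leaf 2179)) (ST.node (ST.leaf 1109) (ST.leaf 1079))) (ST.node (ST.node (ST.leaf 1081) (ST.leaf 1115)) (ST.node (ST.leaf 493) (ST.leaf 435)))) (ST.node (ST.node (ST.node (ST.leaf 1047) (ST.leaf 1141)) (ST.node (ST.leaf 2131) (ST.leaf 2081))) (ST.node (ST.node (ST.leaf 455) (ST.leaf 473)) (ST.node (ST.leaf 1147) (ST.leaf 1049)))))) [(9, 0x39c), (11, 0xa84), (12, 0xe9f), (15, 0x7), (25, 0x17), (26,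 0x18), (29, 0xd), (33, 0xa82), (35, 0x94), (37, 0x894), (40, 0x20000)],
  C16.bad 0xa99559006500 0x3c,
  C16.good 0xa99559009a00 [30, 39, 43, 45, 47] (ST.node (ST.node (ST.node (ST.node (ST.node (ST.leaf 2075) (ST.leaf 1105)) (ST.node (ST.leaf 2169) (ST.leaf 1043))) (ST.node (ST.node (ST.leaf 3581) (ST.leaf 2167)) (ST.node (ST.leaf 3711) (ST.leaf 2069)))) (ST.node (ST.node (ST.node (ST.leaf 1073) (ST.leaf 2123)) (ST.node (ST.leaf 1139) (ST.leaf 2025))) (ST.node (ST.node (ST.leaf 2023) (ST.leaf 3773)) (ST.node (ST.leaf 2117) (ST.leaf 3647))))) (ST.node (ST.node (ST.node (ST.node (ST.leaf 3645) (ST.leaf 2119)) (ST.node (ST.leaf 3775) (ST.leaf 2021))) (ST.node (ST.node (ST.leaf 2027) (ST.leaf 1137)) (ST.node (ST.leaf 2121) (ST.leaf 1075)))) (ST.node (ST.node (ST.node (ST.leaf 2071) (ST.leaf 3709)) (ST.node (ST.leaf 2165) (ST.leaf 3583))) (ST.node (ST.node (ST.leaf 1041) (ST.leaf 2171))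 (ST.node (ST.leaf 1107) (ST.leaf 2073)))))) [(9, 0x106), (11, 0x4), (12, 0x1412), (15, 0x1010), (24, 0x8015), (27, 0x1a), (28, 0xf), (32, 0x10018), (34, 0x1000), (36, 0x1018), (40, 0x20000)],
  C16.good 0xa995a6006500 [31, 39, 43, 45, 47] (ST.node (ST.node (ST.node (ST.node (ST.node (ST.leaf 3757) (ST.leaf 2015)) (ST.node (ST.leaf 2059) (ST.leaf 1097))) (ST.node (ST.node (ST.leaf 3695) (ST.leaf 2061)) (ST.node (ST.leaf 2009) (ST.leaf 1131)))) (ST.node (ST.node (ST.node (ST.leaf 2155) (ST.leaf 1033)) (ST.node (ST.leaf 3629) (ST.leaf 2111))) (ST.node (ST.node (ST.leaf 2105) (ST.leaf 1067)) (ST.node (ST.leaf 3567) (ST.leaf 2157))))) (ST.node (ST.node (ST.node (ST.node (ST.leaf 2159) (ST.leaf 3565)) (ST.node (ST.leaf 1065) (ST.leaf 2107))) (ST.node (ST.node (ST.leaf 2109) (ST.leaf 3631)) (ST.node (ST.leaf 1035) (ST.leaf 2153)))) (ST.node (ST.node (ST.node (ST.leaf 1129) (ST.leaf 2011))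 (ST.node (ST.leaf 2063) (ST.leaf 3693))) (ST.node (ST.node (ST.leaf 1099) (ST.leaf 2057)) (ST.node (ST.leaf 2013) (ST.leaf 3759)))))) [(8, 0x8ac), (10, 0x22e), (13, 0x38), (14, 0x806), (25, 0x29), (26, 0x26), (29, 0x33), (32, 0x10800), (34, 0x1), (36, 0x801), (40, 0x20000)],
  C16.bad 0xa995a6009a00 0x7f,
  C16.bad 0xc300006a590f 0x300,
  C16.bad 0xc300006a59f0 0xf]

set_option Elab.async false in
theorem c16_2_ok : c16_2.all (chkC16 ent 16240 pbsD colsD) = true := by decide +kernel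

end Cfsg.Agent.Helper2.RuL
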