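import Cfsg.Agent.Helper2.RuL.Chk4
import Cfsg.Agent.Helper2.RuL.Tab

/-! Certificates for the weight-16 words of the parity code, chunk 3 (helper2; generated). -/

set_option autoImplicit false
set_option maxRecDepth 100000

namespace Cfsg.Agent.Helper2.RuL

open Cfsg.Agent.Helper5.RuLat

def c16_3 : List C16 := [
  C16.bad 0xc300006aa60f 0x70,
  C16.bad 0xc300006aa6f0 0xf,
  C16.bad 0xc3000095590f 0x70,
  C16.bad 0xc300009559f0 0xf,
  C16.bad 0xc3000095a60f 0x8000,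
  C16.bad 0xc3000095a6f0 0xf,
  C16.bad 0xc33356005900 0x7f,
  C16.bad 0xc3335600a600 0x416,
  C16.bad 0xc333a9005900 0x1000,
  C16.bad 0xc333a900a600 0x70,
  C16.bad 0xc3cc56005900 0x692a,
  C16.bad 0xc3cc5600a600 0x7f,
  C16.bad 0xc3cca9005900 0xf,
  C16.bad 0xc3cca900a600 0xf,
  C16.bad 0xcc0000590f65 0x2,
  C16.bad 0xcc0000590f9a 0x465,
  C16.bad 0xcc000059f065 0x2001a,
  C16.bad 0xcc000059f09a 0x124,
  C16.bad 0xcc0000a60f65 0x41a,
  C16.bad 0xcc0000a60f9a 0x465,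
  C16.bad 0xcc0000a6f065 0x8000,
  C16.bad 0xcc0000a6f09a 0x20065,
  C16.bad 0xcc566a000f00 0xb400,
  C16.bad 0xcc566a00f000 0x7f,
  C16.bad 0xcc5695000f00 0x7f,
  C16.bad 0xcc569500f000 0x2001a,
  C16.bad 0xcca96a000f00 0x7f,
  C16.bad 0xcca96a00f000 0x23000,
  C16.bad 0xcca995000f00 0x41a,
  C16.bad 0xcca99500f000 0x7f,
  C16.bad 0xf0000033566a 0x8000,
  C16.bad 0xf00000335695 0x10000,
  C16.bad 0xf0000033a96a 0x104,
  C16.bad 0xf0000033a995 0x8000,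
  C16.bad 0xf00000cc566a 0x95,
  C16.bad 0xf00000cc5695 0x586a,
  C16.bad 0xf00000cca96a 0x5815,
  C16.bad 0xf00000cca995 0x76a,
  C16.bad 0xf0653c005600 0x7800,
  C16.bad 0xf0653c00a900 0x7f,
  C16.bad 0xf065c3005600 0x7f,
  C16.bad 0xf065c300a900 0x2015,
  C16.bad 0xf09a3c005600 0x7f,
  C16.bad 0xf09a3c00a900 0x7800,
  C16.bad 0xf09ac3005600 0x2080,
  C16.bad 0xf09ac300a900 0x7f,
  C16.bad 0xff00000000ff 0x2080,
  C16.bad 0xff000000ff00 0x100f,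
  C16.bad 0xff0000ff0000 0x229,
  C16.bad 0xff00ff000000 0x126,
  C16.bad 0xffff00000000 0x900,
  C16.good 0x5185544282206 [30, 38, 44, 50] (ST.node (ST.node (ST.node (ST.node (ST.leaf 5022) (ST.leaf 3020)) (ST.node (ST.leaf 3026) (ST.leaf 5024))) (ST.node (ST.node (ST.leaf 5012) (ST.leaf 3010)) (ST.node (ST.leaf 1668) (ST.leaf 3018)))) (ST.node (ST.node (ST.node (ST.leaf 3016) (ST.leaf 1670)) (ST.node (ST.leaf 3008) (ST.leaf 5014))) (ST.node (ST.node (ST.leaf 5026) (ST.leaf 3024)) (ST.node (ST.leaf 3022) (ST.leaf 5020))))) [(1, 0x4c2), (2, 0x494), (9, 0x181), (13, 0x601), (19, 0x610), (21, 0x99), (26, 0x481), (32, 0x106d9), (34, 0x4d9), (36, 0x200), (43, 0x4d8), (48, 0x40000)],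
  C16.good 0x5185a21142250 [29, 38, 44, 50] (ST.node (ST.node (ST.node (ST.node (ST.leaf 4470) (ST.leaf 6880)) (ST.node (ST.leaf 6886) (ST.leaf 4472))) (ST.node (ST.node (ST.leaf 4456) (ST.leaf 6874)) (ST.node (ST.leaf 4464) (ST.leaf 2642)))) (ST.node (ST.node (ST.node (ST.leaf 2640) (ST.leaf 4466)) (ST.node (ST.leaf 6872) (ST.leaf 4458))) (ST.node (ST.node (ST.leaf 4474) (ST.leaf 6884)) (ST.node (ST.leaf 6882) (ST.leaf 4468))))) [(4, 0x15), (6, 0x43), (9, 0x181), (13, 0xa), (18, 0x208a), (20, 0x4082), (24, 0x8000), (33, 0xe), (35, 0x8c), (36, 0x8), (43, 0xf), (48, 0x40000)],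
  C16.good 0x5186612422209 [28, 38, 44, 50] (ST.node (ST.node (ST.node (ST.node (ST.leaf 5480) (ST.leaf 8098)) (ST.node (ST.leaf 5488) (ST.leaf 3334))) (ST.node (ST.node (ST.leaf 5494) (ST.leaf 8104)) (ST.node (ST.leaf 8110) (ST.leaf 5496)))) (ST.node (ST.node (ST.node (ST.leaf 5498) (ST.leaf 8108)) (ST.node (ST.leaf 8106) (ST.leaf 5492))) (ST.node (ST.node (ST.leaf 3332) (ST.leaf 5490)) (ST.node (ST.leaf 8096) (ST.leaf 5482))))) [(0, 0x15), (3, 0x6a), (9, 0x324), (13, 0x476), (17, 0x1430), (22, 0x34), (25, 0x56), (33, 0x424), (34, 0x422), (37, 0x256), (43, 0x26), (48, 0x40000)],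
  C16.good 0x51869888122a0 [31, 38, 44, 50] (ST.node (ST.node (ST.node (ST.node (ST.leaf 9027) (ST.leaf 6401)) (ST.node (ST.leaf 4075) (ST.leaf 6409))) (ST.node (ST.node (ST.leaf 9033) (ST.leaf 6415)) (ST.node (ST.leaf 6417) (ST.leaf 9039)))) (ST.node (ST.node (ST.node (ST.leaf 9037) (ST.leaf 6419)) (ST.node (ST.leaf 6413) (ST.leaf 9035))) (ST.node (ST.node (ST.leaf 6411) (ST.leaf 4073)) (ST.node (ST.leaf 6403) (ST.leaf 9025))))) [(5, 0x3c), (7, 0x13), (9, 0x389), (13, 0xc), (16, 0xa98), (23, 0x1b), (27, 0x6), (32, 0x1028c), (35, 0x8a), (37, 0x206), (43, 0xf), (48, 0x40000)],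
  C16.good 0x51896888122a0 [31, 39, 44, 50] (ST.node (ST.node (ST.node (ST.node (ST.leaf 8888) (ST.leaf 6266)) (ST.node (ST.leaf 6268) (ST.leaf 8894))) (ST.node (ST.node (ST.leaf 8882) (ST.leaf 6252)) (ST.node (ST.leaf 3950) (ST.leaf 6260)))) (ST.node (ST.node (ST.node (ST.leaf 6262) (ST.leaf 3948)) (ST.node (ST.leaf 6254) (ST.leaf 8880))) (ST.node (ST.node (ST.leaf 8892) (ST.leaf 6270)) (ST.node (ST.leaf 6264) (ST.leaf 8890))))) [(5, 0x3c), (7, 0x43), (9, 0x353), (13, 0x409), (16, 0xc11), (23, 0x21d), (27, 0x56), (33, 0x653), (34, 0x455), (36, 0x256), (43, 0xf), (48, 0x40000)],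
  C16.good 0x5189912422209 [28, 39, 44, 50] (ST.node (ST.node (ST.node (ST.node (ST.leaf 3419) (ST.leaf 5613)) (ST.node (ST.leaf 8247) (ST.leaf 5605))) (ST.node (ST.node (ST.leaf 5621) (ST.leaf 8259)) (ST.node (ST.leaf 8253) (ST.leaf 5619)))) (ST.node (ST.node (ST.node (ST.leaf 5617) (ST.leaf 8255)) (ST.node (ST.leaf 8257) (ST.leaf 5623))) (ST.node (ST.node (ST.leaf 5607) (ST.leaf 8245)) (ST.node (ST.leaf 5615) (ST.leaf 3417))))) [(0, 0x15), (3, 0x6a), (9, 0x1a6), (13, 0x52), (17, 0x10c0), (22, 0x32), (25, 0x56), (32, 0x100d2), (35, 0xd4), (36, 0x6), (43, 0x26), (48, 0x40000)],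
  C16.good 0x518a521142250 [29, 39, 44, 50] (ST.node (ST.node (ST.node (ST.node (ST.leaf 4583) (ST.leaf 7021)) (ST.node (ST.leaf 4591) (ST.leaf 2725))) (ST.node (ST.node (ST.leaf 4593) (ST.leaf 7031)) (ST.node (ST.leaf 7033) (ST.leaf 4599)))) (ST.node (ST.node (ST.node (ST.leaf 4597) (ST.leaf 7035)) (ST.node (ST.leaf 7029) (ST.leaf 4595))) (ST.node (ST.node (ST.leaf 2727) (ST.leaf 4589)) (ST.node (ST.leaf 7023) (ST.leaf 4581))))) [(4, 0x15), (6, 0x43), (9, 0x305), (13, 0x4), (18, 0x2000), (20, 0x4200), (24, 0x8000), (32, 0x10206), (34, 0x6), (37, 0x200), (43, 0x7), (48, 0x40000)],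
  C16.good 0x518aa44282206 [30, 39, 44, 50] (ST.node (ST.node (ST.node (ST.node (ST.leaf 5139) (ST.leaf 3093)) (ST.node (ST.leaf 1723) (ST.leaf 3101))) (ST.node (ST.node (ST.leaf 5145) (ST.leaf 3107)) (ST.node (ST.leaf 3109) (ST.leaf 5151)))) (ST.node (ST.node (ST.node (ST.leaf 5149) (ST.leaf 3111)) (ST.node (ST.leaf 3105) (ST.leaf 5147))) (ST.node (ST.node (ST.leaf 3103) (ST.leaf 1721)) (ST.node (ST.leaf 3095) (ST.leaf 5137))))) [(1, 0x4282), (2, 0x42d4), (9, 0x381), (13, 0x401), (19, 0x4689), (21, 0x440), (26, 0x42c1), (33, 0x4299), (35, 0x4d9), (37, 0x200), (43, 0x4298), (48, 0x40000)],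
  C16.good 0x5245544428409 [30, 38, 45, 50] (ST.node (ST.node (ST.node (ST.node (ST.leaf 5384) (ST.leaf 3262)) (ST.node (ST.leaf 1824) (ST.leaf 3270))) (ST.node (ST.node (ST.leaf 5394) (ST.leaf 3272)) (ST.node (ST.leaf 3278) (ST.leaf 5396)))) (ST.node (ST.node (ST.node (ST.leaf 5398) (ST.leaf 3276)) (ST.node (ST.leaf 3274) (ST.leaf 5392))) (ST.node (ST.node (ST.leaf 3268) (ST.leaf 1826)) (ST.node (ST.leaf 3260) (ST.leaf 5386))))) [(0, 0x11), (3, 0x4c), (10, 0x2d2), (15, 0x450), (17, 0x1416), (22, 0x92), (26, 0x4), (32, 0x10006), (34, 0x4d2), (36, 0x4d4), (42, 0x56), (48, 0x40000)],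
  C16.good 0x5245a218184a0 [29, 38, 45, 50] (ST.node (ST.node (ST.node (ST.node (ST.leaf 8364) (ST.leaf 5714)) (ST.node (ST.leaf 5708) (ST.leaf 8362))) (ST.node (ST.node (ST.leaf 5706) (ST.leaf 3480)) (ST.node (ST.leaf 5698) (ST.leaf 8352)))) (ST.node (ST.node (ST.node (ST.leaf 8354) (ST.leaf 5696)) (ST.node (ST.leaf 3482) (ST.leaf 5704))) (ST.node (ST.node (ST.leaf 8360) (ST.leaf 5710)) (ST.node (ST.leaf 5712) (ST.leaf 8366))))) [(5, 0x33), (7, 0x15), (10, 0x389), (15, 0x5), (16, 0x894), (23, 0x194), (24, 0x8000), (33, 0x185), (35, 0x83), (36, 0x183), (42, 0xf), (48, 0x40000)],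
  C16.good 0x5246612288406 [28, 38, 45, 50] (ST.node (ST.node (ST.node (ST.node (ST.leaf 4868) (ST.leaf 2914)) (ST.node (ST.leaf 4860) (ST.leaf 7358))) (ST.node (ST.node (ST.leaf 7370) (ST.leaf 4876)) (ST.node (ST.leaf 4874) (ST.leaf 7364)))) (ST.node (ST.node (ST.node (ST.leaf 7366) (ST.leaf 4872)) (ST.node (ST.leaf 4878) (ST.leaf 7368))) (ST.node (ST.node (ST.leaf 7356) (ST.leaf 4862)) (ST.node (ST.leaf 2912) (ST.leaf 4870))))) [(1, 0x33), (2, 0x15), (10, 0xa89), (15, 0x921), (19, 0x1018), (21, 0x1918), (25, 0x19a8), (33, 0x9a1), (34, 0x81), (37, 0x181), (42, 0x1981), (48, 0x40000)],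
  C16.good 0x5246988148450 [31, 38, 45, 50] (ST.node (ST.node (ST.node (ST.node (ST.leaf 6561) (ST.leaf 9179)) (ST.node (ST.leaf 9181) (ST.leaf 6567))) (ST.node (ST.node (ST.leaf 6551) (ST.leaf 9169)) (ST.node (ST.leaf 6559) (ST.leaf 4197)))) (ST.node (ST.node (ST.node (ST.leaf 4199) (ST.leaf 6557)) (ST.node (ST.leaf 9171) (ST.leaf 6549))) (ST.node (ST.node (ST.leaf 6565) (ST.leaf 9183)) (ST.node (ST.leaf 9177) (ST.leaf 6563))))) [(4, 0x13), (6, 0x48), (10, 0x389), (15, 0x3), (18, 0x2081), (20, 0x4109), (27, 0x2), (32, 0x10102), (35, 0x81), (37, 0x183), (42, 0xb), (48, 0x40000)],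
  C16.good 0x5249688148450 [31, 39, 45, 50] (ST.node (ST.node (ST.node (ST.node (ST.leaf 9320) (ST.leaf 6710)) (ST.node (ST.leaf 6712) (ST.leaf 9326))) (ST.node (ST.node (ST.leaf 9314) (ST.leaf 6696)) (ST.node (ST.leaf 4322) (ST.leaf 6704)))) (ST.node (ST.node (ST.node (ST.leaf 6706) (ST.leaf 4320)) (ST.node (ST.leaf 6698) (ST.leaf 9312))) (ST.node (ST.node (ST.leaf 9324) (ST.leaf 6714)) (ST.node (ST.leaf 6708) (ST.leaf 9322))))) [(4, 0x33), (6, 0x4c), (10, 0x22e), (15, 0x409), (18, 0x240a), (20, 0x400b), (27, 0x26), (33, 0x4), (34, 0x42a), (36, 0x40e), (42, 0xf), (48, 0x40000)],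
  C16.good 0x5249912288406 [28, 39, 45, 50] (ST.node (ST.node (ST.node (ST.node (ST.leaf 4755) (ST.leaf 7221)) (ST.node (ST.leaf 7219) (ST.leaf 4749))) (ST.node (ST.node (ST.leaf 2829) (ST.leaf 4747)) (ST.node (ST.leaf 7209) (ST.leaf 4739)))) (ST.node (ST.node (ST.node (ST.leaf 4737) (ST.leaf 7211)) (ST.node (ST.leaf 4745) (ST.leaf 2831))) (ST.node (ST.node (ST.leaf 4751) (ST.leaf 7217)) (ST.node (ST.leaf 7223) (ST.leaf 4753))))) [(1, 0x33), (2, 0x15), (10, 0x600), (15, 0x1), (19, 0x1099), (21, 0x1491), (25, 0x1088), (32, 0x10081), (35, 0x4a9), (36, 0x428), (42, 0x10a1), (48, 0x40000)],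
  C16.good 0x524a5218184a0 [29, 39, 45, 50] (ST.node (ST.node (ST.node (ST.node (ST.leaf 2223) (ST.leaf 3845)) (ST.node (ST.leaf 6135) (ST.leaf 3837))) (ST.node (ST.node (ST.leaf 3853) (ST.leaf 6147)) (ST.node (ST.leaf 6141) (ST.leaf 3851)))) (ST.node (ST.node (ST.node (ST.leaf 3849) (ST.leaf 6143)) (ST.node (ST.leaf 6145) (ST.leaf 3855))) (ST.node (ST.node (ST.leaf 3839) (ST.leaf 6133)) (ST.node (ST.leaf 3847) (ST.leaf 2221))))) [(5, 0x33), (7, 0x15), (10, 0x30a), (15, 0x3), (16, 0x911), (23, 0x11), (24, 0x8000), (32, 0x10100), (34, 0x6), (37, 0x106), (42, 0xf), (48, 0x40000)],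
  C16.good 0x524aa44428409 [30, 39, 45, 50] (ST.node (ST.node (ST.node (ST.node (ST.leaf 1773) (ST.leaf 3187)) (ST.node (ST.leaf 5261) (ST.leaf 3179))) (ST.node (ST.node (ST.leaf 3195) (ST.leaf 5273)) (ST.node (ST.leaf 5271) (ST.leaf 3189)))) (ST.node (ST.node (ST.node (ST.leaf 3191) (ST.leaf 5269)) (ST.node (ST.leaf 5275) (ST.leaf 3193))) (ST.node (ST.node (ST.leaf 3177) (ST.leaf 5263)) (ST.node (ST.leaf 3185) (ST.leaf 1775))))) [(0, 0x17), (3, 0x4c), (10, 0x3d0), (15, 0x450), (17, 0x10c2), (22, 0x440), (26, 0x2), (33, 0x6), (35, 0x4d4), (37, 0x5d6), (42, 0x56), (48, 0x40000)],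
  C16.good 0x5415544141150 [30, 38, 46, 50] (ST.node (ST.node (ST.node (ST.node (ST.leaf 2268) (ST.leaf 3910)) (ST.node (ST.leaf 3904) (ST.leaf 2266))) (ST.node (ST.node (ST.leaf 1202) (ST.leaf 2260)) (ST.node (ST.leaf 3898) (ST.leaf 2252)))) (ST.node (ST.node (ST.node (ST.leaf 2254) (ST.leaf 3896)) (ST.node (ST.leaf 2262) (ST.leaf 1200))) (ST.node (ST.node (ST.leaf 2264) (ST.leaf 3906)) (ST.node (ST.leaf 3908) (ST.leaf 2270))))) [(4, 0x11), (6, 0x47), (8, 0x83), (12, 0x406), (18, 0x2007), (20, 0x4000), (26, 0x4), (32, 0x10006), (34, 0x1), (36, 0x7), (40, 0x20000), (48, 0x40000)],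
  C16.good 0x5415a21281106 [29, 38, 46, 50] (ST.node (ST.node (ST.node (ST.node (ST.leaf 7774) (ST.leaf 5216)) (ST.node (ST.leaf 5214) (ST.leaf 7768))) (ST.node (ST.node (ST.leaf 5208) (ST.leaf 3146)) (ST.node (ST.leaf 5200) (ST.leaf 7762)))) (ST.node (ST.node (ST.node (ST.leaf 7760) (ST.leaf 5202)) (ST.node (ST.leaf 3144) (ST.leaf 5210))) (ST.node (ST.node (ST.leaf 7770) (ST.leaf 5212)) (ST.node (ST.leaf 5218) (ST.leaf 7772))))) [(1, 0x1a), (2, 0x15), (8, 0x181), (12, 0x601), (19, 0x10), (21, 0x218), (24, 0x8000), (33, 0x1), (35, 0x300), (36, 0x200), (40, 0x20000), (48, 0x40000)],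
  C16.good 0x54166128111a0 [28, 38, 46, 50] (ST.node (ST.node (ST.node (ST.node (ST.leaf 4250) (ST.leaf 2492)) (ST.node (ST.leaf 4242) (ST.leaf 6616))) (ST.node (ST.node (ST.leaf 6628) (ST.leaf 4258)) (ST.node (ST.leaf 4252) (ST.leaf 6626)))) (ST.node (ST.node (ST.node (ST.leaf 6624) (ST.leaf 4254)) (ST.node (ST.leaf 4256) (ST.leaf 6630))) (ST.node (ST.node (ST.leaf 6618) (ST.leaf 4240)) (ST.node (ST.leaf 2494) (ST.leaf 4248))))) [(5, 0x33), (7, 0x15), (8, 0x8c), (12, 0x409), (16, 0x912), (23, 0x12), (25, 0xf), (33, 0xc), (34, 0xa), (37, 0x10a), (40, 0x20000), (48, 0x40000)],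
  C16.good 0x5416988421109 [31, 38, 46, 50] (ST.node (ST.node (ST.node (ST.node (ST.leaf 7289) (ST.leaf 9891)) (ST.node (ST.leaf 7297) (ST.leaf 4819))) (ST.node (ST.node (ST.leaf 7303) (ST.leaf 9897)) (ST.node (ST.leaf 9903) (ST.leaf 7305)))) (ST.node (ST.node (ST.node (ST.leaf 7307) (ST.leaf 9901)) (ST.node (ST.leaf 9899) (ST.leaf 7301))) (ST.node (ST.node (ST.leaf 4817) (ST.leaf 7299)) (ST.node (ST.leaf 9889) (ST.leaf 7291))))) [(0, 0x13), (3, 0x18), (8, 0x382), (12, 0x402), (17, 0x1310), (22, 0x10), (27, 0x2), (32, 0x10102), (35, 0x300), (37, 0x202), (40, 0x20000), (48, 0x40000)],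
  C16.good 0x5419688421109 [31, 39, 46, 50] (ST.node (ST.node (ST.node (ST.node (ST.leaf 7154) (ST.leaf 9752)) (ST.node (ST.leaf 9758) (ST.leaf 7156))) (ST.node (ST.node (ST.leaf 7140) (ST.leaf 9746)) (ST.node (ST.leaf 7148) (ST.leaf 4694)))) (ST.node (ST.node (ST.node (ST.leaf 4692) (ST.leaf 7150)) (ST.node (ST.leaf 9744) (ST.leaf 7142))) (ST.node (ST.node (ST.leaf 7158) (ST.leaf 9756)) (ST.node (ST.leaf 9754) (ST.leaf 7152))))) [(0, 0x33), (3, 0x3c), (8, 0x284), (12, 0x406), (17, 0x1010), (22, 0x212), (27, 0x26), (33, 0x4), (34, 0x202), (36, 0x226), (40, 0x20000), (48, 0x40000)],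
  C16.good 0x54199128111a0 [28, 39, 46, 50] (ST.node (ST.node (ST.node (ST.node (ST.leaf 4375) (ST.leaf 2577)) (ST.node (ST.leaf 4367) (ST.leaf 6765))) (ST.node (ST.node (ST.leaf 6777) (ST.leaf 4383)) (ST.node (ST.leaf 4377) (ST.leaf 6775)))) (ST.node (ST.node (ST.node (ST.leaf 6773) (ST.leaf 4379)) (ST.node (ST.leaf 4381) (ST.leaf 6779))) (ST.node (ST.node (ST.leaf 6767) (ST.leaf 4365)) (ST.node (ST.leaf 2579) (ST.leaf 4373))))) [(5, 0x33), (7, 0x15), (8, 0x180), (12, 0x403), (16, 0x914), (23, 0x14), (25, 0x5), (32, 0x10100), (35, 0x106), (36, 0x6), (40, 0x20000), (48, 0x40000)],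
  C16.good 0x541a521281106 [29, 39, 46, 50] (ST.node (ST.node (ST.node (ST.node (ST.leaf 7909) (ST.leaf 5327)) (ST.node (ST.leaf 3229) (ST.leaf 5335))) (ST.node (ST.node (ST.leaf 7919) (ST.leaf 5337)) (ST.node (ST.leaf 5343) (ST.leaf 7921)))) (ST.node (ST.node (ST.node (ST.leaf 7923) (ST.leaf 5341)) (ST.node (ST.leaf 5339) (ST.leaf 7917))) (ST.node (ST.node (ST.leaf 5333) (ST.leaf 3231)) (ST.node (ST.leaf 5325) (ST.leaf 7911))))) [(1, 0x1a), (2, 0x15), (8, 0x80), (12, 0x401), (19, 0x11), (21, 0x19), (24, 0x8000), (32, 0x10100), (34, 0x1), (37, 0x101), (40, 0x20000), (48, 0x40000)],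
  C16.good 0x541aa44141150 [30, 39, 46, 50] (ST.node (ST.node (ST.node (ST.node (ST.leaf 3529) (ST.leaf 5771)) (ST.node (ST.leaf 5765) (ST.leaf 3527))) (ST.node (ST.node (ST.leaf 1983) (ST.leaf 3521)) (ST.node (ST.leaf 5759) (ST.leaf 3513)))) (ST.node (ST.node (ST.node (ST.leaf 3515) (ST.leaf 5757)) (ST.node (ST.leaf 3523) (ST.leaf 1981))) (ST.node (ST.node (ST.leaf 3525) (ST.leaf 5767)) (ST.node (ST.leaf 5769) (ST.leaf 3531))))) [(4, 0x10), (6, 0x41), (8, 0x381), (12, 0x401), (18, 0x2303), (20, 0x4103), (26, 0x2), (33, 0x1), (35, 0x302), (37, 0x200), (40, 0x20000), (48, 0x40000)],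
  C16.good 0x58255448148a0 [30, 38, 47, 50] (ST.node (ST.node (ST.node (ST.node (ST.leaf 2774) (ST.leaf 4652)) (ST.node (ST.leaf 4650) (ST.leaf 2768))) (ST.node (ST.node (ST.leaf 1512) (ST.leaf 2766)) (ST.node (ST.leaf 4640) (ST.leaf 2758)))) (ST.node (ST.node (ST.node (ST.leaf 2756) (ST.leaf 4642)) (ST.node (ST.leaf 2764) (ST.leaf 1514))) (ST.node (ST.node (ST.leaf 2770) (ST.leaf 4648)) (ST.node (ST.leaf 4654) (ST.leaf 2772))))) [(5, 0x65), (7, 0x1a), (11, 0x450), (14, 0x83), (16, 0x894), (23, 0x441), (26, 0xf), (32, 0x10483), (34, 0x5c), (36, 0x4df), (41, 0x56), (48, 0x40000)],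
  C16.good 0x5825a21424809 [29, 38, 47, 50] (ST.node (ST.node (ST.node (ST.node (ST.leaf 5094) (ST.leaf 7624)) (ST.node (ST.leaf 7622) (ST.leaf 5088))) (ST.node (ST.node (ST.leaf 3060) (ST.leaf 5086)) (ST.node (ST.leaf 7612) (ST.leaf 5078)))) (ST.node (ST.node (ST.node (ST.leaf 5076) (ST.leaf 7614)) (ST.node (ST.leaf 5084) (ST.leaf 3062))) (ST.node (ST.node (ST.leaf 5090) (ST.leaf 7620)) (ST.node (ST.leaf 7626) (ST.leaf 5092))))) [(0, 0x15), (3, 0x1a), (11, 0x202), (14, 0x3a0), (17, 0x1336), (22, 0x36), (24, 0x8000), (33, 0x206), (35, 0x300), (36, 0x384), (41, 0x26), (48, 0x40000)],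
  C16.good 0x5826612144850 [28, 38, 47, 50] (ST.node (ST.node (ST.node (ST.node (ST.leaf 4130) (ST.leaf 6476)) (ST.node (ST.leaf 6482) (ST.leaf 4132))) (ST.node (ST.node (ST.leaf 4116) (ST.leaf 6470)) (ST.node (ST.leaf 4124) (ST.leaf 2410)))) (ST.node (ST.node (ST.node (ST.leaf 2408) (ST.leaf 4126)) (ST.node (ST.leaf 6468) (ST.leaf 4118))) (ST.node (ST.node (ST.leaf 4134) (ST.leaf 6480)) (ST.node (ST.leaf 6478) (ST.leaf 4128))))) [(4, 0x15), (6, 0x6a), (11, 0x42f), (14, 0x7), (18, 0x2424), (20, 0x4120), (25, 0xf), (33, 0x424), (34, 0x2c), (37, 0x522), (41, 0x26), (48, 0x40000)],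
  C16.good 0x5826988284806 [31, 38, 47, 50] (ST.node (ST.node (ST.node (ST.node (ST.leaf 10611) (ST.leaf 8029)) (ST.node (ST.leaf 5439) (ST.leaf 8037))) (ST.node (ST.node (ST.leaf 10617) (ST.leaf 8043)) (ST.node (ST.leaf 8045) (ST.leaf 10623)))) (ST.node (ST.node (ST.node (ST.leaf 10621) (ST.leaf 8047)) (ST.node (ST.leaf 8041) (ST.leaf 10619))) (ST.node (ST.node (ST.leaf 8039) (ST.leaf 5437)) (ST.node (ST.leaf 8031) (ST.leaf 10609))))) [(1, 0x3b2), (2, 0x3bd), (11, 0x28), (14, 0x7a8), (19, 0x391), (21, 0x431), (27, 0x3a8), (32, 0x106a9), (35, 0x300), (37, 0x5a9), (41, 0x381), (48, 0x40000)],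
  C16.good 0x5829688284806 [31, 39, 47, 50] (ST.node (ST.node (ST.node (ST.node (ST.leaf 5560) (ST.leaf 8186)) (ST.node (ST.leaf 10752) (ST.leaf 8178))) (ST.node (ST.node (ST.leaf 8194) (ST.leaf 10764)) (ST.node (ST.leaf 10762) (ST.leaf 8188)))) (ST.node (ST.node (ST.node (ST.leaf 8190) (ST.leaf 10760)) (ST.node (ST.leaf 10766) (ST.leaf 8192))) (ST.node (ST.node (ST.leaf 8176) (ST.leaf 10754)) (ST.node (ST.leaf 8184) (ST.leaf 5562))))) [(1, 0x61b), (2, 0x614), (11, 0xaa0), (14, 0xd20), (19, 0x538), (21, 0xdb9), (27, 0x601), (33, 0x988), (34, 0x300), (36, 0x5a9), (41, 0x628), (48, 0x40000)],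
  C16.good 0x5829912144850 [28, 39, 47, 50] (ST.node (ST.node (ST.node (ST.node (ST.leaf 6321) (ST.leaf 3995)) (ST.node (ST.leaf 2325) (ST.leaf 4003))) (ST.node (ST.node (ST.leaf 6331) (ST.leaf 4005)) (ST.node (ST.leaf 4011) (ST.leaf 6333)))) (ST.node (ST.node (ST.node (ST.leaf 6335) (ST.leaf 4009)) (ST.node (ST.leaf 4007) (ST.leaf 6329))) (ST.node (ST.node (ST.leaf 4001) (ST.leaf 2327)) (ST.node (ST.leaf 3993) (ST.leaf 6323))))) [(4, 0x15), (6, 0x46), (11, 0xb), (14, 0x18a), (18, 0x208b), (20, 0x410c), (25, 0xf), (32, 0x1008b), (35, 0x106), (36, 0x18d), (41, 0xa), (48, 0x40000)],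
  C16.good 0x582a521424809 [29, 39, 47, 50] (ST.node (ST.node (ST.node (ST.node (ST.leaf 7477) (ST.leaf 4971)) (ST.node (ST.leaf 4965) (ST.leaf 7475))) (ST.node (ST.node (ST.leaf 4963) (ST.leaf 2977)) (ST.node (ST.leaf 4955) (ST.leaf 7465)))) (ST.node (ST.node (ST.node (ST.leaf 7467) (ST.leaf 4953)) (ST.node (ST.leaf 2979) (ST.leaf 4961))) (ST.node (ST.node (ST.leaf 7473) (ST.leaf 4967)) (ST.node (ST.leaf 4969) (ST.leaf 7479))))) [(0, 0x15), (3, 0x1a), (11, 0x4), (14, 0x324), (17, 0x1036), (22, 0x336), (24, 0x8000), (32, 0x10206), (34, 0x300), (37, 0x106), (41, 0x26), (48, 0x40000)],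
  C16.good 0x582aa448148a0 [30, 39, 47, 50] (ST.node (ST.node (ST.node (ST.node (ST.leaf 4529) (ST.leaf 2691)) (ST.node (ST.leaf 2685) (ST.leaf 4527))) (ST.node (ST.node (ST.leaf 2683) (ST.leaf 1461)) (ST.node (ST.leaf 2675) (ST.leaf 4517)))) (ST.node (ST.node (ST.node (ST.leaf 4519) (ST.leaf 2673)) (ST.node (ST.leaf 1463) (ST.leaf 2681))) (ST.node (ST.node (ST.leaf 4525) (ST.leaf 2687)) (ST.node (ST.leaf 2689) (ST.leaf 4531))))) [(5, 0x39), (7, 0x1a), (11, 0x40c), (14, 0x38c), (16, 0xd1e), (23, 0x391), (26, 0xf), (33, 0x78c), (35, 0x30f), (37, 0x58a), (41, 0xa), (48, 0x40000)],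
  C16.good 0x6051855442822 [30, 36, 42, 50] (ST.node (ST.node (ST.node (ST.node (ST.leaf 7546) (ST.leaf 5028)) (ST.node (ST.leaf 3030) (ST.leaf 5032))) (ST.node (ST.node (ST.leaf 5016) (ST.leaf 5038)) (ST.node (ST.leaf 5040) (ST.leaf 7542)))) (ST.node (ST.node (ST.node (ST.leaf 7540) (ST.leaf 5042)) (ST.node (ST.leaf 5036) (ST.leaf 5018))) (ST.node (ST.node (ST.leaf 5034) (ST.leaf 3028)) (ST.node (ST.leaf 5030) (ST.leaf 7544))))) [(1, 0x1a), (5, 0x65), (11, 0x1d0), (13, 0x18d), (18, 0x2155), (22, 0x19d), (24, 0x81d9), (26, 0x59), (28, 0x180), (35, 0x104), (40, 0x20000), (49, 0x1cc)],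
  C16.good 0x60518aa442822 [31, 36, 42, 50] (ST.node (ST.node (ST.node (ST.node (ST.leaf 7691) (ST.leaf 5165)) (ST.node (ST.leaf 5163) (ST.leaf 5141))) (ST.node (ST.node (ST.leaf 5157) (ST.leaf 3115)) (ST.node (ST.leaf 5153) (ST.leaf 7695)))) (ST.node (ST.node (ST.node (ST.leaf 7693) (ST.leaf 5155)) (ST.node (ST.leaf 3113) (ST.leaf 5159))) (ST.node (ST.node (ST.leaf 5143) (ST.leaf 5161)) (ST.node (ST.leaf 5167) (ST.leaf 7689))))) [(1, 0x5ce), (5, 0x5b1), (11, 0x45d), (13, 0x1d4), (18, 0x20d5), (22, 0x5c9), (25, 0x40d), (27, 0x59), (29, 0x180), (35, 0x4d0), (40, 0x20000), (49, 0x1cc)],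
  C16.good 0x6052466122884 [30, 37, 42, 50] (ST.node (ST.node (ST.node (ST.node (ST.leaf 7372) (ST.leaf 9966)) (ST.node (ST.leaf 7376) (ST.leaf 4882))) (ST.node (ST.node (ST.leaf 7382) (ST.leaf 7360)) (ST.node (ST.leaf 9962) (ST.leaf 7384)))) (ST.node (ST.node (ST.node (ST.leaf 7386) (ST.leaf 9960)) (ST.node (ST.leaf 7362) (ST.leaf 7380))) (ST.node (ST.node (ST.leaf 4880) (ST.leaf 7378)) (ST.node (ST.leaf 9964) (ST.leaf 7374))))) [(2, 0x336), (7, 0x331), (11, 0x283), (13, 0x18a), (17, 0x11b3), (20, 0x4000), (25, 0x83), (26, 0x21), (29, 0x3a8), (34, 0x228), (40, 0x20000), (49, 0x39b)],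
  C16.good 0x6052499122884 [31, 37, 42, 50] (ST.node (ST.node (ST.node (ST.node (ST.leaf 7213) (ST.leaf 7235)) (ST.node (ST.leaf 7237) (ST.leaf 9819))) (ST.node (ST.node (ST.leaf 9823) (ST.leaf 7225)) (ST.node (ST.leaf 4759) (ST.leaf 7229)))) (ST.node (ST.node (ST.node (ST.leaf 7231) (ST.leaf 4757)) (ST.node (ST.leaf 7227) (ST.leaf 9821))) (ST.node (ST.node (ST.leaf 9817) (ST.leaf 7239)) (ST.node (ST.leaf 7233) (ST.leaf 7215))))) [(2, 0x3c), (7, 0x43), (11, 0x10a), (13, 0x171), (17, 0x1169), (20, 0x4000), (24, 0x8021), (27, 0x59), (28, 0x78), (34, 0x122), (40, 0x20000), (49, 0x4b)],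
  C16.good 0x605415a212811 [30, 38, 42, 50] (ST.node (ST.node (ST.node (ST.node (ST.leaf 7790) (ST.leaf 10356)) (ST.node (ST.leaf 7766) (ST.leaf 7784))) (ST.node (ST.node (ST.leaf 5220) (ST.leaf 7782)) (ST.node (ST.leaf 10360) (ST.leaf 7778)))) (ST.node (ST.node (ST.node (ST.leaf 7776) (ST.leaf 10362)) (ST.node (ST.leaf 7780) (ST.leaf 5222))) (ST.node (ST.node (ST.leaf 7786) (ST.leaf 7764)) (ST.node (ST.leaf 10358) (ST.leaf 7788))))) [(0, 0x161), (4, 0x11e), (11, 0x10a), (13, 0x2c), (16, 0x8e6), (21, 0xe6), (25, 0x122), (27, 0x26), (28, 0x180), (32, 0x10000), (40, 0x20000), (49, 0x1cc)],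
  C16.good 0x60541a5212811 [31, 38, 42, 50] (ST.node (ST.node (ST.node (ST.node (ST.leaf 7939) (ST.leaf 10501)) (ST.node (ST.leaf 7915) (ST.leaf 7933))) (ST.node (ST.node (ST.leaf 5345) (ST.leaf 7931)) (ST.node (ST.leaf 10505) (ST.leaf 7927)))) (ST.node (ST.node (ST.node (ST.leaf 7925) (ST.leaf 10507)) (ST.node (ST.leaf 7929) (ST.leaf 5347))) (ST.node (ST.node (ST.leaf 7935) (ST.leaf 7913)) (ST.node (ST.leaf 10503) (ST.leaf 7937))))) [(0, 0x161), (4, 0x11e), (11, 0x28), (13, 0x10e), (16, 0x966), (21, 0x166), (24, 0x8122), (26, 0x26), (29, 0x104), (32, 0x10000), (40, 0x20000), (49, 0x148)],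
  C16.good 0x6058269882848 [30, 39, 42, 50] (ST.node (ST.node (ST.node (ST.node (ST.leaf 12863) (ST.leaf 10637)) (ST.node (ST.leaf 10635) (ST.leaf 10613))) (ST.node (ST.node (ST.leaf 10629) (ST.leaf 8051)) (ST.node (ST.leaf 10625) (ST.leaf 12867)))) (ST.node (ST.node (ST.node (ST.leaf 12865) (ST.leaf 10627)) (ST.node (ST.leaf 8049) (ST.leaf 10631))) (ST.node (ST.node (ST.leaf 10615) (ST.leaf 10633)) (ST.node (ST.leaf 10639) (ST.leaf 12861))))) [(3, 0x131f), (6, 0x1360), (11, 0x226), (13, 0x300), (19, 0x310), (23, 0x317), (24, 0x9305), (27, 0x26), (29, 0x1323), (33, 0x1206), (40, 0x20000), (49, 0x1310)],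
  C16.good 0x6058296882848 [31, 39, 42, 50] (ST.node (ST.node (ST.node (ST.node (ST.leaf 8196) (ST.leaf 10774)) (ST.node (ST.leaf 12988) (ST.leaf 10770))) (ST.node (ST.node (ST.leaf 10782) (ST.leaf 12984)) (ST.node (ST.leaf 10758) (ST.leaf 10776)))) (ST.node (ST.node (ST.node (ST.leaf 10778) (ST.leaf 10756)) (ST.node (ST.leaf 12986) (ST.leaf 10780))) (ST.node (ST.node (ST.leaf 10768) (ST.leaf 12990)) (ST.node (ST.leaf 10772) (ST.leaf 8198))))) [(3, 0x99), (6, 0xe6), (11, 0xa84), (13, 0xba2), (19, 0xb31), (23, 0x331), (25, 0x83), (26, 0x26), (28, 0x807), (33, 0x987), (40, 0x20000), (49, 0x834)],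
  C16.good 0x60a1855888148 [30, 36, 43, 50] (ST.node (ST.node (ST.node (ST.node (ST.leaf 5278) (ST.leaf 7840)) (ST.node (ST.leaf 5282) (ST.leaf 3196))) (ST.node (ST.node (ST.leaf 5284) (ST.leaf 5266)) (ST.node (ST.leaf 7836) (ST.leaf 5290)))) (ST.node (ST.node (ST.node (ST.leaf 5288) (ST.leaf 7838)) (ST.node (ST.leaf 5264) (ST.leaf 5286))) (ST.node (ST.node (ST.leaf 3198) (ST.leaf 5280)) (ST.node (ST.leaf 7842) (ST.leaf 5276))))) [(3, 0x1a), (6, 0x65), (8, 0x1a5), (15, 0x400), (19, 0x1530), (23, 0x432), (24, 0x8403), (26, 0x1106), (28, 0x1505), (35, 0x126), (41, 0x1120), (49, 0x416)],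
  C16.good 0x60a18aa888148 [31, 36, 43, 50] (ST.node (ST.node (ST.node (ST.node (ST.leaf 3281) (ST.leaf 5407)) (ST.node (ST.leaf 7989) (ST.leaf 5403))) (ST.node (ST.node (ST.leaf 5415) (ST.leaf 7985)) (ST.node (ST.leaf 5391) (ST.leaf 5409)))) (ST.node (ST.node (ST.node (ST.leaf 5411) (ST.leaf 5389)) (ST.node (ST.leaf 7987) (ST.leaf 5413))) (ST.node (ST.node (ST.leaf 5401) (ST.leaf 7991)) (ST.node (ST.leaf 5405) (ST.leaf 3283))))) [(3, 0x91e), (6, 0x961), (8, 0xa84), (15, 0xd04), (19, 0x613), (23, 0xb10), (25, 0xf22), (27, 0x403), (29, 0x225), (35, 0x126), (41, 0x425), (49, 0x633)],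
  C16.good 0x60a2466218111 [30, 37, 43, 50] (ST.node (ST.node (ST.node (ST.node (ST.leaf 8248) (ST.leaf 8270)) (ST.node (ST.leaf 8272) (ST.leaf 10826))) (ST.node (ST.node (ST.leaf 10830) (ST.leaf 8260)) (ST.node (ST.leaf 5626) (ST.leaf 8264)))) (ST.node (ST.node (ST.node (ST.leaf 8266) (ST.leaf 5624)) (ST.node (ST.leaf 8262) (ST.leaf 10828))) (ST.node (ST.node (ST.leaf 10824) (ST.leaf 8274)) (ST.node (ST.leaf 8268) (ST.leaf 8250))))) [(0, 0x349), (4, 0x336), (8, 0x18a), (15, 0x60a), (16, 0xf6c), (21, 0x544), (25, 0x704), (26, 0x328), (29, 0x428), (34, 0x126), (41, 0x30e), (49, 0x76a)],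
  C16.good 0x60a2499218111 [31, 37, 43, 50] (ST.node (ST.node (ST.node (ST.node (ST.leaf 8123) (ST.leaf 8101)) (ST.node (ST.leaf 10683) (ST.leaf 8125))) (ST.node (ST.node (ST.leaf 8113) (ST.leaf 10687)) (ST.node (ST.leaf 8117) (ST.leaf 5503)))) (ST.node (ST.node (ST.node (ST.leaf 5501) (ST.leaf 8119)) (ST.node (ST.leaf 10685) (ST.leaf 8115))) (ST.node (ST.node (ST.leaf 8127) (ST.leaf 10681)) (ST.node (ST.leaf 8103) (ST.leaf 8121))))) [(0, 0x449), (4, 0x432), (8, 0x68a), (15, 0x10a), (16, 0xb40), (21, 0x668), (24, 0x8700), (27, 0x428), (28, 0x328), (34, 0x122), (41, 0x40a), (49, 0x76a)],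
  C16.good 0x60a415a128184 [30, 38, 43, 50] (ST.node (ST.node (ST.node (ST.node (ST.leaf 7468) (ST.leaf 7490)) (ST.node (ST.leaf 7492) (ST.leaf 10070))) (ST.node (ST.node (ST.leaf 10074) (ST.leaf 7480)) (ST.node (ST.leaf 4974) (ST.leaf 7484)))) (ST.node (ST.node (ST.node (ST.leaf 7486) (ST.leaf 4972)) (ST.node (ST.leaf 7482) (ST.leaf 10072))) (ST.node (ST.node (ST.leaf 10068) (ST.leaf 7494)) (ST.node (ST.leaf 7488) (ST.leaf 7470))))) [(2, 0x436), (7, 0x449), (8, 0x4d0), (15, 0x53), (17, 0x1469), (20, 0x4471), (25, 0x7b), (27, 0x428), (28, 0x2b), (32, 0x10000), (41, 0x471), (49, 0x469)],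
  C16.good 0x60a41a5128184 [31, 38, 43, 50] (ST.node (ST.node (ST.node (ST.node (ST.leaf 10219) (ST.leaf 7629)) (ST.node (ST.leaf 5099) (ST.leaf 7633))) (ST.node (ST.node (ST.leaf 7617) (ST.leaf 7639)) (ST.node (ST.leaf 7641) (ST.leaf 10215)))) (ST.node (ST.node (ST.node (ST.leaf 10213) (ST.leaf 7643)) (ST.node (ST.leaf 7637) (ST.leaf 7619))) (ST.node (ST.node (ST.leaf 7635) (ST.leaf 5097)) (ST.node (ST.leaf 7631) (ST.leaf 10217))))) [(2, 0x23f), (7, 0x210), (8, 0x83), (15, 0x28), (17, 0x1011), (20, 0x4228), (24, 0x802b), (26, 0x221), (29, 0x20a), (32, 0x10000), (41, 0x228), (49, 0x11)],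
  C16.good 0x60a8269448122 [30, 39, 43, 50] (ST.node (ST.node (ST.node (ST.node (ST.leaf 9771) (ST.leaf 9749)) (ST.node (ST.leaf 12119) (ST.leaf 9773))) (ST.node (ST.node (ST.leaf 9761) (ST.leaf 12123)) (ST.node (ST.leaf 9765) (ST.leaf 7163)))) (ST.node (ST.node (ST.node (ST.leaf 7161) (ST.leaf 9767)) (ST.node (ST.leaf 12121) (ST.leaf 9763))) (ST.node (ST.node (ST.leaf 9775) (ST.leaf 12117)) (ST.node (ST.leaf 9751) (ST.leaf 9769))))) [(1, 0x613), (5, 0x66c), (8, 0x480), (15, 0x259), (18, 0x2201), (22, 0x44d), (24, 0x8609), (27, 0x65d), (29, 0x54), (33, 0x50), (41, 0x604), (49, 0x61c)],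
  C16.good 0x60a8296448122 [31, 39, 43, 50] (ST.node (ST.node (ST.node (ST.node (ST.leaf 9894) (ST.leaf 9912)) (ST.node (ST.leaf 9918) (ST.leaf 12240))) (ST.node (ST.node (ST.leaf 12244) (ST.leaf 9906)) (ST.node (ST.leaf 7308) (ST.leaf 9910)))) (ST.node (ST.node (ST.node (ST.leaf 9908) (ST.leaf 7310)) (ST.node (ST.leaf 9904) (ST.leaf 12246))) (ST.node (ST.node (ST.leaf 12242) (ST.leaf 9916)) (ST.node (ST.leaf 9914) (ST.leaf 9892))))) [(1, 0xe4a), (5, 0xe35), (8, 0xa84), (15, 0xc5d), (18, 0x2c51), (22, 0xa1d), (25, 0xe50), (26, 0x859), (28, 0x80d), (33, 0x60d), (41, 0x800), (49, 0x41)],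
  C16.good 0x6601855124284 [30, 36, 46, 50] (ST.node (ST.node (ST.node (ST.node (ST.leaf 4168) (ST.leaf 4150)) (ST.node (ST.leaf 6504) (ST.leaf 4174))) (ST.node (ST.node (ST.leaf 4162) (ST.leaf 6508)) (ST.node (ST.leaf 4166) (ST.leaf 2440)))) (ST.node (ST.node (ST.node (ST.leaf 2442) (ST.leaf 4164)) (ST.node (ST.leaf 6510) (ST.leaf 4160))) (ST.node (ST.node (ST.leaf 4172) (ST.leaf 6506)) (ST.node (ST.leaf 4148) (ST.leaf 4170))))) [(2, 0x47), (7, 0x10), (9, 0x1d0), (14, 0x400), (17, 0x3000), (20, 0x4483), (24, 0xa4c1), (26, 0x53), (28, 0x2492), (35, 0x483), (45, 0x20c2), (49, 0x441)]]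

set_option Elab.async false in
theorem c16_3_ok : c16_3.all (chkC16 ent 16240 pbsD colsD) = true := by decide +kernel

end Cfsg.Agent.Helper2.RuL
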