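import Cfsg.Agent.Helper2.RuL.Chk4
import Cfsg.Agent.Helper2.RuL.Tab

/-! Certificates for the weight-16 words of the parity code, chunk 4 (helper2; generated). -/

set_option autoImplicit false
set_option maxRecDepth 100000

namespace Cfsg.Agent.Helper2.RuL

open Cfsg.Agent.Helper5.RuLat

def c16_4 : List C16 := [
  C16.good 0x66018aa124284 [31, 36, 46, 50] (ST.node (ST.node (ST.node (ST.node (ST.leaf 4045) (ST.leaf 4027)) (ST.node (ST.leaf 6357) (ST.leaf 4051))) (ST.node (ST.node (ST.leaf 4039) (ST.leaf 6361)) (ST.node (ST.leaf 4043) (ST.leaf 2357)))) (ST.node (ST.node (ST.node (ST.leaf 2359) (ST.leaf 4041)) (ST.node (ST.leaf 6363) (ST.leaf 4037))) (ST.node (ST.node (ST.leaf 4049) (ST.leaf 6359)) (ST.node (ST.leaf 4025) (ST.leaf 4047))))) [(2, 0x47), (7, 0x38), (9, 0x1ab), (14, 0x422), (17, 0x14b0), (20, 0x44d0), (25, 0x28), (27, 0x59), (29, 0x53), (35, 0x4d0), (45, 0x45a), (49, 0x43a)],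
  C16.good 0x6602466444222 [30, 37, 46, 50] (ST.node (ST.node (ST.node (ST.node (ST.leaf 6190) (ST.leaf 8812)) (ST.node (ST.leaf 6194) (ST.leaf 3888))) (ST.node (ST.node (ST.leaf 6196) (ST.leaf 6178)) (ST.node (ST.leaf 8808) (ST.leaf 6202)))) (ST.node (ST.node (ST.node (ST.leaf 6200) (ST.leaf 8810)) (ST.node (ST.leaf 6176) (ST.leaf 6198))) (ST.node (ST.node (ST.leaf 3890) (ST.leaf 6192)) (ST.node (ST.leaf 8814) (ST.leaf 6188))))) [(1, 0x47), (5, 0x38), (9, 0x18d), (14, 0x284), (18, 0x2251), (22, 0x4000), (25, 0x4240), (26, 0x59), (29, 0x421d), (34, 0x250), (45, 0x42c4), (49, 0x95)],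
  C16.good 0x6602499444222 [31, 37, 46, 50] (ST.node (ST.node (ST.node (ST.node (ST.leaf 8399) (ST.leaf 8417)) (ST.node (ST.leaf 8423) (ST.leaf 10969))) (ST.node (ST.node (ST.leaf 10973) (ST.leaf 8411)) (ST.node (ST.leaf 5749) (ST.leaf 8415)))) (ST.node (ST.node (ST.node (ST.leaf 8413) (ST.leaf 5751)) (ST.node (ST.leaf 8409) (ST.leaf 10975))) (ST.node (ST.node (ST.leaf 10971) (ST.leaf 8421)) (ST.node (ST.leaf 8419) (ST.leaf 8397))))) [(1, 0x43), (5, 0x38), (9, 0x1d0), (14, 0x280), (18, 0x3209), (22, 0x219), (24, 0x9001), (27, 0x59), (28, 0x1058), (34, 0x209), (45, 0x1081), (49, 0x91)],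
  C16.good 0x660415a884248 [30, 38, 46, 50] (ST.node (ST.node (ST.node (ST.node (ST.leaf 6746) (ST.leaf 4352)) (ST.node (ST.leaf 6742) (ST.leaf 9352))) (ST.node (ST.node (ST.leaf 9348) (ST.leaf 6754)) (ST.node (ST.leaf 6748) (ST.leaf 6730)))) (ST.node (ST.node (ST.node (ST.leaf 6728) (ST.leaf 6750)) (ST.node (ST.leaf 6752) (ST.leaf 9350))) (ST.node (ST.node (ST.leaf 9354) (ST.leaf 6740)) (ST.node (ST.leaf 4354) (ST.leaf 6744))))) [(3, 0x838), (6, 0x847), (9, 0x987), (14, 0x8a1), (19, 0x814), (23, 0x14), (25, 0x804), (27, 0x26), (28, 0x1827), (32, 0x10000), (45, 0x1881), (49, 0x95)],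
  C16.good 0x66041a5884248 [31, 38, 46, 50] (ST.node (ST.node (ST.node (ST.node (ST.leaf 4229) (ST.leaf 6599)) (ST.node (ST.leaf 9209) (ST.leaf 6595))) (ST.node (ST.node (ST.leaf 6607) (ST.leaf 9205)) (ST.node (ST.leaf 6583) (ST.leaf 6601)))) (ST.node (ST.node (ST.node (ST.leaf 6603) (ST.leaf 6581)) (ST.node (ST.leaf 9207) (ST.leaf 6605))) (ST.node (ST.node (ST.leaf 6593) (ST.leaf 9211)) (ST.node (ST.leaf 6597) (ST.leaf 4231))))) [(3, 0x23f), (6, 0x240), (9, 0x1a5), (14, 0x83), (19, 0x10), (23, 0x217), (24, 0x8203), (26, 0x26), (29, 0x225), (32, 0x10000), (45, 0x283), (49, 0x95)],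
  C16.good 0x6608269214211 [30, 39, 46, 50] (ST.node (ST.node (ST.node (ST.node (ST.leaf 9629) (ST.leaf 11995)) (ST.node (ST.leaf 9605) (ST.leaf 9627))) (ST.node (ST.node (ST.leaf 7015) (ST.leaf 9621)) (ST.node (ST.leaf 11999) (ST.leaf 9617)))) (ST.node (ST.node (ST.node (ST.leaf 9619) (ST.leaf 11997)) (ST.node (ST.leaf 9623) (ST.leaf 7013))) (ST.node (ST.node (ST.leaf 9625) (ST.leaf 9607)) (ST.node (ST.leaf 11993) (ST.leaf 9631))))) [(0, 0x6f), (4, 0x10), (9, 0x3a2), (14, 0x284), (16, 0xa4e), (21, 0x24e), (24, 0x800a), (27, 0x26), (29, 0x2c), (33, 0x28), (45, 0xa2), (49, 0xc2)],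
  C16.good 0x6608296214211 [31, 39, 46, 50] (ST.node (ST.node (ST.node (ST.node (ST.leaf 6864) (ST.leaf 9478)) (ST.node (ST.leaf 11872) (ST.leaf 9474))) (ST.node (ST.node (ST.leaf 9486) (ST.leaf 11868)) (ST.node (ST.leaf 9462) (ST.leaf 9480)))) (ST.node (ST.node (ST.node (ST.leaf 9482) (ST.leaf 9460)) (ST.node (ST.leaf 11870) (ST.leaf 9484))) (ST.node (ST.node (ST.leaf 9472) (ST.leaf 11874)) (ST.node (ST.leaf 9476) (ST.leaf 6866))))) [(0, 0x3225), (4, 0x3250), (9, 0x3a2), (14, 0x284), (16, 0xa62), (21, 0x262), (25, 0x3240), (26, 0x26), (28, 0x1224), (33, 0x3262), (45, 0x20e0), (49, 0x3282)],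
  C16.good 0x6901855211411 [30, 36, 47, 50] (ST.node (ST.node (ST.node (ST.node (ST.leaf 4412) (ST.leaf 2610)) (ST.node (ST.leaf 4408) (ST.leaf 6806))) (ST.node (ST.node (ST.leaf 6802) (ST.leaf 4420)) (ST.node (ST.leaf 4418) (ST.leaf 4396)))) (ST.node (ST.node (ST.node (ST.leaf 4398) (ST.leaf 4416)) (ST.node (ST.leaf 4422) (ST.leaf 6800))) (ST.node (ST.node (ST.leaf 6804) (ST.leaf 4410)) (ST.node (ST.leaf 2608) (ST.leaf 4414))))) [(0, 0x47), (4, 0x1a), (10, 0x380), (12, 0x400), (16, 0x8c4), (21, 0x1ca), (24, 0x818e), (26, 0xe), (28, 0x180), (35, 0x104), (44, 0xa), (49, 0x1cc)],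
  C16.good 0x69018aa211411 [31, 36, 47, 50] (ST.node (ST.node (ST.node (ST.node (ST.leaf 4285) (ST.leaf 6659)) (ST.node (ST.leaf 4289) (ST.leaf 2527))) (ST.node (ST.node (ST.leaf 4295) (ST.leaf 4273)) (ST.node (ST.leaf 6655) (ST.leaf 4297)))) (ST.node (ST.node (ST.node (ST.leaf 4299) (ST.leaf 6653)) (ST.node (ST.leaf 4275) (ST.leaf 4293))) (ST.node (ST.node (ST.leaf 2525) (ST.leaf 4291)) (ST.node (ST.leaf 6657) (ST.leaf 4287))))) [(0, 0x47), (4, 0x38), (10, 0x20e), (12, 0x422), (16, 0x8ca), (21, 0x20aa), (25, 0x20c2), (27, 0x20cc), (29, 0x2c), (35, 0x8a), (44, 0x20ea), (49, 0x60)],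
  C16.good 0x6902466881448 [30, 37, 47, 50] (ST.node (ST.node (ST.node (ST.node (ST.leaf 6934) (ST.leaf 4508)) (ST.node (ST.leaf 6930) (ST.leaf 9532))) (ST.node (ST.node (ST.leaf 9528) (ST.leaf 6942)) (ST.node (ST.leaf 6936) (ST.leaf 6918)))) (ST.node (ST.node (ST.node (ST.leaf 6916) (ST.leaf 6938)) (ST.node (ST.leaf 6940) (ST.leaf 9530))) (ST.node (ST.node (ST.leaf 9534) (ST.leaf 6928)) (ST.node (ST.leaf 4510) (ST.leaf 6932))))) [(3, 0x1039), (6, 0x1046), (10, 0x1285), (12, 0x1505), (19, 0x1b5), (23, 0x11b4), (25, 0x1085), (26, 0x1020), (29, 0xa6), (34, 0x126), (44, 0x1006), (49, 0x95)],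
  C16.good 0x6902499881448 [31, 37, 47, 50] (ST.node (ST.node (ST.node (ST.node (ST.leaf 7083) (ST.leaf 4633)) (ST.node (ST.leaf 7079) (ST.leaf 9677))) (ST.node (ST.node (ST.leaf 9673) (ST.leaf 7091)) (ST.node (ST.leaf 7085) (ST.leaf 7067)))) (ST.node (ST.node (ST.node (ST.leaf 7065) (ST.leaf 7087)) (ST.node (ST.leaf 7089) (ST.leaf 9675))) (ST.node (ST.node (ST.leaf 9679) (ST.leaf 7077)) (ST.node (ST.leaf 4635) (ST.leaf 7081))))) [(3, 0x410e), (6, 0x4171), (10, 0x4317), (12, 0x4432), (19, 0x4004), (23, 0x132), (24, 0xc117), (27, 0x4114), (28, 0x3), (34, 0x126), (44, 0x4132), (49, 0x30)],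
  C16.good 0x690415a441422 [30, 38, 47, 50] (ST.node (ST.node (ST.node (ST.node (ST.leaf 6456) (ST.leaf 9062)) (ST.node (ST.leaf 6432) (ST.leaf 6454))) (ST.node (ST.node (ST.leaf 4106) (ST.leaf 6448)) (ST.node (ST.leaf 9066) (ST.leaf 6444)))) (ST.node (ST.node (ST.node (ST.leaf 6446) (ST.leaf 9064)) (ST.node (ST.leaf 6450) (ST.leaf 4104))) (ST.node (ST.node (ST.leaf 6452) (ST.leaf 6434)) (ST.node (ST.leaf 9060) (ST.leaf 6458))))) [(1, 0x47), (5, 0x38), (10, 0x284), (12, 0x45d), (18, 0x200c), (22, 0x14), (25, 0x89), (27, 0xd4), (28, 0xd9), (32, 0x10000), (44, 0x8d), (49, 0x95)],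
  C16.good 0x69041a5441422 [31, 38, 47, 50] (ST.node (ST.node (ST.node (ST.node (ST.leaf 6307) (ST.leaf 6285)) (ST.node (ST.leaf 8919) (ST.leaf 6309))) (ST.node (ST.node (ST.leaf 6297) (ST.leaf 8923)) (ST.node (ST.leaf 6301) (ST.leaf 3983)))) (ST.node (ST.node (ST.node (ST.leaf 3981) (ST.leaf 6303)) (ST.node (ST.leaf 8921) (ST.leaf 6299))) (ST.node (ST.node (ST.leaf 6311) (ST.leaf 8917)) (ST.node (ST.leaf 6287) (ST.leaf 6305))))) [(1, 0x17), (5, 0x38), (10, 0x200), (12, 0x40d), (18, 0x2001), (22, 0x810), (24, 0x8804), (26, 0x809), (29, 0xd), (32, 0x10000), (44, 0x800), (49, 0x11)],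
  C16.good 0x6908269121484 [30, 39, 47, 50] (ST.node (ST.node (ST.node (ST.node (ST.leaf 8347) (ST.leaf 10917)) (ST.node (ST.leaf 13115) (ST.leaf 10913))) (ST.node (ST.node (ST.leaf 10925) (ST.leaf 13111)) (ST.node (ST.leaf 10901) (ST.leaf 10923)))) (ST.node (ST.node (ST.node (ST.leaf 10921) (ST.leaf 10903)) (ST.node (ST.leaf 13109) (ST.leaf 10927))) (ST.node (ST.node (ST.leaf 10915) (ST.leaf 13113)) (ST.node (ST.leaf 10919) (ST.leaf 8345))))) [(2, 0x17), (7, 0x68), (10, 0x221), (12, 0x422), (17, 0x1018), (20, 0x4028), (24, 0x8072), (27, 0x21), (29, 0x53), (33, 0x50), (44, 0x78), (49, 0x60)],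
  C16.good 0x6908296121484 [31, 39, 47, 50] (ST.node (ST.node (ST.node (ST.node (ST.leaf 8758) (ST.leaf 6124)) (ST.node (ST.leaf 8754) (ST.leaf 11252))) (ST.node (ST.node (ST.leaf 11248) (ST.leaf 8766)) (ST.node (ST.leaf 8760) (ST.leaf 8742)))) (ST.node (ST.node (ST.node (ST.leaf 8740) (ST.leaf 8762)) (ST.node (ST.leaf 8764) (ST.leaf 11250))) (ST.node (ST.node (ST.leaf 11254) (ST.leaf 8752)) (ST.node (ST.leaf 6126) (ST.leaf 8756))))) [(2, 0xec), (7, 0x93), (10, 0x2fb), (12, 0x422), (17, 0x104b), (20, 0x40a1), (25, 0x89), (26, 0x53), (28, 0x72), (33, 0xab), (44, 0xa), (49, 0x41)],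
  C16.good 0x9051866124222 [30, 36, 42, 51] (ST.node (ST.node (ST.node (ST.node (ST.leaf 8100) (ST.leaf 8122)) (ST.node (ST.leaf 8124) (ST.leaf 10682))) (ST.node (ST.node (ST.leaf 10686) (ST.leaf 8112)) (ST.node (ST.leaf 5502) (ST.leaf 8116)))) (ST.node (ST.node (ST.node (ST.leaf 8118) (ST.leaf 5500)) (ST.node (ST.leaf 8114) (ST.leaf 10684))) (ST.node (ST.node (ST.leaf 10680) (ST.leaf 8126)) (ST.node (ST.leaf 8120) (ST.leaf 8102))))) [(1, 0x46), (5, 0x38), (9, 0x18c), (14, 0x40), (17, 0x1094), (20, 0x4094), (25, 0x10), (26, 0x58), (29, 0x4c), (35, 0x94), (40, 0x20000), (48, 0x40000)],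
  C16.good 0x9051899124222 [31, 36, 42, 51] (ST.node (ST.node (ST.node (ST.node (ST.leaf 5627) (ST.leaf 8265)) (ST.node (ST.leaf 10831) (ST.leaf 8261))) (ST.node (ST.node (ST.leaf 8273) (ST.leaf 10827)) (ST.node (ST.leaf 8249) (ST.leaf 8271)))) (ST.node (ST.node (ST.node (ST.leaf 8269) (ST.leaf 8251)) (ST.node (ST.leaf 10825) (ST.leaf 8275))) (ST.node (ST.node (ST.leaf 8263) (ST.leaf 10829)) (ST.node (ST.leaf 8267) (ST.leaf 5625))))) [(1, 0x43), (5, 0x28), (9, 0x1c0), (14, 0x8), (17, 0x1081), (20, 0x4081), (24, 0x8001), (27, 0x49), (28, 0x48), (35, 0x81), (40, 0x20000), (48, 0x40000)],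
  C16.good 0x9052455444284 [30, 37, 42, 51] (ST.node (ST.node (ST.node (ST.node (ST.leaf 7984) (ST.leaf 5414)) (ST.node (ST.leaf 5408) (ST.leaf 5390))) (ST.node (ST.node (ST.leaf 5406) (ST.leaf 3280)) (ST.node (ST.leaf 5402) (ST.leaf 7988)))) (ST.node (ST.node (ST.node (ST.leaf 7990) (ST.leaf 5400)) (ST.node (ST.leaf 3282) (ST.leaf 5404))) (ST.node (ST.node (ST.leaf 5388) (ST.leaf 5410)) (ST.node (ST.leaf 5412) (ST.leaf 7986))))) [(2, 0x47), (7, 0x1a), (9, 0x118), (14, 0x211), (18, 0x225a), (22, 0x25a), (24, 0x8048), (26, 0x59), (28, 0x11), (34, 0x250), (40, 0x20000), (48, 0x40000)],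
  C16.good 0x90524aa444284 [31, 37, 42, 51] (ST.node (ST.node (ST.node (ST.node (ST.leaf 5283) (ST.leaf 3197)) (ST.node (ST.leaf 5279) (ST.leaf 7841))) (ST.node (ST.node (ST.leaf 7837) (ST.leaf 5291)) (ST.node (ST.leaf 5285) (ST.leaf 5267)))) (ST.node (ST.node (ST.node (ST.leaf 5265) (ST.leaf 5287)) (ST.node (ST.leaf 5289) (ST.leaf 7839))) (ST.node (ST.node (ST.leaf 7843) (ST.leaf 5277)) (ST.node (ST.leaf 3199) (ST.leaf 5281))))) [(2, 0x47), (7, 0x38), (9, 0x141), (14, 0x211), (18, 0x2269), (22, 0x269), (25, 0x48), (27, 0x59), (29, 0x33), (34, 0x209), (40, 0x20000), (48, 0x40000)],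
  C16.good 0x9054169884211 [30, 38, 42, 51] (ST.node (ST.node (ST.node (ST.node (ST.leaf 9915) (ST.leaf 9893)) (ST.node (ST.leaf 12243) (ST.leaf 9917))) (ST.node (ST.node (ST.leaf 9905) (ST.leaf 12247)) (ST.node (ST.leaf 9909) (ST.leaf 7311)))) (ST.node (ST.node (ST.node (ST.leaf 7309) (ST.leaf 9911)) (ST.node (ST.leaf 12245) (ST.leaf 9907))) (ST.node (ST.node (ST.leaf 9919) (ST.leaf 12241)) (ST.node (ST.leaf 9895) (ST.leaf 9913))))) [(0, 0xf), (4, 0x70), (9, 0x166), (14, 0x40), (19, 0x60), (23, 0x28), (24, 0x806a), (27, 0x26), (29, 0x4c), (32, 0x10000), (40, 0x20000), (48, 0x40000)],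
  C16.good 0x9054196884211 [31, 38, 42, 51] (ST.node (ST.node (ST.node (ST.node (ST.leaf 9766) (ST.leaf 7160)) (ST.node (ST.leaf 9762) (ST.leaf 12120))) (ST.node (ST.node (ST.leaf 12116) (ST.leaf 9774)) (ST.node (ST.leaf 9768) (ST.leaf 9750)))) (ST.node (ST.node (ST.node (ST.leaf 9748) (ST.leaf 9770)) (ST.node (ST.leaf 9772) (ST.leaf 12118))) (ST.node (ST.node (ST.leaf 12122) (ST.leaf 9760)) (ST.node (ST.leaf 7162) (ST.leaf 9764))))) [(0, 0x225), (4, 0x25a), (9, 0x12a), (14, 0xc), (19, 0xa), (23, 0x268), (25, 0x240), (26, 0x26), (28, 0x4c), (32, 0x10000), (40, 0x20000), (48, 0x40000)],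
  C16.good 0x905825a214248 [30, 39, 42, 51] (ST.node (ST.node (ST.node (ST.node (ST.leaf 7638) (ST.leaf 7616)) (ST.node (ST.leaf 10214) (ST.leaf 7640))) (ST.node (ST.node (ST.leaf 7628) (ST.leaf 10218)) (ST.node (ST.leaf 7632) (ST.leaf 5098)))) (ST.node (ST.node (ST.node (ST.leaf 5096) (ST.leaf 7634)) (ST.node (ST.leaf 10216) (ST.leaf 7630))) (ST.node (ST.node (ST.leaf 7642) (ST.leaf 10212)) (ST.node (ST.leaf 7618) (ST.leaf 7636))))) [(3, 0x2c), (6, 0x53), (9, 0x323), (14, 0x205), (16, 0xa31), (21, 0x231), (25, 0x10), (27, 0x26), (28, 0x33), (33, 0x14), (40, 0x20000), (48, 0x40000)],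
  C16.good 0x90582a5214248 [31, 39, 42, 51] (ST.node (ST.node (ST.node (ST.node (ST.leaf 7493) (ST.leaf 10071)) (ST.node (ST.leaf 7469) (ST.leaf 7491))) (ST.node (ST.node (ST.leaf 4975) (ST.leaf 7485)) (ST.node (ST.leaf 10075) (ST.leaf 7481)))) (ST.node (ST.node (ST.node (ST.leaf 7483) (ST.leaf 10073)) (ST.node (ST.leaf 7487) (ST.leaf 4973))) (ST.node (ST.node (ST.leaf 7489) (ST.leaf 7471)) (ST.node (ST.leaf 10069) (ST.leaf 7495))))) [(3, 0x29), (6, 0x46), (9, 0x326), (14, 0x200), (16, 0xa07), (21, 0x207), (24, 0x8005), (26, 0x26), (29, 0x23), (33, 0x1), (40, 0x20000), (48, 0x40000)],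
  C16.good 0x90a1866211448 [30, 36, 43, 51] (ST.node (ST.node (ST.node (ST.node (ST.leaf 9818) (ST.leaf 7236)) (ST.node (ST.leaf 7234) (ST.leaf 7212))) (ST.node (ST.node (ST.leaf 7228) (ST.leaf 4758)) (ST.node (ST.leaf 7224) (ST.leaf 9822)))) (ST.node (ST.node (ST.node (ST.leaf 9820) (ST.leaf 7226)) (ST.node (ST.leaf 4756) (ST.leaf 7230))) (ST.node (ST.node (ST.leaf 7214) (ST.leaf 7232)) (ST.node (ST.leaf 7238) (ST.leaf 9816))))) [(3, 0x39), (6, 0x46), (10, 0x210), (12, 0x423), (16, 0x893), (21, 0x7), (25, 0x11), (26, 0x27), (29, 0x32), (35, 0x95), (41, 0x1), (48, 0x40000)],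
  C16.good 0x90a1899211448 [31, 36, 43, 51] (ST.node (ST.node (ST.node (ST.node (ST.leaf 7383) (ST.leaf 7361)) (ST.node (ST.leaf 9963) (ST.leaf 7385))) (ST.node (ST.node (ST.leaf 7373) (ST.leaf 9967)) (ST.node (ST.leaf 7377) (ST.leaf 4883)))) (ST.node (ST.node (ST.node (ST.leaf 4881) (ST.leaf 7379)) (ST.node (ST.leaf 9965) (ST.leaf 7375))) (ST.node (ST.node (ST.leaf 7387) (ST.leaf 9961)) (ST.node (ST.leaf 7363) (ST.leaf 7381))))) [(3, 0x28), (6, 0x53), (10, 0x201), (12, 0x432), (16, 0x8a1), (21, 0x20), (24, 0x8011), (27, 0x32), (28, 0x23), (35, 0x91), (41, 0x10), (48, 0x40000)],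
  C16.good 0x90a2455881411 [30, 37, 43, 51] (ST.node (ST.node (ST.node (ST.node (ST.leaf 7694) (ST.leaf 5152)) (ST.node (ST.leaf 3114) (ST.leaf 5156))) (ST.node (ST.node (ST.leaf 5140) (ST.leaf 5162)) (ST.node (ST.leaf 5164) (ST.leaf 7690)))) (ST.node (ST.node (ST.node (ST.leaf 7688) (ST.leaf 5166)) (ST.node (ST.leaf 5160) (ST.leaf 5142))) (ST.node (ST.node (ST.leaf 5158) (ST.leaf 3112)) (ST.node (ST.leaf 5154) (ST.leaf 7692))))) [(0, 0x65), (4, 0x16), (10, 0x240), (12, 0x526), (19, 0x1126), (23, 0x102), (24, 0x8066), (26, 0x1020), (28, 0x1046), (34, 0x126), (41, 0x1006), (48, 0x40000)],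
  C16.good 0x90a24aa881411 [31, 37, 43, 51] (ST.node (ST.node (ST.node (ST.node (ST.leaf 7547) (ST.leaf 5029)) (ST.node (ST.leaf 3031) (ST.leaf 5033))) (ST.node (ST.node (ST.leaf 5017) (ST.leaf 5039)) (ST.node (ST.leaf 5041) (ST.leaf 7543)))) (ST.node (ST.node (ST.node (ST.leaf 7541) (ST.leaf 5043)) (ST.node (ST.leaf 5037) (ST.leaf 5019))) (ST.node (ST.node (ST.leaf 5035) (ST.leaf 3029)) (ST.node (ST.leaf 5031) (ST.leaf 7545))))) [(0, 0x961), (4, 0x91e), (10, 0xb48), (12, 0xc22), (19, 0x106), (23, 0x860), (25, 0x96e), (27, 0x66), (29, 0xc), (34, 0x126), (41, 0x40), (48, 0x40000)],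
  C16.good 0x90a4169441484 [30, 38, 43, 51] (ST.node (ST.node (ST.node (ST.node (ST.leaf 10769) (ST.leaf 12991)) (ST.node (ST.leaf 10773) (ST.leaf 8199))) (ST.node (ST.node (ST.leaf 10779) (ST.leaf 10757)) (ST.node (ST.leaf 12987) (ST.leaf 10781)))) (ST.node (ST.node (ST.node (ST.leaf 10783) (ST.leaf 12985)) (ST.node (ST.leaf 10759) (ST.leaf 10777))) (ST.node (ST.node (ST.leaf 8197) (ST.leaf 10775)) (ST.node (ST.leaf 12989) (ST.leaf 10771))))) [(2, 0xf), (7, 0x20), (10, 0x209), (12, 0x43a), (18, 0x2028), (22, 0x28), (24, 0x803a), (27, 0x11), (29, 0x2b), (32, 0x10000), (41, 0x18), (48, 0x40000)],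
  C16.good 0x90a4196441484 [31, 38, 43, 51] (ST.node (ST.node (ST.node (ST.node (ST.leaf 10630) (ST.leaf 8048)) (ST.node (ST.leaf 10626) (ST.leaf 12864))) (ST.node (ST.node (ST.leaf 12860) (ST.leaf 10638)) (ST.node (ST.leaf 10632) (ST.leaf 10614)))) (ST.node (ST.node (ST.node (ST.leaf 10612) (ST.leaf 10634)) (ST.node (ST.leaf 10636) (ST.leaf 12862))) (ST.node (ST.node (ST.leaf 12866) (ST.leaf 10624)) (ST.node (ST.leaf 8050) (ST.leaf 10628))))) [(2, 0x806), (7, 0x838), (10, 0xa11), (12, 0xc22), (18, 0x280a), (22, 0x80a), (25, 0x822), (26, 0x818), (28, 0x833), (32, 0x10000), (41, 0x800), (48, 0x40000)],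
  C16.good 0x90a825a121422 [30, 39, 43, 51] (ST.node (ST.node (ST.node (ST.node (ST.leaf 7926) (ST.leaf 10504)) (ST.node (ST.leaf 7930) (ST.leaf 5344))) (ST.node (ST.node (ST.leaf 7932) (ST.leaf 7914)) (ST.node (ST.leaf 10500) (ST.leaf 7938)))) (ST.node (ST.node (ST.node (ST.leaf 7936) (ST.leaf 10502)) (ST.node (ST.leaf 7912) (ST.leaf 7934))) (ST.node (ST.node (ST.leaf 5346) (ST.leaf 7928)) (ST.node (ST.leaf 10506) (ST.leaf 7924))))) [(1, 0x53), (5, 0x2c), (10, 0x205), (12, 0x445), (17, 0x1000), (20, 0x4014), (25, 0x8), (27, 0x41), (28, 0x54), (33, 0xc), (41, 0x18), (48, 0x40000)],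
  C16.good 0x90a82a5121422 [31, 39, 43, 51] (ST.node (ST.node (ST.node (ST.node (ST.leaf 7791) (ST.leaf 10357)) (ST.node (ST.leaf 7767) (ST.leaf 7785))) (ST.node (ST.node (ST.leaf 5221) (ST.leaf 7783)) (ST.node (ST.leaf 10361) (ST.leaf 7779)))) (ST.node (ST.node (ST.node (ST.leaf 7777) (ST.leaf 10363)) (ST.node (ST.leaf 7781) (ST.leaf 5223))) (ST.node (ST.node (ST.leaf 7787) (ST.leaf 7765)) (ST.node (ST.leaf 10359) (ST.leaf 7789))))) [(1, 0x7), (5, 0x39), (10, 0x210), (12, 0x40c), (17, 0x1000), (20, 0x4001), (24, 0x8015), (26, 0x8), (29, 0x1d), (33, 0x11), (41, 0x10), (48, 0x40000)],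
  C16.good 0x9601866442884 [30, 36, 46, 51] (ST.node (ST.node (ST.node (ST.node (ST.leaf 4632) (ST.leaf 7082)) (ST.node (ST.leaf 9676) (ST.leaf 7078))) (ST.node (ST.node (ST.leaf 7090) (ST.leaf 9672)) (ST.node (ST.leaf 7066) (ST.leaf 7084)))) (ST.node (ST.node (ST.node (ST.leaf 7086) (ST.leaf 7064)) (ST.node (ST.leaf 9674) (ST.leaf 7088))) (ST.node (ST.node (ST.leaf 7076) (ST.leaf 9678)) (ST.node (ST.leaf 7080) (ST.leaf 4634))))) [(2, 0x424), (7, 0x45b), (11, 0x422), (13, 0x41), (18, 0x24f1), (22, 0x4489), (25, 0x4083), (26, 0x59), (29, 0x44c2), (35, 0x489), (45, 0x44f1), (48, 0x40000)],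
  C16.good 0x9601899442884 [31, 36, 46, 51] (ST.node (ST.node (ST.node (ST.node (ST.leaf 6937) (ST.leaf 6919)) (ST.node (ST.leaf 9529) (ST.leaf 6943))) (ST.node (ST.node (ST.leaf 6931) (ST.leaf 9533)) (ST.node (ST.leaf 6935) (ST.leaf 4509)))) (ST.node (ST.node (ST.node (ST.leaf 4511) (ST.leaf 6933)) (ST.node (ST.leaf 9535) (ST.leaf 6929))) (ST.node (ST.node (ST.leaf 6941) (ST.leaf 9531)) (ST.node (ST.leaf 6917) (ST.leaf 6939))))) [(2, 0x3c), (7, 0x43), (11, 0x63), (13, 0x18), (18, 0x3000), (22, 0x4b), (24, 0x90b0), (27, 0x59), (28, 0x10e9), (35, 0x91), (45, 0x10da), (48, 0x40000)],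
  C16.good 0x9602455122822 [30, 37, 46, 51] (ST.node (ST.node (ST.node (ST.node (ST.leaf 4272) (ST.leaf 4294)) (ST.node (ST.leaf 4296) (ST.leaf 6654))) (ST.node (ST.node (ST.leaf 6658) (ST.leaf 4284)) (ST.node (ST.leaf 2526) (ST.leaf 4288)))) (ST.node (ST.node (ST.node (ST.leaf 4290) (ST.leaf 2524)) (ST.node (ST.leaf 4286) (ST.leaf 6656))) (ST.node (ST.node (ST.leaf 6652) (ST.leaf 4298)) (ST.node (ST.leaf 4292) (ST.leaf 4274))))) [(1, 0x1a), (5, 0x34), (11, 0x118), (13, 0x114), (17, 0x3104), (20, 0x4000), (24, 0xa015), (26, 0x8), (28, 0x201d), (34, 0x104), (45, 0x2000), (48, 0x40000)],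
  C16.good 0x96024aa122822 [31, 37, 46, 51] (ST.node (ST.node (ST.node (ST.node (ST.leaf 4409) (ST.leaf 6807)) (ST.node (ST.leaf 4413) (ST.leaf 2611))) (ST.node (ST.node (ST.leaf 4419) (ST.leaf 4397)) (ST.node (ST.leaf 6803) (ST.leaf 4421)))) (ST.node (ST.node (ST.node (ST.leaf 4423) (ST.leaf 6801)) (ST.node (ST.leaf 4399) (ST.leaf 4417))) (ST.node (ST.node (ST.leaf 2609) (ST.leaf 4415)) (ST.node (ST.leaf 6805) (ST.leaf 4411))))) [(1, 0xd2), (5, 0xad), (11, 0x141), (13, 0x1d4), (17, 0x1119), (20, 0x4000), (25, 0x8), (27, 0x59), (29, 0x99), (34, 0x1cc), (45, 0xd5), (48, 0x40000)],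
  C16.good 0x9604169212848 [30, 38, 46, 51] (ST.node (ST.node (ST.node (ST.node (ST.leaf 6127) (ST.leaf 8757)) (ST.node (ST.leaf 11255) (ST.leaf 8753))) (ST.node (ST.node (ST.leaf 8765) (ST.leaf 11251)) (ST.node (ST.leaf 8741) (ST.leaf 8763)))) (ST.node (ST.node (ST.node (ST.leaf 8761) (ST.leaf 8743)) (ST.node (ST.leaf 11249) (ST.leaf 8767))) (ST.node (ST.node (ST.leaf 8755) (ST.leaf 11253)) (ST.node (ST.leaf 8759) (ST.leaf 6125))))) [(3, 0xad), (6, 0xd2), (11, 0x85), (13, 0x10), (16, 0x8a5), (21, 0xa5), (24, 0x80b7), (27, 0x26), (29, 0x91), (32, 0x10000), (45, 0xa2), (48, 0x40000)],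
  C16.good 0x9604196212848 [31, 38, 46, 51] (ST.node (ST.node (ST.node (ST.node (ST.leaf 10902) (ST.leaf 10920)) (ST.node (ST.leaf 10926) (ST.leaf 13108))) (ST.node (ST.node (ST.leaf 13112) (ST.leaf 10914)) (ST.node (ST.leaf 8344) (ST.leaf 10918)))) (ST.node (ST.node (ST.node (ST.leaf 10916) (ST.leaf 8346)) (ST.node (ST.leaf 10912) (ST.leaf 13114))) (ST.node (ST.node (ST.leaf 13110) (ST.leaf 10924)) (ST.node (ST.leaf 10922) (ST.leaf 10900))))) [(3, 0xad), (6, 0xd2), (11, 0x32), (13, 0xa7), (16, 0x834), (21, 0x34), (25, 0xb7), (26, 0x26), (28, 0x1007), (32, 0x10000), (45, 0x1034), (48, 0x40000)],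
  C16.good 0x960825a882811 [30, 39, 46, 51] (ST.node (ST.node (ST.node (ST.node (ST.leaf 8922) (ST.leaf 6296)) (ST.node (ST.leaf 3982) (ST.leaf 6300))) (ST.node (ST.node (ST.leaf 6284) (ST.leaf 6306)) (ST.node (ST.leaf 6308) (ST.leaf 8918)))) (ST.node (ST.node (ST.node (ST.leaf 8916) (ST.leaf 6310)) (ST.node (ST.leaf 6304) (ST.leaf 6286))) (ST.node (ST.node (ST.leaf 6302) (ST.leaf 3980)) (ST.node (ST.leaf 6298) (ST.leaf 8920))))) [(0, 0x84b), (4, 0x834), (11, 0xa62), (13, 0xb44), (19, 0xb68), (23, 0x368), (25, 0x808), (27, 0x26), (28, 0x1b24), (33, 0x12a), (45, 0x1b68), (48, 0x40000)],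
  C16.good 0x96082a5882811 [31, 39, 46, 51] (ST.node (ST.node (ST.node (ST.node (ST.leaf 6433) (ST.leaf 6455)) (ST.node (ST.leaf 6457) (ST.leaf 9063))) (ST.node (ST.node (ST.leaf 9067) (ST.leaf 6445)) (ST.node (ST.leaf 4107) (ST.leaf 6449)))) (ST.node (ST.node (ST.node (ST.leaf 6451) (ST.leaf 4105)) (ST.node (ST.leaf 6447) (ST.leaf 9065))) (ST.node (ST.node (ST.leaf 9061) (ST.leaf 6459)) (ST.node (ST.leaf 6453) (ST.leaf 6435))))) [(0, 0x83), (4, 0xfc), (11, 0x2aa), (13, 0x38c), (19, 0x360), (23, 0x34e), (24, 0x80c0), (26, 0x26), (29, 0xe6), (33, 0x1cc), (45, 0xaa), (48, 0x40000)],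
  C16.good 0x9901866888111 [30, 36, 47, 51] (ST.node (ST.node (ST.node (ST.node (ST.leaf 10968) (ST.leaf 8422)) (ST.node (ST.leaf 8416) (ST.leaf 8398))) (ST.node (ST.node (ST.leaf 8414) (ST.leaf 5748)) (ST.node (ST.leaf 8410) (ST.leaf 10972)))) (ST.node (ST.node (ST.node (ST.leaf 10974) (ST.leaf 8408)) (ST.node (ST.leaf 5750) (ST.leaf 8412))) (ST.node (ST.node (ST.leaf 8396) (ST.leaf 8418)) (ST.node (ST.leaf 8420) (ST.leaf 10970))))) [(0, 0x1349), (4, 0x1336), (8, 0x10ac), (15, 0x1160), (19, 0x6), (23, 0x1308), (25, 0x1360), (26, 0x1106), (29, 0x4c), (35, 0x126), (44, 0x1120), (48, 0x40000)],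
  C16.good 0x9901899888111 [31, 36, 47, 51] (ST.node (ST.node (ST.node (ST.node (ST.leaf 6197) (ST.leaf 6179)) (ST.node (ST.leaf 8809) (ST.leaf 6203))) (ST.node (ST.node (ST.leaf 6191) (ST.leaf 8813)) (ST.node (ST.leaf 6195) (ST.leaf 3889)))) (ST.node (ST.node (ST.node (ST.leaf 3891) (ST.leaf 6193)) (ST.node (ST.leaf 8815) (ST.leaf 6189))) (ST.node (ST.node (ST.leaf 6201) (ST.leaf 8811)) (ST.node (ST.leaf 6177) (ST.leaf 6199))))) [(0, 0x4141), (4, 0x413e), (8, 0x40c2), (15, 0x410e), (19, 0x4122), (23, 0x24), (24, 0xc168), (27, 0x4124), (28, 0x4c), (35, 0x126), (44, 0x4102), (48, 0x40000)],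
  C16.good 0x9902455218148 [30, 37, 47, 51] (ST.node (ST.node (ST.node (ST.node (ST.leaf 2356) (ST.leaf 4042)) (ST.node (ST.leaf 6360) (ST.leaf 4038))) (ST.node (ST.node (ST.leaf 4050) (ST.leaf 6356)) (ST.node (ST.leaf 4026) (ST.leaf 4044)))) (ST.node (ST.node (ST.node (ST.leaf 4046) (ST.leaf 4024)) (ST.node (ST.leaf 6358) (ST.leaf 4048))) (ST.node (ST.node (ST.leaf 4036) (ST.leaf 6362)) (ST.node (ST.leaf 4040) (ST.leaf 2358))))) [(3, 0x1a), (6, 0x47), (8, 0x284), (15, 0x211), (16, 0xb03), (21, 0x102), (24, 0x8310), (26, 0x301), (28, 0x11), (34, 0x104), (44, 0x305), (48, 0x40000)],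
  C16.good 0x99024aa218148 [31, 37, 47, 51] (ST.node (ST.node (ST.node (ST.node (ST.leaf 4169) (ST.leaf 4151)) (ST.node (ST.leaf 6505) (ST.leaf 4175))) (ST.node (ST.node (ST.leaf 4163) (ST.leaf 6509)) (ST.node (ST.leaf 4167) (ST.leaf 2441)))) (ST.node (ST.node (ST.node (ST.leaf 2443) (ST.leaf 4165)) (ST.node (ST.leaf 6511) (ST.leaf 4161))) (ST.node (ST.node (ST.leaf 4173) (ST.leaf 6507)) (ST.node (ST.leaf 4149) (ST.leaf 4171))))) [(3, 0x38), (6, 0x47), (8, 0x194), (15, 0x101), (16, 0x820), (21, 0x2106), (25, 0x2037), (27, 0x2026), (29, 0x33), (34, 0x126), (44, 0x2000), (48, 0x40000)],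
  C16.good 0x9904169128122 [30, 38, 47, 51] (ST.node (ST.node (ST.node (ST.node (ST.leaf 9473) (ST.leaf 11875)) (ST.node (ST.leaf 9477) (ST.leaf 6867))) (ST.node (ST.node (ST.leaf 9483) (ST.leaf 9461)) (ST.node (ST.leaf 11871) (ST.leaf 9485)))) (ST.node (ST.node (ST.node (ST.leaf 9487) (ST.leaf 11869)) (ST.node (ST.leaf 9463) (ST.leaf 9481))) (ST.node (ST.node (ST.leaf 6865) (ST.leaf 9479)) (ST.node (ST.leaf 11873) (ST.leaf 9475))))) [(1, 0x17), (5, 0x38), (8, 0x9d), (15, 0x8), (17, 0x1018), (20, 0x4018), (24, 0x800d), (27, 0x11), (29, 0x1c), (32, 0x10000), (44, 0x18), (48, 0x40000)],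
  C16.good 0x9904196128122 [31, 38, 47, 51] (ST.node (ST.node (ST.node (ST.node (ST.leaf 7012) (ST.leaf 9622)) (ST.node (ST.leaf 11996) (ST.leaf 9618))) (ST.node (ST.node (ST.leaf 9630) (ST.leaf 11992)) (ST.node (ST.leaf 9606) (ST.leaf 9624)))) (ST.node (ST.node (ST.node (ST.leaf 9626) (ST.leaf 9604)) (ST.node (ST.leaf 11994) (ST.leaf 9628))) (ST.node (ST.node (ST.leaf 9616) (ST.leaf 11998)) (ST.node (ST.leaf 9620) (ST.leaf 7014))))) [(1, 0x6), (5, 0x38), (8, 0x284), (15, 0x211), (17, 0x121d), (20, 0x421d), (25, 0x1c), (26, 0x205), (28, 0xd), (32, 0x10000), (44, 0x21d), (48, 0x40000)],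
  C16.good 0x990825a448184 [30, 39, 47, 51] (ST.node (ST.node (ST.node (ST.node (ST.leaf 6600) (ST.leaf 6582)) (ST.node (ST.leaf 9204) (ST.leaf 6606))) (ST.node (ST.node (ST.leaf 6594) (ST.leaf 9208)) (ST.node (ST.leaf 6598) (ST.leaf 4228)))) (ST.node (ST.node (ST.node (ST.leaf 4230) (ST.leaf 6596)) (ST.node (ST.leaf 9210) (ST.leaf 6592))) (ST.node (ST.node (ST.leaf 6604) (ST.leaf 9206)) (ST.node (ST.leaf 6580) (ST.leaf 6602))))) [(2, 0x674), (7, 0x60b), (8, 0x2fb), (15, 0x422), (18, 0x225a), (22, 0x471), (25, 0x650), (27, 0x41), (28, 0x33), (33, 0x633), (44, 0x18), (48, 0x40000)],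
  C16.good 0x99082a5448184 [31, 39, 47, 51] (ST.node (ST.node (ST.node (ST.node (ST.leaf 6747) (ST.leaf 4353)) (ST.node (ST.leaf 6743) (ST.leaf 9353))) (ST.node (ST.node (ST.leaf 9349) (ST.leaf 6755)) (ST.node (ST.leaf 6749) (ST.leaf 6731)))) (ST.node (ST.node (ST.node (ST.leaf 6729) (ST.leaf 6751)) (ST.node (ST.leaf 6753) (ST.leaf 9351))) (ST.node (ST.node (ST.leaf 9355) (ST.leaf 6741)) (ST.node (ST.leaf 4355) (ST.leaf 6745))))) [(2, 0x17), (7, 0x29), (8, 0x2ba), (15, 0x200), (18, 0x2228), (22, 0xa39), (24, 0x882b), (26, 0x818), (29, 0x33), (33, 0x11), (44, 0x800), (48, 0x40000)],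
  C16.good 0xa185588814806 [31, 38, 44, 51] (ST.node (ST.node (ST.node (ST.node (ST.leaf 5268) (ST.leaf 3190)) (ST.node (ST.leaf 3192) (ST.leaf 5274))) (ST.node (ST.node (ST.leaf 5262) (ST.leaf 3176)) (ST.node (ST.leaf 1774) (ST.leaf 3184)))) (ST.node (ST.node (ST.node (ST.leaf 3186) (ST.leaf 1772)) (ST.node (ST.leaf 3178) (ST.leaf 5260))) (ST.node (ST.node (ST.leaf 5272) (ST.leaf 3194)) (ST.node (ST.leaf 3188) (ST.leaf 5270))))) [(1, 0x43), (2, 0x3c), (11, 0x409), (14, 0x99), (16, 0x1891), (23, 0x431), (27, 0x1039), (32, 0x104c0), (34, 0x1070), (36, 0x14b0), (43, 0x1060), (49, 0x1010)],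
  C16.good 0xa185a12424850 [28, 38, 44, 51] (ST.node (ST.node (ST.node (ST.node (ST.leaf 3844) (ST.leaf 2222)) (ST.node (ST.leaf 3836) (ST.leaf 6134))) (ST.node (ST.node (ST.leaf 6146) (ST.leaf 3852)) (ST.node (ST.leaf 3850) (ST.leaf 6140)))) (ST.node (ST.node (ST.node (ST.leaf 6142) (ST.leaf 3848)) (ST.node (ST.leaf 3854) (ST.leaf 6144))) (ST.node (ST.node (ST.leaf 6132) (ST.leaf 3838)) (ST.node (ST.leaf 2220) (ST.leaf 3846))))) [(4, 0x61e), (6, 0x661), (11, 0x409), (14, 0x389), (17, 0x1323), (22, 0xa), (25, 0x622), (33, 0x22f), (35, 0x504), (36, 0x3a2), (43, 0x26), (49, 0x60b)],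
  C16.good 0xa186621144809 [29, 38, 44, 51] (ST.node (ST.node (ST.node (ST.node (ST.leaf 7210) (ST.leaf 4736)) (ST.node (ST.leaf 2830) (ST.leaf 4744))) (ST.node (ST.node (ST.leaf 7216) (ST.leaf 4750)) (ST.node (ST.leaf 4752) (ST.leaf 7222)))) (ST.node (ST.node (ST.node (ST.leaf 7220) (ST.leaf 4754)) (ST.node (ST.leaf 4748) (ST.leaf 7218))) (ST.node (ST.node (ST.leaf 4746) (ST.leaf 2828)) (ST.node (ST.leaf 4738) (ST.leaf 7208))))) [(0, 0x43), (3, 0x3c), (11, 0x476), (14, 0x62), (18, 0x2424), (20, 0x4176), (24, 0x8000), (33, 0x472), (34, 0x36), (37, 0x504), (43, 0x26), (49, 0x56)],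
  C16.good 0xa1869442848a0 [30, 38, 44, 51] (ST.node (ST.node (ST.node (ST.node (ST.leaf 6709) (ST.leaf 9323)) (ST.node (ST.leaf 9325) (ST.leaf 6715))) (ST.node (ST.node (ST.leaf 6699) (ST.leaf 9313)) (ST.node (ST.leaf 6707) (ST.leaf 4321)))) (ST.node (ST.node (ST.node (ST.leaf 4323) (ST.leaf 6705)) (ST.node (ST.leaf 9315) (ST.leaf 6697))) (ST.node (ST.node (ST.leaf 6713) (ST.leaf 9327)) (ST.node (ST.leaf 9321) (ST.leaf 6711))))) [(5, 0x3a8), (7, 0x3d7), (11, 0x4d), (14, 0x7cd), (19, 0xa), (21, 0x7da), (26, 0x394), (32, 0x106d9), (35, 0x359), (37, 0x580), (43, 0x3cd), (49, 0x56)],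
  C16.good 0xa1896442848a0 [30, 39, 44, 51] (ST.node (ST.node (ST.node (ST.node (ST.leaf 9168) (ST.leaf 6550)) (ST.node (ST.leaf 4196) (ST.leaf 6558))) (ST.node (ST.node (ST.leaf 9178) (ST.leaf 6560)) (ST.node (ST.leaf 6566) (ST.leaf 9180)))) (ST.node (ST.node (ST.node (ST.leaf 9182) (ST.leaf 6564)) (ST.node (ST.leaf 6562) (ST.leaf 9176))) (ST.node (ST.node (ST.leaf 6556) (ST.leaf 4198)) (ST.node (ST.leaf 6548) (ST.leaf 9170))))) [(5, 0x628), (7, 0x657), (11, 0xa89), (14, 0xd09), (19, 0x353), (21, 0xbc7), (26, 0x614), (33, 0x99d), (34, 0x359), (36, 0x580), (43, 0x64d), (49, 0x56)],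
  C16.good 0xa189921144809 [29, 39, 44, 51] (ST.node (ST.node (ST.node (ST.node (ST.leaf 4861) (ST.leaf 7359)) (ST.node (ST.leaf 4869) (ST.leaf 2915))) (ST.node (ST.node (ST.leaf 4875) (ST.leaf 7365)) (ST.node (ST.leaf 7371) (ST.leaf 4877)))) (ST.node (ST.node (ST.node (ST.leaf 4879) (ST.leaf 7369)) (ST.node (ST.leaf 7367) (ST.leaf 4873))) (ST.node (ST.node (ST.leaf 2913) (ST.leaf 4871)) (ST.node (ST.leaf 7357) (ST.leaf 4863))))) [(0, 0x43), (3, 0xa), (11, 0x4), (14, 0x190), (18, 0x20d2), (20, 0x4140), (24, 0x8000), (32, 0x10084), (35, 0x140), (36, 0x1c4), (43, 0x10), (49, 0x56)],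
  C16.good 0xa18a512424850 [28, 39, 44, 51] (ST.node (ST.node (ST.node (ST.node (ST.leaf 3483) (ST.leaf 5705)) (ST.node (ST.leaf 8355) (ST.leaf 5697))) (ST.node (ST.node (ST.leaf 5713) (ST.leaf 8367)) (ST.node (ST.leaf 8361) (ST.leaf 5711)))) (ST.node (ST.node (ST.node (ST.leaf 5709) (ST.leaf 8363)) (ST.node (ST.leaf 8365) (ST.leaf 5715))) (ST.node (ST.node (ST.leaf 5699) (ST.leaf 8353)) (ST.node (ST.leaf 5707) (ST.leaf 3481))))) [(4, 0xb8), (6, 0xc7), (11, 0x80), (14, 0x389), (17, 0x1081), (22, 0x3a8), (25, 0x84), (32, 0x1022f), (34, 0x3a2), (37, 0x18d), (43, 0x26), (49, 0xad)],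
  C16.good 0xa18aa88814806 [31, 39, 44, 51] (ST.node (ST.node (ST.node (ST.node (ST.leaf 1825) (ST.leaf 3271)) (ST.node (ST.leaf 5385) (ST.leaf 3263))) (ST.node (ST.node (ST.leaf 3279) (ST.leaf 5397)) (ST.node (ST.leaf 5395) (ST.leaf 3273)))) (ST.node (ST.node (ST.node (ST.leaf 3275) (ST.leaf 5393)) (ST.node (ST.leaf 5399) (ST.leaf 3277))) (ST.node (ST.node (ST.leaf 3261) (ST.leaf 5387)) (ST.node (ST.leaf 3269) (ST.leaf 1827))))) [(1, 0x43), (2, 0x3c), (11, 0x409), (14, 0x389), (16, 0xd28), (23, 0x3e1), (27, 0x49), (33, 0x7d0), (35, 0x310), (37, 0x5c9), (43, 0x10), (49, 0x60)],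
  C16.good 0xa245588141109 [31, 38, 45, 51] (ST.node (ST.node (ST.node (ST.node (ST.leaf 5146) (ST.leaf 3104)) (ST.node (ST.leaf 3110) (ST.leaf 5148))) (ST.node (ST.node (ST.leaf 5136) (ST.leaf 3094)) (ST.node (ST.leaf 1720) (ST.leaf 3102)))) (ST.node (ST.node (ST.node (ST.leaf 3100) (ST.leaf 1722)) (ST.node (ST.leaf 3092) (ST.leaf 5138))) (ST.node (ST.node (ST.leaf 5150) (ST.leaf 3108)) (ST.node (ST.leaf 3106) (ST.leaf 5144))))) [(0, 0x131), (3, 0x14a), (8, 0x190), (12, 0x472), (18, 0x2030), (20, 0x4172), (27, 0x22), (32, 0x10122), (34, 0x10), (36, 0x132), (42, 0x172), (49, 0x102)],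
  C16.good 0xa245a122811a0 [28, 38, 45, 51] (ST.node (ST.node (ST.node (ST.node (ST.leaf 2724) (ST.leaf 4590)) (ST.node (ST.leaf 7020) (ST.leaf 4582))) (ST.node (ST.node (ST.leaf 4598) (ST.leaf 7032)) (ST.node (ST.leaf 7030) (ST.leaf 4592)))) (ST.node (ST.node (ST.node (ST.leaf 4594) (ST.leaf 7028)) (ST.node (ST.leaf 7034) (ST.leaf 4596))) (ST.node (ST.node (ST.leaf 4580) (ST.leaf 7022)) (ST.node (ST.leaf 4588) (ST.leaf 2726))))) [(5, 0x303f), (7, 0x3019), (8, 0x194), (12, 0x614), (19, 0x1118), (21, 0x1305), (25, 0x2111), (33, 0x14), (35, 0x3303), (36, 0x3203), (42, 0x1112), (49, 0x300c)],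
  C16.good 0xa246621811106 [29, 38, 45, 51] (ST.node (ST.node (ST.node (ST.node (ST.leaf 5622) (ST.leaf 8256)) (ST.node (ST.leaf 8254) (ST.leaf 5616))) (ST.node (ST.node (ST.leaf 3416) (ST.leaf 5614)) (ST.node (ST.leaf 8244) (ST.leaf 5606)))) (ST.node (ST.node (ST.node (ST.leaf 5604) (ST.leaf 8246)) (ST.node (ST.leaf 5612) (ST.leaf 3418))) (ST.node (ST.node (ST.leaf 5618) (ST.leaf 8252)) (ST.node (ST.leaf 8258) (ST.leaf 5620))))) [(1, 0x30a), (2, 0x32c), (8, 0x389), (12, 0x409), (16, 0x921), (23, 0x21), (24, 0x8000), (33, 0x309), (34, 0x10), (37, 0x110), (42, 0x310), (49, 0x339)],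
  C16.good 0xa246944421150 [30, 38, 45, 51] (ST.node (ST.node (ST.node (ST.node (ST.leaf 8893) (ST.leaf 6271)) (ST.node (ST.leaf 6265) (ST.leaf 8891))) (ST.node (ST.node (ST.leaf 6263) (ST.leaf 3949)) (ST.node (ST.leaf 6255) (ST.leaf 8881)))) (ST.node (ST.node (ST.node (ST.leaf 8883) (ST.leaf 6253)) (ST.node (ST.leaf 3951) (ST.leaf 6261))) (ST.node (ST.node (ST.leaf 8889) (ST.leaf 6267)) (ST.node (ST.leaf 6269) (ST.leaf 8895))))) [(4, 0x17), (6, 0x4a), (8, 0x38d), (12, 0x40d), (17, 0x1305), (22, 0x7), (26, 0x4), (32, 0x10104), (35, 0x309), (37, 0x20d), (42, 0xd), (49, 0x6)],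
  C16.good 0xa249644421150 [30, 39, 45, 51] (ST.node (ST.node (ST.node (ST.node (ST.leaf 9038) (ST.leaf 6416)) (ST.node (ST.leaf 6414) (ST.leaf 9032))) (ST.node (ST.node (ST.leaf 6408) (ST.leaf 4074)) (ST.node (ST.leaf 6400) (ST.leaf 9026)))) (ST.node (ST.node (ST.node (ST.leaf 9024) (ST.leaf 6402)) (ST.node (ST.leaf 4072) (ST.leaf 6410))) (ST.node (ST.node (ST.leaf 9034) (ST.leaf 6412)) (ST.node (ST.leaf 6418) (ST.leaf 9036))))) [(4, 0x131), (6, 0x14e), (8, 0x3af), (12, 0x42f), (17, 0x1108), (22, 0x32c), (26, 0x26), (33, 0x22), (34, 0x20d), (36, 0x32b), (42, 0x12b), (49, 0x102)],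
  C16.good 0xa249921811106 [29, 39, 45, 51] (ST.node (ST.node (ST.node (ST.node (ST.leaf 5481) (ST.leaf 8099)) (ST.node (ST.leaf 5489) (ST.leaf 3335))) (ST.node (ST.node (ST.leaf 5495) (ST.leaf 8105)) (ST.node (ST.leaf 8111) (ST.leaf 5497)))) (ST.node (ST.node (ST.node (ST.leaf 5499) (ST.leaf 8109)) (ST.node (ST.leaf 8107) (ST.leaf 5493))) (ST.node (ST.node (ST.leaf 3333) (ST.leaf 5491)) (ST.node (ST.leaf 8097) (ST.leaf 5483))))) [(1, 0x112a), (2, 0x110c), (8, 0x180), (12, 0x409), (16, 0x1808), (23, 0x1108), (24, 0x8000), (32, 0x10100), (35, 0x1029), (36, 0x1129), (42, 0x1120), (49, 0x1109)],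
  C16.good 0xa24a5122811a0 [28, 39, 45, 51] (ST.node (ST.node (ST.node (ST.node (ST.leaf 2641) (ST.leaf 4467)) (ST.node (ST.leaf 6873) (ST.leaf 4459))) (ST.node (ST.node (ST.leaf 4475) (ST.leaf 6885)) (ST.node (ST.leaf 6883) (ST.leaf 4469)))) (ST.node (ST.node (ST.node (ST.leaf 4471) (ST.leaf 6881)) (ST.node (ST.leaf 6887) (ST.leaf 4473))) (ST.node (ST.node (ST.leaf 4457) (ST.leaf 6875)) (ST.node (ST.leaf 4465) (ST.leaf 2643))))) [(5, 0x328), (7, 0x30e), (8, 0x80), (12, 0x700), (19, 0x1018), (21, 0x1311), (25, 0x1312), (32, 0x10100), (34, 0x14), (37, 0x114), (42, 0x1006), (49, 0x31b)],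
  C16.good 0xa24aa88141109 [31, 39, 45, 51] (ST.node (ST.node (ST.node (ST.node (ST.leaf 5023) (ST.leaf 3021)) (ST.node (ST.leaf 3027) (ST.leaf 5025))) (ST.node (ST.node (ST.leaf 5013) (ST.leaf 3011)) (ST.node (ST.leaf 1669) (ST.leaf 3019)))) (ST.node (ST.node (ST.node (ST.leaf 3017) (ST.leaf 1671)) (ST.node (ST.leaf 3009) (ST.leaf 5015))) (ST.node (ST.node (ST.leaf 5027) (ST.leaf 3025)) (ST.node (ST.leaf 3023) (ST.leaf 5021))))) [(0, 0x7), (3, 0x68), (8, 0x3e6), (12, 0x466), (18, 0x2364), (20, 0x4166), (27, 0x26), (33, 0x4), (35, 0x344), (37, 0x262), (42, 0x44), (49, 0x24)],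
  C16.good 0xa415588428450 [31, 38, 46, 51] (ST.node (ST.node (ST.node (ST.node (ST.leaf 2672) (ST.leaf 4518)) (ST.node (ST.leaf 2680) (ST.leaf 1462))) (ST.node (ST.node (ST.leaf 2686) (ST.leaf 4524)) (ST.node (ST.leaf 4530) (ST.leaf 2688)))) (ST.node (ST.node (ST.node (ST.leaf 2690) (ST.leaf 4528)) (ST.node (ST.leaf 4526) (ST.leaf 2684))) (ST.node (ST.node (ST.leaf 1460) (ST.leaf 2682)) (ST.node (ST.leaf 4516) (ST.leaf 2674))))) [(4, 0x38), (6, 0x43), (10, 0x280), (15, 0x409), (17, 0x142a), (22, 0xa1), (27, 0x22), (32, 0x1002b), (34, 0x480), (36, 0x4ab), (40, 0x20000), (49, 0xb)],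
  C16.good 0xa415a12818406 [28, 38, 46, 51] (ST.node (ST.node (ST.node (ST.node (ST.leaf 4970) (ST.leaf 7476)) (ST.node (ST.leaf 7474) (ST.leaf 4964))) (ST.node (ST.node (ST.leaf 2976) (ST.leaf 4962)) (ST.node (ST.leaf 7464) (ST.leaf 4954)))) (ST.node (ST.node (ST.node (ST.leaf 4952) (ST.leaf 7466)) (ST.node (ST.leaf 4960) (ST.leaf 2978))) (ST.node (ST.node (ST.leaf 4966) (ST.leaf 7472)) (ST.node (ST.leaf 7478) (ST.leaf 4968))))) [(1, 0x403), (2, 0x425), (10, 0x389), (15, 0x409), (16, 0xcb1), (23, 0x5b1), (25, 0x419), (33, 0x589), (35, 0x99), (36, 0x199), (40, 0x20000), (49, 0x430)],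
  C16.good 0xa4166212884a0 [29, 38, 46, 51] (ST.node (ST.node (ST.node (ST.node (ST.leaf 4008) (ST.leaf 6334)) (ST.node (ST.leaf 6328) (ST.leaf 4006))) (ST.node (ST.node (ST.leaf 2326) (ST.leaf 4000)) (ST.node (ST.leaf 6322) (ST.leaf 3992)))) (ST.node (ST.node (ST.node (ST.leaf 3994) (ST.leaf 6320)) (ST.node (ST.leaf 4002) (ST.leaf 2324))) (ST.node (ST.node (ST.leaf 4004) (ST.leaf 6330)) (ST.node (ST.leaf 6332) (ST.leaf 4010))))) [(5, 0x3c), (7, 0x1a), (10, 0xa89), (15, 0x91d), (19, 0x983), (21, 0x83), (24, 0x8000), (33, 0x99d), (34, 0x94), (37, 0x194), (40, 0x20000), (49, 0xf)],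
  C16.good 0xa416944148409 [30, 38, 46, 51] (ST.node (ST.node (ST.node (ST.node (ST.leaf 8185) (ST.leaf 5563)) (ST.node (ST.leaf 8177) (ST.leaf 10755))) (ST.node (ST.node (ST.leaf 10767) (ST.leaf 8193)) (ST.node (ST.leaf 8191) (ST.leaf 10761)))) (ST.node (ST.node (ST.node (ST.leaf 10763) (ST.leaf 8189)) (ST.node (ST.leaf 8195) (ST.leaf 10765))) (ST.node (ST.node (ST.leaf 10753) (ST.leaf 8179)) (ST.node (ST.leaf 5561) (ST.leaf 8187))))) [(0, 0x17), (3, 0x1a), (10, 0x380), (15, 0x10), (18, 0x2092), (20, 0x4104), (26, 0x4), (32, 0x10104), (35, 0x94), (37, 0x190), (40, 0x20000), (49, 0x6)],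
  C16.good 0xa419644148409 [30, 39, 46, 51] (ST.node (ST.node (ST.node (ST.node (ST.leaf 8042) (ST.leaf 10616)) (ST.node (ST.leaf 10622) (ST.leaf 8044))) (ST.node (ST.node (ST.leaf 8028) (ST.leaf 10610)) (ST.node (ST.leaf 8036) (ST.leaf 5438)))) (ST.node (ST.node (ST.node (ST.leaf 5436) (ST.leaf 8038)) (ST.node (ST.leaf 10608) (ST.leaf 8030))) (ST.node (ST.node (ST.leaf 8046) (ST.leaf 10620)) (ST.node (ST.leaf 10618) (ST.leaf 8040))))) [(0, 0x65), (3, 0x1a), (10, 0x262), (15, 0x450), (18, 0x2446), (20, 0x4022), (26, 0x26), (33, 0x22), (34, 0x440), (36, 0x432), (40, 0x20000), (49, 0x56)],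
  C16.good 0xa4199212884a0 [29, 39, 46, 51] (ST.node (ST.node (ST.node (ST.node (ST.leaf 6483) (ST.leaf 4133)) (ST.node (ST.leaf 4131) (ST.leaf 6477))) (ST.node (ST.node (ST.leaf 4125) (ST.leaf 2411)) (ST.node (ST.leaf 4117) (ST.leaf 6471)))) (ST.node (ST.node (ST.node (ST.leaf 6469) (ST.leaf 4119)) (ST.node (ST.leaf 2409) (ST.leaf 4127))) (ST.node (ST.node (ST.leaf 6479) (ST.leaf 4129)) (ST.node (ST.leaf 4135) (ST.leaf 6481))))) [(5, 0x3c), (7, 0x1a), (10, 0x600), (15, 0x14), (19, 0x1e), (21, 0x403), (24, 0x8000), (32, 0x10094), (35, 0x480), (36, 0x414), (40, 0x20000), (49, 0xf)],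
  C16.good 0xa41a512818406 [28, 39, 46, 51] (ST.node (ST.node (ST.node (ST.node (ST.leaf 5085) (ST.leaf 3063)) (ST.node (ST.leaf 5077) (ST.leaf 7615))) (ST.node (ST.node (ST.leaf 7627) (ST.leaf 5093)) (ST.node (ST.leaf 5091) (ST.leaf 7621)))) (ST.node (ST.node (ST.node (ST.leaf 7623) (ST.leaf 5089)) (ST.node (ST.leaf 5095) (ST.leaf 7625))) (ST.node (ST.node (ST.leaf 7613) (ST.leaf 5079)) (ST.node (ST.leaf 3061) (ST.leaf 5087))))) [(1, 0x200b), (2, 0x202d), (10, 0x310), (15, 0x19), (16, 0x938), (23, 0x38), (25, 0x2011), (32, 0x10100), (34, 0x2018), (37, 0x2118), (40, 0x20000), (49, 0x2038)],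
  C16.good 0xa41aa88428450 [31, 39, 46, 51] (ST.node (ST.node (ST.node (ST.node (ST.leaf 4651) (ST.leaf 2769)) (ST.node (ST.leaf 2775) (ST.leaf 4653))) (ST.node (ST.node (ST.leaf 4641) (ST.leaf 2759)) (ST.node (ST.leaf 1513) (ST.leaf 2767)))) (ST.node (ST.node (ST.node (ST.leaf 2765) (ST.leaf 1515)) (ST.node (ST.leaf 2757) (ST.leaf 4643))) (ST.node (ST.node (ST.leaf 4655) (ST.leaf 2773)) (ST.node (ST.leaf 2771) (ST.leaf 4649))))) [(4, 0x17), (6, 0x43), (10, 0x389), (15, 0x409), (17, 0x1081), (22, 0x40e), (27, 0xd), (33, 0x4), (35, 0x480), (37, 0x58d), (40, 0x20000), (49, 0xf)],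
  C16.good 0xa8255882822a0 [31, 38, 47, 51] (ST.node (ST.node (ST.node (ST.node (ST.leaf 1980) (ST.leaf 3522)) (ST.node (ST.leaf 5756) (ST.leaf 3514))) (ST.node (ST.node (ST.leaf 3530) (ST.leaf 5768)) (ST.node (ST.leaf 5766) (ST.leaf 3524)))) (ST.node (ST.node (ST.node (ST.leaf 3526) (ST.leaf 5764)) (ST.node (ST.leaf 5770) (ST.leaf 3528))) (ST.node (ST.node (ST.leaf 3512) (ST.leaf 5758)) (ST.node (ST.leaf 3520) (ST.leaf 1982))))) [(5, 0x4a8), (7, 0x4d7), (9, 0x194), (13, 0x614), (19, 0x2c7), (21, 0x44e), (27, 0x4cd), (32, 0x106d9), (34, 0x480), (36, 0x259), (41, 0x494), (49, 0xf)],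
  C16.good 0xa825a12142209 [28, 38, 47, 51] (ST.node (ST.node (ST.node (ST.node (ST.leaf 5334) (ST.leaf 3228)) (ST.node (ST.leaf 5326) (ST.leaf 7908))) (ST.node (ST.node (ST.leaf 7920) (ST.leaf 5342)) (ST.node (ST.leaf 5336) (ST.leaf 7918)))) (ST.node (ST.node (ST.node (ST.leaf 7916) (ST.leaf 5338)) (ST.node (ST.leaf 5340) (ST.leaf 7922))) (ST.node (ST.node (ST.leaf 7910) (ST.leaf 5324)) (ST.node (ST.leaf 3230) (ST.leaf 5332))))) [(0, 0x403), (3, 0x47c), (9, 0x194), (13, 0x450), (18, 0x20c6), (20, 0x40f2), (25, 0x466), (33, 0x32), (35, 0xe6), (36, 0x404), (41, 0x26), (49, 0x416)],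
  C16.good 0xa826621422250 [29, 38, 47, 51] (ST.node (ST.node (ST.node (ST.node (ST.leaf 6778) (ST.leaf 4380)) (ST.node (ST.leaf 4378) (ST.leaf 6772))) (ST.node (ST.node (ST.leaf 4372) (ST.leaf 2578)) (ST.node (ST.leaf 4364) (ST.leaf 6766)))) (ST.node (ST.node (ST.node (ST.leaf 6764) (ST.leaf 4366)) (ST.node (ST.leaf 2576) (ST.leaf 4374))) (ST.node (ST.node (ST.leaf 6774) (ST.leaf 4376)) (ST.node (ST.leaf 4382) (ST.leaf 6776))))) [(4, 0x1a), (6, 0x65), (9, 0x32b), (13, 0x42f), (17, 0x140c), (22, 0x7), (24, 0x8000), (33, 0x42b), (34, 0x404), (37, 0x226), (41, 0x26), (49, 0xf)],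
  C16.good 0xa826944812206 [30, 38, 47, 51] (ST.node (ST.node (ST.node (ST.node (ST.leaf 7159) (ST.leaf 9757)) (ST.node (ST.leaf 9755) (ST.leaf 7153))) (ST.node (ST.node (ST.leaf 4693) (ST.leaf 7151)) (ST.node (ST.leaf 9745) (ST.leaf 7143)))) (ST.node (ST.node (ST.node (ST.leaf 7141) (ST.leaf 9747)) (ST.node (ST.leaf 7149) (ST.leaf 4695))) (ST.node (ST.node (ST.leaf 7155) (ST.leaf 9753)) (ST.node (ST.leaf 9759) (ST.leaf 7157))))) [(1, 0x1a), (2, 0x35), (9, 0x380), (13, 0x400), (16, 0xab1), (23, 0x28), (26, 0x419), (32, 0x10689), (35, 0x99), (37, 0x610), (41, 0x410), (49, 0x439)],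
  C16.good 0xa829644812206 [30, 39, 47, 51] (ST.node (ST.node (ST.node (ST.node (ST.leaf 7304) (ST.leaf 9902)) (ST.node (ST.leaf 9896) (ST.leaf 7302))) (ST.node (ST.node (ST.leaf 4818) (ST.leaf 7296)) (ST.node (ST.leaf 9890) (ST.leaf 7288)))) (ST.node (ST.node (ST.node (ST.leaf 7290) (ST.leaf 9888)) (ST.node (ST.leaf 7298) (ST.leaf 4816))) (ST.node (ST.node (ST.leaf 7300) (ST.leaf 9898)) (ST.node (ST.leaf 9900) (ST.leaf 7306))))) [(1, 0x1a), (2, 0x65), (9, 0x349), (13, 0x450), (16, 0xc38), (23, 0x2439), (26, 0x2618), (33, 0x610), (34, 0x2201), (36, 0x2441), (41, 0x2641), (49, 0x2668)],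
  C16.good 0xa829921422250 [29, 39, 47, 51] (ST.node (ST.node (ST.node (ST.node (ST.leaf 4251) (ST.leaf 2493)) (ST.node (ST.leaf 4243) (ST.leaf 6617))) (ST.node (ST.node (ST.leaf 6629) (ST.leaf 4259)) (ST.node (ST.leaf 4253) (ST.leaf 6627)))) (ST.node (ST.node (ST.node (ST.leaf 6625) (ST.leaf 4255)) (ST.node (ST.leaf 4257) (ST.leaf 6631))) (ST.node (ST.node (ST.leaf 6619) (ST.leaf 4241)) (ST.node (ST.leaf 2495) (ST.leaf 4249))))) [(4, 0x1a), (6, 0x65), (9, 0x1a6), (13, 0x4), (17, 0x108c), (22, 0x28), (24, 0x8000), (32, 0x10084), (35, 0xab), (36, 0x2f), (41, 0x26), (49, 0xf)],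
  C16.good 0xa82a512142209 [28, 39, 47, 51] (ST.node (ST.node (ST.node (ST.node (ST.leaf 7761) (ST.leaf 5203)) (ST.node (ST.leaf 3145) (ST.leaf 5211))) (ST.node (ST.node (ST.leaf 7771) (ST.leaf 5213)) (ST.node (ST.leaf 5219) (ST.leaf 7773)))) (ST.node (ST.node (ST.node (ST.leaf 7775) (ST.leaf 5217)) (ST.node (ST.leaf 5215) (ST.leaf 7769))) (ST.node (ST.node (ST.leaf 5209) (ST.leaf 3147)) (ST.node (ST.leaf 5201) (ST.leaf 7763))))) [(0, 0x7), (3, 0x78), (9, 0x336), (13, 0x66), (18, 0x2012), (20, 0x4262), (25, 0x62), (32, 0x10276), (34, 0x32), (37, 0x244), (41, 0x26), (49, 0x12)],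
  C16.good 0xa82aa882822a0 [31, 39, 47, 51] (ST.node (ST.node (ST.node (ST.node (ST.leaf 2269) (ST.leaf 3911)) (ST.node (ST.leaf 3905) (ST.leaf 2267))) (ST.node (ST.node (ST.leaf 1203) (ST.leaf 2261)) (ST.node (ST.leaf 3899) (ST.leaf 2253)))) (ST.node (ST.node (ST.node (ST.leaf 2255) (ST.leaf 3897)) (ST.node (ST.leaf 2263) (ST.leaf 1201))) (ST.node (ST.node (ST.leaf 2265) (ST.leaf 3907)) (ST.node (ST.leaf 3909) (ST.leaf 2271))))) [(5, 0x14f7), (7, 0x1488), (9, 0x3cd), (13, 0x44d), (19, 0x41e), (21, 0x1091), (27, 0x1492), (33, 0x14df), (35, 0x480), (37, 0x259), (41, 0x14cb), (49, 0xf)],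
  C16.bad 0xf000033566a00 0x26,
  C16.bad 0xf000033569500 0x26,
  C16.bad 0xf000033a96a00 0x26,
  C16.bad 0xf000033a99500 0x26,
  C16.bad 0xf0000cc566a00 0x6a6,
  C16.bad 0xf0000cc569500 0x2f,
  C16.bad 0xf0000cca96a00 0x7f,
  C16.bad 0xf0000cca99500 0x126,
  C16.bad 0xf003c00006a59 0x8000,
  C16.bad 0xf003c00006aa6 0x59,
  C16.bad 0xf003c00009559 0x7100,
  C16.bad 0xf003c000095a6 0x8000,
  C16.bad 0xf00c300006a59 0x26,
  C16.bad 0xf00c300006aa6 0x59,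
  C16.bad 0xf00c300009559 0x26,
  C16.bad 0xf00c3000095a6 0x800,
  C16.bad 0xf650033000059 0x26,
  C16.bad 0xf6500330000a6 0x100,
  C16.bad 0xf6500cc000059 0x126,
  C16.bad 0xf6500cc0000a6 0x159,
  C16.bad 0xf653c00560000 0x59]

set_option Elab.async false in
theorem c16_4_ok : c16_4.all (chkC16 ent 16240 pbsD colsD) = true := by decide +kernel

end Cfsg.Agent.Helper2.RuL
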