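import Cfsg.Agent.Helper2.RuL.Chk4
import Cfsg.Agent.Helper2.RuL.Tab

/-! Certificates for the weight-16 words of the parity code, chunk 5 (helper2; generated). -/

set_option autoImplicit false
set_option maxRecDepth 100000

namespace Cfsg.Agent.Helper2.RuL

open Cfsg.Agent.Helper5.RuLat

def c16_5 : List C16 := [
  C16.bad 0xf653c00a90000 0x8000,
  C16.bad 0xf65c300560000 0x26,
  C16.bad 0xf65c300a90000 0x26,
  C16.bad 0xf9a0033000059 0x6a6,
  C16.bad 0xf9a00330000a6 0x859,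
  C16.bad 0xf9a00cc000059 0x126,
  C16.bad 0xf9a00cc0000a6 0x689,
  C16.bad 0xf9a3c00560000 0x8000,
  C16.bad 0xf9a3c00a90000 0x7f,
  C16.bad 0xf9ac300560000 0x7f,
  C16.bad 0xf9ac300a90000 0x126,
  C16.good 0x110605415a2128 [30, 34, 42, 52] (ST.node (ST.node (ST.node (ST.node (ST.leaf 10382) (ST.leaf 10368)) (ST.node (ST.leaf 12650) (ST.leaf 10384))) (ST.node (ST.node (ST.leaf 10372) (ST.leaf 10366)) (ST.node (ST.leaf 10376) (ST.leaf 7794)))) (ST.node (ST.node (ST.node (ST.leaf 7792) (ST.leaf 10378)) (ST.node (ST.leaf 10364) (ST.leaf 10374))) (ST.node (ST.node (ST.leaf 10386) (ST.leaf 12648)) (ST.node (ST.leaf 10370) (ST.leaf 10380))))) [(3, 0xf), (5, 0x65), (8, 0xc1), (13, 0x41), (17, 0x1007), (19, 0x45), (20, 0x4001), (22, 0x42), (24, 0x8000), (32, 0x10000), (41, 0x43), (48, 0x40000)],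
  C16.good 0x11060541a52128 [30, 34, 42, 52] (ST.node (ST.node (ST.node (ST.node (ST.leaf 10527) (ST.leaf 10513)) (ST.node (ST.leaf 12775) (ST.leaf 10529))) (ST.node (ST.node (ST.leaf 10517) (ST.leaf 10511)) (ST.node (ST.leaf 10521) (ST.leaf 7943)))) (ST.node (ST.node (ST.node (ST.leaf 7941) (ST.leaf 10523)) (ST.node (ST.leaf 10509) (ST.leaf 10519))) (ST.node (ST.node (ST.leaf 10531) (ST.leaf 12773)) (ST.node (ST.leaf 10515) (ST.leaf 10525))))) [(3, 0xf), (5, 0x65), (8, 0xc6), (13, 0x46), (16, 0x844), (18, 0x2042), (21, 0x45), (23, 0x42), (24, 0x8000), (32, 0x10000), (41, 0x43), (48, 0x40000)],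
  C16.good 0x11060a24662181 [29, 35, 42, 52] (ST.node (ST.node (ST.node (ST.node (ST.leaf 10832) (ST.leaf 10842)) (ST.node (ST.leaf 8276) (ST.leaf 10846))) (ST.node (ST.node (ST.leaf 10838) (ST.leaf 10848)) (ST.node (ST.leaf 10854) (ST.leaf 13052)))) (ST.node (ST.node (ST.node (ST.leaf 13054) (ST.leaf 10852)) (ST.node (ST.leaf 10850) (ST.leaf 10836))) (ST.node (ST.node (ST.leaf 10844) (ST.leaf 8278)) (ST.node (ST.leaf 10840) (ST.leaf 10834))))) [(0, 0x65), (7, 0x1a), (8, 0x9e), (13, 0x13c), (17, 0x1078), (18, 0x2028), (21, 0x118), (22, 0x160), (26, 0x6a), (33, 0x148), (41, 0x56), (48, 0x40000)],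
  C16.good 0x11060a24992181 [29, 35, 42, 52] (ST.node (ST.node (ST.node (ST.node (ST.leaf 10703) (ST.leaf 8129)) (ST.node (ST.leaf 10699) (ST.leaf 10689))) (ST.node (ST.node (ST.leaf 12929) (ST.leaf 10711)) (ST.node (ST.leaf 10705) (ST.leaf 10695)))) (ST.node (ST.node (ST.node (ST.leaf 10693) (ST.leaf 10707)) (ST.node (ST.leaf 10709) (ST.leaf 12931))) (ST.node (ST.node (ST.leaf 10691) (ST.leaf 10697)) (ST.node (ST.leaf 8131) (ST.leaf 10701))))) [(0, 0x65), (7, 0x1a), (8, 0xe6), (13, 0x13c), (16, 0x82e), (19, 0x160), (20, 0x407e), (23, 0x118), (26, 0x6a), (33, 0x130), (41, 0x56), (48, 0x40000)],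
  C16.good 0x11066082692142 [31, 38, 42, 52] (ST.node (ST.node (ST.node (ST.node (ST.leaf 12017) (ST.leaf 12007)) (ST.node (ST.leaf 13985) (ST.leaf 12023))) (ST.node (ST.node (ST.leaf 12011) (ST.leaf 12001)) (ST.node (ST.leaf 12015) (ST.leaf 9633)))) (ST.node (ST.node (ST.node (ST.leaf 9635) (ST.leaf 12013)) (ST.node (ST.leaf 12003) (ST.leaf 12009))) (ST.node (ST.node (ST.leaf 12021) (ST.leaf 13987)) (ST.node (ST.leaf 12005) (ST.leaf 12019))))) [(1, 0x1007), (6, 0x106d), (8, 0x1388), (13, 0x1308), (16, 0x1a28), (19, 0x304), (21, 0x324), (22, 0x1020), (25, 0x1008), (37, 0x229), (41, 0x1021), (48, 0x40000)],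
  C16.good 0x11066082962142 [31, 38, 42, 52] (ST.node (ST.node (ST.node (ST.node (ST.leaf 9488) (ST.leaf 11890)) (ST.node (ST.leaf 11876) (ST.leaf 11886))) (ST.node (ST.node (ST.leaf 11898) (ST.leaf 13888)) (ST.node (ST.leaf 11882) (ST.leaf 11892)))) (ST.node (ST.node (ST.node (ST.leaf 11894) (ST.leaf 11880)) (ST.node (ST.leaf 13890) (ST.leaf 11896))) (ST.node (ST.node (ST.leaf 11884) (ST.leaf 11878)) (ST.node (ST.leaf 11888) (ST.leaf 9490))))) [(1, 0x303), (6, 0x349), (8, 0x8c), (13, 0xc), (17, 0x1000), (18, 0x2304), (20, 0x4208), (23, 0x304), (25, 0x30c), (37, 0x209), (41, 0x305), (48, 0x40000)],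
  C16.good 0x11069018552114 [28, 39, 42, 52] (ST.node (ST.node (ST.node (ST.node (ST.leaf 6816) (ST.leaf 6810)) (ST.node (ST.leaf 6820) (ST.leaf 4426))) (ST.node (ST.node (ST.leaf 6826) (ST.leaf 6812)) (ST.node (ST.leaf 9422) (ST.leaf 6828)))) (ST.node (ST.node (ST.node (ST.leaf 6830) (ST.leaf 9420)) (ST.node (ST.leaf 6814) (ST.leaf 6824))) (ST.node (ST.node (ST.leaf 4424) (ST.leaf 6822)) (ST.node (ST.leaf 6808) (ST.leaf 6818))))) [(2, 0xf), (4, 0x70), (8, 0xc1), (13, 0xb), (16, 0x863), (18, 0x2008), (20, 0x406b), (22, 0x28), (27, 0x6a), (36, 0x20), (41, 0x43), (48, 0x40000)],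
  C16.good 0x11069018aa2114 [28, 39, 42, 52] (ST.node (ST.node (ST.node (ST.node (ST.leaf 6679) (ST.leaf 6665)) (ST.node (ST.leaf 9279) (ST.leaf 6681))) (ST.node (ST.node (ST.leaf 6669) (ST.leaf 6663)) (ST.node (ST.leaf 6673) (ST.leaf 4303)))) (ST.node (ST.node (ST.node (ST.leaf 4301) (ST.leaf 6675)) (ST.node (ST.leaf 6661) (ST.leaf 6671))) (ST.node (ST.node (ST.leaf 6683) (ST.leaf 9277)) (ST.node (ST.leaf 6667) (ST.leaf 6677))))) [(2, 0xf), (4, 0x70), (8, 0x1c3), (13, 0x300), (17, 0x1209), (19, 0x323), (21, 0x12a), (23, 0x28), (27, 0x6a), (36, 0x229), (41, 0x43), (48, 0x40000)],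
  C16.good 0x11090541698842 [30, 34, 43, 52] (ST.node (ST.node (ST.node (ST.node (ST.leaf 12263) (ST.leaf 9921)) (ST.node (ST.leaf 12259) (ST.leaf 12249))) (ST.node (ST.node (ST.leaf 14177) (ST.leaf 12271)) (ST.node (ST.leaf 12265) (ST.leaf 12255)))) (ST.node (ST.node (ST.node (ST.leaf 12253) (ST.leaf 12267)) (ST.node (ST.leaf 12269) (ST.leaf 14179))) (ST.node (ST.node (ST.leaf 12251) (ST.leaf 12257)) (ST.node (ST.leaf 9923) (ST.leaf 12261))))) [(1, 0xf), (6, 0x4c), (11, 0x100), (15, 0x180), (16, 0x909), (19, 0x104), (21, 0xd), (22, 0x81), (24, 0x8000), (32, 0x10000), (40, 0x20000), (48, 0x40000)],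
  C16.good 0x11090541968842 [30, 34, 43, 52] (ST.node (ST.node (ST.node (ST.node (ST.leaf 12134) (ST.leaf 12124)) (ST.node (ST.leaf 12138) (ST.leaf 9776))) (ST.node (ST.node (ST.leaf 12140) (ST.leaf 12130)) (ST.node (ST.leaf 14080) (ST.leaf 12146)))) (ST.node (ST.node (ST.node (ST.leaf 12144) (ST.leaf 14082)) (ST.node (ST.leaf 12128) (ST.leaf 12142))) (ST.node (ST.node (ST.leaf 9778) (ST.leaf 12136)) (ST.node (ST.leaf 12126) (ST.leaf 12132))))) [(1, 0xf), (6, 0x4c), (11, 0x9), (15, 0x5), (17, 0x1000), (18, 0x200d), (20, 0x400d), (23, 0xd), (24, 0x8000), (32, 0x10000), (40, 0x20000), (48, 0x40000)],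
  C16.good 0x11090a24558814 [29, 35, 43, 52] (ST.node (ST.node (ST.node (ST.node (ST.leaf 10286) (ST.leaf 7716)) (ST.node (ST.leaf 7714) (ST.leaf 7700))) (ST.node (ST.node (ST.leaf 7708) (ST.leaf 5170)) (ST.node (ST.leaf 7704) (ST.leaf 7698)))) (ST.node (ST.node (ST.node (ST.leaf 7696) (ST.leaf 7706)) (ST.node (ST.leaf 5168) (ST.leaf 7710))) (ST.node (ST.node (ST.leaf 7702) (ST.leaf 7712)) (ST.node (ST.leaf 7718) (ST.leaf 10284))))) [(2, 0xd), (4, 0x1a), (11, 0x102), (15, 0x89), (16, 0x800), (18, 0x218a), (20, 0x418a), (22, 0x83), (26, 0x2), (33, 0x109), (40, 0x20000), (48, 0x40000)],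
  C16.good 0x11090a24aa8814 [29, 35, 43, 52] (ST.node (ST.node (ST.node (ST.node (ST.leaf 7569) (ST.leaf 10143)) (ST.node (ST.leaf 7553) (ST.leaf 7567))) (ST.node (ST.node (ST.leaf 5047) (ST.leaf 7561)) (ST.node (ST.leaf 7551) (ST.leaf 7557)))) (ST.node (ST.node (ST.node (ST.leaf 7559) (ST.leaf 7549)) (ST.node (ST.leaf 7563) (ST.leaf 5045))) (ST.node (ST.node (ST.leaf 7565) (ST.leaf 7555)) (ST.node (ST.leaf 10141) (ST.leaf 7571))))) [(2, 0x4c), (4, 0x1a), (11, 0x143), (15, 0x343), (17, 0x13ca), (19, 0x349), (21, 0x83), (23, 0xc2), (26, 0x43), (33, 0x2c3), (40, 0x20000), (48, 0x40000)],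
  C16.good 0x110960825a8828 [31, 38, 43, 52] (ST.node (ST.node (ST.node (ST.node (ST.leaf 8944) (ST.leaf 11410)) (ST.node (ST.leaf 8928) (ST.leaf 8942))) (ST.node (ST.node (ST.leaf 6314) (ST.leaf 8936)) (ST.node (ST.leaf 8926) (ST.leaf 8932)))) (ST.node (ST.node (ST.node (ST.leaf 8934) (ST.leaf 8924)) (ST.node (ST.leaf 8938) (ST.leaf 6312))) (ST.node (ST.node (ST.leaf 8940) (ST.leaf 8930)) (ST.node (ST.leaf 11408) (ST.leaf 8946))))) [(3, 0xd), (5, 0x26), (11, 0x382), (15, 0x302), (17, 0x1305), (19, 0x384), (20, 0x4203), (22, 0x81), (25, 0x2), (37, 0x282), (40, 0x20000), (48, 0x40000)],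
  C16.good 0x11096082a58828 [31, 38, 43, 52] (ST.node (ST.node (ST.node (ST.node (ST.leaf 9079) (ST.leaf 9069)) (ST.node (ST.leaf 9083) (ST.leaf 6461))) (ST.node (ST.node (ST.leaf 9085) (ST.leaf 9075)) (ST.node (ST.leaf 11533) (ST.leaf 9091)))) (ST.node (ST.node (ST.node (ST.leaf 9089) (ST.leaf 11535)) (ST.node (ST.leaf 9073) (ST.leaf 9087))) (ST.node (ST.node (ST.leaf 6463) (ST.leaf 9081)) (ST.node (ST.leaf 9071) (ST.leaf 9077))))) [(3, 0x4c), (5, 0x26), (11, 0xc6), (15, 0x46), (16, 0x987), (18, 0x2081), (21, 0xc0), (23, 0x81), (25, 0x43), (37, 0x1c6), (40, 0x20000), (48, 0x40000)],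
  C16.good 0x11099018668881 [28, 39, 43, 52] (ST.node (ST.node (ST.node (ST.node (ST.leaf 13178) (ST.leaf 10996)) (ST.node (ST.leaf 10994) (ST.leaf 10980))) (ST.node (ST.node (ST.leaf 10988) (ST.leaf 8426)) (ST.node (ST.leaf 10984) (ST.leaf 10978)))) (ST.node (ST.node (ST.node (ST.leaf 10976) (ST.leaf 10986)) (ST.node (ST.leaf 8424) (ST.leaf 10990))) (ST.node (ST.node (ST.leaf 10982) (ST.leaf 10992)) (ST.node (ST.leaf 10998) (ST.leaf 13176))))) [(0, 0xf), (7, 0x4c), (11, 0x48), (15, 0x180), (17, 0x10da), (18, 0x20c2), (21, 0x106), (22, 0x1dc), (27, 0x56), (36, 0x11e), (40, 0x20000), (48, 0x40000)],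
  C16.good 0x11099018998881 [28, 39, 43, 52] (ST.node (ST.node (ST.node (ST.node (ST.leaf 6207) (ST.leaf 8829)) (ST.node (ST.leaf 8819) (ST.leaf 8825))) (ST.node (ST.node (ST.leaf 8837) (ST.leaf 11319)) (ST.node (ST.leaf 8821) (ST.leaf 8835)))) (ST.node (ST.node (ST.node (ST.leaf 8833) (ST.leaf 8823)) (ST.node (ST.leaf 11317) (ST.leaf 8839))) (ST.node (ST.node (ST.leaf 8827) (ST.leaf 8817)) (ST.node (ST.leaf 8831) (ST.leaf 6205))))) [(0, 0xf), (7, 0x4c), (11, 0x45a), (15, 0x15a), (16, 0x91e), (19, 0x106), (20, 0x4514), (23, 0x514), (27, 0x56), (36, 0x50c), (40, 0x20000), (48, 0x40000)],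
  C16.good 0x11500541554414 [30, 34, 46, 52] (ST.node (ST.node (ST.node (ST.node (ST.leaf 6218) (ST.leaf 6224)) (ST.node (ST.leaf 3930) (ST.leaf 6228))) (ST.node (ST.node (ST.leaf 6220) (ST.leaf 6234)) (ST.node (ST.leaf 6236) (ST.leaf 8846)))) (ST.node (ST.node (ST.node (ST.leaf 8844) (ST.leaf 6238)) (ST.node (ST.leaf 6232) (ST.leaf 6222))) (ST.node (ST.node (ST.leaf 6230) (ST.leaf 3928)) (ST.node (ST.leaf 6226) (ST.leaf 6216))))) [(2, 0x47), (4, 0x11), (10, 0x241), (14, 0x41), (16, 0x843), (18, 0x2001), (20, 0x4001), (22, 0x42), (24, 0x8000), (32, 0x10000), (44, 0x43), (48, 0x40000)],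
  C16.good 0x11500541aa4414 [30, 34, 46, 52] (ST.node (ST.node (ST.node (ST.node (ST.leaf 8449) (ST.leaf 5791)) (ST.node (ST.leaf 8445) (ST.leaf 8439))) (ST.node (ST.node (ST.leaf 11007) (ST.leaf 8457)) (ST.node (ST.leaf 8455) (ST.leaf 8441)))) (ST.node (ST.node (ST.node (ST.leaf 8443) (ST.leaf 8453)) (ST.node (ST.leaf 8459) (ST.leaf 11005))) (ST.node (ST.node (ST.leaf 8437) (ST.leaf 8447)) (ST.node (ST.leaf 5789) (ST.leaf 8451))))) [(2, 0x4c), (4, 0x1a), (10, 0x343), (14, 0x143), (17, 0x114a), (19, 0x49), (21, 0x140), (23, 0x42), (24, 0x8000), (32, 0x10000), (44, 0x43), (48, 0x40000)],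
  C16.good 0x11500a24694442 [29, 35, 46, 52] (ST.node (ST.node (ST.node (ST.node (ST.leaf 11403) (ST.leaf 13505)) (ST.node (ST.leaf 11387) (ST.leaf 11397))) (ST.node (ST.node (ST.leaf 8913) (ST.leaf 11395)) (ST.node (ST.leaf 11381) (ST.leaf 11391)))) (ST.node (ST.node (ST.node (ST.leaf 11389) (ST.leaf 11383)) (ST.node (ST.leaf 11393) (ST.leaf 8915))) (ST.node (ST.node (ST.leaf 11399) (ST.leaf 11385)) (ST.node (ST.leaf 13507) (ST.leaf 11401))))) [(1, 0x1a), (6, 0x4c), (10, 0x315), (14, 0x115), (16, 0x8989), (19, 0x84), (21, 0x118), (22, 0x8081), (26, 0x8000), (33, 0x95), (44, 0x8015), (48, 0x40000)],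
  C16.good 0x11500a24964442 [29, 35, 46, 52] (ST.node (ST.node (ST.node (ST.node (ST.leaf 13602) (ST.leaf 11524)) (ST.node (ST.leaf 11522) (ST.leaf 11508))) (ST.node (ST.node (ST.leaf 11516) (ST.leaf 9058)) (ST.node (ST.leaf 11512) (ST.leaf 11506)))) (ST.node (ST.node (ST.node (ST.leaf 11504) (ST.leaf 11514)) (ST.node (ST.leaf 9056) (ST.leaf 11518))) (ST.node (ST.node (ST.leaf 11510) (ST.leaf 11520)) (ST.node (ST.leaf 11526) (ST.leaf 13600))))) [(1, 0x1a), (6, 0x4c), (10, 0x289), (14, 0x89), (17, 0x1010), (18, 0x2001), (20, 0x4001), (23, 0x84), (26, 0x5), (33, 0x95), (44, 0x10), (48, 0x40000)],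
  C16.good 0x11506082664481 [31, 38, 46, 52] (ST.node (ST.node (ST.node (ST.node (ST.leaf 10112) (ST.leaf 10122)) (ST.node (ST.leaf 7536) (ST.leaf 10126))) (ST.node (ST.node (ST.leaf 10118) (ST.leaf 10128)) (ST.node (ST.leaf 10134) (ST.leaf 12432)))) (ST.node (ST.node (ST.node (ST.leaf 12434) (ST.leaf 10132)) (ST.node (ST.leaf 10130) (ST.leaf 10116))) (ST.node (ST.node (ST.leaf 10124) (ST.leaf 7538)) (ST.node (ST.leaf 10120) (ST.leaf 10114))))) [(0, 0x33), (7, 0x38), (10, 0x33c), (14, 0x422), (17, 0x142e), (18, 0x200a), (21, 0x424), (22, 0x14), (25, 0x22), (37, 0x53c), (44, 0x1e), (48, 0x40000)],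
  C16.good 0x11506082994481 [31, 38, 46, 52] (ST.node (ST.node (ST.node (ST.node (ST.leaf 12557) (ST.leaf 10279)) (ST.node (ST.leaf 10273) (ST.leaf 10263))) (ST.node (ST.node (ST.leaf 10271) (ST.leaf 7685)) (ST.node (ST.leaf 10267) (ST.leaf 10257)))) (ST.node (ST.node (ST.node (ST.leaf 10259) (ST.leaf 10265)) (ST.node (ST.leaf 7687) (ST.leaf 10269))) (ST.node (ST.node (ST.leaf 10261) (ST.leaf 10275)) (ST.node (ST.leaf 10277) (ST.leaf 12559))))) [(0, 0x33), (7, 0x4c), (10, 0x33c), (14, 0x66), (16, 0x912), (19, 0x60), (20, 0x4172), (23, 0x14), (25, 0x56), (37, 0x10c), (44, 0x6a), (48, 0x40000)],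
  C16.good 0x115090185a4428 [28, 39, 46, 52] (ST.node (ST.node (ST.node (ST.node (ST.leaf 9942) (ST.leaf 9932)) (ST.node (ST.leaf 9946) (ST.leaf 7348))) (ST.node (ST.node (ST.leaf 9948) (ST.leaf 9938)) (ST.node (ST.leaf 12276) (ST.leaf 9954)))) (ST.node (ST.node (ST.node (ST.leaf 9952) (ST.leaf 12278)) (ST.node (ST.leaf 9936) (ST.leaf 9950))) (ST.node (ST.node (ST.leaf 7350) (ST.leaf 9944)) (ST.node (ST.leaf 9934) (ST.leaf 9940))))) [(3, 0x4c), (5, 0x33), (10, 0x241), (14, 0x82), (17, 0x1010), (19, 0x47), (20, 0x4057), (22, 0x14), (27, 0x56), (36, 0x95), (44, 0x43), (48, 0x40000)],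
  C16.good 0x11509018a54428 [28, 39, 46, 52] (ST.node (ST.node (ST.node (ST.node (ST.leaf 9805) (ST.leaf 9795)) (ST.node (ST.leaf 12153) (ST.leaf 9811))) (ST.node (ST.node (ST.leaf 9799) (ST.leaf 9789)) (ST.node (ST.leaf 9803) (ST.leaf 7201)))) (ST.node (ST.node (ST.node (ST.leaf 7203) (ST.leaf 9801)) (ST.node (ST.leaf 9791) (ST.leaf 9797))) (ST.node (ST.node (ST.leaf 9809) (ST.leaf 12155)) (ST.node (ST.leaf 9793) (ST.leaf 9807))))) [(3, 0x1f), (5, 0x33), (10, 0x310), (14, 0x180), (16, 0x987), (18, 0x2091), (21, 0x116), (23, 0x14), (27, 0x5), (36, 0x95), (44, 0x10), (48, 0x40000)],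
  C16.good 0x11a00541661281 [30, 34, 47, 52] (ST.node (ST.node (ST.node (ST.node (ST.leaf 9254) (ST.leaf 9264)) (ST.node (ST.leaf 9270) (ST.leaf 11688))) (ST.node (ST.node (ST.leaf 9248) (ST.leaf 9258)) (ST.node (ST.leaf 6648) (ST.leaf 9262)))) (ST.node (ST.node (ST.node (ST.leaf 9260) (ST.leaf 6650)) (ST.node (ST.leaf 9256) (ST.leaf 9250))) (ST.node (ST.node (ST.leaf 11690) (ST.leaf 9268)) (ST.node (ST.leaf 9266) (ST.leaf 9252))))) [(0, 0x47), (7, 0x4), (9, 0x100), (12, 0x400), (17, 0x1044), (18, 0x2042), (21, 0x6), (22, 0xa), (24, 0x8000), (32, 0x10000), (45, 0x48), (48, 0x40000)],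
  C16.good 0x11a00541991281 [30, 34, 47, 52] (ST.node (ST.node (ST.node (ST.node (ST.leaf 9415) (ST.leaf 11813)) (ST.node (ST.leaf 9399) (ST.leaf 9409))) (ST.node (ST.node (ST.leaf 6797) (ST.leaf 9407)) (ST.node (ST.leaf 9393) (ST.leaf 9403)))) (ST.node (ST.node (ST.node (ST.leaf 9401) (ST.leaf 9395)) (ST.node (ST.leaf 9405) (ST.leaf 6799))) (ST.node (ST.node (ST.leaf 9411) (ST.leaf 9397)) (ST.node (ST.leaf 11815) (ST.leaf 9413))))) [(0, 0x55), (7, 0x16), (9, 0x100), (12, 0x400), (16, 0x812), (19, 0x6), (20, 0x4014), (23, 0x14), (24, 0x8000), (32, 0x10000), (45, 0x56), (48, 0x40000)],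
  C16.good 0x11a00a245a1228 [29, 35, 47, 52] (ST.node (ST.node (ST.node (ST.node (ST.leaf 9644) (ST.leaf 9654)) (ST.node (ST.leaf 7052) (ST.leaf 9658))) (ST.node (ST.node (ST.leaf 9650) (ST.leaf 9660)) (ST.node (ST.leaf 9666) (ST.leaf 12028)))) (ST.node (ST.node (ST.node (ST.leaf 12030) (ST.leaf 9664)) (ST.node (ST.leaf 9662) (ST.leaf 9648))) (ST.node (ST.node (ST.leaf 9656) (ST.leaf 7054)) (ST.node (ST.leaf 9652) (ST.leaf 9646))))) [(3, 0x1a), (5, 0x24), (9, 0x102), (12, 0x495), (17, 0x1007), (19, 0x93), (20, 0x4016), (22, 0x83), (26, 0x2), (33, 0x95), (45, 0x17), (48, 0x40000)],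
  C16.good 0x11a00a24a51228 [29, 35, 47, 52] (ST.node (ST.node (ST.node (ST.node (ST.leaf 9511) (ST.leaf 9501)) (ST.node (ST.leaf 9515) (ST.leaf 6905))) (ST.node (ST.node (ST.leaf 9517) (ST.leaf 9507)) (ST.node (ST.leaf 11905) (ST.leaf 9523)))) (ST.node (ST.node (ST.node (ST.leaf 9521) (ST.leaf 11907)) (ST.node (ST.leaf 9505) (ST.leaf 9519))) (ST.node (ST.node (ST.leaf 6907) (ST.leaf 9513)) (ST.node (ST.leaf 9503) (ST.leaf 9509))))) [(3, 0xa), (5, 0x65), (9, 0x143), (12, 0x485), (16, 0x841), (18, 0x2001), (21, 0x83), (23, 0xc2), (26, 0x43), (33, 0x85), (45, 0x46), (48, 0x40000)],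
  C16.good 0x11a06082551214 [31, 38, 47, 52] (ST.node (ST.node (ST.node (ST.node (ST.leaf 8162) (ST.leaf 10716)) (ST.node (ST.leaf 8146) (ST.leaf 8156))) (ST.node (ST.node (ST.leaf 5540) (ST.leaf 8154)) (ST.node (ST.leaf 8140) (ST.leaf 8150)))) (ST.node (ST.node (ST.node (ST.leaf 8148) (ST.leaf 8142)) (ST.node (ST.leaf 8152) (ST.leaf 5542))) (ST.node (ST.node (ST.leaf 8158) (ST.leaf 8144)) (ST.node (ST.leaf 10718) (ST.leaf 8160))))) [(2, 0x6), (4, 0x18), (9, 0x309), (12, 0x402), (16, 0xa09), (18, 0x2001), (20, 0x4203), (22, 0xa), (25, 0x2), (37, 0x209), (45, 0xb), (48, 0x40000)],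
  C16.good 0x11a06082aa1214 [31, 38, 47, 52] (ST.node (ST.node (ST.node (ST.node (ST.leaf 8303) (ST.leaf 5665)) (ST.node (ST.leaf 8299) (ST.leaf 8289))) (ST.node (ST.node (ST.leaf 10861) (ST.leaf 8311)) (ST.node (ST.leaf 8305) (ST.leaf 8295)))) (ST.node (ST.node (ST.node (ST.leaf 8293) (ST.leaf 8307)) (ST.node (ST.leaf 8309) (ST.leaf 10863))) (ST.node (ST.node (ST.leaf 8291) (ST.leaf 8297)) (ST.node (ST.leaf 5667) (ST.leaf 8301))))) [(2, 0x26), (4, 0x59), (9, 0x329), (12, 0x443), (17, 0x104a), (19, 0xa), (21, 0x2a), (23, 0x6b), (25, 0x43), (37, 0x229), (45, 0x6a), (48, 0x40000)],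
  C16.good 0x11a09018691242 [28, 39, 47, 52] (ST.node (ST.node (ST.node (ST.node (ST.leaf 10353) (ST.leaf 12635)) (ST.node (ST.leaf 12621) (ST.leaf 12631))) (ST.node (ST.node (ST.leaf 12643) (ST.leaf 14465)) (ST.node (ST.leaf 12627) (ST.leaf 12637)))) (ST.node (ST.node (ST.node (ST.leaf 12639) (ST.leaf 12625)) (ST.node (ST.leaf 14467) (ST.leaf 12641))) (ST.node (ST.node (ST.leaf 12629) (ST.leaf 12623)) (ST.node (ST.leaf 12633) (ST.leaf 10355))))) [(1, 0x1092), (6, 0x10d1), (9, 0x111d), (12, 0x141d), (16, 0x81c), (19, 0x4), (21, 0x8d), (22, 0x14), (27, 0x1088), (36, 0x95), (45, 0x109d), (48, 0x40000)],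
  C16.good 0x11a09018961242 [28, 39, 47, 52] (ST.node (ST.node (ST.node (ST.node (ST.leaf 12750) (ST.leaf 12760)) (ST.node (ST.leaf 12766) (ST.leaf 14560))) (ST.node (ST.node (ST.leaf 12744) (ST.leaf 12754)) (ST.node (ST.leaf 10496) (ST.leaf 12758)))) (ST.node (ST.node (ST.node (ST.leaf 12756) (ST.leaf 10498)) (ST.node (ST.leaf 12752) (ST.leaf 12746))) (ST.node (ST.node (ST.leaf 14562) (ST.leaf 12764)) (ST.node (ST.leaf 12762) (ST.leaf 12748))))) [(1, 0x800a), (6, 0x8049), (9, 0x810c), (12, 0x840c), (17, 0x9005), (18, 0xa00d), (20, 0x4004), (23, 0x4), (27, 0x8000), (36, 0xc), (45, 0x8005), (48, 0x40000)],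
  C16.good 0x121411a0608255 [31, 36, 44, 52] (ST.node (ST.node (ST.node (ST.node (ST.leaf 12978) (ST.leaf 72)) (ST.node (ST.leaf 12974) (ST.leaf 12964))) (ST.node (ST.node (ST.leaf 12960) (ST.leaf 362)) (ST.node (ST.leaf 12980) (ST.leaf 12970)))) (ST.node (ST.node (ST.node (ST.leaf 12968) (ST.leaf 12982)) (ST.node (ST.leaf 360) (ST.leaf 12962))) (ST.node (ST.node (ST.leaf 12966) (ST.leaf 12972)) (ST.node (ST.leaf 74) (ST.leaf 12976))))) [(0, 0xaab), (2, 0x26), (4, 0x29a), (6, 0x868), (9, 0x100), (15, 0xa2), (21, 0x800), (22, 0x228), (29, 0x22), (32, 0x10000), (42, 0x2a2), (49, 0x820)],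
  C16.good 0x121411a06082aa [31, 36, 44, 52] (ST.node (ST.node (ST.node (ST.node (ST.leaf 379) (ST.leaf 13085)) (ST.node (ST.leaf 13095) (ST.leaf 13105))) (ST.node (ST.node (ST.leaf 77) (ST.leaf 13103)) (ST.node (ST.leaf 13089) (ST.leaf 13099)))) (ST.node (ST.node (ST.node (ST.leaf 13097) (ST.leaf 13091)) (ST.node (ST.leaf 13101) (ST.leaf 79))) (ST.node (ST.node (ST.leaf 13107) (ST.leaf 13093)) (ST.node (ST.leaf 13087) (ST.leaf 377))))) [(1, 0x4c7), (3, 0x59), (5, 0x2e5), (7, 0x604), (9, 0x100), (15, 0x680), (21, 0x4d0), (22, 0x94), (29, 0x600), (32, 0x10000), (42, 0x480), (49, 0x11)],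
  C16.good 0x121422090a825a [27, 37, 44, 52] (ST.node (ST.node (ST.node (ST.node (ST.leaf 14604) (ST.leaf 14598)) (ST.node (ST.leaf 14608) (ST.leaf 338))) (ST.node (ST.node (ST.leaf 14614) (ST.leaf 14600)) (ST.node (ST.leaf 14594) (ST.leaf 884)))) (ST.node (ST.node (ST.node (ST.leaf 886) (ST.leaf 14592)) (ST.node (ST.leaf 14602) (ST.leaf 14612))) (ST.node (ST.node (ST.leaf 336) (ST.leaf 14610)) (ST.node (ST.leaf 14596) (ST.leaf 14606))))) [(1, 0x26), (3, 0x428), (4, 0x31), (6, 0x440), (9, 0x100), (15, 0x625), (17, 0x1205), (19, 0x604), (24, 0x8000), (33, 0x600), (42, 0x425), (49, 0x24)],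
  C16.good 0x121422090a82a5 [27, 37, 44, 52] (ST.node (ST.node (ST.node (ST.node (ST.leaf 321) (ST.leaf 14515)) (ST.node (ST.leaf 14501) (ST.leaf 14511))) (ST.node (ST.node (ST.leaf 855) (ST.leaf 14497)) (ST.node (ST.leaf 14507) (ST.leaf 14517)))) (ST.node (ST.node (ST.node (ST.leaf 14519) (ST.leaf 14505)) (ST.node (ST.leaf 14499) (ST.leaf 853))) (ST.node (ST.node (ST.leaf 14509) (ST.leaf 14503)) (ST.node (ST.leaf 14513) (ST.leaf 323))))) [(0, 0x59), (2, 0x4e), (5, 0x428), (7, 0x440), (9, 0x100), (15, 0x65a), (17, 0x1212), (19, 0x20a), (24, 0x8000), (33, 0x600), (42, 0x45a), (49, 0x442)],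
  C16.good 0x12144850058266 [30, 38, 44, 52] (ST.node (ST.node (ST.node (ST.node (ST.leaf 182) (ST.leaf 13672)) (ST.node (ST.leaf 13662) (ST.leaf 13668))) (ST.node (ST.node (ST.leaf 572) (ST.leaf 13658)) (ST.node (ST.leaf 13664) (ST.leaf 13678)))) (ST.node (ST.node (ST.node (ST.leaf 13676) (ST.leaf 13666)) (ST.node (ST.leaf 13656) (ST.leaf 574))) (ST.node (ST.node (ST.leaf 13670) (ST.leaf 13660)) (ST.node (ST.leaf 13674) (ST.leaf 180))))) [(1, 0x40a), (2, 0x4), (5, 0x428), (6, 0x59), (9, 0x589), (15, 0x10), (16, 0xc89), (18, 0x2081), (28, 0x419), (35, 0x489), (42, 0x410), (49, 0x408)],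
  C16.good 0x12144850058299 [30, 38, 44, 52] (ST.node (ST.node (ST.node (ST.node (ST.leaf 13573) (ST.leaf 13567)) (ST.node (ST.leaf 13577) (ST.leaf 167))) (ST.node (ST.node (ST.leaf 13583) (ST.leaf 13569)) (ST.node (ST.leaf 13563) (ST.leaf 541)))) (ST.node (ST.node (ST.node (ST.leaf 543) (ST.leaf 13561)) (ST.node (ST.leaf 13571) (ST.leaf 13581))) (ST.node (ST.node (ST.leaf 165) (ST.leaf 13579)) (ST.node (ST.leaf 13565) (ST.leaf 13575))))) [(0, 0x10083), (3, 0x40a), (4, 0x104d0), (7, 0x4), (9, 0x10100), (15, 0x104c4), (16, 0x10800), (18, 0x12006), (28, 0x444), (35, 0x10000), (42, 0x100c4), (49, 0x6)],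
  C16.good 0x12148406908269 [26, 39, 44, 52] (ST.node (ST.node (ST.node (ST.node (ST.leaf 15899) (ST.leaf 1933)) (ST.node (ST.leaf 15919) (ST.leaf 15905))) (ST.node (ST.node (ST.leaf 15913) (ST.leaf 979)) (ST.node (ST.leaf 15909) (ST.leaf 15903)))) (ST.node (ST.node (ST.node (ST.leaf 15901) (ST.leaf 15911)) (ST.node (ST.leaf 977) (ST.leaf 15915))) (ST.node (ST.node (ST.leaf 15907) (ST.leaf 15917)) (ST.node (ST.leaf 1935) (ST.leaf 15897))))) [(0, 0x613), (3, 0x29a), (5, 0x26), (6, 0x4d0), (9, 0x700), (15, 0x80), (20, 0x4284), (23, 0x694), (25, 0x690), (34, 0x600), (42, 0x410), (49, 0x606)],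
  C16.good 0x12148406908296 [26, 39, 44, 52] (ST.node (ST.node (ST.node (ST.node (ST.leaf 15064) (ST.leaf 15078)) (ST.node (ST.leaf 1152) (ST.leaf 15058))) (ST.node (ST.node (ST.leaf 15062) (ST.leaf 15068)) (ST.node (ST.leaf 498) (ST.leaf 15072)))) (ST.node (ST.node (ST.node (ST.leaf 15074) (ST.leaf 496)) (ST.node (ST.leaf 15070) (ST.leaf 15060))) (ST.node (ST.node (ST.leaf 15056) (ST.leaf 1154)) (ST.node (ST.leaf 15076) (ST.leaf 15066))))) [(1, 0x20cb), (2, 0x2e5), (4, 0x59), (7, 0x2208), (9, 0x389), (15, 0x80), (20, 0x6269), (23, 0xa1), (25, 0x2048), (34, 0x289), (42, 0x22c8), (49, 0x20a1)],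
  C16.good 0x122811a00a245a [31, 36, 45, 52] (ST.node (ST.node (ST.node (ST.node (ST.leaf 14018) (ST.leaf 692)) (ST.node (ST.leaf 14038) (ST.leaf 14024))) (ST.node (ST.node (ST.leaf 14032) (ST.leaf 242)) (ST.node (ST.leaf 14028) (ST.leaf 14022)))) (ST.node (ST.node (ST.node (ST.leaf 14020) (ST.leaf 14030)) (ST.node (ST.leaf 240) (ST.leaf 14034))) (ST.node (ST.node (ST.leaf 14026) (ST.leaf 14036)) (ST.node (ST.leaf 694) (ST.leaf 14016))))) [(1, 0x403), (3, 0x40d), (4, 0x131), (6, 0x140), (10, 0x200), (13, 0x525), (17, 0x1020), (19, 0x21), (29, 0x500), (32, 0x10000), (43, 0x425), (49, 0x424)],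
  C16.good 0x122811a00a24a5 [31, 36, 45, 52] (ST.node (ST.node (ST.node (ST.node (ST.leaf 13937) (ST.leaf 227)) (ST.node (ST.leaf 13933) (ST.leaf 13927))) (ST.node (ST.node (ST.leaf 13923) (ST.leaf 661)) (ST.node (ST.leaf 13943) (ST.leaf 13929)))) (ST.node (ST.node (ST.node (ST.leaf 13931) (ST.leaf 13941)) (ST.node (ST.leaf 663) (ST.leaf 13921))) (ST.node (ST.node (ST.leaf 13925) (ST.leaf 13935)) (ST.node (ST.leaf 225) (ST.leaf 13939))))) [(0, 0x403), (2, 0x14e), (5, 0x472), (7, 0x140), (10, 0x200), (13, 0x55a), (17, 0x1512), (19, 0x50), (29, 0x500), (32, 0x10000), (43, 0x45a), (49, 0x118)],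
  C16.good 0x12282209602455 [27, 37, 45, 52] (ST.node (ST.node (ST.node (ST.node (ST.leaf 34) (ST.leaf 11736)) (ST.node (ST.leaf 11726) (ST.leaf 11732))) (ST.node (ST.node (ST.leaf 200) (ST.leaf 11722)) (ST.node (ST.leaf 11728) (ST.leaf 11742)))) (ST.node (ST.node (ST.node (ST.leaf 11740) (ST.leaf 11730)) (ST.node (ST.leaf 11720) (ST.leaf 202))) (ST.node (ST.node (ST.leaf 11734) (ST.leaf 11724)) (ST.node (ST.leaf 11738) (ST.leaf 32))))) [(0, 0x92b), (2, 0x84), (4, 0xb8), (6, 0x968), (10, 0x200), (13, 0x1a2), (21, 0x8a2), (22, 0x1a8), (24, 0x8000), (33, 0x122), (43, 0xa2), (49, 0x902)],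
  C16.good 0x122822096024aa [27, 37, 45, 52] (ST.node (ST.node (ST.node (ST.node (ST.leaf 11849) (ST.leaf 11859)) (ST.node (ST.leaf 37) (ST.leaf 11863))) (ST.node (ST.node (ST.leaf 11855) (ST.leaf 11865)) (ST.node (ST.leaf 219) (ST.leaf 11845)))) (ST.node (ST.node (ST.node (ST.leaf 11847) (ST.leaf 217)) (ST.node (ST.leaf 11867) (ST.leaf 11853))) (ST.node (ST.node (ST.leaf 11861) (ST.leaf 39)) (ST.node (ST.leaf 11857) (ST.leaf 11851))))) [(1, 0xc7), (3, 0x4d9), (5, 0x4e5), (7, 0x84), (10, 0x200), (13, 0x580), (21, 0x550), (22, 0x194), (24, 0x8000), (33, 0x500), (43, 0x480), (49, 0x91)],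
  C16.good 0x12284850902469 [30, 38, 45, 52] (ST.node (ST.node (ST.node (ST.node (ST.leaf 819) (ST.leaf 15633)) (ST.node (ST.leaf 15623) (ST.leaf 15629))) (ST.node (ST.node (ST.leaf 1673) (ST.leaf 15619)) (ST.node (ST.leaf 15625) (ST.leaf 15639)))) (ST.node (ST.node (ST.node (ST.leaf 15637) (ST.leaf 15627)) (ST.node (ST.leaf 15617) (ST.leaf 1675))) (ST.node (ST.node (ST.leaf 15631) (ST.leaf 15621)) (ST.node (ST.leaf 15635) (ST.leaf 817))))) [(0, 0x1085), (3, 0x110c), (5, 0x1130), (6, 0x10c6), (10, 0x1296), (13, 0x1106), (20, 0x5012), (23, 0x1102), (28, 0x1096), (35, 0x110), (43, 0x1116), (49, 0x6)],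
  C16.good 0x12284850902496 [30, 38, 45, 52] (ST.node (ST.node (ST.node (ST.node (ST.leaf 15568) (ST.leaf 15582)) (ST.node (ST.leaf 1620) (ST.leaf 15562))) (ST.node (ST.node (ST.leaf 15566) (ST.leaf 15572)) (ST.node (ST.leaf 786) (ST.leaf 15576)))) (ST.node (ST.node (ST.node (ST.leaf 15578) (ST.leaf 784)) (ST.node (ST.leaf 15574) (ST.leaf 15564))) (ST.node (ST.node (ST.leaf 15560) (ST.leaf 1622)) (ST.node (ST.leaf 15580) (ST.leaf 15570))))) [(1, 0x14ea), (2, 0x1085), (4, 0x10b9), (7, 0x14a9), (10, 0x12e9), (13, 0x14e0), (20, 0x5441), (23, 0x10c8), (28, 0x10e9), (35, 0x489), (43, 0x10e0), (49, 0x469)],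
  C16.good 0x12288406052466 [26, 39, 45, 52] (ST.node (ST.node (ST.node (ST.node (ST.leaf 14252) (ST.leaf 14242)) (ST.node (ST.leaf 14232) (ST.leaf 766))) (ST.node (ST.node (ST.leaf 14246) (ST.leaf 14236)) (ST.node (ST.leaf 14250) (ST.leaf 276)))) (ST.node (ST.node (ST.node (ST.leaf 278) (ST.leaf 14248)) (ST.node (ST.leaf 14238) (ST.leaf 14244))) (ST.node (ST.node (ST.leaf 764) (ST.leaf 14234)) (ST.node (ST.leaf 14240) (ST.leaf 14254))))) [(1, 0x10013), (2, 0x10d), (5, 0x21), (6, 0x10140), (10, 0x310), (13, 0x19), (16, 0x919), (18, 0x2118), (25, 0x110), (34, 0x10000), (43, 0x10119), (49, 0x118)],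
  C16.good 0x12288406052499 [26, 39, 45, 52] (ST.node (ST.node (ST.node (ST.node (ST.leaf 14159) (ST.leaf 14145)) (ST.node (ST.leaf 14139) (ST.leaf 733))) (ST.node (ST.node (ST.leaf 14149) (ST.leaf 14143)) (ST.node (ST.leaf 14153) (ST.leaf 263)))) (ST.node (ST.node (ST.node (ST.leaf 261) (ST.leaf 14155)) (ST.node (ST.leaf 14141) (ST.leaf 14151))) (ST.node (ST.node (ST.leaf 735) (ST.leaf 14137)) (ST.node (ST.leaf 14147) (ST.leaf 14157))))) [(0, 0x21), (3, 0x44e), (4, 0x172), (7, 0x562), (10, 0x700), (13, 0x66), (16, 0x966), (18, 0x2424), (25, 0x500), (34, 0x422), (43, 0x544), (49, 0x424)],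
  C16.good 0x124211a0901869 [31, 36, 46, 52] (ST.node (ST.node (ST.node (ST.node (ST.leaf 15691) (ST.leaf 849)) (ST.node (ST.leaf 15687) (ST.leaf 15677))) (ST.node (ST.node (ST.leaf 15673) (ST.leaf 1727)) (ST.node (ST.leaf 15693) (ST.leaf 15683)))) (ST.node (ST.node (ST.node (ST.leaf 15681) (ST.leaf 15695)) (ST.node (ST.leaf 1725) (ST.leaf 15675))) (ST.node (ST.node (ST.leaf 15679) (ST.leaf 15685)) (ST.node (ST.leaf 851) (ST.leaf 15689))))) [(0, 0x83), (3, 0x18a), (5, 0x36), (6, 0x140), (11, 0x110), (12, 0x590), (20, 0x4094), (23, 0x84), (29, 0x190), (32, 0x10000), (41, 0x10), (49, 0x106)],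
  C16.good 0x124211a0901896 [31, 36, 46, 52] (ST.node (ST.node (ST.node (ST.node (ST.leaf 15730) (ST.leaf 1776)) (ST.node (ST.leaf 15750) (ST.leaf 15736))) (ST.node (ST.node (ST.leaf 15744) (ST.leaf 882)) (ST.node (ST.leaf 15740) (ST.leaf 15734)))) (ST.node (ST.node (ST.node (ST.leaf 15732) (ST.leaf 15742)) (ST.node (ST.leaf 880) (ST.leaf 15746))) (ST.node (ST.node (ST.leaf 15738) (ST.leaf 15748)) (ST.node (ST.leaf 1778) (ST.leaf 15728))))) [(1, 0x83), (2, 0x108c), (4, 0x1039), (7, 0x49), (11, 0x1069), (12, 0x14e9), (20, 0x4021), (23, 0x1041), (29, 0x10e9), (32, 0x10000), (41, 0x1060), (49, 0x1000)],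
  C16.good 0x12422209051866 [27, 37, 46, 52] (ST.node (ST.node (ST.node (ST.node (ST.leaf 14720) (ST.leaf 14734)) (ST.node (ST.leaf 924) (ST.leaf 14714))) (ST.node (ST.node (ST.leaf 14718) (ST.leaf 14724)) (ST.node (ST.leaf 358) (ST.leaf 14728)))) (ST.node (ST.node (ST.node (ST.leaf 14730) (ST.leaf 356)) (ST.node (ST.leaf 14726) (ST.leaf 14716))) (ST.node (ST.node (ST.leaf 14712) (ST.leaf 926)) (ST.node (ST.leaf 14732) (ST.leaf 14722))))) [(1, 0x1a), (2, 0x1d), (5, 0x31), (6, 0x49), (11, 0x110), (12, 0x509), (16, 0x810), (18, 0x2101), (24, 0x8000), (33, 0x109), (41, 0x10), (49, 0x8)],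
  C16.good 0x12422209051899 [27, 37, 46, 52] (ST.node (ST.node (ST.node (ST.node (ST.leaf 957) (ST.leaf 14811)) (ST.node (ST.leaf 14817) (ST.leaf 14831))) (ST.node (ST.node (ST.leaf 375) (ST.leaf 14825)) (ST.node (ST.leaf 14815) (ST.leaf 14821)))) (ST.node (ST.node (ST.node (ST.leaf 14823) (ST.leaf 14813)) (ST.node (ST.leaf 14827) (ST.leaf 373))) (ST.node (ST.node (ST.leaf 14829) (ST.leaf 14819)) (ST.node (ST.leaf 14809) (ST.leaf 959))))) [(0, 0x65), (3, 0x4e), (4, 0x36), (7, 0x62), (11, 0x144), (12, 0x522), (16, 0x844), (18, 0x2106), (24, 0x8000), (33, 0x122), (41, 0x44), (49, 0x24)],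
  C16.good 0x124248500a185a [30, 38, 46, 52] (ST.node (ST.node (ST.node (ST.node (ST.leaf 13454) (ST.leaf 13444)) (ST.node (ST.leaf 13458) (ST.leaf 144))) (ST.node (ST.node (ST.leaf 13460) (ST.leaf 13450)) (ST.node (ST.leaf 13440) (ST.leaf 502)))) (ST.node (ST.node (ST.node (ST.leaf 500) (ST.leaf 13442)) (ST.node (ST.leaf 13448) (ST.leaf 13462))) (ST.node (ST.node (ST.leaf 146) (ST.leaf 13456)) (ST.node (ST.leaf 13446) (ST.leaf 13452))))) [(1, 0x2106), (3, 0x18d), (4, 0x2091), (6, 0x65), (11, 0x1a5), (12, 0x400), (17, 0x3000), (19, 0x1a1), (28, 0x20a0), (35, 0x2185), (41, 0x2120), (49, 0x24)],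
  C16.good 0x124248500a18a5 [30, 38, 46, 52] (ST.node (ST.node (ST.node (ST.node (ST.leaf 14901) (ST.leaf 14891)) (ST.node (ST.leaf 14881) (ST.leaf 983))) (ST.node (ST.node (ST.leaf 14895) (ST.leaf 14885)) (ST.node (ST.leaf 14899) (ST.leaf 385)))) (ST.node (ST.node (ST.node (ST.leaf 387) (ST.leaf 14897)) (ST.node (ST.leaf 14887) (ST.leaf 14893))) (ST.node (ST.node (ST.leaf 981) (ST.leaf 14883)) (ST.node (ST.leaf 14889) (ST.leaf 14903))))) [(0, 0x889), (2, 0x91e), (5, 0x1f2), (7, 0x1a), (11, 0x1da), (12, 0x400), (17, 0x1818), (19, 0x8da), (28, 0x950), (35, 0x80a), (41, 0x8d0), (49, 0x8c8)],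
  C16.good 0x12428406601855 [26, 39, 46, 52] (ST.node (ST.node (ST.node (ST.node (ST.leaf 184) (ST.leaf 11598)) (ST.node (ST.leaf 11604) (ST.leaf 11618))) (ST.node (ST.node (ST.leaf 30) (ST.leaf 11612)) (ST.node (ST.leaf 11602) (ST.leaf 11608)))) (ST.node (ST.node (ST.node (ST.leaf 11610) (ST.leaf 11600)) (ST.node (ST.leaf 11614) (ST.leaf 28))) (ST.node (ST.node (ST.leaf 11616) (ST.leaf 11606)) (ST.node (ST.leaf 11596) (ST.leaf 186))))) [(0, 0x2101), (2, 0x290c), (4, 0x2992), (6, 0x21e0), (11, 0x80), (12, 0x522), (21, 0x980), (22, 0x18a), (25, 0x2988), (34, 0x28aa), (41, 0x292a), (49, 0x218a)],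
  C16.good 0x124284066018aa [26, 39, 46, 52] (ST.node (ST.node (ST.node (ST.node (ST.leaf 27) (ST.leaf 11489)) (ST.node (ST.leaf 11479) (ST.leaf 11485))) (ST.node (ST.node (ST.leaf 169) (ST.leaf 11475)) (ST.node (ST.leaf 11481) (ST.leaf 11495)))) (ST.node (ST.node (ST.node (ST.leaf 11493) (ST.leaf 11483)) (ST.node (ST.leaf 11473) (ST.leaf 171))) (ST.node (ST.node (ST.leaf 11487) (ST.leaf 11477)) (ST.node (ST.leaf 11491) (ST.leaf 25))))) [(1, 0x23c2), (3, 0x235c), (5, 0x21e0), (7, 0x2101), (11, 0x80), (12, 0x700), (21, 0x3d0), (22, 0x114), (25, 0x2185), (34, 0x2285), (41, 0x2305), (49, 0x2114)],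
  C16.good 0x128111a0054166 [31, 36, 47, 52] (ST.node (ST.node (ST.node (ST.node (ST.leaf 13754) (ST.leaf 604)) (ST.node (ST.leaf 13774) (ST.leaf 13760))) (ST.node (ST.node (ST.leaf 13768) (ST.leaf 198)) (ST.node (ST.leaf 13764) (ST.leaf 13758)))) (ST.node (ST.node (ST.node (ST.leaf 13756) (ST.leaf 13766)) (ST.node (ST.leaf 196) (ST.leaf 13770))) (ST.node (ST.node (ST.leaf 13762) (ST.leaf 13772)) (ST.node (ST.leaf 606) (ST.leaf 13752))))) [(1, 0x403), (2, 0x40d), (5, 0x28), (6, 0x49), (8, 0x489), (14, 0x9), (16, 0x800), (18, 0x2001), (29, 0x409), (32, 0x10000), (40, 0x20000), (49, 0x1)],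
  C16.good 0x128111a0054199 [31, 36, 47, 52] (ST.node (ST.node (ST.node (ST.node (ST.leaf 213) (ST.leaf 13867)) (ST.node (ST.leaf 13853) (ST.leaf 13863))) (ST.node (ST.node (ST.leaf 639) (ST.leaf 13849)) (ST.node (ST.leaf 13859) (ST.leaf 13869)))) (ST.node (ST.node (ST.node (ST.leaf 13871) (ST.leaf 13857)) (ST.node (ST.leaf 13851) (ST.leaf 637))) (ST.node (ST.node (ST.leaf 13861) (ST.leaf 13855)) (ST.node (ST.leaf 13865) (ST.leaf 215))))) [(0, 0x47), (3, 0x28), (4, 0x36), (7, 0x26), (8, 0xa2), (14, 0x66), (16, 0x800), (18, 0x2060), (29, 0x22), (32, 0x10000), (40, 0x20000), (49, 0x60)],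
  C16.good 0x12812209904169 [27, 37, 47, 52] (ST.node (ST.node (ST.node (ST.node (ST.leaf 15341) (ST.leaf 15351)) (ST.node (ST.leaf 657) (ST.leaf 15355))) (ST.node (ST.node (ST.leaf 15347) (ST.leaf 15357)) (ST.node (ST.leaf 1415) (ST.leaf 15337)))) (ST.node (ST.node (ST.node (ST.leaf 15339) (ST.leaf 1413)) (ST.node (ST.leaf 15359) (ST.leaf 15345))) (ST.node (ST.node (ST.leaf 15353) (ST.leaf 659)) (ST.node (ST.leaf 15349) (ST.leaf 15343))))) [(0, 0x403), (3, 0xa), (5, 0x26), (6, 0x440), (8, 0x580), (14, 0x100), (20, 0x4004), (23, 0x504), (24, 0x8000), (33, 0x500), (40, 0x20000), (49, 0x406)],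
  C16.good 0x12812209904196 [27, 37, 47, 52] (ST.node (ST.node (ST.node (ST.node (ST.leaf 15410) (ST.leaf 688)) (ST.node (ST.leaf 15406) (ST.leaf 15396))) (ST.node (ST.node (ST.leaf 15392) (ST.leaf 1466)) (ST.node (ST.leaf 15412) (ST.leaf 15402)))) (ST.node (ST.node (ST.node (ST.leaf 15400) (ST.leaf 15414)) (ST.node (ST.leaf 1464) (ST.leaf 15394))) (ST.node (ST.node (ST.leaf 15398) (ST.leaf 15404)) (ST.node (ST.leaf 690) (ST.leaf 15408))))) [(1, 0xa), (2, 0x65), (4, 0x59), (7, 0x49), (8, 0x189), (14, 0x100), (20, 0x4028), (23, 0x121), (24, 0x8000), (33, 0x109), (40, 0x20000), (49, 0x60)],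
  C16.good 0x12814850604155 [30, 38, 47, 52] (ST.node (ST.node (ST.node (ST.node (ST.leaf 12356) (ST.leaf 54)) (ST.node (ST.leaf 12352) (ST.leaf 12346))) (ST.node (ST.node (ST.leaf 12342) (ST.leaf 280)) (ST.node (ST.leaf 12362) (ST.leaf 12348)))) (ST.node (ST.node (ST.node (ST.leaf 12350) (ST.leaf 12360)) (ST.node (ST.leaf 282) (ST.leaf 12340))) (ST.node (ST.node (ST.leaf 12344) (ST.leaf 12354)) (ST.node (ST.leaf 52) (ST.leaf 12358))))) [(0, 0xf09), (2, 0x4), (4, 0x1a), (6, 0xf4a), (8, 0x380), (14, 0x400), (21, 0xd00), (22, 0xa), (28, 0x600), (35, 0x500), (40, 0x20000), (49, 0x902)],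
  C16.good 0x128148506041aa [30, 38, 47, 52] (ST.node (ST.node (ST.node (ST.node (ST.leaf 12227) (ST.leaf 12237)) (ST.node (ST.leaf 267) (ST.leaf 12217))) (ST.node (ST.node (ST.leaf 12221) (ST.leaf 12231)) (ST.node (ST.leaf 49) (ST.leaf 12235)))) (ST.node (ST.node (ST.node (ST.leaf 12233) (ST.leaf 51)) (ST.node (ST.leaf 12229) (ST.leaf 12223))) (ST.node (ST.node (ST.leaf 12219) (ST.leaf 265)) (ST.node (ST.leaf 12239) (ST.leaf 12225))))) [(1, 0x47), (3, 0x59), (5, 0x65), (7, 0x4), (8, 0x380), (14, 0x400), (21, 0x250), (22, 0x14), (28, 0x600), (35, 0x500), (40, 0x20000), (49, 0x611)],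
  C16.good 0x128184060a415a [26, 39, 47, 52] (ST.node (ST.node (ST.node (ST.node (ST.leaf 14320) (ST.leaf 290)) (ST.node (ST.leaf 14316) (ST.leaf 14310))) (ST.node (ST.node (ST.leaf 14306) (ST.leaf 788)) (ST.node (ST.leaf 14326) (ST.leaf 14312)))) (ST.node (ST.node (ST.node (ST.leaf 14314) (ST.leaf 14324)) (ST.node (ST.leaf 790) (ST.leaf 14304))) (ST.node (ST.node (ST.leaf 14308) (ST.leaf 14318)) (ST.node (ST.leaf 288) (ST.leaf 14322))))) [(1, 0x26), (3, 0x10d), (4, 0x431), (6, 0x565), (8, 0x80), (14, 0x525), (17, 0x1505), (19, 0x504), (25, 0x500), (34, 0x425), (40, 0x20000), (49, 0x424)],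
  C16.good 0x128184060a41a5 [26, 39, 47, 52] (ST.node (ST.node (ST.node (ST.node (ST.leaf 307) (ST.leaf 14417)) (ST.node (ST.leaf 14407) (ST.leaf 14413))) (ST.node (ST.node (ST.leaf 821) (ST.leaf 14403)) (ST.node (ST.leaf 14409) (ST.leaf 14423)))) (ST.node (ST.node (ST.node (ST.leaf 14421) (ST.leaf 14411)) (ST.node (ST.leaf 14401) (ST.leaf 823))) (ST.node (ST.node (ST.leaf 14415) (ST.leaf 14405)) (ST.node (ST.leaf 14419) (ST.leaf 305))))) [(0, 0x59), (2, 0x44e), (5, 0x172), (7, 0x51a), (8, 0x80), (14, 0x55a), (17, 0x1112), (19, 0x450), (25, 0x500), (34, 0x45a), (40, 0x20000), (49, 0x118)],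
  C16.good 0x14110690185521 [31, 34, 44, 52] (ST.node (ST.node (ST.node (ST.node (ST.leaf 9432) (ST.leaf 9446)) (ST.node (ST.leaf 9448) (ST.leaf 9426))) (ST.node (ST.node (ST.leaf 9430) (ST.leaf 9436)) (ST.node (ST.leaf 6834) (ST.leaf 9440)))) (ST.node (ST.node (ST.node (ST.leaf 9442) (ST.leaf 6832)) (ST.node (ST.leaf 9438) (ST.leaf 9428))) (ST.node (ST.node (ST.leaf 9424) (ST.leaf 9450)) (ST.node (ST.leaf 9444) (ST.leaf 9434))))) [(0, 0x59), (5, 0x26), (8, 0xd8), (10, 0x254), (12, 0x40c), (14, 0x2), (19, 0xa), (20, 0x4014), (28, 0x56), (33, 0xe), (40, 0x20000), (50, 0x1a)],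
  C16.good 0x1411069018aa21 [31, 34, 44, 52] (ST.node (ST.node (ST.node (ST.node (ST.leaf 6685) (ST.leaf 9299)) (ST.node (ST.leaf 9285) (ST.leaf 9295))) (ST.node (ST.node (ST.leaf 9307) (ST.leaf 9281)) (ST.node (ST.leaf 9291) (ST.leaf 9301)))) (ST.node (ST.node (ST.node (ST.leaf 9303) (ST.leaf 9289)) (ST.node (ST.leaf 9283) (ST.leaf 9305))) (ST.node (ST.node (ST.leaf 9293) (ST.leaf 9287)) (ST.node (ST.leaf 9297) (ST.leaf 6687))))) [(0, 0x59), (5, 0x26), (9, 0x50e), (11, 0x40c), (13, 0x2), (15, 0x65a), (19, 0x652), (20, 0x4242), (28, 0x56), (33, 0x258), (40, 0x20000), (50, 0x1a)],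
  C16.good 0x1411090a245588 [27, 35, 44, 52] (ST.node (ST.node (ST.node (ST.node (ST.leaf 10314) (ST.leaf 10288)) (ST.node (ST.leaf 10298) (ST.leaf 10308))) (ST.node (ST.node (ST.leaf 7720) (ST.leaf 10306)) (ST.node (ST.leaf 10292) (ST.leaf 10302)))) (ST.node (ST.node (ST.node (ST.leaf 10300) (ST.leaf 10294)) (ST.node (ST.leaf 10304) (ST.leaf 7722))) (ST.node (ST.node (ST.leaf 10310) (ST.leaf 10296)) (ST.node (ST.leaf 10290) (ST.leaf 10312))))) [(3, 0xa), (7, 0x1), (8, 0x80), (10, 0x305), (12, 0x505), (14, 0x100), (18, 0x2014), (21, 0x106), (25, 0x5), (32, 0x10000), (40, 0x20000), (50, 0x14)],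
  C16.good 0x1411090a24aa88 [27, 35, 44, 52] (ST.node (ST.node (ST.node (ST.node (ST.leaf 10165) (ST.leaf 10155)) (ST.node (ST.leaf 10145) (ST.leaf 10171))) (ST.node (ST.node (ST.leaf 10159) (ST.leaf 10149)) (ST.node (ST.leaf 10163) (ST.leaf 7573)))) (ST.node (ST.node (ST.node (ST.leaf 7575) (ST.leaf 10161)) (ST.node (ST.leaf 10151) (ST.leaf 10157))) (ST.node (ST.node (ST.leaf 10169) (ST.leaf 10147)) (ST.node (ST.leaf 10153) (ST.leaf 10167))))) [(3, 0x59), (7, 0x26), (9, 0x174), (11, 0xd3), (13, 0xa7), (15, 0xf4), (18, 0x2033), (21, 0xd5), (25, 0x56), (32, 0x10000), (40, 0x20000), (50, 0x33)],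
  C16.good 0x14115005415544 [26, 38, 44, 52] (ST.node (ST.node (ST.node (ST.node (ST.leaf 8850) (ST.leaf 8872)) (ST.node (ST.leaf 8870) (ST.leaf 8856))) (ST.node (ST.node (ST.leaf 8864) (ST.leaf 6242)) (ST.node (ST.leaf 8860) (ST.leaf 8854)))) (ST.node (ST.node (ST.node (ST.leaf 8852) (ST.leaf 8862)) (ST.node (ST.leaf 6240) (ST.leaf 8866))) (ST.node (ST.node (ST.leaf 8858) (ST.leaf 8868)) (ST.node (ST.leaf 8874) (ST.leaf 8848))))) [(2, 0x4), (6, 0x52), (8, 0x2090), (10, 0x202), (12, 0x402), (14, 0x2012), (16, 0x2810), (22, 0x1), (24, 0x8000), (36, 0x2010), (40, 0x20000), (50, 0x11)],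
  C16.good 0x1411500541aa44 [26, 38, 44, 52] (ST.node (ST.node (ST.node (ST.node (ST.leaf 11021) (ST.leaf 11015)) (ST.node (ST.leaf 11025) (ST.leaf 8463))) (ST.node (ST.node (ST.leaf 11031) (ST.leaf 11017)) (ST.node (ST.leaf 11011) (ST.leaf 11033)))) (ST.node (ST.node (ST.node (ST.leaf 11035) (ST.leaf 11009)) (ST.node (ST.leaf 11019) (ST.leaf 11029))) (ST.node (ST.node (ST.leaf 8461) (ST.leaf 11027)) (ST.node (ST.leaf 11013) (ST.leaf 11023))))) [(2, 0xf), (6, 0x59), (9, 0x389), (11, 0x28b), (13, 0x280), (15, 0x209), (16, 0xa82), (22, 0x83), (24, 0x8000), (36, 0x282), (40, 0x20000), (50, 0x1a)],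
  C16.good 0x1411a060825512 [30, 39, 44, 52] (ST.node (ST.node (ST.node (ST.node (ST.leaf 10742) (ST.leaf 10728)) (ST.node (ST.leaf 10722) (ST.leaf 10744))) (ST.node (ST.node (ST.leaf 10732) (ST.leaf 10726)) (ST.node (ST.leaf 10736) (ST.leaf 8166)))) (ST.node (ST.node (ST.node (ST.leaf 8164) (ST.leaf 10738)) (ST.node (ST.leaf 10724) (ST.leaf 10734))) (ST.node (ST.node (ST.leaf 10746) (ST.leaf 10720)) (ST.node (ST.leaf 10730) (ST.leaf 10740))))) [(1, 0xf), (4, 0x59), (8, 0x85), (10, 0x300), (12, 0x40c), (14, 0x9), (17, 0x1000), (23, 0x1), (29, 0x5), (37, 0x109), (40, 0x20000), (50, 0x49)],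
  C16.good 0x1411a06082aa12 [30, 39, 44, 52] (ST.node (ST.node (ST.node (ST.node (ST.leaf 10869) (ST.leaf 10879)) (ST.node (ST.leaf 8313) (ST.leaf 10883))) (ST.node (ST.node (ST.leaf 10875) (ST.leaf 10885)) (ST.node (ST.leaf 10891) (ST.leaf 10865)))) (ST.node (ST.node (ST.node (ST.leaf 10867) (ST.leaf 10889)) (ST.node (ST.leaf 10887) (ST.leaf 10873))) (ST.node (ST.node (ST.leaf 10881) (ST.leaf 8315)) (ST.node (ST.leaf 10877) (ST.leaf 10871))))) [(1, 0xf), (4, 0x59), (9, 0x4148), (11, 0x9), (13, 0x2041), (15, 0x6209), (17, 0x1000), (23, 0x6201), (29, 0x424d), (37, 0x6000), (40, 0x20000), (50, 0x4201)],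
  C16.good 0x14220690415a44 [31, 34, 45, 52] (ST.node (ST.node (ST.node (ST.node (ST.leaf 11542) (ST.leaf 11548)) (ST.node (ST.leaf 9094) (ST.leaf 11552))) (ST.node (ST.node (ST.leaf 11544) (ST.leaf 11558)) (ST.node (ST.leaf 11560) (ST.leaf 11538)))) (ST.node (ST.node (ST.node (ST.leaf 11536) (ST.leaf 11562)) (ST.node (ST.leaf 11556) (ST.leaf 11546))) (ST.node (ST.node (ST.leaf 11554) (ST.leaf 9092)) (ST.node (ST.leaf 11550) (ST.leaf 11540))))) [(2, 0x102c), (6, 0x1053), (9, 0x1323), (11, 0x1221), (12, 0x1601), (14, 0x1008), (16, 0x180a), (22, 0x1000), (28, 0x1023), (33, 0x209), (41, 0x100a), (50, 0x1a)],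
  C16.good 0x1422069041a544 [31, 34, 45, 52] (ST.node (ST.node (ST.node (ST.node (ST.leaf 11427) (ST.leaf 11417)) (ST.node (ST.leaf 11431) (ST.leaf 8949))) (ST.node (ST.node (ST.leaf 11433) (ST.leaf 11423)) (ST.node (ST.leaf 11413) (ST.leaf 11439)))) (ST.node (ST.node (ST.node (ST.leaf 11437) (ST.leaf 11415)) (ST.node (ST.leaf 11421) (ST.leaf 11435))) (ST.node (ST.node (ST.leaf 8951) (ST.leaf 11429)) (ST.node (ST.leaf 11419) (ST.leaf 11425))))) [(2, 0x140c), (6, 0x1473), (8, 0x1083), (10, 0x1221), (13, 0x1428), (15, 0x1008), (16, 0x1c2a), (22, 0x1000), (28, 0x1403), (33, 0x20), (41, 0x142a), (50, 0x1a)],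
  C16.good 0x1422090a825a12 [27, 35, 45, 52] (ST.node (ST.node (ST.node (ST.node (ST.leaf 12792) (ST.leaf 10534)) (ST.node (ST.leaf 12788) (ST.leaf 12782))) (ST.node (ST.node (ST.leaf 12778) (ST.leaf 12800)) (ST.node (ST.leaf 12798) (ST.leaf 12784)))) (ST.node (ST.node (ST.node (ST.leaf 12786) (ST.leaf 12796)) (ST.node (ST.leaf 12802) (ST.leaf 12776))) (ST.node (ST.node (ST.leaf 12780) (ST.leaf 12790)) (ST.node (ST.leaf 10532) (ST.leaf 12794))))) [(1, 0x40c7), (4, 0x4094), (9, 0x41c1), (11, 0x80), (12, 0x4444), (14, 0x8c), (17, 0x1000), (23, 0x404c), (25, 0x40c8), (32, 0x10000), (41, 0x40cd), (50, 0x4081)],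
  C16.good 0x1422090a82a512 [27, 35, 45, 52] (ST.node (ST.node (ST.node (ST.node (ST.leaf 10389) (ST.leaf 12671)) (ST.node (ST.leaf 12657) (ST.leaf 12667))) (ST.node (ST.node (ST.leaf 12679) (ST.leaf 12653)) (ST.node (ST.leaf 12663) (ST.leaf 12673)))) (ST.node (ST.node (ST.node (ST.leaf 12675) (ST.leaf 12661)) (ST.node (ST.leaf 12655) (ST.leaf 12677))) (ST.node (ST.node (ST.leaf 12665) (ST.leaf 12659)) (ST.node (ST.leaf 12669) (ST.leaf 10391))))) [(1, 0x403), (4, 0x45c), (8, 0x8c), (10, 0x700), (13, 0x505), (15, 0x509), (17, 0x1000), (23, 0x10d), (25, 0x40c), (32, 0x10000), (41, 0x405), (50, 0x449)],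
  C16.good 0x14225005185a21 [26, 38, 45, 52] (ST.node (ST.node (ST.node (ST.node (ST.leaf 11908) (ST.leaf 11934)) (ST.node (ST.leaf 11928) (ST.leaf 11918))) (ST.node (ST.node (ST.leaf 11926) (ST.leaf 9524)) (ST.node (ST.leaf 11922) (ST.leaf 11912)))) (ST.node (ST.node (ST.node (ST.leaf 11914) (ST.leaf 11920)) (ST.node (ST.leaf 9526) (ST.leaf 11924))) (ST.node (ST.node (ST.leaf 11916) (ST.leaf 11930)) (ST.node (ST.leaf 11932) (ST.leaf 11910))))) [(0, 0xf), (5, 0x70), (9, 0x15a), (11, 0x58), (12, 0x454), (14, 0x8c), (19, 0x5c), (20, 0x404c), (24, 0x8000), (36, 0xd8), (41, 0x56), (50, 0x1a)],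
  C16.good 0x1422500518a521 [26, 38, 45, 52] (ST.node (ST.node (ST.node (ST.node (ST.leaf 12055) (ST.leaf 12041)) (ST.node (ST.leaf 12035) (ST.leaf 12057))) (ST.node (ST.node (ST.leaf 12045) (ST.leaf 12039)) (ST.node (ST.leaf 12049) (ST.leaf 9671)))) (ST.node (ST.node (ST.node (ST.leaf 9669) (ST.leaf 12051)) (ST.node (ST.leaf 12037) (ST.leaf 12047))) (ST.node (ST.node (ST.leaf 12059) (ST.leaf 12033)) (ST.node (ST.leaf 12043) (ST.leaf 12053))))) [(0, 0xf), (5, 0x70), (8, 0x8c), (10, 0x125e), (13, 0x1004), (15, 0x58), (19, 0x1000), (20, 0x404c), (24, 0x8000), (36, 0x1050), (41, 0x56), (50, 0x1a)],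
  C16.good 0x1422a060245a88 [30, 39, 45, 52] (ST.node (ST.node (ST.node (ST.node (ST.leaf 12164) (ST.leaf 12178)) (ST.node (ST.leaf 12180) (ST.leaf 12158))) (ST.node (ST.node (ST.leaf 12162) (ST.leaf 12168)) (ST.node (ST.leaf 9814) (ST.leaf 12172)))) (ST.node (ST.node (ST.node (ST.leaf 12174) (ST.leaf 9812)) (ST.node (ST.leaf 12170) (ST.leaf 12160))) (ST.node (ST.node (ST.leaf 12156) (ST.leaf 12182)) (ST.node (ST.leaf 12176) (ST.leaf 12166))))) [(3, 0xf), (7, 0x70), (9, 0x300), (11, 0x27), (12, 0x1424), (14, 0x1077), (18, 0x2036), (21, 0x1000), (29, 0x53), (37, 0x1206), (41, 0x56), (50, 0x36)],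
  C16.good 0x1422a06024a588 [30, 39, 45, 52] (ST.node (ST.node (ST.node (ST.node (ST.leaf 12297) (ST.leaf 9959)) (ST.node (ST.leaf 12293) (ST.leaf 12287))) (ST.node (ST.node (ST.leaf 12283) (ST.leaf 12305)) (ST.node (ST.leaf 12303) (ST.leaf 12289)))) (ST.node (ST.node (ST.node (ST.leaf 12291) (ST.leaf 12301)) (ST.node (ST.leaf 12307) (ST.leaf 12281))) (ST.node (ST.node (ST.leaf 12285) (ST.leaf 12295)) (ST.node (ST.leaf 9957) (ST.leaf 12299))))) [(3, 0xf), (7, 0x70), (8, 0xd3), (10, 0xa77), (13, 0x950), (15, 0x27), (18, 0x2941), (21, 0x50), (29, 0x924), (37, 0x806), (41, 0x56), (50, 0x941)],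
  C16.good 0x14480690246688 [31, 34, 46, 52] (ST.node (ST.node (ST.node (ST.node (ST.leaf 11960) (ST.leaf 11950)) (ST.node (ST.leaf 11940) (ST.leaf 11966))) (ST.node (ST.node (ST.leaf 11954) (ST.leaf 11944)) (ST.node (ST.leaf 11958) (ST.leaf 9560)))) (ST.node (ST.node (ST.node (ST.leaf 9562) (ST.leaf 11956)) (ST.node (ST.leaf 11946) (ST.leaf 11952))) (ST.node (ST.node (ST.leaf 11964) (ST.leaf 11942)) (ST.node (ST.leaf 11948) (ST.leaf 11962))))) [(3, 0xad), (7, 0xd2), (9, 0x571), (10, 0x674), (13, 0xa7), (14, 0x422), (18, 0x20e0), (21, 0x455), (28, 0x56), (33, 0x71), (43, 0xf4), (50, 0x91)],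
  C16.good 0x14480690249988 [31, 34, 46, 52] (ST.node (ST.node (ST.node (ST.node (ST.leaf 12065) (ST.leaf 12091)) (ST.node (ST.leaf 12085) (ST.leaf 12075))) (ST.node (ST.node (ST.leaf 12083) (ST.leaf 9705)) (ST.node (ST.leaf 12079) (ST.leaf 12069)))) (ST.node (ST.node (ST.node (ST.leaf 12071) (ST.leaf 12077)) (ST.node (ST.leaf 9707) (ST.leaf 12081))) (ST.node (ST.node (ST.leaf 12073) (ST.leaf 12087)) (ST.node (ST.leaf 12089) (ST.leaf 12067))))) [(3, 0x20059), (7, 0x20026), (8, 0xa7), (11, 0x20100), (12, 0x571), (15, 0x20053), (18, 0x22147), (21, 0x20024), (28, 0x56), (33, 0x122), (43, 0x20000), (50, 0x20065)],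
  C16.good 0x1448090a186621 [27, 35, 46, 52] (ST.node (ST.node (ST.node (ST.node (ST.leaf 12210) (ST.leaf 12196)) (ST.node (ST.leaf 12190) (ST.leaf 12212))) (ST.node (ST.node (ST.leaf 12200) (ST.leaf 12194)) (ST.node (ST.leaf 12204) (ST.leaf 9850)))) (ST.node (ST.node (ST.node (ST.leaf 9848) (ST.leaf 12206)) (ST.node (ST.leaf 12192) (ST.leaf 12202))) (ST.node (ST.node (ST.leaf 12214) (ST.leaf 12188)) (ST.node (ST.leaf 12198) (ST.leaf 12208))))) [(0, 0x403), (5, 0x424), (9, 0x50e), (10, 0x282), (13, 0x80), (14, 0x8c), (19, 0x8a), (20, 0x4416), (25, 0xe), (32, 0x10000), (43, 0x402), (50, 0x416)],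
  C16.good 0x1448090a189921 [27, 35, 46, 52] (ST.node (ST.node (ST.node (ST.node (ST.leaf 9993) (ST.leaf 12331)) (ST.node (ST.leaf 12317) (ST.leaf 12327))) (ST.node (ST.node (ST.leaf 12339) (ST.leaf 12313)) (ST.node (ST.leaf 12323) (ST.leaf 12333)))) (ST.node (ST.node (ST.node (ST.leaf 12335) (ST.leaf 12321)) (ST.node (ST.leaf 12315) (ST.leaf 12337))) (ST.node (ST.node (ST.leaf 12325) (ST.leaf 12319)) (ST.node (ST.leaf 12329) (ST.leaf 9995))))) [(0, 0x2000d), (5, 0x20026), (8, 0x8c), (11, 0x20100), (12, 0x50e), (15, 0x2010c), (19, 0x20106), (20, 0x24018), (25, 0x2), (32, 0x10000), (43, 0x20000), (50, 0x20018)],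
  C16.good 0x14485005826612 [26, 38, 46, 52] (ST.node (ST.node (ST.node (ST.node (ST.leaf 11588) (ST.leaf 11578)) (ST.node (ST.leaf 11568) (ST.leaf 11594))) (ST.node (ST.node (ST.leaf 11582) (ST.leaf 11572)) (ST.node (ST.leaf 11586) (ST.leaf 9128)))) (ST.node (ST.node (ST.node (ST.leaf 9130) (ST.leaf 11584)) (ST.node (ST.leaf 11574) (ST.leaf 11580))) (ST.node (ST.node (ST.leaf 11592) (ST.leaf 11570)) (ST.node (ST.leaf 11576) (ST.leaf 11590))))) [(1, 0x403), (4, 0x455), (9, 0x500), (10, 0x605), (13, 0x409), (14, 0x8c), (17, 0x140c), (23, 0x40d), (24, 0x8000), (36, 0x489), (43, 0x40c), (50, 0x440)],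
  C16.good 0x14485005829912 [26, 38, 46, 52] (ST.node (ST.node (ST.node (ST.node (ST.leaf 11455) (ST.leaf 11465)) (ST.node (ST.leaf 11471) (ST.leaf 11445))) (ST.node (ST.node (ST.leaf 11449) (ST.leaf 11459)) (ST.node (ST.leaf 8985) (ST.leaf 11463)))) (ST.node (ST.node (ST.node (ST.leaf 11461) (ST.leaf 8987)) (ST.node (ST.leaf 11457) (ST.leaf 11451))) (ST.node (ST.node (ST.leaf 11447) (ST.leaf 11469)) (ST.node (ST.leaf 11467) (ST.leaf 11453))))) [(1, 0x2000f), (4, 0x20059), (8, 0x8c), (11, 0x24048), (12, 0x4444), (15, 0x20005), (17, 0x21000), (23, 0x2404c), (24, 0x8000), (36, 0x4041), (43, 0x20000), (50, 0x2004c)],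
  C16.good 0x1448a060416644 [30, 39, 46, 52] (ST.node (ST.node (ST.node (ST.node (ST.leaf 12828) (ST.leaf 12818)) (ST.node (ST.leaf 12808) (ST.leaf 12834))) (ST.node (ST.node (ST.leaf 12822) (ST.leaf 12812)) (ST.node (ST.leaf 12826) (ST.leaf 10568)))) (ST.node (ST.node (ST.node (ST.leaf 10570) (ST.leaf 12824)) (ST.node (ST.leaf 12814) (ST.leaf 12820))) (ST.node (ST.node (ST.leaf 12832) (ST.leaf 12810)) (ST.node (ST.leaf 12816) (ST.leaf 12830))))) [(2, 0x84), (6, 0xd2), (9, 0x4192), (10, 0x6282), (13, 0x209b), (14, 0x82), (16, 0x688b), (22, 0x8a), (29, 0x201b), (37, 0x6000), (43, 0x8b), (50, 0x208a)],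
  C16.good 0x1448a060419944 [30, 39, 46, 52] (ST.node (ST.node (ST.node (ST.node (ST.leaf 12695) (ST.leaf 12705)) (ST.node (ST.leaf 12711) (ST.leaf 12685))) (ST.node (ST.node (ST.leaf 12689) (ST.leaf 12699)) (ST.node (ST.leaf 10425) (ST.leaf 12703)))) (ST.node (ST.node (ST.node (ST.leaf 12701) (ST.leaf 10427)) (ST.node (ST.leaf 12697) (ST.leaf 12691))) (ST.node (ST.node (ST.leaf 12687) (ST.leaf 12709)) (ST.node (ST.leaf 12707) (ST.leaf 12693))))) [(2, 0x2000f), (6, 0x20059), (8, 0x38b), (11, 0x20009), (12, 0x702), (15, 0x20300), (16, 0x20909), (22, 0x20308), (29, 0x2), (37, 0x109), (43, 0x20000), (50, 0x20018)],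
  C16.good 0x14840690826912 [31, 34, 47, 52] (ST.node (ST.node (ST.node (ST.node (ST.leaf 14859) (ST.leaf 14865)) (ST.node (ST.leaf 13143) (ST.leaf 14869))) (ST.node (ST.node (ST.leaf 14861) (ST.leaf 14875)) (ST.node (ST.leaf 14877) (ST.leaf 14855)))) (ST.node (ST.node (ST.node (ST.leaf 14853) (ST.leaf 14879)) (ST.node (ST.leaf 14873) (ST.leaf 14863))) (ST.node (ST.node (ST.leaf 14871) (ST.leaf 13141)) (ST.node (ST.leaf 14867) (ST.leaf 14857))))) [(1, 0x26), (4, 0x59), (8, 0x680), (11, 0x40c), (13, 0x329), (14, 0x625), (17, 0x1305), (23, 0x528), (28, 0x32c), (33, 0x209), (42, 0x305), (50, 0x360)]]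

set_option Elab.async false in
theorem c16_5_ok : c16_5.all (chkC16 ent 16240 pbsD colsD) = true := by decide +kernel

end Cfsg.Agent.Helper2.RuL
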