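import Cfsg.Agent.Helper2.RuL.Chk4
import Cfsg.Agent.Helper2.RuL.Tab

/-! Certificates for the weight-16 words of the parity code, chunk 6 (helper2; generated). -/

set_option autoImplicit false
set_option maxRecDepth 100000

namespace Cfsg.Agent.Helper2.RuL

open Cfsg.Agent.Helper5.RuLat

def c16_6 : List C16 := [
  C16.good 0x14840690829612 [31, 34, 47, 52] (ST.node (ST.node (ST.node (ST.node (ST.leaf 13438) (ST.leaf 13412)) (ST.node (ST.leaf 13422) (ST.leaf 13432))) (ST.node (ST.node (ST.leaf 11280) (ST.leaf 13430)) (ST.node (ST.leaf 13416) (ST.leaf 13426)))) (ST.node (ST.node (ST.node (ST.leaf 13424) (ST.leaf 13418)) (ST.node (ST.leaf 13428) (ST.leaf 11282))) (ST.node (ST.node (ST.leaf 13434) (ST.leaf 13420)) (ST.node (ST.leaf 13414) (ST.leaf 13436))))) [(1, 0x26), (4, 0x59), (9, 0x100), (10, 0x2264), (12, 0x40c), (15, 0x204d), (17, 0x3061), (23, 0x24), (28, 0x2048), (33, 0x20), (42, 0x2061), (50,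 0x2004)],
  C16.good 0x1484090a416944 [27, 35, 47, 52] (ST.node (ST.node (ST.node (ST.node (ST.leaf 13017) (ST.leaf 14775)) (ST.node (ST.leaf 14761) (ST.leaf 14771))) (ST.node (ST.node (ST.leaf 14783) (ST.leaf 14757)) (ST.node (ST.leaf 14767) (ST.leaf 14777)))) (ST.node (ST.node (ST.node (ST.leaf 14779) (ST.leaf 14765)) (ST.node (ST.leaf 14759) (ST.leaf 14781))) (ST.node (ST.node (ST.leaf 14769) (ST.leaf 14763)) (ST.node (ST.leaf 14773) (ST.leaf 13019))))) [(2, 0x26), (6, 0x59), (8, 0x489), (11, 0x529), (13, 0x120), (14, 0x509), (16, 0x800), (22, 0x528), (25, 0x42b), (32, 0x10000), (42, 0x402), (50, 0x33)],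
  C16.good 0x1484090a419644 [27, 35, 47, 52] (ST.node (ST.node (ST.node (ST.node (ST.leaf 14660) (ST.leaf 14686)) (ST.node (ST.leaf 14680) (ST.leaf 14670))) (ST.node (ST.node (ST.leaf 14678) (ST.leaf 12892)) (ST.node (ST.leaf 14674) (ST.leaf 14664)))) (ST.node (ST.node (ST.node (ST.leaf 14666) (ST.leaf 14672)) (ST.node (ST.leaf 12894) (ST.leaf 14676))) (ST.node (ST.node (ST.leaf 14668) (ST.leaf 14682)) (ST.node (ST.leaf 14684) (ST.leaf 14662))))) [(2, 0x6), (6, 0x59), (9, 0x100), (10, 0x289), (12, 0x489), (15, 0x80), (16, 0x800), (22, 0x81), (25, 0x2), (32, 0x10000), (42, 0xb), (50, 0x13)],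
  C16.good 0x14845005246988 [26, 38, 47, 52] (ST.node (ST.node (ST.node (ST.node (ST.leaf 13709) (ST.leaf 13723)) (ST.node (ST.leaf 13725) (ST.leaf 13703))) (ST.node (ST.node (ST.leaf 13707) (ST.leaf 13713)) (ST.node (ST.leaf 11655) (ST.leaf 13717)))) (ST.node (ST.node (ST.node (ST.leaf 13719) (ST.leaf 11653)) (ST.node (ST.leaf 13715) (ST.leaf 13705))) (ST.node (ST.node (ST.leaf 13701) (ST.leaf 13727)) (ST.node (ST.leaf 13721) (ST.leaf 13711))))) [(3, 0x59), (7, 0x26), (8, 0x9a1), (11, 0x27), (13, 0x5), (14, 0x821), (18, 0x2930), (21, 0x103), (24, 0x8000), (36, 0x903), (42, 0x56), (50, 0x33)],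
  C16.good 0x14845005249688 [26, 38, 47, 52] (ST.node (ST.node (ST.node (ST.node (ST.leaf 11778) (ST.leaf 13812)) (ST.node (ST.leaf 13802) (ST.leaf 13808))) (ST.node (ST.node (ST.leaf 13820) (ST.leaf 13798)) (ST.node (ST.leaf 13804) (ST.leaf 13818)))) (ST.node (ST.node (ST.node (ST.leaf 13816) (ST.leaf 13806)) (ST.node (ST.leaf 13796) (ST.leaf 13822))) (ST.node (ST.node (ST.leaf 13810) (ST.leaf 13800)) (ST.node (ST.leaf 13814) (ST.leaf 11776))))) [(3, 0x59), (7, 0x4), (9, 0x185), (10, 0x2d6), (12, 0x4d6), (15, 0x5), (18, 0x2094), (21, 0x83), (24, 0x8000), (36, 0x85), (42, 0x56), (50, 0x11)],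
  C16.good 0x1484a060186921 [30, 39, 47, 52] (ST.node (ST.node (ST.node (ST.node (ST.leaf 14283) (ST.leaf 14289)) (ST.node (ST.leaf 12399) (ST.leaf 14293))) (ST.node (ST.node (ST.leaf 14285) (ST.leaf 14299)) (ST.node (ST.leaf 14301) (ST.leaf 14279)))) (ST.node (ST.node (ST.node (ST.leaf 14277) (ST.leaf 14303)) (ST.node (ST.leaf 14297) (ST.leaf 14287))) (ST.node (ST.node (ST.leaf 14295) (ST.leaf 12397)) (ST.node (ST.leaf 14291) (ST.leaf 14281))))) [(0, 0x59), (5, 0x26), (8, 0x10d2), (11, 0x58), (13, 0x356), (14, 0x1008), (19, 0x1056), (20, 0x4140), (29, 0x135c), (37, 0x1206), (42, 0x56), (50, 0x1310)],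
  C16.good 0x1484a060189621 [30, 39, 47, 52] (ST.node (ST.node (ST.node (ST.node (ST.leaf 14390) (ST.leaf 12520)) (ST.node (ST.leaf 14386) (ST.leaf 14376))) (ST.node (ST.node (ST.leaf 14372) (ST.leaf 14398)) (ST.node (ST.leaf 14392) (ST.leaf 14382)))) (ST.node (ST.node (ST.node (ST.leaf 14380) (ST.leaf 14394)) (ST.node (ST.leaf 14396) (ST.leaf 14374))) (ST.node (ST.node (ST.leaf 14378) (ST.leaf 14384)) (ST.node (ST.leaf 12522) (ST.leaf 14388))))) [(0, 0x59), (5, 0x26), (9, 0x906), (10, 0xa08), (12, 0x40c), (15, 0x58), (19, 0x6), (20, 0x481e), (29, 0x2), (37, 0x806), (42, 0x56), (50, 0x4e)],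
  C16.good 0x18551242840660 [30, 36, 46, 52] (ST.node (ST.node (ST.node (ST.node (ST.leaf 4142) (ST.leaf 2424)) (ST.node (ST.leaf 590) (ST.leaf 1292))) (ST.node (ST.node (ST.leaf 2412) (ST.leaf 1298)) (ST.node (ST.leaf 1300) (ST.leaf 2418)))) (ST.node (ST.node (ST.node (ST.leaf 2416) (ST.leaf 1302)) (ST.node (ST.leaf 1296) (ST.leaf 2414))) (ST.node (ST.node (ST.leaf 1294) (ST.leaf 588)) (ST.node (ST.leaf 2426) (ST.leaf 4140))))) [(5, 0x33), (6, 0x4c), (9, 0x115), (10, 0x289), (18, 0x2001), (23, 0x81), (25, 0x5), (33, 0x95), (40, 0x20099), (42, 0x8c), (44, 0x15), (51, 0x93)],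
  C16.good 0x18552114110690 [28, 37, 46, 52] (ST.node (ST.node (ST.node (ST.node (ST.leaf 654) (ST.leaf 1396)) (ST.node (ST.leaf 4390) (ST.leaf 2592))) (ST.node (ST.node (ST.leaf 1404) (ST.leaf 2586)) (ST.node (ST.leaf 2580) (ST.leaf 1402)))) (ST.node (ST.node (ST.node (ST.leaf 1400) (ST.leaf 2582)) (ST.node (ST.leaf 2584) (ST.leaf 1406))) (ST.node (ST.node (ST.leaf 2594) (ST.leaf 4388)) (ST.node (ST.leaf 1398) (ST.leaf 652))))) [(4, 0x11), (7, 0x4c), (9, 0x148), (10, 0x241), (16, 0x84d), (20, 0x400a), (26, 0x5), (32, 0x10000), (40, 0x2000c), (42, 0x41), (44, 0x4d), (51, 0x6)],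
  C16.good 0x18554428220605 [29, 38, 46, 52] (ST.node (ST.node (ST.node (ST.node (ST.leaf 3014) (ST.leaf 5008)) (ST.node (ST.leaf 1658) (ST.leaf 812))) (ST.node (ST.node (ST.leaf 1660) (ST.leaf 3002)) (ST.node (ST.leaf 3004) (ST.leaf 1666)))) (ST.node (ST.node (ST.node (ST.leaf 1664) (ST.leaf 3006)) (ST.node (ST.leaf 3000) (ST.leaf 1662))) (ST.node (ST.node (ST.leaf 814) (ST.leaf 1656)) (ST.node (ST.leaf 5010) (ST.leaf 3012))))) [(0, 0x33), (2, 0x4c), (9, 0x132), (10, 0x658), (17, 0x145a), (21, 0x472), (27, 0x22), (34, 0x58), (40, 0x20432), (42, 0x47a), (44, 0x48), (51, 0x442)],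
  C16.good 0x1855888148060a [31, 39, 46, 52] (ST.node (ST.node (ST.node (ST.node (ST.leaf 3180) (ST.leaf 5258)) (ST.node (ST.leaf 1760) (ST.leaf 878))) (ST.node (ST.node (ST.leaf 1766) (ST.leaf 3168)) (ST.node (ST.leaf 3174) (ST.leaf 1768)))) (ST.node (ST.node (ST.node (ST.leaf 1770) (ST.leaf 3172)) (ST.node (ST.leaf 3170) (ST.leaf 1764))) (ST.node (ST.node (ST.leaf 876) (ST.leaf 1762)) (ST.node (ST.leaf 5256) (ST.leaf 3182))))) [(1, 0x33), (3, 0x4c), (9, 0x180), (10, 0x241), (19, 0x11), (22, 0x14), (24, 0x8000), (35, 0x95), (40, 0x20054), (42, 0x41), (44, 0x15), (51, 0x24)],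
  C16.good 0x185a124248500a [30, 36, 46, 52] (ST.node (ST.node (ST.node (ST.node (ST.leaf 1170) (ST.leaf 2208)) (ST.node (ST.leaf 6130) (ST.leaf 3840))) (ST.node (ST.node (ST.leaf 2216) (ST.leaf 3834)) (ST.node (ST.leaf 3828) (ST.leaf 2214)))) (ST.node (ST.node (ST.node (ST.leaf 2212) (ST.leaf 3830)) (ST.node (ST.leaf 3832) (ST.leaf 2218))) (ST.node (ST.node (ST.leaf 3842) (ST.leaf 6128)) (ST.node (ST.leaf 2210) (ST.leaf 1168))))) [(1, 0x167), (3, 0x118), (12, 0x7c1), (14, 0x41), (19, 0x941), (22, 0x1d5), (25, 0x9c5), (33, 0x95), (41, 0xb84), (43, 0xad0), (44, 0x15), (51, 0x370)],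
  C16.good 0x185a2114225005 [28, 37, 46, 52] (ST.node (ST.node (ST.node (ST.node (ST.leaf 4460) (ST.leaf 6870)) (ST.node (ST.leaf 2628) (ST.leaf 1430))) (ST.node (ST.node (ST.leaf 2634) (ST.leaf 4448)) (ST.node (ST.leaf 4454) (ST.leaf 2636)))) (ST.node (ST.node (ST.node (ST.leaf 2638) (ST.leaf 4452)) (ST.node (ST.leaf 4450) (ST.leaf 2632))) (ST.node (ST.node (ST.leaf 1428) (ST.leaf 2630)) (ST.node (ST.leaf 6868) (ST.leaf 4462))))) [(0, 0x11), (2, 0x6e), (12, 0x622), (14, 0x148), (17, 0x1130), (21, 0x118), (26, 0x58), (32, 0x10000), (41, 0x348), (43, 0x36a), (44, 0x32), (51, 0x370)],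
  C16.good 0x185a4428115090 [29, 38, 46, 52] (ST.node (ST.node (ST.node (ST.node (ST.leaf 2880) (ST.leaf 1586)) (ST.node (ST.leaf 4832) (ST.leaf 7314))) (ST.node (ST.node (ST.leaf 4826) (ST.leaf 2888)) (ST.node (ST.leaf 2886) (ST.leaf 4820)))) (ST.node (ST.node (ST.node (ST.leaf 4822) (ST.leaf 2884)) (ST.node (ST.leaf 2890) (ST.leaf 4824))) (ST.node (ST.node (ST.leaf 7312) (ST.leaf 4834)) (ST.node (ST.leaf 1584) (ST.leaf 2882))))) [(4, 0x207b), (7, 0x2004), (12, 0x266f), (14, 0x200c), (16, 0x86f), (20, 0x6047), (27, 0x206a), (34, 0x27), (41, 0x266), (43, 0x222e), (44, 0x2000), (51, 0x221)],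
  C16.good 0x185a8881845060 [31, 39, 46, 52] (ST.node (ST.node (ST.node (ST.node (ST.leaf 1896) (ST.leaf 3386)) (ST.node (ST.leaf 8200) (ST.leaf 5578))) (ST.node (ST.node (ST.leaf 3394) (ST.leaf 5568)) (ST.node (ST.leaf 5566) (ST.leaf 3388)))) (ST.node (ST.node (ST.node (ST.leaf 3390) (ST.leaf 5564)) (ST.node (ST.leaf 5570) (ST.leaf 3392))) (ST.node (ST.node (ST.leaf 5576) (ST.leaf 8202)) (ST.node (ST.leaf 3384) (ST.leaf 1898))))) [(5, 0x36), (6, 0x49), (12, 0x605), (14, 0x19), (18, 0x2091), (23, 0x11), (24, 0x8000), (35, 0x95), (41, 0x219), (43, 0x21c), (44, 0x15), (51, 0x206)],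
  C16.good 0x18661242220905 [30, 36, 46, 52] (ST.node (ST.node (ST.node (ST.node (ST.leaf 5474) (ST.leaf 3324)) (ST.node (ST.leaf 3330) (ST.leaf 5476))) (ST.node (ST.node (ST.leaf 8092) (ST.leaf 5486)) (ST.node (ST.leaf 1856) (ST.leaf 3322)))) (ST.node (ST.node (ST.node (ST.leaf 3320) (ST.leaf 1858)) (ST.node (ST.leaf 5484) (ST.leaf 8094))) (ST.node (ST.node (ST.leaf 5478) (ST.leaf 3328)) (ST.node (ST.leaf 3326) (ST.leaf 5472))))) [(0, 0x601), (2, 0x67e), (8, 0xd8), (11, 0x758), (17, 0x155a), (21, 0x362), (25, 0x648), (33, 0x76a), (41, 0x658), (42, 0x522), (45, 0x6a), (51, 0x370)],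
  C16.good 0x1866211448090a [28, 37, 46, 52] (ST.node (ST.node (ST.node (ST.node (ST.leaf 4730) (ST.leaf 2820)) (ST.node (ST.leaf 2826) (ST.leaf 4732))) (ST.node (ST.node (ST.leaf 7204) (ST.leaf 4742)) (ST.node (ST.leaf 1544) (ST.leaf 2818)))) (ST.node (ST.node (ST.node (ST.leaf 2816) (ST.leaf 1546)) (ST.node (ST.leaf 4740) (ST.leaf 7206))) (ST.node (ST.node (ST.leaf 4734) (ST.leaf 2824)) (ST.node (ST.leaf 2822) (ST.leaf 4728))))) [(1, 0x1046), (3, 0x1039), (8, 0x11f5), (11, 0x1160), (19, 0x4075), (22, 0x114), (26, 0x5111), (32, 0x10000), (41, 0x4171), (42, 0x41), (45, 0x5104), (51, 0x24)],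
  C16.good 0x18664428840960 [29, 38, 46, 52] (ST.node (ST.node (ST.node (ST.node (ST.leaf 1492) (ST.leaf 2734)) (ST.node (ST.leaf 7056) (ST.leaf 4618))) (ST.node (ST.node (ST.leaf 2742) (ST.leaf 4608)) (ST.node (ST.leaf 4606) (ST.leaf 2736)))) (ST.node (ST.node (ST.node (ST.leaf 2738) (ST.leaf 4604)) (ST.node (ST.leaf 4610) (ST.leaf 2740))) (ST.node (ST.node (ST.leaf 4616) (ST.leaf 7058)) (ST.node (ST.leaf 2732) (ST.leaf 1494))))) [(5, 0xb3b), (6, 0xb44), (8, 0x881), (11, 0x814), (18, 0x2101), (23, 0x810), (27, 0x904), (34, 0x209), (41, 0x219), (42, 0x818), (45, 0x911), (51, 0x106)],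
  C16.good 0x18668881110990 [31, 39, 46, 52] (ST.node (ST.node (ST.node (ST.node (ST.leaf 5720) (ST.leaf 3494)) (ST.node (ST.leaf 3496) (ST.leaf 5726))) (ST.node (ST.node (ST.leaf 8390) (ST.leaf 5732)) (ST.node (ST.leaf 1962) (ST.leaf 3488)))) (ST.node (ST.node (ST.node (ST.leaf 3490) (ST.leaf 1960)) (ST.node (ST.leaf 5734) (ST.leaf 8388))) (ST.node (ST.node (ST.leaf 5724) (ST.leaf 3498)) (ST.node (ST.leaf 3492) (ST.leaf 5722))))) [(4, 0x36), (7, 0x49), (8, 0x185), (11, 0x4d), (16, 0x94d), (20, 0x4128), (24, 0x8000), (35, 0x122), (41, 0x6f), (42, 0x41), (45, 0x6a), (51, 0x24)],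
  C16.good 0x1869124211a090 [30, 36, 46, 52] (ST.node (ST.node (ST.node (ST.node (ST.leaf 7727) (ST.leaf 5181)) (ST.node (ST.leaf 5187) (ST.leaf 7729))) (ST.node (ST.node (ST.leaf 10317) (ST.leaf 7739)) (ST.node (ST.leaf 3125) (ST.leaf 5179)))) (ST.node (ST.node (ST.node (ST.leaf 5177) (ST.leaf 3127)) (ST.node (ST.leaf 7737) (ST.leaf 10319))) (ST.node (ST.node (ST.leaf 7731) (ST.leaf 5185)) (ST.node (ST.leaf 5183) (ST.leaf 7725))))) [(4, 0x118), (7, 0x167), (13, 0x41), (15, 0x422), (16, 0x941), (20, 0x4006), (25, 0x54d), (33, 0x46f), (40, 0x2012b), (43, 0x141), (45, 0x6a), (51, 0x469)],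
  C16.good 0x1869211484a060 [28, 37, 46, 52] (ST.node (ST.node (ST.node (ST.node (ST.leaf 4929) (ST.leaf 2959)) (ST.node (ST.leaf 7441) (ST.leaf 10031))) (ST.node (ST.node (ST.leaf 7435) (ST.leaf 4937)) (ST.node (ST.leaf 4935) (ST.leaf 7429)))) (ST.node (ST.node (ST.node (ST.leaf 7431) (ST.leaf 4933)) (ST.node (ST.leaf 4939) (ST.leaf 7433))) (ST.node (ST.node (ST.leaf 10029) (ST.leaf 7443)) (ST.node (ST.leaf 2957) (ST.leaf 4931))))) [(5, 0x1035), (6, 0x104a), (13, 0x1113), (15, 0x111f), (18, 0x3102), (23, 0x118), (26, 0x100f), (32, 0x10000), (40, 0x21006), (43, 0x1c), (45, 0x101a), (51, 0x6)],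
  C16.good 0x1869442848a00a [29, 38, 46, 52] (ST.node (ST.node (ST.node (ST.node (ST.leaf 4317) (ST.leaf 6695)) (ST.node (ST.leaf 6689) (ST.leaf 4315))) (ST.node (ST.node (ST.leaf 2539) (ST.leaf 4309)) (ST.node (ST.leaf 9311) (ST.leaf 6701)))) (ST.node (ST.node (ST.node (ST.leaf 6703) (ST.leaf 9309)) (ST.node (ST.leaf 4311) (ST.leaf 2537))) (ST.node (ST.node (ST.leaf 4313) (ST.leaf 6691)) (ST.node (ST.leaf 6693) (ST.leaf 4319))))) [(1, 0x863), (3, 0x81c), (13, 0x280), (15, 0x215), (19, 0x284), (22, 0x885), (27, 0x904), (34, 0xbc5), (40, 0x20850), (43, 0x141), (45, 0x911), (51, 0x820)],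
  C16.good 0x1869888122a005 [31, 39, 46, 52] (ST.node (ST.node (ST.node (ST.node (ST.leaf 4061) (ST.leaf 2371)) (ST.node (ST.leaf 6405) (ST.leaf 9023))) (ST.node (ST.node (ST.leaf 6399) (ST.leaf 4069)) (ST.node (ST.leaf 4067) (ST.leaf 6393)))) (ST.node (ST.node (ST.node (ST.leaf 6395) (ST.leaf 4065)) (ST.node (ST.leaf 4071) (ST.leaf 6397))) (ST.node (ST.node (ST.leaf 9021) (ST.leaf 6407)) (ST.node (ST.leaf 2369) (ST.leaf 4063))))) [(0, 0x181), (2, 0x1fe), (13, 0x1fa), (15, 0x32), (17, 0x1168), (21, 0x3a), (24, 0x8000), (35, 0x122), (40, 0x201b2), (43, 0x1d8), (45, 0x6a), (51, 0x1c2)],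
  C16.good 0x1896124211a090 [30, 36, 47, 52] (ST.node (ST.node (ST.node (ST.node (ST.leaf 5306) (ST.leaf 7872)) (ST.node (ST.leaf 7878) (ST.leaf 5308))) (ST.node (ST.node (ST.leaf 7884) (ST.leaf 10462)) (ST.node (ST.leaf 5300) (ST.leaf 3210)))) (ST.node (ST.node (ST.node (ST.leaf 3208) (ST.leaf 5302)) (ST.node (ST.leaf 10460) (ST.leaf 7886))) (ST.node (ST.node (ST.leaf 5310) (ST.leaf 7876)) (ST.node (ST.leaf 7874) (ST.leaf 5304))))) [(4, 0x194), (7, 0x1eb), (13, 0xcd), (15, 0x509), (16, 0x9cd), (20, 0x40e0), (25, 0x466), (33, 0x52e), (41, 0x1a7), (42, 0x8c), (44, 0x6a), (51, 0x48f)],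
  C16.good 0x1896211484a060 [28, 37, 47, 52] (ST.node (ST.node (ST.node (ST.node (ST.leaf 7576) (ST.leaf 5058)) (ST.node (ST.leaf 5060) (ST.leaf 7582))) (ST.node (ST.node (ST.leaf 10174) (ST.leaf 7588)) (ST.node (ST.leaf 3042) (ST.leaf 5052)))) (ST.node (ST.node (ST.node (ST.leaf 5054) (ST.leaf 3040)) (ST.node (ST.leaf 7590) (ST.leaf 10172))) (ST.node (ST.node (ST.leaf 7580) (ST.leaf 5062)) (ST.node (ST.leaf 5056) (ST.leaf 7578))))) [(5, 0x3af), (6, 0x3d0), (13, 0x289), (15, 0x21c), (18, 0x2181), (23, 0x298), (26, 0x30c), (32, 0x10000), (41, 0x39c), (42, 0x380), (44, 0x319), (51, 0x39a)],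
  C16.good 0x1896442848a00a [29, 38, 47, 52] (ST.node (ST.node (ST.node (ST.node (ST.leaf 4186) (ST.leaf 2452)) (ST.node (ST.leaf 6554) (ST.leaf 9164))) (ST.node (ST.node (ST.leaf 6544) (ST.leaf 4194)) (ST.node (ST.leaf 4188) (ST.leaf 6542)))) (ST.node (ST.node (ST.node (ST.leaf 6540) (ST.leaf 4190)) (ST.node (ST.leaf 4192) (ST.leaf 6546))) (ST.node (ST.node (ST.leaf 9166) (ST.leaf 6552)) (ST.node (ST.leaf 2454) (ST.leaf 4184))))) [(1, 0x41d7), (3, 0x41a8), (13, 0x3c1), (15, 0x354), (19, 0x52d4), (22, 0x194), (27, 0x5104), (34, 0x4330), (41, 0x41e4), (42, 0x11b4), (44, 0x5111), (51, 0x40d5)],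
  C16.good 0x1896888122a005 [31, 39, 47, 52] (ST.node (ST.node (ST.node (ST.node (ST.leaf 6256) (ST.leaf 8878)) (ST.node (ST.leaf 3936) (ST.leaf 2286))) (ST.node (ST.node (ST.leaf 3942) (ST.leaf 6244)) (ST.node (ST.leaf 6250) (ST.leaf 3944)))) (ST.node (ST.node (ST.node (ST.leaf 3946) (ST.leaf 6248)) (ST.node (ST.leaf 6246) (ST.leaf 3940))) (ST.node (ST.node (ST.leaf 2284) (ST.leaf 3938)) (ST.node (ST.leaf 8876) (ST.leaf 6258))))) [(0, 0x1eb), (2, 0x194), (13, 0x1fa), (15, 0x58), (17, 0x12e8), (21, 0x3d0), (24, 0x8000), (35, 0x148), (41, 0x1d8), (42, 0x380), (44, 0x6a), (51, 0x39a)],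
  C16.good 0x18991242220905 [30, 36, 47, 52] (ST.node (ST.node (ST.node (ST.node (ST.leaf 1911) (ST.leaf 3405)) (ST.node (ST.leaf 8243) (ST.leaf 5609))) (ST.node (ST.node (ST.leaf 3413) (ST.leaf 5603)) (ST.node (ST.leaf 5597) (ST.leaf 3411)))) (ST.node (ST.node (ST.node (ST.leaf 3409) (ST.leaf 5599)) (ST.node (ST.leaf 5601) (ST.leaf 3415))) (ST.node (ST.node (ST.leaf 5611) (ST.leaf 8241)) (ST.node (ST.leaf 3407) (ST.leaf 1909))))) [(0, 0x57b), (2, 0x504), (8, 0xb2), (11, 0x422), (17, 0x1078), (21, 0x53a), (25, 0x532), (33, 0x47a), (40, 0x20522), (43, 0x548), (44, 0x6a), (51, 0x60)],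
  C16.good 0x1899211448090a [28, 37, 47, 52] (ST.node (ST.node (ST.node (ST.node (ST.leaf 4855) (ST.leaf 2905)) (ST.node (ST.leaf 2911) (ST.leaf 4857))) (ST.node (ST.node (ST.leaf 7353) (ST.leaf 4867)) (ST.node (ST.leaf 1597) (ST.leaf 2903)))) (ST.node (ST.node (ST.node (ST.leaf 2901) (ST.leaf 1599)) (ST.node (ST.leaf 4865) (ST.leaf 7355))) (ST.node (ST.node (ST.leaf 4859) (ST.leaf 2909)) (ST.node (ST.leaf 2907) (ST.leaf 4853))))) [(1, 0x326), (3, 0x318), (8, 0x295), (11, 0x200), (19, 0x211), (22, 0x810), (26, 0x911), (32, 0x10000), (40, 0x20a11), (43, 0x315), (44, 0x904), (51, 0x331)],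
  C16.good 0x18994428840960 [29, 38, 47, 52] (ST.node (ST.node (ST.node (ST.node (ST.leaf 6911) (ST.leaf 4493)) (ST.node (ST.leaf 1443) (ST.leaf 2649))) (ST.node (ST.node (ST.leaf 4481) (ST.leaf 2655)) (ST.node (ST.leaf 2657) (ST.leaf 4487)))) (ST.node (ST.node (ST.node (ST.leaf 4485) (ST.leaf 2659)) (ST.node (ST.leaf 2653) (ST.leaf 4483))) (ST.node (ST.node (ST.leaf 2651) (ST.leaf 1441)) (ST.node (ST.leaf 4495) (ST.leaf 6909))))) [(5, 0x4034), (6, 0x404b), (8, 0x5081), (11, 0x5014), (18, 0x7010), (23, 0x8), (27, 0x500d), (34, 0x100f), (40, 0x2101f), (43, 0x4007), (44, 0x5018), (51, 0x1010)],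
  C16.good 0x18998881110990 [31, 39, 47, 52] (ST.node (ST.node (ST.node (ST.node (ST.leaf 3861) (ST.leaf 2235)) (ST.node (ST.leaf 2237) (ST.leaf 3867))) (ST.node (ST.node (ST.leaf 6171) (ST.leaf 3873)) (ST.node (ST.leaf 1183) (ST.leaf 2229)))) (ST.node (ST.node (ST.node (ST.leaf 2231) (ST.leaf 1181)) (ST.node (ST.leaf 3875) (ST.leaf 6169))) (ST.node (ST.node (ST.leaf 3865) (ST.leaf 2239)) (ST.node (ST.leaf 2233) (ST.leaf 3863))))) [(4, 0x36), (7, 0x8), (8, 0x185), (11, 0x27), (16, 0x927), (20, 0x4103), (24, 0x8000), (35, 0x109), (40, 0x2002e), (43, 0x5), (44, 0x2b), (51, 0x21)],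
  C16.good 0x18a5124248500a [30, 36, 47, 52] (ST.node (ST.node (ST.node (ST.node (ST.leaf 1951) (ST.leaf 3469)) (ST.node (ST.leaf 8351) (ST.leaf 5701))) (ST.node (ST.node (ST.leaf 3477) (ST.leaf 5695)) (ST.node (ST.leaf 5689) (ST.leaf 3475)))) (ST.node (ST.node (ST.node (ST.leaf 3473) (ST.leaf 5691)) (ST.node (ST.leaf 5693) (ST.leaf 3479))) (ST.node (ST.node (ST.leaf 5703) (ST.leaf 8349)) (ST.node (ST.leaf 3471) (ST.leaf 1949))))) [(1, 0x26), (3, 0x59), (12, 0x680), (14, 0x100), (19, 0x2c5), (22, 0x81), (25, 0x254), (33, 0x95), (40, 0x20154), (42, 0x141), (45, 0x15), (51, 0x370)],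
  C16.good 0x18a52114225005 [28, 37, 47, 52] (ST.node (ST.node (ST.node (ST.node (ST.leaf 2715) (ST.leaf 1481)) (ST.node (ST.leaf 4587) (ST.leaf 7017))) (ST.node (ST.node (ST.leaf 4577) (ST.leaf 2723)) (ST.node (ST.leaf 2717) (ST.leaf 4575)))) (ST.node (ST.node (ST.node (ST.leaf 4573) (ST.leaf 2719)) (ST.node (ST.leaf 2721) (ST.leaf 4579))) (ST.node (ST.node (ST.leaf 7019) (ST.leaf 4585)) (ST.node (ST.leaf 1483) (ST.leaf 2713))))) [(0, 0x2001), (2, 0x204c), (12, 0x2600), (14, 0x2148), (17, 0x324a), (21, 0x240), (26, 0x2048), (32, 0x10000), (40, 0x22348), (42, 0x348), (45, 0x2000), (51, 0x342)],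
  C16.good 0x18a54428115090 [29, 38, 47, 52] (ST.node (ST.node (ST.node (ST.node (ST.leaf 2797) (ST.leaf 1535)) (ST.node (ST.leaf 4709) (ST.leaf 7167))) (ST.node (ST.node (ST.leaf 4703) (ST.leaf 2805)) (ST.node (ST.leaf 2803) (ST.leaf 4697)))) (ST.node (ST.node (ST.node (ST.leaf 4699) (ST.leaf 2801)) (ST.node (ST.leaf 2807) (ST.leaf 4701))) (ST.node (ST.node (ST.leaf 7165) (ST.leaf 4711)) (ST.node (ST.leaf 1533) (ST.leaf 2799))))) [(4, 0x7b), (7, 0x4), (12, 0x441), (14, 0x14d), (16, 0x86f), (20, 0x4047), (27, 0x22), (34, 0x6f), (40, 0x20109), (42, 0x141), (45, 0x48), (51, 0x106)],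
  C16.good 0x18a58881845060 [31, 39, 47, 52] (ST.node (ST.node (ST.node (ST.node (ST.leaf 5441) (ST.leaf 3307)) (ST.node (ST.leaf 3309) (ST.leaf 5447))) (ST.node (ST.node (ST.leaf 8055) (ST.leaf 5453)) (ST.node (ST.leaf 1847) (ST.leaf 3301)))) (ST.node (ST.node (ST.node (ST.leaf 3303) (ST.leaf 1845)) (ST.node (ST.leaf 5455) (ST.leaf 8053))) (ST.node (ST.node (ST.leaf 5445) (ST.leaf 3311)) (ST.node (ST.leaf 3305) (ST.leaf 5443))))) [(5, 0x26), (6, 0x49), (12, 0x40c), (14, 0x185), (18, 0x2084), (23, 0x4), (24, 0x8000), (35, 0x85), (40, 0x2018c), (42, 0x189), (45, 0x5), (51, 0x183)],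
  C16.good 0x18aa1242840660 [30, 36, 47, 52] (ST.node (ST.node (ST.node (ST.node (ST.leaf 4019) (ST.leaf 2341)) (ST.node (ST.leaf 559) (ST.leaf 1241))) (ST.node (ST.node (ST.leaf 2329) (ST.leaf 1247)) (ST.node (ST.leaf 1249) (ST.leaf 2335)))) (ST.node (ST.node (ST.node (ST.leaf 2333) (ST.leaf 1251)) (ST.node (ST.leaf 1245) (ST.leaf 2331))) (ST.node (ST.node (ST.leaf 1243) (ST.leaf 557)) (ST.node (ST.leaf 2343) (ST.leaf 4017))))) [(5, 0x1039), (6, 0x1046), (9, 0x111f), (10, 0x1606), (18, 0x301e), (23, 0x1007), (25, 0x100f), (33, 0xc), (41, 0x41c), (43, 0x1403), (45, 0x15), (51, 0x416)],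
  C16.good 0x18aa2114110690 [28, 37, 47, 52] (ST.node (ST.node (ST.node (ST.node (ST.leaf 1349) (ST.leaf 2499)) (ST.node (ST.leaf 2501) (ST.leaf 1355))) (ST.node (ST.node (ST.leaf 2511) (ST.leaf 4265)) (ST.node (ST.leaf 1347) (ST.leaf 621)))) (ST.node (ST.node (ST.node (ST.leaf 623) (ST.leaf 1345)) (ST.node (ST.leaf 4267) (ST.leaf 2509))) (ST.node (ST.node (ST.leaf 1353) (ST.leaf 2503)) (ST.node (ST.leaf 2497) (ST.leaf 1351))))) [(4, 0x1035), (7, 0x1007), (9, 0x1121), (10, 0x1606), (16, 0x822), (20, 0x4006), (26, 0x1003), (32, 0x10000), (41, 0x422), (43, 0x400), (45, 0x1024), (51, 0x424)],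
  C16.good 0x18aa4428220605 [29, 38, 47, 52] (ST.node (ST.node (ST.node (ST.node (ST.leaf 3087) (ST.leaf 1713)) (ST.node (ST.leaf 1719) (ST.leaf 3089))) (ST.node (ST.node (ST.leaf 5133) (ST.leaf 3099)) (ST.node (ST.leaf 845) (ST.leaf 1711)))) (ST.node (ST.node (ST.node (ST.leaf 1709) (ST.leaf 847)) (ST.node (ST.leaf 3097) (ST.leaf 5135))) (ST.node (ST.node (ST.leaf 3091) (ST.leaf 1717)) (ST.node (ST.leaf 1715) (ST.leaf 3085))))) [(0, 0x7b), (2, 0x4), (9, 0x217a), (10, 0x2610), (17, 0x3020), (21, 0x8), (27, 0x206a), (34, 0x2058), (41, 0x247a), (43, 0x432), (45, 0x2000), (51, 0x2442)],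
  C16.good 0x18aa888148060a [31, 39, 47, 52] (ST.node (ST.node (ST.node (ST.node (ST.leaf 909) (ST.leaf 1815)) (ST.node (ST.leaf 5381) (ST.leaf 3267))) (ST.node (ST.node (ST.leaf 1823) (ST.leaf 3257)) (ST.node (ST.leaf 3255) (ST.leaf 1817)))) (ST.node (ST.node (ST.node (ST.leaf 1819) (ST.leaf 3253)) (ST.node (ST.leaf 3259) (ST.leaf 1821))) (ST.node (ST.node (ST.leaf 3265) (ST.leaf 5383)) (ST.node (ST.leaf 1813) (ST.leaf 911))))) [(1, 0x8b7), (3, 0x889), (9, 0x904), (10, 0xe84), (19, 0x4), (22, 0x885), (24, 0x8000), (35, 0x95), (41, 0xc91), (43, 0x400), (45, 0x15), (51, 0x424)],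
  C16.good 0x21141106901855 [26, 36, 44, 53] (ST.node (ST.node (ST.node (ST.node (ST.leaf 11858) (ST.leaf 11848)) (ST.node (ST.leaf 11862) (ST.leaf 36))) (ST.node (ST.node (ST.leaf 11864) (ST.leaf 11854)) (ST.node (ST.leaf 11844) (ST.leaf 218)))) (ST.node (ST.node (ST.node (ST.leaf 216) (ST.leaf 11846)) (ST.node (ST.leaf 11852) (ST.leaf 11866))) (ST.node (ST.node (ST.leaf 38) (ST.leaf 11860)) (ST.node (ST.leaf 11850) (ST.leaf 11856))))) [(0, 0x209), (2, 0x26), (4, 0x23a), (6, 0x6a), (11, 0x20), (12, 0x620), (20, 0x4222), (23, 0x228), (25, 0x22a), (32, 0x10000), (42, 0xa), (48, 0x40000)],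
  C16.good 0x211411069018aa [26, 36, 44, 53] (ST.node (ST.node (ST.node (ST.node (ST.leaf 11739) (ST.leaf 33)) (ST.node (ST.leaf 11735) (ST.leaf 11725))) (ST.node (ST.node (ST.leaf 11721) (ST.leaf 203)) (ST.node (ST.leaf 11741) (ST.leaf 11731)))) (ST.node (ST.node (ST.node (ST.leaf 11729) (ST.leaf 11743)) (ST.node (ST.leaf 201) (ST.leaf 11723))) (ST.node (ST.node (ST.leaf 11727) (ST.leaf 11733)) (ST.node (ST.leaf 35) (ST.leaf 11737))))) [(1, 0x86), (3, 0x59), (5, 0xb5), (7, 0x15), (11, 0x80), (12, 0x4d0), (20, 0x4041), (23, 0x94), (25, 0x5), (32, 0x10000), (42, 0xd5), (48, 0x40000)],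
  C16.good 0x2114225005185a [30, 37, 44, 53] (ST.node (ST.node (ST.node (ST.node (ST.leaf 660) (ST.leaf 13922)) (ST.node (ST.leaf 13928) (ST.leaf 13942))) (ST.node (ST.node (ST.leaf 226) (ST.leaf 13936)) (ST.node (ST.leaf 13926) (ST.leaf 13932)))) (ST.node (ST.node (ST.node (ST.leaf 13934) (ST.leaf 13924)) (ST.node (ST.leaf 13938) (ST.leaf 224))) (ST.node (ST.node (ST.leaf 13940) (ST.leaf 13930)) (ST.node (ST.leaf 13920) (ST.leaf 662))))) [(1, 0x2), (3, 0x30d), (4, 0x10), (6, 0x344), (11, 0x100), (12, 0x601), (16, 0x800), (18, 0x2104), (28, 0x5), (33, 0x104), (42, 0x305), (48, 0x40000)],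
  C16.good 0x211422500518a5 [30, 37, 44, 53] (ST.node (ST.node (ST.node (ST.node (ST.leaf 241) (ST.leaf 14035)) (ST.node (ST.leaf 14021) (ST.leaf 14031))) (ST.node (ST.node (ST.leaf 695) (ST.leaf 14017)) (ST.node (ST.leaf 14027) (ST.leaf 14037)))) (ST.node (ST.node (ST.node (ST.leaf 14039) (ST.leaf 14025)) (ST.node (ST.leaf 14019) (ST.leaf 693))) (ST.node (ST.node (ST.leaf 14029) (ST.leaf 14023)) (ST.node (ST.leaf 14033) (ST.leaf 243))))) [(0, 0x4b), (2, 0x344), (5, 0x360), (7, 0x2), (11, 0x100), (12, 0x648), (16, 0x800), (18, 0x2242), (28, 0x30a), (33, 0x242), (42, 0xa), (48, 0x40000)],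
  C16.good 0x211448090a1866 [27, 38, 44, 53] (ST.node (ST.node (ST.node (ST.node (ST.leaf 14154) (ST.leaf 260)) (ST.node (ST.leaf 14150) (ST.leaf 14140))) (ST.node (ST.node (ST.leaf 14136) (ST.leaf 734)) (ST.node (ST.leaf 14156) (ST.leaf 14146)))) (ST.node (ST.node (ST.node (ST.leaf 14144) (ST.leaf 14158)) (ST.node (ST.leaf 732) (ST.leaf 14138))) (ST.node (ST.node (ST.leaf 14142) (ST.leaf 14148)) (ST.node (ST.leaf 262) (ST.leaf 14152))))) [(1, 0x2), (2, 0x15), (5, 0x31), (6, 0x59), (11, 0x1), (12, 0x418), (17, 0x1089), (19, 0x10), (24, 0x8000), (35, 0x81), (42, 0x18), (48, 0x40000)],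
  C16.good 0x211448090a1899 [27, 38, 44, 53] (ST.node (ST.node (ST.node (ST.node (ST.leaf 14251) (ST.leaf 277)) (ST.node (ST.leaf 14247) (ST.leaf 14237))) (ST.node (ST.node (ST.leaf 14233) (ST.leaf 767)) (ST.node (ST.leaf 14253) (ST.leaf 14243)))) (ST.node (ST.node (ST.node (ST.leaf 14241) (ST.leaf 14255)) (ST.node (ST.leaf 765) (ST.leaf 14235))) (ST.node (ST.node (ST.leaf 14239) (ST.leaf 14245)) (ST.node (ST.leaf 279) (ST.leaf 14249))))) [(0, 0x10083), (3, 0x4e), (4, 0x10094), (7, 0x2), (11, 0x10080), (12, 0x104c2), (17, 0x11044), (19, 0x10086), (24, 0x8000), (35, 0x10000), (42, 0x100c2), (48, 0x40000)],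
  C16.good 0x211484a0601869 [31, 39, 44, 53] (ST.node (ST.node (ST.node (ST.node (ST.leaf 1621) (ST.leaf 15563)) (ST.node (ST.leaf 15569) (ST.leaf 15583))) (ST.node (ST.node (ST.leaf 787) (ST.leaf 15577)) (ST.node (ST.leaf 15567) (ST.leaf 15573)))) (ST.node (ST.node (ST.node (ST.leaf 15575) (ST.leaf 15565)) (ST.node (ST.leaf 15579) (ST.leaf 785))) (ST.node (ST.node (ST.leaf 15581) (ST.leaf 15571)) (ST.node (ST.leaf 15561) (ST.leaf 1623))))) [(0, 0x817), (3, 0x21e), (5, 0x26), (6, 0xa50), (11, 0x806), (12, 0xf02), (21, 0x106), (22, 0x916), (29, 0x802), (34, 0x906), (42, 0xa06), (48, 0x40000)],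
  C16.good 0x211484a0601896 [31, 39, 44, 53] (ST.node (ST.node (ST.node (ST.node (ST.leaf 15620) (ST.leaf 15630)) (ST.node (ST.leaf 816) (ST.leaf 15634))) (ST.node (ST.node (ST.leaf 15626) (ST.leaf 15636)) (ST.node (ST.leaf 1674) (ST.leaf 15616)))) (ST.node (ST.node (ST.node (ST.leaf 15618) (ST.leaf 1672)) (ST.node (ST.leaf 15638) (ST.leaf 15624))) (ST.node (ST.node (ST.leaf 15632) (ST.leaf 818)) (ST.node (ST.leaf 15628) (ST.leaf 15622))))) [(1, 0xa2), (2, 0x2e5), (4, 0x59), (7, 0x261), (11, 0x48), (12, 0x7c8), (21, 0x341), (22, 0x360), (29, 0xc8), (34, 0x148), (42, 0x248), (48, 0x40000)],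
  C16.good 0x2128110605415a [26, 36, 45, 53] (ST.node (ST.node (ST.node (ST.node (ST.leaf 14510) (ST.leaf 14500)) (ST.node (ST.leaf 14514) (ST.leaf 320))) (ST.node (ST.node (ST.leaf 14516) (ST.leaf 14506)) (ST.node (ST.leaf 14496) (ST.leaf 854)))) (ST.node (ST.node (ST.node (ST.leaf 852) (ST.leaf 14498)) (ST.node (ST.leaf 14504) (ST.leaf 14518))) (ST.node (ST.node (ST.leaf 322) (ST.leaf 14512)) (ST.node (ST.leaf 14502) (ST.leaf 14508))))) [(1, 0x27), (3, 0x2d), (4, 0x15), (6, 0x60), (8, 0x80), (14, 0x21), (16, 0x801), (18, 0x2000), (25, 0x4), (32, 0x10000), (43, 0x1), (48, 0x40000)],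
  C16.good 0x212811060541a5 [26, 36, 45, 53] (ST.node (ST.node (ST.node (ST.node (ST.leaf 337) (ST.leaf 14611)) (ST.node (ST.leaf 14597) (ST.leaf 14607))) (ST.node (ST.node (ST.leaf 887) (ST.leaf 14593)) (ST.node (ST.leaf 14603) (ST.leaf 14613)))) (ST.node (ST.node (ST.node (ST.leaf 14615) (ST.leaf 14601)) (ST.node (ST.leaf 14595) (ST.leaf 885))) (ST.node (ST.node (ST.leaf 14605) (ST.leaf 14599)) (ST.node (ST.leaf 14609) (ST.leaf 339))))) [(0, 0x403), (2, 0x444), (5, 0x60), (7, 0x52), (8, 0x80), (14, 0x442), (16, 0xc50), (18, 0x2000), (25, 0x412), (32, 0x10000), (43, 0x450), (48, 0x40000)],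
  C16.good 0x21282250904155 [30, 37, 45, 53] (ST.node (ST.node (ST.node (ST.node (ST.leaf 13098) (ST.leaf 13088)) (ST.node (ST.leaf 13102) (ST.leaf 76))) (ST.node (ST.node (ST.leaf 13104) (ST.leaf 13094)) (ST.node (ST.leaf 13084) (ST.leaf 378)))) (ST.node (ST.node (ST.node (ST.leaf 376) (ST.leaf 13086)) (ST.node (ST.leaf 13092) (ST.leaf 13106))) (ST.node (ST.node (ST.leaf 78) (ST.leaf 13100)) (ST.node (ST.leaf 13090) (ST.leaf 13096))))) [(0, 0x1323), (2, 0x1026), (4, 0x1010), (6, 0x1360), (8, 0x12a0), (14, 0x1100), (20, 0x5022), (23, 0x1102), (28, 0x1300), (33, 0x120), (43, 0x1000), (48, 0x40000)],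
  C16.good 0x212822509041aa [30, 37, 45, 53] (ST.node (ST.node (ST.node (ST.node (ST.leaf 12969) (ST.leaf 12983)) (ST.node (ST.leaf 361) (ST.leaf 12963))) (ST.node (ST.node (ST.leaf 12967) (ST.leaf 12973)) (ST.node (ST.leaf 75) (ST.leaf 12977)))) (ST.node (ST.node (ST.node (ST.leaf 12979) (ST.leaf 73)) (ST.node (ST.leaf 12975) (ST.leaf 12965))) (ST.node (ST.node (ST.leaf 12961) (ST.leaf 363)) (ST.node (ST.leaf 12981) (ST.leaf 12971))))) [(1, 0x1053), (3, 0x1059), (5, 0x1065), (7, 0x1010), (8, 0x11d0), (14, 0x1100), (20, 0x5014), (23, 0x1141), (28, 0x1005), (33, 0x155), (43, 0x1000), (48, 0x40000)],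
  C16.good 0x21284809604169 [27, 38, 45, 53] (ST.node (ST.node (ST.node (ST.node (ST.leaf 15063) (ST.leaf 15069)) (ST.node (ST.leaf 499) (ST.leaf 15073))) (ST.node (ST.node (ST.leaf 15065) (ST.leaf 15079)) (ST.node (ST.leaf 1153) (ST.leaf 15059)))) (ST.node (ST.node (ST.node (ST.leaf 15057) (ST.leaf 1155)) (ST.node (ST.leaf 15077) (ST.leaf 15067))) (ST.node (ST.node (ST.leaf 15075) (ST.leaf 497)) (ST.node (ST.leaf 15071) (ST.leaf 15061))))) [(0, 0x11), (3, 0x61a), (5, 0x622), (6, 0x52), (8, 0x580), (14, 0x200), (21, 0x202), (22, 0x610), (24, 0x8000), (35, 0x500), (43, 0x600), (48, 0x40000)],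
  C16.good 0x21284809604196 [27, 38, 45, 53] (ST.node (ST.node (ST.node (ST.node (ST.leaf 15914) (ST.leaf 976)) (ST.node (ST.leaf 15910) (ST.leaf 15900))) (ST.node (ST.node (ST.leaf 15896) (ST.leaf 1934)) (ST.node (ST.leaf 15916) (ST.leaf 15906)))) (ST.node (ST.node (ST.node (ST.leaf 15904) (ST.leaf 15918)) (ST.node (ST.leaf 1932) (ST.leaf 15898))) (ST.node (ST.node (ST.leaf 15902) (ST.leaf 15908)) (ST.node (ST.leaf 978) (ST.leaf 15912))))) [(1, 0x6a), (2, 0x2d), (4, 0x11), (7, 0x29), (8, 0x3c8), (14, 0x200), (21, 0x241), (22, 0x60), (24, 0x8000), (35, 0x348), (43, 0x48), (48, 0x40000)],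
  C16.good 0x212884a00a4166 [31, 39, 45, 53] (ST.node (ST.node (ST.node (ST.node (ST.leaf 13574) (ST.leaf 13564)) (ST.node (ST.leaf 13578) (ST.leaf 164))) (ST.node (ST.node (ST.leaf 13580) (ST.leaf 13570)) (ST.node (ST.leaf 13560) (ST.leaf 542)))) (ST.node (ST.node (ST.node (ST.leaf 540) (ST.leaf 13562)) (ST.node (ST.leaf 13568) (ST.leaf 13582))) (ST.node (ST.node (ST.leaf 166) (ST.leaf 13576)) (ST.node (ST.leaf 13566) (ST.leaf 13572))))) [(1, 0x10403), (2, 0x40d), (5, 0x29), (6, 0x10058), (8, 0x498), (14, 0x19), (17, 0x1010), (19, 0x11), (29, 0x418), (34, 0x10000), (43, 0x10001), (48, 0x40000)],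
  C16.good 0x212884a00a4199 [31, 39, 45, 53] (ST.node (ST.node (ST.node (ST.node (ST.leaf 183) (ST.leaf 13673)) (ST.node (ST.leaf 13663) (ST.leaf 13669))) (ST.node (ST.node (ST.leaf 573) (ST.leaf 13659)) (ST.node (ST.leaf 13665) (ST.leaf 13679)))) (ST.node (ST.node (ST.node (ST.leaf 13677) (ST.leaf 13667)) (ST.node (ST.leaf 13657) (ST.leaf 575))) (ST.node (ST.node (ST.leaf 13671) (ST.leaf 13661)) (ST.node (ST.leaf 13675) (ST.leaf 181))))) [(0, 0x921), (3, 0x14e), (4, 0x56), (7, 0x846), (8, 0x1a4), (14, 0x66), (17, 0x1800), (19, 0x966), (29, 0x124), (34, 0x906), (43, 0x860), (48, 0x40000)],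
  C16.good 0x21421106608269 [26, 36, 46, 53] (ST.node (ST.node (ST.node (ST.node (ST.leaf 691) (ST.leaf 15409)) (ST.node (ST.leaf 15399) (ST.leaf 15405))) (ST.node (ST.node (ST.leaf 1465) (ST.leaf 15395)) (ST.node (ST.leaf 15401) (ST.leaf 15415)))) (ST.node (ST.node (ST.node (ST.leaf 15413) (ST.leaf 15403)) (ST.node (ST.leaf 15393) (ST.leaf 1467))) (ST.node (ST.node (ST.leaf 15407) (ST.leaf 15397)) (ST.node (ST.leaf 15411) (ST.leaf 689))))) [(0, 0x15), (3, 0x1e), (5, 0x2a2), (6, 0x2d6), (9, 0x384), (15, 0x80), (21, 0x282), (22, 0x210), (25, 0x4), (32, 0x10000), (41, 0x284), (48, 0x40000)],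
  C16.good 0x21421106608296 [26, 36, 46, 53] (ST.node (ST.node (ST.node (ST.node (ST.leaf 15350) (ST.leaf 15340)) (ST.node (ST.leaf 15354) (ST.leaf 656))) (ST.node (ST.node (ST.leaf 15356) (ST.leaf 15346)) (ST.node (ST.leaf 15336) (ST.leaf 1414)))) (ST.node (ST.node (ST.node (ST.leaf 1412) (ST.leaf 15338)) (ST.node (ST.leaf 15344) (ST.leaf 15358))) (ST.node (ST.node (ST.leaf 658) (ST.leaf 15352)) (ST.node (ST.leaf 15342) (ST.leaf 15348))))) [(1, 0x6a), (2, 0x4e5), (4, 0x491), (7, 0x61), (9, 0x5c8), (15, 0x80), (21, 0x41), (22, 0x428), (25, 0x480), (32, 0x10000), (41, 0x4c8), (48, 0x40000)],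
  C16.good 0x214222500a8266 [30, 37, 46, 53] (ST.node (ST.node (ST.node (ST.node (ST.leaf 13848) (ST.leaf 638)) (ST.node (ST.leaf 13868) (ST.leaf 13858))) (ST.node (ST.node (ST.leaf 13866) (ST.leaf 212)) (ST.node (ST.leaf 13862) (ST.leaf 13852)))) (ST.node (ST.node (ST.node (ST.leaf 13854) (ST.leaf 13860)) (ST.node (ST.leaf 214) (ST.leaf 13864))) (ST.node (ST.node (ST.leaf 13856) (ST.leaf 13870)) (ST.node (ST.leaf 636) (ST.leaf 13850))))) [(1, 0x1a), (2, 0x40c), (5, 0x428), (6, 0x41), (9, 0x118), (15, 0x601), (17, 0x1609), (19, 0x609), (28, 0x419), (33, 0x201), (41, 0x18), (48, 0x40000)],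
  C16.good 0x214222500a8299 [30, 37, 46, 53] (ST.node (ST.node (ST.node (ST.node (ST.leaf 197) (ST.leaf 13771)) (ST.node (ST.leaf 13757) (ST.leaf 13767))) (ST.node (ST.node (ST.leaf 607) (ST.leaf 13753)) (ST.node (ST.leaf 13763) (ST.leaf 13773)))) (ST.node (ST.node (ST.node (ST.leaf 13775) (ST.leaf 13761)) (ST.node (ST.leaf 13755) (ST.leaf 605))) (ST.node (ST.node (ST.leaf 13765) (ST.leaf 13759)) (ST.node (ST.leaf 13769) (ST.leaf 199))))) [(0, 0x41), (3, 0x40c), (4, 0xe50), (7, 0xa46), (9, 0xb44), (15, 0xc06), (17, 0x1244), (19, 0x244), (28, 0x442), (33, 0x806), (41, 0xa44), (48, 0x40000)],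
  C16.good 0x2142480905825a [27, 38, 46, 53] (ST.node (ST.node (ST.node (ST.node (ST.leaf 14410) (ST.leaf 14420)) (ST.node (ST.leaf 822) (ST.leaf 14400))) (ST.node (ST.node (ST.leaf 14404) (ST.leaf 14414)) (ST.node (ST.leaf 304) (ST.leaf 14418)))) (ST.node (ST.node (ST.node (ST.leaf 14416) (ST.leaf 306)) (ST.node (ST.leaf 14412) (ST.leaf 14406))) (ST.node (ST.node (ST.leaf 14402) (ST.leaf 820)) (ST.node (ST.leaf 14422) (ST.leaf 14408))))) [(1, 0x403), (3, 0x408), (4, 0x11), (6, 0x41), (9, 0x181), (15, 0x400), (16, 0x881), (18, 0x2480), (24, 0x8000), (35, 0x480), (41, 0x401), (48, 0x40000)],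
  C16.good 0x214248090582a5 [27, 38, 46, 53] (ST.node (ST.node (ST.node (ST.node (ST.leaf 14327) (ST.leaf 14313)) (ST.node (ST.leaf 14307) (ST.leaf 789))) (ST.node (ST.node (ST.leaf 14317) (ST.leaf 14311)) (ST.node (ST.leaf 14321) (ST.leaf 291)))) (ST.node (ST.node (ST.node (ST.leaf 289) (ST.leaf 14323)) (ST.node (ST.leaf 14309) (ST.leaf 14319))) (ST.node (ST.node (ST.leaf 791) (ST.leaf 14305)) (ST.node (ST.leaf 14315) (ST.leaf 14325))))) [(0, 0x11), (2, 0x1e), (5, 0x3a), (7, 0x1a), (9, 0x18a), (15, 0x12), (16, 0x88a), (18, 0x2092), (24, 0x8000), (35, 0x92), (41, 0x18), (48, 0x40000)],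
  C16.good 0x214284a0908255 [31, 39, 46, 53] (ST.node (ST.node (ST.node (ST.node (ST.leaf 264) (ST.leaf 12218)) (ST.node (ST.leaf 12224) (ST.leaf 12238))) (ST.node (ST.node (ST.leaf 50) (ST.leaf 12232)) (ST.node (ST.leaf 12222) (ST.leaf 12228)))) (ST.node (ST.node (ST.node (ST.leaf 12230) (ST.leaf 12220)) (ST.node (ST.leaf 12234) (ST.leaf 48))) (ST.node (ST.node (ST.leaf 12236) (ST.leaf 12226)) (ST.node (ST.leaf 12216) (ST.leaf 266))))) [(0, 0x83), (2, 0x8c), (4, 0x230), (6, 0x240), (9, 0x18a), (15, 0x2aa), (20, 0x4208), (23, 0x2a2), (29, 0x22a), (34, 0x20), (41, 0xaa), (48, 0x40000)],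
  C16.good 0x214284a09082aa [31, 39, 46, 53] (ST.node (ST.node (ST.node (ST.node (ST.leaf 12353) (ST.leaf 12347)) (ST.node (ST.leaf 12357) (ST.leaf 55))) (ST.node (ST.node (ST.leaf 12363) (ST.leaf 12349)) (ST.node (ST.leaf 12343) (ST.leaf 281)))) (ST.node (ST.node (ST.node (ST.leaf 283) (ST.leaf 12341)) (ST.node (ST.leaf 12351) (ST.leaf 12361))) (ST.node (ST.node (ST.leaf 53) (ST.leaf 12359)) (ST.node (ST.leaf 12345) (ST.leaf 12355))))) [(1, 0x83), (3, 0x8c), (5, 0x230), (7, 0x240), (9, 0x185), (15, 0x2d5), (20, 0x40c4), (23, 0x11), (29, 0x255), (34, 0x50), (41, 0xd5), (48, 0x40000)],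
  C16.good 0x218111060a2466 [26, 36, 47, 53] (ST.node (ST.node (ST.node (ST.node (ST.leaf 14830) (ST.leaf 14816)) (ST.node (ST.leaf 14810) (ST.leaf 956))) (ST.node (ST.node (ST.leaf 14820) (ST.leaf 14814)) (ST.node (ST.leaf 14824) (ST.leaf 374)))) (ST.node (ST.node (ST.node (ST.leaf 372) (ST.leaf 14826)) (ST.node (ST.leaf 14812) (ST.leaf 14822))) (ST.node (ST.node (ST.leaf 958) (ST.leaf 14808)) (ST.node (ST.leaf 14818) (ST.leaf 14828))))) [(1, 0x402), (2, 0x14), (5, 0x430), (6, 0x58), (10, 0x618), (13, 0x18), (17, 0x1410), (19, 0x410), (25, 0x418), (32, 0x10000), (40, 0x20000), (48, 0x40000)],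
  C16.good 0x218111060a2499 [26, 36, 47, 53] (ST.node (ST.node (ST.node (ST.node (ST.leaf 14713) (ST.leaf 927)) (ST.node (ST.leaf 14733) (ST.leaf 14723))) (ST.node (ST.node (ST.leaf 14731) (ST.leaf 357)) (ST.node (ST.leaf 14727) (ST.leaf 14717)))) (ST.node (ST.node (ST.node (ST.leaf 14719) (ST.leaf 14725)) (ST.node (ST.leaf 359) (ST.leaf 14729))) (ST.node (ST.node (ST.leaf 14721) (ST.leaf 14735)) (ST.node (ST.leaf 925) (ST.leaf 14715))))) [(0, 0x27), (3, 0x6a), (4, 0x14), (7, 0x26), (10, 0x242), (13, 0x66), (17, 0x1006), (19, 0x6), (25, 0x42), (32, 0x10000), (40, 0x20000), (48, 0x40000)],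
  C16.good 0x21812250602469 [30, 37, 47, 53] (ST.node (ST.node (ST.node (ST.node (ST.leaf 15733) (ST.leaf 15743)) (ST.node (ST.leaf 881) (ST.leaf 15747))) (ST.node (ST.node (ST.leaf 15739) (ST.leaf 15749)) (ST.node (ST.leaf 1779) (ST.leaf 15729)))) (ST.node (ST.node (ST.node (ST.leaf 15731) (ST.leaf 1777)) (ST.node (ST.leaf 15751) (ST.leaf 15737))) (ST.node (ST.node (ST.leaf 15745) (ST.leaf 883)) (ST.node (ST.leaf 15741) (ST.leaf 15735))))) [(0, 0x91), (3, 0x1a), (5, 0x26), (6, 0xd2), (10, 0x284), (13, 0x100), (21, 0x102), (22, 0x110), (28, 0x84), (33, 0x104), (40, 0x20000), (48, 0x40000)],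
  C16.good 0x21812250602496 [30, 37, 47, 53] (ST.node (ST.node (ST.node (ST.node (ST.leaf 15682) (ST.leaf 15692)) (ST.node (ST.leaf 1726) (ST.leaf 15672))) (ST.node (ST.node (ST.leaf 15676) (ST.leaf 15686)) (ST.node (ST.leaf 848) (ST.leaf 15690)))) (ST.node (ST.node (ST.node (ST.leaf 15688) (ST.leaf 850)) (ST.node (ST.leaf 15684) (ST.leaf 15678))) (ST.node (ST.node (ST.leaf 15674) (ST.leaf 1724)) (ST.node (ST.leaf 15694) (ST.leaf 15680))))) [(1, 0x422), (2, 0x65), (4, 0x59), (7, 0x461), (10, 0x648), (13, 0x100), (21, 0x141), (22, 0x528), (28, 0x448), (33, 0x500), (40, 0x20000), (48, 0x40000)],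
  C16.good 0x21814809902455 [27, 38, 47, 53] (ST.node (ST.node (ST.node (ST.node (ST.leaf 170) (ST.leaf 11472)) (ST.node (ST.leaf 11482) (ST.leaf 11492))) (ST.node (ST.node (ST.leaf 24) (ST.leaf 11490)) (ST.node (ST.leaf 11476) (ST.leaf 11486)))) (ST.node (ST.node (ST.node (ST.leaf 11484) (ST.leaf 11478)) (ST.node (ST.leaf 11488) (ST.leaf 26))) (ST.node (ST.node (ST.leaf 11494) (ST.leaf 11480)) (ST.node (ST.leaf 11474) (ST.leaf 168))))) [(0, 0x9), (2, 0x6), (4, 0x1a), (6, 0x4a), (10, 0x200), (13, 0xa), (20, 0x4082), (23, 0x8), (24, 0x8000), (35, 0x8a), (40, 0x20000), (48, 0x40000)],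
  C16.good 0x218148099024aa [27, 38, 47, 53] (ST.node (ST.node (ST.node (ST.node (ST.leaf 31) (ST.leaf 11613)) (ST.node (ST.leaf 11603) (ST.leaf 11609))) (ST.node (ST.node (ST.leaf 185) (ST.leaf 11599)) (ST.node (ST.leaf 11605) (ST.leaf 11619)))) (ST.node (ST.node (ST.node (ST.leaf 11617) (ST.leaf 11607)) (ST.node (ST.leaf 11597) (ST.leaf 187))) (ST.node (ST.node (ST.leaf 11611) (ST.leaf 11601)) (ST.node (ST.leaf 11615) (ST.leaf 29))))) [(1, 0x6), (3, 0x9), (5, 0x35), (7, 0x15), (10, 0x200), (13, 0x5), (20, 0x4091), (23, 0x14), (24, 0x8000), (35, 0x85), (40, 0x20000), (48, 0x40000)],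
  C16.good 0x218184a005245a [31, 39, 47, 53] (ST.node (ST.node (ST.node (ST.node (ST.leaf 14902) (ST.leaf 14888)) (ST.node (ST.leaf 14882) (ST.leaf 980))) (ST.node (ST.node (ST.leaf 14892) (ST.leaf 14886)) (ST.node (ST.leaf 14896) (ST.leaf 386)))) (ST.node (ST.node (ST.node (ST.leaf 384) (ST.leaf 14898)) (ST.node (ST.leaf 14884) (ST.leaf 14894))) (ST.node (ST.node (ST.leaf 982) (ST.leaf 14880)) (ST.node (ST.leaf 14890) (ST.leaf 14900))))) [(1, 0x7), (3, 0x8), (4, 0x110), (6, 0x141), (10, 0x200), (13, 0x101), (16, 0x801), (18, 0x2000), (29, 0x105), (34, 0x1), (40, 0x20000), (48, 0x40000)],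
  C16.good 0x218184a00524a5 [31, 39, 47, 53] (ST.node (ST.node (ST.node (ST.node (ST.leaf 13455) (ST.leaf 13445)) (ST.node (ST.leaf 13459) (ST.leaf 145))) (ST.node (ST.node (ST.leaf 13461) (ST.leaf 13451)) (ST.node (ST.leaf 13441) (ST.leaf 503)))) (ST.node (ST.node (ST.node (ST.leaf 501) (ST.leaf 13443)) (ST.node (ST.leaf 13449) (ST.leaf 13463))) (ST.node (ST.node (ST.leaf 147) (ST.leaf 13457)) (ST.node (ST.leaf 13447) (ST.leaf 13453))))) [(0, 0x59), (2, 0x56), (5, 0x78), (7, 0x8), (10, 0x200), (13, 0x48), (16, 0x850), (18, 0x2000), (29, 0x12), (34, 0x50), (40, 0x20000), (48, 0x40000)],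
  C16.good 0x22060518554428 [28, 34, 42, 53] (ST.node (ST.node (ST.node (ST.node (ST.leaf 10142) (ST.leaf 7568)) (ST.node (ST.leaf 7566) (ST.leaf 7552))) (ST.node (ST.node (ST.leaf 7560) (ST.leaf 5046)) (ST.node (ST.leaf 7556) (ST.leaf 7550)))) (ST.node (ST.node (ST.node (ST.leaf 7548) (ST.leaf 7558)) (ST.node (ST.leaf 5044) (ST.leaf 7562))) (ST.node (ST.node (ST.leaf 7554) (ST.leaf 7564)) (ST.node (ST.leaf 7570) (ST.leaf 10140))))) [(3, 0x9a), (5, 0xe1), (10, 0x293), (14, 0x50), (16, 0x843), (18, 0x20c2), (20, 0x4010), (22, 0x53), (27, 0x80), (32, 0x10000), (41, 0x43), (49, 0x91)],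
  C16.good 0x22060518aa4428 [28, 34, 42, 53] (ST.node (ST.node (ST.node (ST.node (ST.leaf 7719) (ST.leaf 10285)) (ST.node (ST.leaf 7703) (ST.leaf 7713))) (ST.node (ST.node (ST.leaf 5169) (ST.leaf 7711)) (ST.node (ST.leaf 7697) (ST.leaf 7707)))) (ST.node (ST.node (ST.node (ST.leaf 7705) (ST.leaf 7699)) (ST.node (ST.leaf 7709) (ST.leaf 5171))) (ST.node (ST.node (ST.leaf 7715) (ST.leaf 7701)) (ST.node (ST.leaf 10287) (ST.leaf 7717))))) [(3, 0x9a), (5, 0xe5), (10, 0x300), (14, 0x1c3), (17, 0x1106), (19, 0x53), (21, 0x1c0), (23, 0x57), (27, 0x80), (32, 0x10000), (41, 0x43), (49, 0x95)],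
  C16.good 0x22060a82694481 [31, 35, 42, 53] (ST.node (ST.node (ST.node (ST.node (ST.leaf 12139) (ST.leaf 9777)) (ST.node (ST.leaf 12135) (ST.leaf 12125))) (ST.node (ST.node (ST.leaf 14081) (ST.leaf 12147)) (ST.node (ST.leaf 12141) (ST.leaf 12131)))) (ST.node (ST.node (ST.node (ST.leaf 12129) (ST.leaf 12143)) (ST.node (ST.leaf 12145) (ST.leaf 14083))) (ST.node (ST.node (ST.leaf 12127) (ST.leaf 12133)) (ST.node (ST.leaf 9779) (ST.leaf 12137))))) [(0, 0x114b), (7, 0x1134), (10, 0x122e), (14, 0x1012), (16, 0x18fe), (19, 0x9e), (21, 0x172), (22, 0x1186), (25, 0x112e), (33, 0x80), (41, 0x1112), (49, 0x6a)],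
  C16.good 0x22060a82964481 [31, 35, 42, 53] (ST.node (ST.node (ST.node (ST.node (ST.leaf 12256) (ST.leaf 12250)) (ST.node (ST.leaf 12260) (ST.leaf 9922))) (ST.node (ST.node (ST.leaf 12266) (ST.leaf 12252)) (ST.node (ST.leaf 14178) (ST.leaf 12268)))) (ST.node (ST.node (ST.node (ST.leaf 12270) (ST.leaf 14176)) (ST.node (ST.leaf 12254) (ST.leaf 12264))) (ST.node (ST.node (ST.leaf 9920) (ST.leaf 12262)) (ST.node (ST.leaf 12248) (ST.leaf 12258))))) [(0, 0x53), (7, 0x2c), (10, 0x2da), (14, 0xe6), (17, 0x106a), (18, 0x2074), (20, 0x4014), (23, 0x9e), (25, 0x36), (33, 0x80), (41, 0xa), (49, 0x6a)],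
  C16.good 0x22066024664442 [29, 38, 42, 53] (ST.node (ST.node (ST.node (ST.node (ST.leaf 8822) (ST.leaf 8832)) (ST.node (ST.leaf 8838) (ST.leaf 11316))) (ST.node (ST.node (ST.leaf 8816) (ST.leaf 8826)) (ST.node (ST.leaf 6204) (ST.leaf 8830)))) (ST.node (ST.node (ST.node (ST.leaf 8828) (ST.leaf 6206)) (ST.node (ST.leaf 8824) (ST.leaf 8818))) (ST.node (ST.node (ST.leaf 11318) (ST.leaf 8836)) (ST.node (ST.leaf 8834) (ST.leaf 8820))))) [(1, 0x1a), (6, 0x65), (10, 0x304), (14, 0x400), (17, 0x140c), (18, 0x2039), (21, 0x435), (22, 0x28), (26, 0x4), (37, 0x53c), (41, 0x38), (49, 0x11)],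
  C16.good 0x22066024994442 [29, 38, 42, 53] (ST.node (ST.node (ST.node (ST.node (ST.leaf 10985) (ST.leaf 10979)) (ST.node (ST.leaf 10989) (ST.leaf 8427))) (ST.node (ST.node (ST.leaf 10995) (ST.leaf 10981)) (ST.node (ST.leaf 13179) (ST.leaf 10997)))) (ST.node (ST.node (ST.node (ST.leaf 10999) (ST.leaf 13177)) (ST.node (ST.leaf 10983) (ST.leaf 10993))) (ST.node (ST.node (ST.leaf 8425) (ST.leaf 10991)) (ST.node (ST.leaf 10977) (ST.leaf 10987))))) [(1, 0x1a), (6, 0x65), (10, 0x380), (14, 0x99), (16, 0x99d), (19, 0xac), (20, 0x4131), (23, 0x28), (26, 0x80), (37, 0x1a5), (41, 0xbc), (49, 0x95)],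
  C16.good 0x220690415a4414 [30, 39, 42, 53] (ST.node (ST.node (ST.node (ST.node (ST.leaf 9074) (ST.leaf 9084)) (ST.node (ST.leaf 9090) (ST.leaf 11532))) (ST.node (ST.node (ST.leaf 9068) (ST.leaf 9078)) (ST.node (ST.leaf 6460) (ST.leaf 9082)))) (ST.node (ST.node (ST.node (ST.leaf 9080) (ST.leaf 6462)) (ST.node (ST.leaf 9076) (ST.leaf 9070))) (ST.node (ST.node (ST.leaf 11534) (ST.leaf 9088)) (ST.node (ST.leaf 9086) (ST.leaf 9072))))) [(2, 0x65), (4, 0x1a), (10, 0x268), (14, 0xab), (17, 0x1023), (19, 0x61), (20, 0x406b), (22, 0x28), (24, 0x8000), (36, 0x80), (41, 0x43), (49, 0x6a)],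
  C16.good 0x22069041a54414 [30, 39, 42, 53] (ST.node (ST.node (ST.node (ST.node (ST.leaf 8939) (ST.leaf 6313)) (ST.node (ST.leaf 8935) (ST.leaf 8925))) (ST.node (ST.node (ST.leaf 11409) (ST.leaf 8947)) (ST.node (ST.leaf 8941) (ST.leaf 8931)))) (ST.node (ST.node (ST.node (ST.leaf 8929) (ST.leaf 8943)) (ST.node (ST.leaf 8945) (ST.leaf 11411))) (ST.node (ST.node (ST.leaf 8927) (ST.leaf 8933)) (ST.node (ST.leaf 6315) (ST.leaf 8937))))) [(2, 0x2c), (4, 0x1a), (10, 0x300), (14, 0x18a), (16, 0x9ab), (18, 0x208b), (21, 0x109), (23, 0x28), (24, 0x8000), (36, 0x80), (41, 0xa), (49, 0x23)],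
  C16.good 0x22090518661242 [28, 34, 43, 53] (ST.node (ST.node (ST.node (ST.node (ST.leaf 10688) (ST.leaf 10698)) (ST.node (ST.leaf 8128) (ST.leaf 10702))) (ST.node (ST.node (ST.leaf 10694) (ST.leaf 10704)) (ST.node (ST.leaf 10710) (ST.leaf 12928)))) (ST.node (ST.node (ST.node (ST.leaf 12930) (ST.leaf 10708)) (ST.node (ST.leaf 10706) (ST.leaf 10692))) (ST.node (ST.node (ST.leaf 10700) (ST.leaf 8130)) (ST.node (ST.leaf 10696) (ST.leaf 10690))))) [(1, 0x9a), (6, 0xd9), (9, 0x180), (12, 0x480), (17, 0x1008), (18, 0x2081), (21, 0x89), (22, 0x10), (27, 0x80), (32, 0x10000), (40, 0x20000), (49, 0x91)],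
  C16.good 0x22090518991242 [28, 34, 43, 53] (ST.node (ST.node (ST.node (ST.node (ST.leaf 10845) (ST.leaf 8279)) (ST.node (ST.leaf 10841) (ST.leaf 10835))) (ST.node (ST.node (ST.leaf 13055) (ST.leaf 10853)) (ST.node (ST.leaf 10851) (ST.leaf 10837)))) (ST.node (ST.node (ST.node (ST.leaf 10839) (ST.leaf 10849)) (ST.node (ST.leaf 10855) (ST.leaf 13053))) (ST.node (ST.node (ST.leaf 10833) (ST.leaf 10843)) (ST.node (ST.leaf 8277) (ST.leaf 10847))))) [(1, 0x3), (6, 0x40), (9, 0x119), (12, 0x419), (16, 0x804), (19, 0x10), (20, 0x4014), (23, 0x14), (27, 0x19), (32, 0x10000), (40, 0x20000), (49, 0xc)],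
  C16.good 0x22090a825a1214 [31, 35, 43, 53] (ST.node (ST.node (ST.node (ST.node (ST.leaf 10524) (ST.leaf 10514)) (ST.node (ST.leaf 12772) (ST.leaf 10530))) (ST.node (ST.node (ST.leaf 10518) (ST.leaf 10508)) (ST.node (ST.leaf 10522) (ST.leaf 7940)))) (ST.node (ST.node (ST.node (ST.leaf 7942) (ST.leaf 10520)) (ST.node (ST.leaf 10510) (ST.leaf 10516))) (ST.node (ST.node (ST.leaf 10528) (ST.leaf 12774)) (ST.node (ST.leaf 10512) (ST.leaf 10526))))) [(2, 0xd), (4, 0x59), (9, 0x100), (12, 0x4c3), (17, 0x104b), (19, 0xca), (20, 0x4040), (22, 0xc0), (25, 0x43), (33, 0x80), (40, 0x20000), (49, 0x41)],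
  C16.good 0x22090a82a51214 [31, 35, 43, 53] (ST.node (ST.node (ST.node (ST.node (ST.leaf 10383) (ST.leaf 10369)) (ST.node (ST.leaf 12651) (ST.leaf 10385))) (ST.node (ST.node (ST.leaf 10373) (ST.leaf 10367)) (ST.node (ST.leaf 10377) (ST.leaf 7795)))) (ST.node (ST.node (ST.node (ST.leaf 7793) (ST.leaf 10379)) (ST.node (ST.leaf 10365) (ST.leaf 10375))) (ST.node (ST.node (ST.leaf 10387) (ST.leaf 12649)) (ST.node (ST.leaf 10371) (ST.leaf 10381))))) [(2, 0x26), (4, 0x53), (9, 0x100), (12, 0x4c3), (16, 0x821), (18, 0x2001), (21, 0xc0), (23, 0xe1), (25, 0x43), (33, 0x80), (40, 0x20000), (49, 0x60)],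
  C16.good 0x22096024551228 [29, 38, 43, 53] (ST.node (ST.node (ST.node (ST.node (ST.leaf 6670) (ST.leaf 6660)) (ST.node (ST.leaf 6674) (ST.leaf 4300))) (ST.node (ST.node (ST.leaf 6676) (ST.leaf 6666)) (ST.node (ST.leaf 9276) (ST.leaf 6682)))) (ST.node (ST.node (ST.node (ST.leaf 6680) (ST.leaf 9278)) (ST.node (ST.leaf 6664) (ST.leaf 6678))) (ST.node (ST.node (ST.leaf 4302) (ST.leaf 6672)) (ST.node (ST.leaf 6662) (ST.leaf 6668))))) [(3, 0xd), (5, 0x22), (9, 0x304), (12, 0x400), (16, 0xa00), (18, 0x2001), (20, 0x4207), (22, 0x7), (26, 0x4), (37, 0x200), (40, 0x20000), (49, 0x6)],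
  C16.good 0x22096024aa1228 [29, 38, 43, 53] (ST.node (ST.node (ST.node (ST.node (ST.leaf 6827) (ST.leaf 6813)) (ST.node (ST.leaf 9423) (ST.leaf 6829))) (ST.node (ST.node (ST.leaf 6817) (ST.leaf 6811)) (ST.node (ST.leaf 6821) (ST.leaf 4427)))) (ST.node (ST.node (ST.node (ST.leaf 4425) (ST.leaf 6823)) (ST.node (ST.leaf 6809) (ST.leaf 6819))) (ST.node (ST.node (ST.leaf 6831) (ST.leaf 9421)) (ST.node (ST.leaf 6815) (ST.leaf 6825))))) [(3, 0x1a), (5, 0x65), (9, 0x343), (12, 0x400), (17, 0x1006), (19, 0x10), (21, 0x40), (23, 0x57), (26, 0x43), (37, 0x200), (40, 0x20000), (49, 0x56)],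
  C16.good 0x22099041691281 [30, 39, 43, 53] (ST.node (ST.node (ST.node (ST.node (ST.leaf 11895) (ST.leaf 11881)) (ST.node (ST.leaf 13891) (ST.leaf 11897))) (ST.node (ST.node (ST.leaf 11885) (ST.leaf 11879)) (ST.node (ST.leaf 11889) (ST.leaf 9491)))) (ST.node (ST.node (ST.node (ST.leaf 9489) (ST.leaf 11891)) (ST.node (ST.leaf 11877) (ST.leaf 11887))) (ST.node (ST.node (ST.leaf 11899) (ST.leaf 13889)) (ST.node (ST.leaf 11883) (ST.leaf 11893))))) [(0, 0x59), (7, 0x1a), (9, 0x180), (12, 0x480), (16, 0x850), (19, 0x1e), (21, 0xce), (22, 0x14), (24, 0x8000), (36, 0x80), (40, 0x20000), (49, 0x56)],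
  C16.good 0x22099041961281 [30, 39, 43, 53] (ST.node (ST.node (ST.node (ST.node (ST.leaf 9632) (ST.leaf 12014)) (ST.node (ST.leaf 12000) (ST.leaf 12010))) (ST.node (ST.node (ST.leaf 12022) (ST.leaf 13984)) (ST.node (ST.leaf 12006) (ST.leaf 12016)))) (ST.node (ST.node (ST.node (ST.leaf 12018) (ST.leaf 12004)) (ST.node (ST.leaf 13986) (ST.leaf 12020))) (ST.node (ST.node (ST.leaf 12008) (ST.leaf 12002)) (ST.node (ST.leaf 12012) (ST.leaf 9634))))) [(0, 0x53), (7, 0x10), (9, 0x150), (12, 0x450), (17, 0x1056), (18, 0x2012), (20, 0x4014), (23, 0x14), (24, 0x8000), (36, 0x50), (40, 0x20000), (49, 0x56)],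
  C16.good 0x225005185a2114 [28, 34, 46, 53] (ST.node (ST.node (ST.node (ST.node (ST.leaf 9500) (ST.leaf 9510)) (ST.node (ST.leaf 6904) (ST.leaf 9514))) (ST.node (ST.node (ST.leaf 9506) (ST.leaf 9516)) (ST.node (ST.leaf 9522) (ST.leaf 11904)))) (ST.node (ST.node (ST.node (ST.leaf 11906) (ST.leaf 9520)) (ST.node (ST.leaf 9518) (ST.leaf 9504))) (ST.node (ST.node (ST.leaf 9512) (ST.leaf 6906)) (ST.node (ST.leaf 9508) (ST.leaf 9502))))) [(2, 0x14e), (4, 0x131), (8, 0x180), (13, 0x68), (17, 0x104b), (19, 0x161), (20, 0x4028), (22, 0x6b), (27, 0x12b), (32, 0x10000), (44, 0x43), (49, 0x102)],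
  C16.good 0x22500518a52114 [28, 34, 46, 53] (ST.node (ST.node (ST.node (ST.node (ST.leaf 9653) (ST.leaf 9647)) (ST.node (ST.leaf 9657) (ST.leaf 7055))) (ST.node (ST.node (ST.leaf 9663) (ST.leaf 9649)) (ST.node (ST.leaf 12031) (ST.leaf 9665)))) (ST.node (ST.node (ST.node (ST.leaf 9667) (ST.leaf 12029)) (ST.node (ST.leaf 9651) (ST.leaf 9661))) (ST.node (ST.node (ST.leaf 7053) (ST.leaf 9659)) (ST.node (ST.leaf 9645) (ST.leaf 9655))))) [(2, 0x265), (4, 0x21a), (8, 0x8a), (13, 0x249), (16, 0xa62), (18, 0x2201), (21, 0x24a), (23, 0x6b), (27, 0x200), (32, 0x10000), (44, 0x43), (49, 0x229)],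
  C16.good 0x22500a82662142 [31, 35, 46, 53] (ST.node (ST.node (ST.node (ST.node (ST.leaf 9396) (ST.leaf 9410)) (ST.node (ST.leaf 9412) (ST.leaf 11814))) (ST.node (ST.node (ST.leaf 9394) (ST.leaf 9400)) (ST.node (ST.leaf 6798) (ST.leaf 9404)))) (ST.node (ST.node (ST.node (ST.leaf 9406) (ST.leaf 6796)) (ST.node (ST.leaf 9402) (ST.leaf 9392))) (ST.node (ST.node (ST.leaf 11812) (ST.leaf 9414)) (ST.node (ST.leaf 9408) (ST.leaf 9398))))) [(1, 0x21a), (6, 0x265), (8, 0x284), (13, 0x33c), (17, 0x1034), (18, 0x2001), (21, 0x331), (22, 0x310), (25, 0x200), (33, 0x304), (44, 0x23c), (49, 0x229)],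
  C16.good 0x22500a82992142 [31, 35, 46, 53] (ST.node (ST.node (ST.node (ST.node (ST.leaf 9271) (ST.leaf 11689)) (ST.node (ST.leaf 9255) (ST.leaf 9265))) (ST.node (ST.node (ST.leaf 6649) (ST.leaf 9263)) (ST.node (ST.leaf 9249) (ST.leaf 9259)))) (ST.node (ST.node (ST.node (ST.leaf 9257) (ST.leaf 9251)) (ST.node (ST.leaf 9261) (ST.leaf 6651))) (ST.node (ST.node (ST.leaf 9267) (ST.leaf 9253)) (ST.node (ST.leaf 11691) (ST.leaf 9269))))) [(1, 0x21a), (6, 0x265), (8, 0x2a5), (13, 0x33c), (16, 0xa1d), (19, 0x310), (20, 0x4228), (23, 0x331), (25, 0x200), (33, 0x325), (44, 0x23c), (49, 0x229)],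
  C16.good 0x22506024692181 [29, 38, 46, 53] (ST.node (ST.node (ST.node (ST.node (ST.leaf 10497) (ST.leaf 12759)) (ST.node (ST.leaf 12745) (ST.leaf 12755))) (ST.node (ST.node (ST.leaf 12767) (ST.leaf 14561)) (ST.node (ST.leaf 12751) (ST.leaf 12761)))) (ST.node (ST.node (ST.node (ST.leaf 12763) (ST.leaf 12749)) (ST.node (ST.leaf 14563) (ST.leaf 12765))) (ST.node (ST.node (ST.leaf 12753) (ST.leaf 12747)) (ST.node (ST.leaf 12757) (ST.leaf 10499))))) [(0, 0x65), (7, 0x1a), (8, 0x380), (13, 0x33c), (16, 0x8a6c), (19, 0x31e), (21, 0x34e), (22, 0x8014), (26, 0x8000), (37, 0x200), (44, 0x803c), (49, 0x56)],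
  C16.good 0x22506024962181 [29, 38, 46, 53] (ST.node (ST.node (ST.node (ST.node (ST.leaf 12624) (ST.leaf 12638)) (ST.node (ST.leaf 12640) (ST.leaf 14466))) (ST.node (ST.node (ST.leaf 12622) (ST.leaf 12628)) (ST.node (ST.leaf 10354) (ST.leaf 12632)))) (ST.node (ST.node (ST.node (ST.leaf 12634) (ST.leaf 10352)) (ST.node (ST.leaf 12630) (ST.leaf 12620))) (ST.node (ST.node (ST.leaf 14464) (ST.leaf 12642)) (ST.node (ST.leaf 12636) (ST.leaf 12626))))) [(0, 0x35), (7, 0x1a), (8, 0x380), (13, 0x33c), (17, 0x1330), (18, 0x202e), (20, 0x4228), (23, 0x31e), (26, 0x30a), (37, 0x200), (44, 0x336), (49, 0x6)],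
  C16.good 0x22509041552128 [30, 39, 46, 53] (ST.node (ST.node (ST.node (ST.node (ST.leaf 8310) (ST.leaf 10860)) (ST.node (ST.leaf 8294) (ST.leaf 8304))) (ST.node (ST.node (ST.leaf 5664) (ST.leaf 8302)) (ST.node (ST.leaf 8288) (ST.leaf 8298)))) (ST.node (ST.node (ST.node (ST.leaf 8296) (ST.leaf 8290)) (ST.node (ST.leaf 8300) (ST.leaf 5666))) (ST.node (ST.node (ST.leaf 8306) (ST.leaf 8292)) (ST.node (ST.leaf 10862) (ST.leaf 8308))))) [(3, 0x1a), (5, 0x65), (8, 0xd4), (13, 0x47), (16, 0x813), (18, 0x2051), (20, 0x4057), (22, 0x14), (24, 0x8000), (36, 0x50), (44, 0x43), (49, 0x56)],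
  C16.good 0x22509041aa2128 [30, 39, 46, 53] (ST.node (ST.node (ST.node (ST.node (ST.leaf 8153) (ST.leaf 5543)) (ST.node (ST.leaf 8149) (ST.leaf 8143))) (ST.node (ST.node (ST.leaf 10719) (ST.leaf 8161)) (ST.node (ST.leaf 8159) (ST.leaf 8145)))) (ST.node (ST.node (ST.node (ST.leaf 8147) (ST.leaf 8157)) (ST.node (ST.leaf 8163) (ST.leaf 10717))) (ST.node (ST.node (ST.leaf 8141) (ST.leaf 8151)) (ST.node (ST.leaf 5541) (ST.leaf 8155))))) [(3, 0x1a), (5, 0x65), (8, 0x180), (13, 0x343), (17, 0x1245), (19, 0x310), (21, 0x140), (23, 0x14), (24, 0x8000), (36, 0x200), (44, 0x43), (49, 0x56)],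
  C16.good 0x22a00518698881 [28, 34, 47, 53] (ST.node (ST.node (ST.node (ST.node (ST.leaf 11511) (ST.leaf 11521)) (ST.node (ST.leaf 11527) (ST.leaf 13601))) (ST.node (ST.node (ST.leaf 11505) (ST.leaf 11515)) (ST.node (ST.leaf 9057) (ST.leaf 11519)))) (ST.node (ST.node (ST.node (ST.leaf 11517) (ST.leaf 9059)) (ST.node (ST.leaf 11513) (ST.leaf 11507))) (ST.node (ST.node (ST.leaf 13603) (ST.leaf 11525)) (ST.node (ST.leaf 11523) (ST.leaf 11509))))) [(0, 0x11cb), (7, 0x1188), (11, 0x1092), (15, 0x1592), (16, 0xcd0), (19, 0x11e), (21, 0x5ce), (22, 0x514), (27, 0x1192), (32, 0x10000), (45, 0x1412), (49, 0x5d6)],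
  C16.good 0x22a00518968881 [28, 34, 47, 53] (ST.node (ST.node (ST.node (ST.node (ST.leaf 11396) (ST.leaf 11386)) (ST.node (ST.leaf 13504) (ST.leaf 11402))) (ST.node (ST.node (ST.leaf 11390) (ST.leaf 11380)) (ST.node (ST.leaf 11394) (ST.leaf 8912)))) (ST.node (ST.node (ST.node (ST.leaf 8914) (ST.leaf 11392)) (ST.node (ST.leaf 11382) (ST.leaf 11388))) (ST.node (ST.node (ST.leaf 11400) (ST.leaf 13506)) (ST.node (ST.leaf 11384) (ST.leaf 11398))))) [(0, 0x8059), (7, 0x801a), (11, 0x8100), (15, 0x800a), (17, 0x9056), (18, 0xa148), (20, 0x411e), (23, 0x11e), (27, 0x8000), (32, 0x10000), (45, 0x8150), (49, 0x106)],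
  C16.good 0x22a00a82558828 [31, 35, 47, 53] (ST.node (ST.node (ST.node (ST.node (ST.leaf 8450) (ST.leaf 5788)) (ST.node (ST.leaf 8446) (ST.leaf 8436))) (ST.node (ST.node (ST.leaf 11004) (ST.leaf 8458)) (ST.node (ST.leaf 8452) (ST.leaf 8442)))) (ST.node (ST.node (ST.node (ST.leaf 8440) (ST.leaf 8454)) (ST.node (ST.leaf 8456) (ST.leaf 11006))) (ST.node (ST.node (ST.leaf 8438) (ST.leaf 8444)) (ST.node (ST.leaf 5790) (ST.leaf 8448))))) [(3, 0x59), (5, 0x26), (11, 0x100), (15, 0x93), (16, 0x800), (18, 0x2192), (20, 0x4187), (22, 0xc0), (25, 0x43), (33, 0x147), (45, 0x54), (49, 0x41)],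
  C16.good 0x22a00a82aa8828 [31, 35, 47, 53] (ST.node (ST.node (ST.node (ST.node (ST.leaf 6219) (ST.leaf 6225)) (ST.node (ST.leaf 3931) (ST.leaf 6229))) (ST.node (ST.node (ST.leaf 6221) (ST.leaf 6235)) (ST.node (ST.leaf 6237) (ST.leaf 8847)))) (ST.node (ST.node (ST.node (ST.leaf 8845) (ST.leaf 6239)) (ST.node (ST.leaf 6233) (ST.leaf 6223))) (ST.node (ST.node (ST.leaf 6231) (ST.leaf 3929)) (ST.node (ST.leaf 6227) (ST.leaf 6217))))) [(3, 0x59), (5, 0x26), (11, 0x100), (15, 0x680), (17, 0x1606), (19, 0x6d3), (21, 0xc0), (23, 0x557), (25, 0x43), (33, 0x2c3), (45, 0x5c3), (49, 0x5d6)],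
  C16.good 0x22a060245a8814 [29, 38, 47, 53] (ST.node (ST.node (ST.node (ST.node (ST.leaf 9796) (ST.leaf 9790)) (ST.node (ST.leaf 9800) (ST.leaf 7202))) (ST.node (ST.node (ST.leaf 9806) (ST.leaf 9792)) (ST.node (ST.leaf 12154) (ST.leaf 9808)))) (ST.node (ST.node (ST.node (ST.leaf 9810) (ST.leaf 12152)) (ST.node (ST.leaf 9794) (ST.leaf 9804))) (ST.node (ST.node (ST.leaf 7200) (ST.leaf 9802)) (ST.node (ST.leaf 9788) (ST.leaf 9798))))) [(2, 0x65), (4, 0x1a), (11, 0x380), (15, 0x32b), (17, 0x1308), (19, 0x3a2), (20, 0x4240), (22, 0x83), (26, 0x43), (37, 0x2c3), (45, 0x68), (49, 0x41)]]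

set_option Elab.async false in
theorem c16_6_ok : c16_6.all (chkC16 ent 16240 pbsD colsD) = true := by decide +kernel

end Cfsg.Agent.Helper2.RuL
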