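import Cfsg.Agent.Helper2.RuL.Chk4
import Cfsg.Agent.Helper2.RuL.Tab

/-! Certificates for the weight-16 words of the parity code, chunk 7 (helper2; generated). -/

set_option autoImplicit false
set_option maxRecDepth 100000

namespace Cfsg.Agent.Helper2.RuL

open Cfsg.Agent.Helper5.RuLat

def c16_7 : List C16 := [
  C16.good 0x22a06024a58814 [29, 38, 47, 53] (ST.node (ST.node (ST.node (ST.node (ST.leaf 9949) (ST.leaf 9939)) (ST.node (ST.leaf 12277) (ST.leaf 9955))) (ST.node (ST.node (ST.leaf 9943) (ST.leaf 9933)) (ST.node (ST.leaf 9947) (ST.leaf 7349)))) (ST.node (ST.node (ST.node (ST.leaf 7351) (ST.leaf 9945)) (ST.node (ST.leaf 9935) (ST.leaf 9941))) (ST.node (ST.node (ST.leaf 9953) (ST.leaf 12279)) (ST.node (ST.leaf 9937) (ST.leaf 9951))))) [(2, 0x65), (4, 0x1a), (11, 0x380), (15, 0xa), (16, 0x9e2), (18, 0x238b), (21, 0x83), (23, 0x3a2), (26, 0x43), (37, 0x2c3), (45, 0x349), (49, 0x360)],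
  C16.good 0x22a09041668842 [30, 39, 47, 53] (ST.node (ST.node (ST.node (ST.node (ST.leaf 10256) (ST.leaf 10266)) (ST.node (ST.leaf 7684) (ST.leaf 10270))) (ST.node (ST.node (ST.leaf 10262) (ST.leaf 10272)) (ST.node (ST.leaf 10278) (ST.leaf 12556)))) (ST.node (ST.node (ST.node (ST.leaf 12558) (ST.leaf 10276)) (ST.node (ST.leaf 10274) (ST.leaf 10260))) (ST.node (ST.node (ST.leaf 10268) (ST.leaf 7686)) (ST.node (ST.leaf 10264) (ST.leaf 10258))))) [(1, 0x1a), (6, 0x59), (11, 0x4), (15, 0x504), (17, 0x108c), (18, 0x2405), (21, 0x58d), (22, 0x514), (24, 0x8000), (36, 0x104), (45, 0x484), (49, 0x491)],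
  C16.good 0x22a09041998842 [30, 39, 47, 53] (ST.node (ST.node (ST.node (ST.node (ST.leaf 12435) (ST.leaf 10133)) (ST.node (ST.leaf 10131) (ST.leaf 10117))) (ST.node (ST.node (ST.leaf 10125) (ST.leaf 7539)) (ST.node (ST.leaf 10121) (ST.leaf 10115)))) (ST.node (ST.node (ST.node (ST.leaf 10113) (ST.leaf 10123)) (ST.node (ST.leaf 7537) (ST.leaf 10127))) (ST.node (ST.node (ST.leaf 10119) (ST.leaf 10129)) (ST.node (ST.leaf 10135) (ST.leaf 12433))))) [(1, 0x1a), (6, 0x59), (11, 0x1505), (15, 0x1005), (16, 0x904), (19, 0x1015), (20, 0x4514), (23, 0x514), (24, 0x8000), (36, 0x1405), (45, 0x111c), (49, 0x1109)],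
  C16.good 0x24551228220960 [29, 36, 46, 53] (ST.node (ST.node (ST.node (ST.node (ST.leaf 1344) (ST.leaf 622)) (ST.node (ST.leaf 2508) (ST.leaf 4266))) (ST.node (ST.node (ST.leaf 2502) (ST.leaf 1352)) (ST.node (ST.leaf 1350) (ST.leaf 2496)))) (ST.node (ST.node (ST.node (ST.leaf 2498) (ST.leaf 1348)) (ST.node (ST.leaf 1354) (ST.leaf 2500))) (ST.node (ST.node (ST.leaf 4264) (ST.leaf 2510)) (ST.node (ST.leaf 620) (ST.leaf 1346))))) [(5, 0x528), (6, 0x557), (8, 0x81), (11, 0x40e), (17, 0x1503), (21, 0x50c), (27, 0x5), (33, 0x101), (40, 0x2000f), (42, 0x504), (44, 0x50b), (50, 0x51b)],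
  C16.good 0x24552181480990 [31, 37, 46, 53] (ST.node (ST.node (ST.node (ST.node (ST.leaf 556) (ST.leaf 1242)) (ST.node (ST.leaf 4016) (ST.leaf 2342))) (ST.node (ST.node (ST.leaf 1250) (ST.leaf 2332)) (ST.node (ST.leaf 2330) (ST.leaf 1244)))) (ST.node (ST.node (ST.node (ST.leaf 1246) (ST.leaf 2328)) (ST.node (ST.leaf 2334) (ST.leaf 1248))) (ST.node (ST.node (ST.leaf 2340) (ST.leaf 4018)) (ST.node (ST.leaf 1240) (ST.leaf 558))))) [(4, 0x456), (7, 0x40d), (8, 0x180), (11, 0x50f), (19, 0x509), (22, 0x50c), (24, 0x8000), (32, 0x10000), (40, 0x2000f), (42, 0x400), (44, 0x40f), (50, 0x441)],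
  C16.good 0x24554442840905 [30, 38, 46, 53] (ST.node (ST.node (ST.node (ST.node (ST.leaf 1814) (ST.leaf 908)) (ST.node (ST.leaf 3266) (ST.leaf 5380))) (ST.node (ST.node (ST.leaf 3256) (ST.leaf 1822)) (ST.node (ST.leaf 1816) (ST.leaf 3254)))) (ST.node (ST.node (ST.node (ST.leaf 3252) (ST.leaf 1818)) (ST.node (ST.leaf 1820) (ST.leaf 3258))) (ST.node (ST.node (ST.leaf 5382) (ST.leaf 3264)) (ST.node (ST.leaf 910) (ST.leaf 1812))))) [(0, 0x679), (2, 0x606), (8, 0x2f0), (11, 0x450), (18, 0x2632), (23, 0x658), (25, 0x22a), (34, 0x250), (40, 0x2025a), (42, 0x47a), (44, 0x620), (50, 0x64a)],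
  C16.good 0x2455881411090a [28, 39, 46, 53] (ST.node (ST.node (ST.node (ST.node (ST.leaf 3098) (ST.leaf 5132)) (ST.node (ST.leaf 1710) (ST.leaf 844))) (ST.node (ST.node (ST.leaf 1712) (ST.leaf 3086)) (ST.node (ST.leaf 3088) (ST.leaf 1718)))) (ST.node (ST.node (ST.node (ST.leaf 1716) (ST.leaf 3090)) (ST.node (ST.leaf 3084) (ST.leaf 1714))) (ST.node (ST.node (ST.leaf 846) (ST.leaf 1708)) (ST.node (ST.leaf 5134) (ST.leaf 3096))))) [(1, 0x456), (3, 0x40d), (8, 0x180), (11, 0x450), (16, 0xd55), (20, 0x4514), (26, 0x5), (35, 0x104), (40, 0x20051), (42, 0x400), (44, 0x451), (50, 0x441)],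
  C16.good 0x245a122811a00a [29, 36, 46, 53] (ST.node (ST.node (ST.node (ST.node (ST.leaf 2718) (ST.leaf 4572)) (ST.node (ST.leaf 4578) (ST.leaf 2720))) (ST.node (ST.node (ST.leaf 4584) (ST.leaf 7018)) (ST.node (ST.leaf 2712) (ST.leaf 1482)))) (ST.node (ST.node (ST.node (ST.leaf 1480) (ST.leaf 2714)) (ST.node (ST.leaf 7016) (ST.leaf 4586))) (ST.node (ST.node (ST.leaf 2722) (ST.leaf 4576)) (ST.node (ST.leaf 4574) (ST.leaf 2716))))) [(1, 0x20b6), (3, 0x20c9), (13, 0x2190), (15, 0x20c1), (16, 0x8d5), (20, 0x60a5), (27, 0x2045), (33, 0x50), (41, 0xa5), (43, 0x21b4), (44, 0x21c4), (50, 0x194)],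
  C16.good 0x245a218184a005 [31, 37, 46, 53] (ST.node (ST.node (ST.node (ST.node (ST.leaf 8348) (ST.leaf 5702)) (ST.node (ST.leaf 1948) (ST.leaf 3470))) (ST.node (ST.node (ST.leaf 5690) (ST.leaf 3472)) (ST.node (ST.leaf 3478) (ST.leaf 5692)))) (ST.node (ST.node (ST.node (ST.leaf 5694) (ST.leaf 3476)) (ST.node (ST.leaf 3474) (ST.leaf 5688))) (ST.node (ST.node (ST.leaf 3468) (ST.leaf 1950)) (ST.node (ST.leaf 5700) (ST.leaf 8350))))) [(0, 0xa3), (2, 0x8c), (13, 0x1aa), (15, 0x28a), (18, 0x22b8), (23, 0x282), (24, 0x8000), (32, 0x10000), (41, 0x8a), (43, 0x380), (44, 0x3a0), (50, 0x39a)],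
  C16.good 0x245a444248a090 [30, 38, 46, 53] (ST.node (ST.node (ST.node (ST.node (ST.leaf 3306) (ST.leaf 5440)) (ST.node (ST.leaf 5446) (ST.leaf 3308))) (ST.node (ST.node (ST.leaf 5452) (ST.leaf 8054)) (ST.node (ST.leaf 3300) (ST.leaf 1846)))) (ST.node (ST.node (ST.node (ST.leaf 1844) (ST.leaf 3302)) (ST.node (ST.leaf 8052) (ST.leaf 5454))) (ST.node (ST.node (ST.leaf 3310) (ST.leaf 5444)) (ST.node (ST.leaf 5442) (ST.leaf 3304))))) [(4, 0x672), (7, 0x60d), (13, 0x3a4), (15, 0x424), (19, 0xaa4), (22, 0x8c), (25, 0x809), (34, 0x48f), (41, 0xe2d), (43, 0xf06), (44, 0x700), (50, 0x76a)],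
  C16.good 0x245a881422a060 [28, 39, 46, 53] (ST.node (ST.node (ST.node (ST.node (ST.leaf 2804) (ST.leaf 4702)) (ST.node (ST.leaf 4696) (ST.leaf 2802))) (ST.node (ST.node (ST.leaf 1534) (ST.leaf 2796)) (ST.node (ST.leaf 7166) (ST.leaf 4708)))) (ST.node (ST.node (ST.node (ST.leaf 4710) (ST.leaf 7164)) (ST.node (ST.leaf 2798) (ST.leaf 1532))) (ST.node (ST.node (ST.leaf 2800) (ST.leaf 4698)) (ST.node (ST.leaf 4700) (ST.leaf 2806))))) [(5, 0x622), (6, 0x65d), (13, 0x38b), (15, 0x40b), (17, 0x1083), (21, 0x60d), (26, 0x20e), (35, 0x48f), (41, 0x60b), (43, 0x380), (44, 0x181), (50, 0x39a)],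
  C16.good 0x24661228840605 [29, 36, 46, 53] (ST.node (ST.node (ST.node (ST.node (ST.leaf 1598) (ST.leaf 2900)) (ST.node (ST.leaf 7354) (ST.leaf 4864))) (ST.node (ST.node (ST.leaf 2908) (ST.leaf 4858)) (ST.node (ST.leaf 4852) (ST.leaf 2906)))) (ST.node (ST.node (ST.node (ST.leaf 2904) (ST.leaf 4854)) (ST.node (ST.leaf 4856) (ST.leaf 2910))) (ST.node (ST.node (ST.leaf 4866) (ST.leaf 7352)) (ST.node (ST.leaf 2902) (ST.leaf 1596))))) [(0, 0x881), (2, 0x8fe), (9, 0x9d8), (10, 0xaa8), (18, 0x2092), (23, 0x8da), (27, 0x802), (33, 0x20), (41, 0xda), (42, 0x8d2), (45, 0x8a2), (50, 0xca)],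
  C16.good 0x2466218111060a [31, 37, 46, 53] (ST.node (ST.node (ST.node (ST.node (ST.leaf 8240) (ST.leaf 5610)) (ST.node (ST.leaf 1908) (ST.leaf 3406))) (ST.node (ST.node (ST.leaf 5598) (ST.leaf 3408)) (ST.node (ST.leaf 3414) (ST.leaf 5600)))) (ST.node (ST.node (ST.node (ST.leaf 5602) (ST.leaf 3412)) (ST.node (ST.leaf 3410) (ST.leaf 5596))) (ST.node (ST.node (ST.leaf 3404) (ST.leaf 1910)) (ST.node (ST.leaf 5608) (ST.leaf 8242))))) [(1, 0x83), (3, 0xd8), (9, 0x181), (10, 0x2d1), (16, 0x881), (20, 0x40c0), (24, 0x8000), (32, 0x10000), (41, 0x81), (42, 0xd0), (45, 0x80), (50, 0x91)],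
  C16.good 0x24664442220660 [30, 38, 46, 53] (ST.node (ST.node (ST.node (ST.node (ST.leaf 2234) (ST.leaf 3860)) (ST.node (ST.leaf 3866) (ST.leaf 2236))) (ST.node (ST.node (ST.leaf 3872) (ST.leaf 6170)) (ST.node (ST.leaf 2228) (ST.leaf 1182)))) (ST.node (ST.node (ST.node (ST.leaf 1180) (ST.leaf 2230)) (ST.node (ST.leaf 6168) (ST.leaf 3874))) (ST.node (ST.node (ST.leaf 2238) (ST.leaf 3864)) (ST.node (ST.leaf 3862) (ST.leaf 2232))))) [(5, 0x428), (6, 0x457), (9, 0x181), (10, 0x601), (17, 0x1403), (21, 0x87), (25, 0x4), (34, 0x48f), (41, 0x40e), (42, 0x8b), (45, 0x80), (50, 0x95)],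
  C16.good 0x24668814480690 [28, 39, 46, 53] (ST.node (ST.node (ST.node (ST.node (ST.leaf 2654) (ST.leaf 4480)) (ST.node (ST.leaf 4486) (ST.leaf 2656))) (ST.node (ST.node (ST.leaf 4492) (ST.leaf 6910)) (ST.node (ST.leaf 2648) (ST.leaf 1442)))) (ST.node (ST.node (ST.node (ST.leaf 1440) (ST.leaf 2650)) (ST.node (ST.leaf 6908) (ST.leaf 4494))) (ST.node (ST.node (ST.leaf 2658) (ST.leaf 4484)) (ST.node (ST.leaf 4482) (ST.leaf 2652))))) [(4, 0x10d3), (7, 0x1088), (9, 0x1505), (10, 0x1285), (19, 0x40c4), (22, 0x40c), (26, 0x5048), (35, 0x48f), (41, 0x40c2), (42, 0x400), (45, 0x5447), (50, 0x441)],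
  C16.good 0x24691228485090 [29, 36, 46, 53] (ST.node (ST.node (ST.node (ST.node (ST.leaf 3043) (ST.leaf 5053)) (ST.node (ST.leaf 10175) (ST.leaf 7589))) (ST.node (ST.node (ST.leaf 5061) (ST.leaf 7583)) (ST.node (ST.leaf 7577) (ST.leaf 5059)))) (ST.node (ST.node (ST.node (ST.leaf 5057) (ST.leaf 7579)) (ST.node (ST.leaf 7581) (ST.leaf 5063))) (ST.node (ST.node (ST.leaf 7591) (ST.leaf 10173)) (ST.node (ST.leaf 5055) (ST.leaf 3041))))) [(4, 0x9d0), (7, 0x9af), (12, 0xc06), (14, 0x889), (19, 0xad), (22, 0x183), (27, 0x124), (33, 0x906), (40, 0x2000f), (43, 0x8ad), (45, 0x8a2), (50, 0x9ec)],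
  C16.good 0x24692181225060 [31, 37, 46, 53] (ST.node (ST.node (ST.node (ST.node (ST.leaf 7879) (ST.leaf 5309)) (ST.node (ST.leaf 5307) (ST.leaf 7873))) (ST.node (ST.node (ST.leaf 5301) (ST.leaf 3211)) (ST.node (ST.leaf 7885) (ST.leaf 10463)))) (ST.node (ST.node (ST.node (ST.leaf 10461) (ST.leaf 7887)) (ST.node (ST.leaf 3209) (ST.leaf 5303))) (ST.node (ST.node (ST.leaf 7875) (ST.leaf 5305)) (ST.node (ST.leaf 5311) (ST.leaf 7877))))) [(5, 0xa3), (6, 0xd2), (12, 0x500), (14, 0x181), (17, 0x1182), (21, 0x183), (24, 0x8000), (32, 0x10000), (40, 0x20001), (43, 0x81), (45, 0x80), (50, 0x91)],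
  C16.good 0x2469444211500a [30, 38, 46, 53] (ST.node (ST.node (ST.node (ST.node (ST.leaf 8877) (ST.leaf 6259)) (ST.node (ST.leaf 2285) (ST.leaf 3939))) (ST.node (ST.node (ST.leaf 6247) (ST.leaf 3941)) (ST.node (ST.leaf 3947) (ST.leaf 6249)))) (ST.node (ST.node (ST.node (ST.leaf 6251) (ST.leaf 3945)) (ST.node (ST.leaf 3943) (ST.leaf 6245))) (ST.node (ST.node (ST.leaf 3937) (ST.leaf 2287)) (ST.node (ST.leaf 6257) (ST.leaf 8879))))) [(1, 0xd2), (3, 0xad), (12, 0x424), (14, 0xa1), (16, 0x881), (20, 0x4095), (25, 0x4), (34, 0x75), (40, 0x20074), (43, 0xf4), (45, 0x80), (50, 0x95)],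
  C16.good 0x24698814845005 [28, 39, 46, 53] (ST.node (ST.node (ST.node (ST.node (ST.leaf 4193) (ST.leaf 6547)) (ST.node (ST.leaf 6541) (ST.leaf 4191))) (ST.node (ST.node (ST.leaf 2455) (ST.leaf 4185)) (ST.node (ST.leaf 9167) (ST.leaf 6553)))) (ST.node (ST.node (ST.node (ST.leaf 6555) (ST.leaf 9165)) (ST.node (ST.leaf 4187) (ST.leaf 2453))) (ST.node (ST.node (ST.leaf 4189) (ST.leaf 6543)) (ST.node (ST.leaf 6545) (ST.leaf 4195))))) [(0, 0x10d3), (2, 0x10a6), (12, 0x1570), (14, 0x10a0), (18, 0x31e2), (23, 0x1f2), (26, 0x1150), (35, 0x120), (40, 0x21120), (43, 0x1d0), (45, 0x10f0), (50, 0x1c0)],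
  C16.good 0x24961228485090 [29, 36, 47, 53] (ST.node (ST.node (ST.node (ST.node (ST.leaf 7432) (ST.leaf 4938)) (ST.node (ST.leaf 4932) (ST.leaf 7430))) (ST.node (ST.node (ST.leaf 4930) (ST.leaf 2956)) (ST.node (ST.leaf 7442) (ST.leaf 10028)))) (ST.node (ST.node (ST.node (ST.leaf 10030) (ST.leaf 7440)) (ST.node (ST.leaf 2958) (ST.leaf 4928))) (ST.node (ST.node (ST.leaf 7428) (ST.leaf 4934)) (ST.node (ST.leaf 4936) (ST.leaf 7434))))) [(4, 0x17d), (7, 0x102), (12, 0x4ab), (14, 0x24), (19, 0x8186), (22, 0x9189), (27, 0x8000), (33, 0x91ae), (41, 0x900a), (42, 0x1121), (44, 0x112e), (50, 0x9144)],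
  C16.good 0x24962181225060 [31, 37, 47, 53] (ST.node (ST.node (ST.node (ST.node (ST.leaf 7724) (ST.leaf 5182)) (ST.node (ST.leaf 5184) (ST.leaf 7730))) (ST.node (ST.node (ST.leaf 10318) (ST.leaf 7736)) (ST.node (ST.leaf 3126) (ST.leaf 5176)))) (ST.node (ST.node (ST.node (ST.leaf 5178) (ST.leaf 3124)) (ST.node (ST.leaf 7738) (ST.leaf 10316))) (ST.node (ST.node (ST.leaf 7728) (ST.leaf 5186)) (ST.node (ST.leaf 5180) (ST.leaf 7726))))) [(5, 0x27), (6, 0x58), (12, 0x50a), (14, 0x101), (17, 0x110d), (21, 0x102), (24, 0x8000), (32, 0x10000), (41, 0x5), (42, 0xb), (44, 0x4), (50, 0x11)],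
  C16.good 0x2496444211500a [30, 38, 47, 53] (ST.node (ST.node (ST.node (ST.node (ST.leaf 9022) (ST.leaf 6404)) (ST.node (ST.leaf 2370) (ST.leaf 4060))) (ST.node (ST.node (ST.leaf 6392) (ST.leaf 4066)) (ST.node (ST.leaf 4068) (ST.leaf 6398)))) (ST.node (ST.node (ST.node (ST.leaf 6396) (ST.leaf 4070)) (ST.node (ST.leaf 4064) (ST.leaf 6394))) (ST.node (ST.node (ST.leaf 4062) (ST.leaf 2368)) (ST.node (ST.leaf 6406) (ST.leaf 9020))))) [(1, 0x186), (3, 0x1f9), (12, 0x450), (14, 0x101), (16, 0x801), (20, 0x4141), (25, 0x84), (34, 0x1a1), (41, 0x120), (42, 0x74), (44, 0x80), (50, 0x95)],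
  C16.good 0x24968814845005 [28, 39, 47, 53] (ST.node (ST.node (ST.node (ST.node (ST.leaf 6700) (ST.leaf 9310)) (ST.node (ST.leaf 4308) (ST.leaf 2538))) (ST.node (ST.node (ST.leaf 4314) (ST.leaf 6688)) (ST.node (ST.leaf 6694) (ST.leaf 4316)))) (ST.node (ST.node (ST.node (ST.leaf 4318) (ST.leaf 6692)) (ST.node (ST.leaf 6690) (ST.leaf 4312))) (ST.node (ST.node (ST.leaf 2536) (ST.leaf 4310)) (ST.node (ST.leaf 9308) (ST.leaf 6702))))) [(0, 0x1f9), (2, 0x186), (12, 0x450), (14, 0x3d0), (18, 0x2342), (23, 0x272), (26, 0x22a), (35, 0x370), (41, 0x250), (42, 0x380), (44, 0x1da), (50, 0x39a)],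
  C16.good 0x24991228840605 [29, 36, 47, 53] (ST.node (ST.node (ST.node (ST.node (ST.leaf 7205) (ST.leaf 4743)) (ST.node (ST.leaf 1545) (ST.leaf 2819))) (ST.node (ST.node (ST.leaf 4731) (ST.leaf 2821)) (ST.node (ST.leaf 2827) (ST.leaf 4733)))) (ST.node (ST.node (ST.node (ST.leaf 4735) (ST.leaf 2825)) (ST.node (ST.leaf 2823) (ST.leaf 4729))) (ST.node (ST.node (ST.leaf 2817) (ST.leaf 1547)) (ST.node (ST.leaf 4741) (ST.leaf 7207))))) [(0, 0x401b), (2, 0x4064), (9, 0x4142), (10, 0x4232), (18, 0x6000), (23, 0x8), (27, 0x4032), (33, 0x50), (40, 0x20070), (43, 0x4048), (44, 0x4038), (50, 0x60)],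
  C16.good 0x2499218111060a [31, 37, 47, 53] (ST.node (ST.node (ST.node (ST.node (ST.leaf 5475) (ST.leaf 3325)) (ST.node (ST.leaf 3331) (ST.leaf 5477))) (ST.node (ST.node (ST.leaf 8093) (ST.leaf 5487)) (ST.node (ST.leaf 1857) (ST.leaf 3323)))) (ST.node (ST.node (ST.node (ST.leaf 3321) (ST.leaf 1859)) (ST.node (ST.leaf 5485) (ST.leaf 8095))) (ST.node (ST.node (ST.leaf 5479) (ST.leaf 3329)) (ST.node (ST.leaf 3327) (ST.leaf 5473))))) [(1, 0x6), (3, 0x8), (9, 0x101), (10, 0x200), (16, 0x801), (20, 0x4015), (24, 0x8000), (32, 0x10000), (40, 0x20001), (43, 0x5), (44, 0x4), (50, 0x11)],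
  C16.good 0x24994442220660 [30, 38, 47, 53] (ST.node (ST.node (ST.node (ST.node (ST.leaf 5725) (ST.leaf 3499)) (ST.node (ST.leaf 3493) (ST.leaf 5723))) (ST.node (ST.node (ST.leaf 3491) (ST.leaf 1961)) (ST.node (ST.leaf 5735) (ST.leaf 8389)))) (ST.node (ST.node (ST.node (ST.leaf 8391) (ST.leaf 5733)) (ST.node (ST.leaf 1963) (ST.leaf 3489))) (ST.node (ST.node (ST.leaf 5721) (ST.leaf 3495)) (ST.node (ST.leaf 3497) (ST.leaf 5727))))) [(5, 0xad), (6, 0xd2), (9, 0x101), (10, 0x284), (17, 0x108d), (21, 0x8c), (25, 0x84), (34, 0x8a), (40, 0x2008b), (43, 0xb), (44, 0x80), (50, 0x95)],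
  C16.good 0x24998814480690 [28, 39, 47, 53] (ST.node (ST.node (ST.node (ST.node (ST.leaf 2739) (ST.leaf 4605)) (ST.node (ST.leaf 4611) (ST.leaf 2741))) (ST.node (ST.node (ST.leaf 4617) (ST.leaf 7059)) (ST.node (ST.leaf 2733) (ST.leaf 1495)))) (ST.node (ST.node (ST.node (ST.leaf 1493) (ST.leaf 2735)) (ST.node (ST.leaf 7057) (ST.leaf 4619))) (ST.node (ST.node (ST.leaf 2743) (ST.leaf 4609)) (ST.node (ST.leaf 4607) (ST.leaf 2737))))) [(4, 0x56), (7, 0x29), (9, 0x1a4), (10, 0x200), (19, 0x6), (22, 0x885), (26, 0x8a2), (35, 0xab), (40, 0x208ad), (43, 0x24), (44, 0x889), (50, 0x41)],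
  C16.good 0x24a5122811a00a [29, 36, 47, 53] (ST.node (ST.node (ST.node (ST.node (ST.leaf 2635) (ST.leaf 4449)) (ST.node (ST.leaf 4455) (ST.leaf 2637))) (ST.node (ST.node (ST.leaf 4461) (ST.leaf 6871)) (ST.node (ST.leaf 2629) (ST.leaf 1431)))) (ST.node (ST.node (ST.node (ST.leaf 1429) (ST.leaf 2631)) (ST.node (ST.leaf 6869) (ST.leaf 4463))) (ST.node (ST.node (ST.leaf 2639) (ST.leaf 4453)) (ST.node (ST.leaf 4451) (ST.leaf 2633))))) [(1, 0x102), (3, 0x17d), (13, 0x24), (15, 0x354), (16, 0x800), (20, 0x4161), (27, 0x124), (33, 0x20), (40, 0x20070), (42, 0x221), (45, 0x251), (50, 0x360)],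
  C16.good 0x24a5218184a005 [31, 37, 47, 53] (ST.node (ST.node (ST.node (ST.node (ST.leaf 1171) (ST.leaf 2209)) (ST.node (ST.leaf 6131) (ST.leaf 3841))) (ST.node (ST.node (ST.leaf 2217) (ST.leaf 3835)) (ST.node (ST.leaf 3829) (ST.leaf 2215)))) (ST.node (ST.node (ST.node (ST.leaf 2213) (ST.leaf 3831)) (ST.node (ST.leaf 3833) (ST.leaf 2219))) (ST.node (ST.node (ST.leaf 3843) (ST.leaf 6129)) (ST.node (ST.leaf 2211) (ST.leaf 1169))))) [(0, 0x59), (2, 0x6), (13, 0x100), (15, 0x250), (18, 0x2148), (23, 0x102), (24, 0x8000), (32, 0x10000), (40, 0x20050), (42, 0x35a), (45, 0x30a), (50, 0x340)],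
  C16.good 0x24a5444248a090 [30, 38, 47, 53] (ST.node (ST.node (ST.node (ST.node (ST.leaf 5577) (ST.leaf 8203)) (ST.node (ST.leaf 3385) (ST.leaf 1899))) (ST.node (ST.node (ST.leaf 3391) (ST.leaf 5565)) (ST.node (ST.leaf 5571) (ST.leaf 3393)))) (ST.node (ST.node (ST.node (ST.leaf 3395) (ST.leaf 5569)) (ST.node (ST.leaf 5567) (ST.leaf 3389))) (ST.node (ST.node (ST.leaf 1897) (ST.leaf 3387)) (ST.node (ST.leaf 8201) (ST.leaf 5579))))) [(4, 0x59), (7, 0x26), (13, 0x58f), (15, 0x20f), (19, 0x489), (22, 0x1a7), (25, 0x124), (34, 0x48f), (40, 0x2012b), (42, 0x62b), (45, 0x700), (50, 0x76a)],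
  C16.good 0x24a5881422a060 [28, 39, 47, 53] (ST.node (ST.node (ST.node (ST.node (ST.leaf 4823) (ST.leaf 2885)) (ST.node (ST.leaf 2891) (ST.leaf 4825))) (ST.node (ST.node (ST.leaf 7313) (ST.leaf 4835)) (ST.node (ST.leaf 1585) (ST.leaf 2883)))) (ST.node (ST.node (ST.node (ST.leaf 2881) (ST.leaf 1587)) (ST.node (ST.leaf 4833) (ST.leaf 7315))) (ST.node (ST.node (ST.leaf 4827) (ST.leaf 2889)) (ST.node (ST.leaf 2887) (ST.leaf 4821))))) [(5, 0x20b6), (6, 0x20c9), (13, 0x2094), (15, 0x229f), (17, 0x301c), (21, 0x6), (26, 0x2090), (35, 0x85), (40, 0x2209f), (42, 0x201), (45, 0x229e), (50, 0x21b)],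
  C16.good 0x24aa1228220960 [29, 36, 47, 53] (ST.node (ST.node (ST.node (ST.node (ST.leaf 1405) (ST.leaf 2587)) (ST.node (ST.leaf 2581) (ST.leaf 1403))) (ST.node (ST.node (ST.leaf 655) (ST.leaf 1397)) (ST.node (ST.leaf 4391) (ST.leaf 2593)))) (ST.node (ST.node (ST.node (ST.leaf 2595) (ST.leaf 4389)) (ST.node (ST.leaf 1399) (ST.leaf 653))) (ST.node (ST.node (ST.leaf 1401) (ST.leaf 2583)) (ST.node (ST.leaf 2585) (ST.leaf 1407))))) [(5, 0xd20), (6, 0xd5f), (8, 0x889), (11, 0xc06), (17, 0x1007), (21, 0x8), (27, 0x50e), (33, 0xc02), (41, 0x504), (43, 0xd0c), (45, 0xd03), (50, 0x818)],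
  C16.good 0x24aa2181480990 [31, 37, 47, 53] (ST.node (ST.node (ST.node (ST.node (ST.leaf 4143) (ST.leaf 2425)) (ST.node (ST.leaf 591) (ST.leaf 1293))) (ST.node (ST.node (ST.leaf 2413) (ST.leaf 1299)) (ST.node (ST.leaf 1301) (ST.leaf 2419)))) (ST.node (ST.node (ST.node (ST.leaf 2417) (ST.leaf 1303)) (ST.node (ST.leaf 1297) (ST.leaf 2415))) (ST.node (ST.node (ST.leaf 1295) (ST.leaf 589)) (ST.node (ST.leaf 2427) (ST.leaf 4141))))) [(4, 0x97b), (7, 0x904), (8, 0x889), (11, 0x822), (19, 0x122), (22, 0x82e), (24, 0x8000), (32, 0x10000), (41, 0x906), (43, 0x24), (45, 0x2b), (50, 0x41)],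
  C16.good 0x24aa4442840905 [30, 38, 47, 53] (ST.node (ST.node (ST.node (ST.node (ST.leaf 877) (ST.leaf 1763)) (ST.node (ST.leaf 5257) (ST.leaf 3183))) (ST.node (ST.node (ST.leaf 1771) (ST.leaf 3173)) (ST.node (ST.leaf 3171) (ST.leaf 1765)))) (ST.node (ST.node (ST.node (ST.leaf 1767) (ST.leaf 3169)) (ST.node (ST.leaf 3175) (ST.leaf 1769))) (ST.node (ST.node (ST.leaf 3181) (ST.leaf 5259)) (ST.node (ST.leaf 1761) (ST.leaf 879))))) [(0, 0x1509), (2, 0x1576), (8, 0x10a0), (11, 0x157a), (18, 0x3138), (23, 0x1152), (25, 0x115a), (34, 0x12a), (41, 0x120), (43, 0x1470), (45, 0x55a), (50, 0x530)],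
  C16.good 0x24aa881411090a [28, 39, 47, 53] (ST.node (ST.node (ST.node (ST.node (ST.leaf 1665) (ST.leaf 3007)) (ST.node (ST.leaf 3001) (ST.leaf 1663))) (ST.node (ST.node (ST.leaf 815) (ST.leaf 1657)) (ST.node (ST.leaf 5011) (ST.leaf 3013)))) (ST.node (ST.node (ST.node (ST.leaf 3015) (ST.leaf 5009)) (ST.node (ST.leaf 1659) (ST.leaf 813))) (ST.node (ST.node (ST.leaf 1661) (ST.leaf 3003)) (ST.node (ST.leaf 3005) (ST.leaf 1667))))) [(1, 0x1152), (3, 0x112d), (8, 0x10a0), (11, 0x1121), (16, 0x904), (20, 0x4161), (26, 0x1125), (35, 0x155), (41, 0x75), (43, 0x24), (45, 0x1171), (50, 0x41)],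
  C16.good 0x28110605415a21 [26, 34, 44, 53] (ST.node (ST.node (ST.node (ST.node (ST.leaf 12670) (ST.leaf 10388)) (ST.node (ST.leaf 12666) (ST.leaf 12656))) (ST.node (ST.node (ST.leaf 12652) (ST.leaf 12678)) (ST.node (ST.leaf 12672) (ST.leaf 12662)))) (ST.node (ST.node (ST.node (ST.leaf 12660) (ST.leaf 12674)) (ST.node (ST.leaf 12676) (ST.leaf 12654))) (ST.node (ST.node (ST.leaf 12658) (ST.leaf 12664)) (ST.node (ST.leaf 10390) (ST.leaf 12668))))) [(0, 0x15), (5, 0x26), (9, 0x300), (11, 0x218), (12, 0x604), (14, 0x18), (16, 0x800), (22, 0x10), (24, 0x8000), (33, 0x21c), (40, 0x20000), (51, 0x1a)],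
  C16.good 0x2811060541a521 [26, 34, 44, 53] (ST.node (ST.node (ST.node (ST.node (ST.leaf 10533) (ST.leaf 12795)) (ST.node (ST.leaf 12781) (ST.leaf 12791))) (ST.node (ST.node (ST.leaf 12803) (ST.leaf 12777)) (ST.node (ST.leaf 12787) (ST.leaf 12797)))) (ST.node (ST.node (ST.node (ST.leaf 12799) (ST.leaf 12785)) (ST.node (ST.leaf 12779) (ST.leaf 12801))) (ST.node (ST.node (ST.leaf 12789) (ST.leaf 12783)) (ST.node (ST.leaf 12793) (ST.leaf 10535))))) [(0, 0x15), (5, 0x26), (8, 0x480), (10, 0x604), (13, 0x18), (15, 0x404), (16, 0x800), (22, 0x40c), (24, 0x8000), (33, 0x1c), (40, 0x20000), (51, 0x1a)],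
  C16.good 0x28110960825a88 [30, 35, 44, 53] (ST.node (ST.node (ST.node (ST.node (ST.leaf 11422) (ST.leaf 11432)) (ST.node (ST.leaf 11438) (ST.leaf 11412))) (ST.node (ST.node (ST.leaf 11416) (ST.leaf 11426)) (ST.node (ST.leaf 8948) (ST.leaf 11430)))) (ST.node (ST.node (ST.node (ST.leaf 11428) (ST.leaf 8950)) (ST.node (ST.leaf 11424) (ST.leaf 11418))) (ST.node (ST.node (ST.leaf 11414) (ST.leaf 11436)) (ST.node (ST.leaf 11434) (ST.leaf 11420))))) [(3, 0x59), (7, 0x10), (9, 0x150), (11, 0x85), (12, 0x4d0), (14, 0xd5), (17, 0x1056), (23, 0x94), (29, 0x5), (32, 0x10000), (40, 0x20000), (51, 0x56)],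
  C16.good 0x2811096082a588 [30, 35, 44, 53] (ST.node (ST.node (ST.node (ST.node (ST.leaf 11557) (ST.leaf 11547)) (ST.node (ST.leaf 11537) (ST.leaf 11563))) (ST.node (ST.node (ST.leaf 11551) (ST.leaf 11541)) (ST.node (ST.leaf 11555) (ST.leaf 9093)))) (ST.node (ST.node (ST.node (ST.leaf 9095) (ST.leaf 11553)) (ST.node (ST.leaf 11543) (ST.leaf 11549))) (ST.node (ST.node (ST.leaf 11561) (ST.leaf 11539)) (ST.node (ST.leaf 11545) (ST.leaf 11559))))) [(3, 0x9), (7, 0x26), (8, 0x85), (10, 0x336), (13, 0x100), (15, 0x136), (17, 0x1006), (23, 0x111), (29, 0x33), (32, 0x10000), (40, 0x20000), (51, 0x6)],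
  C16.good 0x28115090185a44 [31, 38, 44, 53] (ST.node (ST.node (ST.node (ST.node (ST.leaf 12300) (ST.leaf 12290)) (ST.node (ST.leaf 12280) (ST.leaf 12306))) (ST.node (ST.node (ST.leaf 12294) (ST.leaf 12284)) (ST.node (ST.leaf 12298) (ST.leaf 9956)))) (ST.node (ST.node (ST.node (ST.leaf 9958) (ST.leaf 12296)) (ST.node (ST.leaf 12286) (ST.leaf 12292))) (ST.node (ST.node (ST.leaf 12304) (ST.leaf 12282)) (ST.node (ST.leaf 12288) (ST.leaf 12302))))) [(2, 0x26), (6, 0x59), (9, 0x12a), (11, 0x32), (12, 0x418), (14, 0x99), (19, 0x10), (20, 0x401a), (28, 0x33), (36, 0x81), (40, 0x20000), (51, 0x1a)],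
  C16.good 0x2811509018a544 [31, 38, 44, 53] (ST.node (ST.node (ST.node (ST.node (ST.leaf 9815) (ST.leaf 12173)) (ST.node (ST.leaf 12163) (ST.leaf 12169))) (ST.node (ST.node (ST.leaf 12181) (ST.leaf 12159)) (ST.node (ST.leaf 12165) (ST.leaf 12179)))) (ST.node (ST.node (ST.node (ST.leaf 12177) (ST.leaf 12167)) (ST.node (ST.leaf 12157) (ST.leaf 12183))) (ST.node (ST.node (ST.leaf 12171) (ST.leaf 12161)) (ST.node (ST.leaf 12175) (ST.leaf 9813))))) [(2, 0x26), (6, 0x59), (8, 0x99), (10, 0x1221), (13, 0x1038), (15, 0x32), (19, 0x101a), (20, 0x401a), (28, 0x33), (36, 0x1020), (40, 0x20000), (51, 0x1a)],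
  C16.good 0x2811a00a245a12 [27, 39, 44, 53] (ST.node (ST.node (ST.node (ST.node (ST.leaf 12032) (ST.leaf 12058)) (ST.node (ST.leaf 12052) (ST.leaf 12042))) (ST.node (ST.node (ST.leaf 12050) (ST.leaf 9668)) (ST.node (ST.leaf 12046) (ST.leaf 12036)))) (ST.node (ST.node (ST.node (ST.leaf 12038) (ST.leaf 12044)) (ST.node (ST.leaf 9670) (ST.leaf 12048))) (ST.node (ST.node (ST.leaf 12040) (ST.leaf 12054)) (ST.node (ST.leaf 12056) (ST.leaf 12034))))) [(1, 0x26), (4, 0x15), (9, 0x305), (11, 0x1), (12, 0x1424), (14, 0x1021), (18, 0x2000), (21, 0x102c), (25, 0x5), (37, 0x1225), (40, 0x20000), (51, 0x2c)],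
  C16.good 0x2811a00a24a512 [27, 39, 44, 53] (ST.node (ST.node (ST.node (ST.node (ST.leaf 11929) (ST.leaf 11919)) (ST.node (ST.leaf 11909) (ST.leaf 11935))) (ST.node (ST.node (ST.leaf 11923) (ST.leaf 11913)) (ST.node (ST.leaf 11927) (ST.leaf 9525)))) (ST.node (ST.node (ST.node (ST.leaf 9527) (ST.leaf 11925)) (ST.node (ST.leaf 11915) (ST.leaf 11921))) (ST.node (ST.node (ST.leaf 11933) (ST.leaf 11911)) (ST.node (ST.leaf 11917) (ST.leaf 11931))))) [(1, 0x26), (4, 0x15), (8, 0x41a1), (10, 0x305), (13, 0x4120), (15, 0x1), (18, 0x2000), (21, 0x412d), (25, 0x4124), (37, 0x4020), (40, 0x20000), (51, 0x410d)],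
  C16.good 0x28220605185544 [26, 34, 45, 53] (ST.node (ST.node (ST.node (ST.node (ST.leaf 10170) (ST.leaf 10144)) (ST.node (ST.leaf 10154) (ST.leaf 10164))) (ST.node (ST.node (ST.leaf 7572) (ST.leaf 10162)) (ST.node (ST.leaf 10148) (ST.leaf 10158)))) (ST.node (ST.node (ST.node (ST.leaf 10156) (ST.leaf 10150)) (ST.node (ST.leaf 10160) (ST.leaf 7574))) (ST.node (ST.node (ST.leaf 10166) (ST.leaf 10152)) (ST.node (ST.leaf 10146) (ST.leaf 10168))))) [(2, 0x15), (6, 0x6a), (8, 0xb2), (10, 0x218), (12, 0x419), (14, 0x2b), (19, 0x23), (20, 0x401b), (24, 0x8000), (33, 0x32), (41, 0x33), (51, 0x1a)],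
  C16.good 0x2822060518aa44 [26, 34, 45, 53] (ST.node (ST.node (ST.node (ST.node (ST.leaf 10311) (ST.leaf 10297)) (ST.node (ST.leaf 10291) (ST.leaf 10313))) (ST.node (ST.node (ST.leaf 10301) (ST.leaf 10295)) (ST.node (ST.leaf 10305) (ST.leaf 7723)))) (ST.node (ST.node (ST.node (ST.leaf 7721) (ST.leaf 10307)) (ST.node (ST.leaf 10293) (ST.leaf 10303))) (ST.node (ST.node (ST.leaf 10315) (ST.leaf 10289)) (ST.node (ST.leaf 10299) (ST.leaf 10309))))) [(2, 0x15), (6, 0x6a), (9, 0x501), (11, 0x419), (13, 0x2b), (15, 0x62a), (19, 0x622), (20, 0x4228), (24, 0x8000), (33, 0x201), (41, 0x33), (51, 0x1a)],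
  C16.good 0x28220960245512 [30, 35, 45, 53] (ST.node (ST.node (ST.node (ST.node (ST.leaf 9300) (ST.leaf 9290)) (ST.node (ST.leaf 9280) (ST.leaf 9306))) (ST.node (ST.node (ST.leaf 9294) (ST.leaf 9284)) (ST.node (ST.leaf 9298) (ST.leaf 6684)))) (ST.node (ST.node (ST.node (ST.leaf 6686) (ST.leaf 9296)) (ST.node (ST.leaf 9286) (ST.leaf 9292))) (ST.node (ST.node (ST.leaf 9304) (ST.leaf 9282)) (ST.node (ST.leaf 9288) (ST.leaf 9302))))) [(1, 0x27), (4, 0x11), (8, 0x84), (10, 0x300), (12, 0x505), (14, 0x101), (18, 0x2000), (21, 0x109), (29, 0x4), (32, 0x10000), (41, 0x1), (51, 0x28)],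
  C16.good 0x2822096024aa12 [30, 35, 45, 53] (ST.node (ST.node (ST.node (ST.node (ST.leaf 9443) (ST.leaf 6833)) (ST.node (ST.leaf 9439) (ST.leaf 9429))) (ST.node (ST.node (ST.leaf 9425) (ST.leaf 9451)) (ST.node (ST.leaf 9445) (ST.leaf 9435)))) (ST.node (ST.node (ST.node (ST.leaf 9433) (ST.leaf 9447)) (ST.node (ST.leaf 9449) (ST.leaf 9427))) (ST.node (ST.node (ST.leaf 9431) (ST.leaf 9437)) (ST.node (ST.leaf 6835) (ST.leaf 9441))))) [(1, 0x423), (4, 0x45c), (9, 0x148), (11, 0x480), (13, 0xcd), (15, 0x84), (18, 0x2000), (21, 0x8c), (29, 0x449), (32, 0x10000), (41, 0x405), (51, 0x42c)],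
  C16.good 0x28225090415521 [31, 38, 45, 53] (ST.node (ST.node (ST.node (ST.node (ST.leaf 10872) (ST.leaf 10886)) (ST.node (ST.leaf 10888) (ST.leaf 10866))) (ST.node (ST.node (ST.leaf 10870) (ST.leaf 10876)) (ST.node (ST.leaf 8314) (ST.leaf 10880)))) (ST.node (ST.node (ST.node (ST.leaf 10882) (ST.leaf 8312)) (ST.node (ST.leaf 10878) (ST.leaf 10868))) (ST.node (ST.node (ST.leaf 10864) (ST.leaf 10890)) (ST.node (ST.leaf 10884) (ST.leaf 10874))))) [(0, 0x1053), (5, 0x1028), (8, 0x20d8), (10, 0x125a), (12, 0x1412), (14, 0x2008), (16, 0x2810), (22, 0x101a), (28, 0x1042), (36, 0x301a), (41, 0x100a), (51, 0x1a)],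
  C16.good 0x2822509041aa21 [31, 38, 45, 53] (ST.node (ST.node (ST.node (ST.node (ST.leaf 10733) (ST.leaf 10727)) (ST.node (ST.leaf 10737) (ST.leaf 8167))) (ST.node (ST.node (ST.leaf 10743) (ST.leaf 10729)) (ST.node (ST.leaf 10723) (ST.leaf 10745)))) (ST.node (ST.node (ST.node (ST.leaf 10747) (ST.leaf 10721)) (ST.node (ST.leaf 10731) (ST.leaf 10741))) (ST.node (ST.node (ST.leaf 8165) (ST.leaf 10739)) (ST.node (ST.leaf 10725) (ST.leaf 10735))))) [(0, 0x1083), (5, 0x10fc), (9, 0x1346), (11, 0x125e), (13, 0x125a), (15, 0x128a), (16, 0x1a42), (22, 0x101a), (28, 0x1096), (36, 0x298), (41, 0x10da), (51, 0x1a)],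
  C16.good 0x2822a00a825588 [27, 39, 45, 53] (ST.node (ST.node (ST.node (ST.node (ST.leaf 11022) (ST.leaf 11012)) (ST.node (ST.leaf 11026) (ST.leaf 8460))) (ST.node (ST.node (ST.leaf 11028) (ST.leaf 11018)) (ST.node (ST.leaf 11008) (ST.leaf 11034)))) (ST.node (ST.node (ST.node (ST.leaf 11032) (ST.leaf 11010)) (ST.node (ST.leaf 11016) (ST.leaf 11030))) (ST.node (ST.node (ST.leaf 8462) (ST.leaf 11024)) (ST.node (ST.leaf 11014) (ST.leaf 11020))))) [(3, 0x6a), (7, 0x15), (8, 0x80), (10, 0x336), (12, 0x450), (14, 0x66), (17, 0x1053), (23, 0x27), (25, 0x36), (37, 0x155), (41, 0x33), (51, 0x53)],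
  C16.good 0x2822a00a82aa88 [27, 39, 45, 53] (ST.node (ST.node (ST.node (ST.node (ST.leaf 8851) (ST.leaf 8873)) (ST.node (ST.leaf 8871) (ST.leaf 8857))) (ST.node (ST.node (ST.leaf 8865) (ST.leaf 6243)) (ST.node (ST.leaf 8861) (ST.leaf 8855)))) (ST.node (ST.node (ST.node (ST.leaf 8853) (ST.leaf 8863)) (ST.node (ST.leaf 6241) (ST.leaf 8867))) (ST.node (ST.node (ST.leaf 8859) (ST.leaf 8869)) (ST.node (ST.leaf 8875) (ST.leaf 8849))))) [(3, 0x6a), (7, 0x15), (9, 0x336), (11, 0xa77), (13, 0x2041), (15, 0x2a50), (17, 0x1a42), (23, 0x2000), (25, 0xa27), (37, 0x2833), (41, 0x33), (51, 0xa42)],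
  C16.good 0x28480605826988 [26, 34, 46, 53] (ST.node (ST.node (ST.node (ST.node (ST.leaf 14685) (ST.leaf 14663)) (ST.node (ST.leaf 14669) (ST.leaf 14683))) (ST.node (ST.node (ST.leaf 12895) (ST.leaf 14677)) (ST.node (ST.leaf 14667) (ST.leaf 14673)))) (ST.node (ST.node (ST.node (ST.leaf 14675) (ST.leaf 14665)) (ST.node (ST.leaf 14679) (ST.leaf 12893))) (ST.node (ST.node (ST.leaf 14681) (ST.leaf 14671)) (ST.node (ST.leaf 14661) (ST.leaf 14687))))) [(3, 0x6a), (7, 0x15), (8, 0x5b6), (11, 0x455), (13, 0x36), (14, 0x550), (17, 0x1065), (23, 0x527), (24, 0x8000), (33, 0x155), (43, 0x33), (51, 0x56)],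
  C16.good 0x28480605829688 [26, 34, 46, 53] (ST.node (ST.node (ST.node (ST.node (ST.leaf 14774) (ST.leaf 13016)) (ST.node (ST.leaf 14770) (ST.leaf 14760))) (ST.node (ST.node (ST.leaf 14756) (ST.leaf 14782)) (ST.node (ST.leaf 14776) (ST.leaf 14766)))) (ST.node (ST.node (ST.node (ST.leaf 14764) (ST.leaf 14778)) (ST.node (ST.leaf 14780) (ST.leaf 14758))) (ST.node (ST.node (ST.leaf 14762) (ST.leaf 14768)) (ST.node (ST.leaf 13018) (ST.leaf 14772))))) [(3, 0x6a), (7, 0x15), (9, 0x133), (10, 0x236), (12, 0x455), (15, 0x36), (17, 0x1065), (23, 0x41), (24, 0x8000), (33, 0x50), (43, 0x33), (51, 0x56)],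
  C16.good 0x28480960416921 [30, 35, 46, 53] (ST.node (ST.node (ST.node (ST.node (ST.leaf 13429) (ST.leaf 11283)) (ST.node (ST.leaf 13425) (ST.leaf 13419))) (ST.node (ST.node (ST.leaf 13415) (ST.leaf 13437)) (ST.node (ST.leaf 13435) (ST.leaf 13421)))) (ST.node (ST.node (ST.node (ST.leaf 13423) (ST.leaf 13433)) (ST.node (ST.leaf 13439) (ST.leaf 13413))) (ST.node (ST.node (ST.leaf 13417) (ST.leaf 13427)) (ST.node (ST.leaf 11281) (ST.leaf 13431))))) [(0, 0x40d), (5, 0x472), (8, 0x84), (11, 0x118), (13, 0x504), (14, 0x148), (16, 0xc54), (22, 0x140), (29, 0x418), (32, 0x10000), (43, 0x454), (51, 0x56)],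
  C16.good 0x28480960419621 [30, 35, 46, 53] (ST.node (ST.node (ST.node (ST.node (ST.leaf 14874) (ST.leaf 14860)) (ST.node (ST.leaf 14854) (ST.leaf 14876))) (ST.node (ST.node (ST.leaf 14864) (ST.leaf 14858)) (ST.node (ST.leaf 14868) (ST.leaf 13142)))) (ST.node (ST.node (ST.node (ST.leaf 13140) (ST.leaf 14870)) (ST.node (ST.leaf 14856) (ST.leaf 14866))) (ST.node (ST.node (ST.leaf 14878) (ST.leaf 14852)) (ST.node (ST.leaf 14862) (ST.leaf 14872))))) [(0, 0x11), (5, 0x3e), (9, 0x118), (10, 0x284), (12, 0x498), (15, 0x84), (16, 0x818), (22, 0x8c), (29, 0x4), (32, 0x10000), (43, 0x18), (51, 0x6)],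
  C16.good 0x28485090246912 [31, 38, 46, 53] (ST.node (ST.node (ST.node (ST.node (ST.leaf 14393) (ST.leaf 14383)) (ST.node (ST.leaf 14373) (ST.leaf 14399))) (ST.node (ST.node (ST.leaf 14387) (ST.leaf 14377)) (ST.node (ST.leaf 14391) (ST.leaf 12521)))) (ST.node (ST.node (ST.node (ST.leaf 12523) (ST.leaf 14389)) (ST.node (ST.leaf 14379) (ST.leaf 14385))) (ST.node (ST.node (ST.leaf 14397) (ST.leaf 14375)) (ST.node (ST.leaf 14381) (ST.leaf 14395))))) [(1, 0x114f), (4, 0x1130), (8, 0x18ad), (11, 0x4d), (13, 0x49), (14, 0x1961), (18, 0x290c), (21, 0x1065), (28, 0x1125), (36, 0x90c), (43, 0x1169), (51, 0x110c)],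
  C16.good 0x28485090249612 [31, 38, 46, 53] (ST.node (ST.node (ST.node (ST.node (ST.leaf 14302) (ST.leaf 14276)) (ST.node (ST.leaf 14286) (ST.leaf 14296))) (ST.node (ST.node (ST.leaf 12396) (ST.leaf 14294)) (ST.node (ST.leaf 14280) (ST.leaf 14290)))) (ST.node (ST.node (ST.node (ST.leaf 14288) (ST.leaf 14282)) (ST.node (ST.leaf 14292) (ST.leaf 12398))) (ST.node (ST.node (ST.leaf 14298) (ST.leaf 14284)) (ST.node (ST.leaf 14278) (ST.leaf 14300))))) [(1, 0x863), (4, 0x818), (9, 0x181), (10, 0x280), (12, 0x4c8), (15, 0x49), (18, 0x28c0), (21, 0x881), (28, 0x809), (36, 0x8c0), (43, 0x841), (51, 0x820)],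
  C16.good 0x2848a00a186944 [27, 39, 46, 53] (ST.node (ST.node (ST.node (ST.node (ST.leaf 13803) (ST.leaf 13809)) (ST.node (ST.leaf 11779) (ST.leaf 13813))) (ST.node (ST.node (ST.leaf 13805) (ST.leaf 13819)) (ST.node (ST.leaf 13821) (ST.leaf 13799)))) (ST.node (ST.node (ST.node (ST.leaf 13797) (ST.leaf 13823)) (ST.node (ST.leaf 13817) (ST.leaf 13807))) (ST.node (ST.node (ST.leaf 13815) (ST.leaf 11777)) (ST.node (ST.leaf 13811) (ST.leaf 13801))))) [(2, 0x15), (6, 0x6a), (8, 0x799), (11, 0x32), (13, 0x72b), (14, 0x700), (19, 0x310), (20, 0x451b), (25, 0x418), (37, 0x12a), (43, 0x33), (51, 0x431)],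
  C16.good 0x2848a00a189644 [27, 39, 46, 53] (ST.node (ST.node (ST.node (ST.node (ST.leaf 13726) (ST.leaf 13700)) (ST.node (ST.leaf 13710) (ST.leaf 13720))) (ST.node (ST.node (ST.leaf 11652) (ST.leaf 13718)) (ST.node (ST.leaf 13704) (ST.leaf 13714)))) (ST.node (ST.node (ST.node (ST.leaf 13712) (ST.leaf 13706)) (ST.node (ST.leaf 13716) (ST.leaf 11654))) (ST.node (ST.node (ST.leaf 13722) (ST.leaf 13708)) (ST.node (ST.leaf 13702) (ST.leaf 13724))))) [(2, 0x15), (6, 0x41), (9, 0x2900), (10, 0xa10), (12, 0x2410), (15, 0x19), (19, 0x2000), (20, 0x480b), (25, 0x2011), (37, 0x2818), (43, 0x18), (51, 0x2013)],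
  C16.good 0x28840605246612 [26, 34, 47, 53] (ST.node (ST.node (ST.node (ST.node (ST.leaf 12326) (ST.leaf 12316)) (ST.node (ST.leaf 12330) (ST.leaf 9992))) (ST.node (ST.node (ST.leaf 12332) (ST.leaf 12322)) (ST.node (ST.leaf 12312) (ST.leaf 12338)))) (ST.node (ST.node (ST.node (ST.leaf 12336) (ST.leaf 12314)) (ST.node (ST.leaf 12320) (ST.leaf 12334))) (ST.node (ST.node (ST.leaf 9994) (ST.leaf 12328)) (ST.node (ST.leaf 12318) (ST.leaf 12324))))) [(1, 0x26), (4, 0x15), (9, 0x20501), (10, 0x604), (13, 0x5), (14, 0x20404), (18, 0x2001), (21, 0x40c), (24, 0x8000), (33, 0x1), (42, 0x20000), (51, 0x20029)],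
  C16.good 0x28840605249912 [26, 34, 47, 53] (ST.node (ST.node (ST.node (ST.node (ST.leaf 12215) (ST.leaf 12189)) (ST.node (ST.leaf 12199) (ST.leaf 12209))) (ST.node (ST.node (ST.leaf 9849) (ST.leaf 12207)) (ST.node (ST.leaf 12193) (ST.leaf 12203)))) (ST.node (ST.node (ST.node (ST.leaf 12201) (ST.leaf 12195)) (ST.node (ST.leaf 12205) (ST.leaf 9851))) (ST.node (ST.node (ST.leaf 12211) (ST.leaf 12197)) (ST.node (ST.leaf 12191) (ST.leaf 12213))))) [(1, 0x26), (4, 0x15), (8, 0x81), (11, 0x100), (12, 0x604), (15, 0x5), (18, 0x2104), (21, 0x308), (24, 0x8000), (33, 0x104), (42, 0x305), (51, 0x32c)],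
  C16.good 0x28840960186644 [30, 35, 47, 53] (ST.node (ST.node (ST.node (ST.node (ST.leaf 12068) (ST.leaf 12078)) (ST.node (ST.leaf 9704) (ST.leaf 12082))) (ST.node (ST.node (ST.leaf 12074) (ST.leaf 12084)) (ST.node (ST.leaf 12090) (ST.leaf 12064)))) (ST.node (ST.node (ST.node (ST.leaf 12066) (ST.leaf 12088)) (ST.node (ST.leaf 12086) (ST.leaf 12072))) (ST.node (ST.node (ST.leaf 12080) (ST.leaf 9706)) (ST.node (ST.leaf 12076) (ST.leaf 12070))))) [(2, 0x26), (6, 0x58), (9, 0x20118), (10, 0x2aa), (13, 0xb2), (14, 0x200aa), (19, 0xa2), (20, 0x4028), (29, 0x32), (32, 0x10000), (42, 0x20000), (51, 0x20028)],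
  C16.good 0x28840960189944 [30, 35, 47, 53] (ST.node (ST.node (ST.node (ST.node (ST.leaf 9563) (ST.leaf 11957)) (ST.node (ST.leaf 11947) (ST.leaf 11953))) (ST.node (ST.node (ST.leaf 11965) (ST.leaf 11943)) (ST.node (ST.leaf 11949) (ST.leaf 11963)))) (ST.node (ST.node (ST.node (ST.leaf 11961) (ST.leaf 11951)) (ST.node (ST.leaf 11941) (ST.leaf 11967))) (ST.node (ST.node (ST.leaf 11955) (ST.leaf 11945)) (ST.node (ST.leaf 11959) (ST.leaf 9561))))) [(2, 0x26), (6, 0x59), (8, 0xb2), (11, 0x100), (12, 0x52a), (15, 0x101), (19, 0x111), (20, 0x4029), (29, 0x33), (32, 0x10000), (42, 0x18), (51, 0x31)],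
  C16.good 0x28845090826688 [31, 38, 47, 53] (ST.node (ST.node (ST.node (ST.node (ST.leaf 12690) (ST.leaf 12696)) (ST.node (ST.leaf 10426) (ST.leaf 12700))) (ST.node (ST.node (ST.leaf 12692) (ST.leaf 12706)) (ST.node (ST.leaf 12708) (ST.leaf 12686)))) (ST.node (ST.node (ST.node (ST.leaf 12684) (ST.leaf 12710)) (ST.node (ST.leaf 12704) (ST.leaf 12694))) (ST.node (ST.node (ST.leaf 12702) (ST.leaf 10424)) (ST.node (ST.leaf 12698) (ST.leaf 12688))))) [(3, 0x59), (7, 0x26), (9, 0x20155), (10, 0x250), (13, 0x36), (14, 0x200e6), (17, 0x1065), (23, 0x14), (28, 0x33), (36, 0x85), (42, 0x20000), (51, 0x20065)],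
  C16.good 0x28845090829988 [31, 38, 47, 53] (ST.node (ST.node (ST.node (ST.node (ST.leaf 12823) (ST.leaf 12813)) (ST.node (ST.leaf 12827) (ST.leaf 10569))) (ST.node (ST.node (ST.leaf 12829) (ST.leaf 12819)) (ST.node (ST.leaf 12809) (ST.leaf 12835)))) (ST.node (ST.node (ST.node (ST.leaf 12833) (ST.leaf 12811)) (ST.node (ST.leaf 12817) (ST.leaf 12831))) (ST.node (ST.node (ST.leaf 10571) (ST.leaf 12825)) (ST.node (ST.leaf 12815) (ST.leaf 12821))))) [(3, 0x59), (7, 0x26), (8, 0x185), (11, 0x4047), (12, 0x4412), (15, 0x36), (17, 0x1065), (23, 0x4065), (28, 0x33), (36, 0x4147), (42, 0x163), (51, 0x106)],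
  C16.good 0x2884a00a416621 [27, 39, 47, 53] (ST.node (ST.node (ST.node (ST.node (ST.leaf 11452) (ST.leaf 11466)) (ST.node (ST.leaf 11468) (ST.leaf 11446))) (ST.node (ST.node (ST.leaf 11450) (ST.leaf 11456)) (ST.node (ST.leaf 8986) (ST.leaf 11460)))) (ST.node (ST.node (ST.node (ST.leaf 11462) (ST.leaf 8984)) (ST.node (ST.leaf 11458) (ST.leaf 11448))) (ST.node (ST.node (ST.leaf 11444) (ST.leaf 11470)) (ST.node (ST.leaf 11464) (ST.leaf 11454))))) [(0, 0x15), (5, 0x26), (9, 0x24192), (10, 0x4296), (13, 0x80), (14, 0x20098), (16, 0x488a), (22, 0x14), (25, 0x84), (37, 0x408a), (42, 0x20000), (51, 0x2009e)],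
  C16.good 0x2884a00a419921 [27, 39, 47, 53] (ST.node (ST.node (ST.node (ST.node (ST.leaf 11589) (ST.leaf 11579)) (ST.node (ST.leaf 11569) (ST.leaf 11595))) (ST.node (ST.node (ST.leaf 11583) (ST.leaf 11573)) (ST.node (ST.leaf 11587) (ST.leaf 9129)))) (ST.node (ST.node (ST.node (ST.leaf 9131) (ST.leaf 11585)) (ST.node (ST.leaf 11575) (ST.leaf 11581))) (ST.node (ST.node (ST.leaf 11593) (ST.leaf 11571)) (ST.node (ST.leaf 11577) (ST.leaf 11591))))) [(0, 0x15), (5, 0x26), (8, 0x39c), (11, 0x1316), (12, 0x700), (15, 0x100a), (16, 0x1a16), (22, 0x308), (25, 0x1312), (37, 0x1216), (42, 0x18), (51, 0x1310)],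
  C16.bad 0x330000590f6500 0x3c,
  C16.bad 0x330000590f9a00 0x10000,
  C16.bad 0x33000059f06500 0x3c,
  C16.bad 0x33000059f09a00 0x43,
  C16.bad 0x330000a60f6500 0x425,
  C16.bad 0x330000a60f9a00 0x7f,
  C16.bad 0x330000a6f06500 0x7f,
  C16.bad 0x330000a6f09a00 0x2bc,
  C16.bad 0x33006a0000653c 0x43,
  C16.bad 0x33006a000065c3 0x8000,
  C16.bad 0x33006a00009a3c 0x43,
  C16.bad 0x33006a00009ac3 0x3c,
  C16.bad 0x3300950000653c 0x43,
  C16.bad 0x330095000065c3 0x3c,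
  C16.bad 0x33009500009a3c 0x43,
  C16.bad 0x33009500009ac3 0x3094,
  C16.bad 0x3356005900003c 0x2c3,
  C16.bad 0x335600590000c3 0x2bc,
  C16.bad 0x335600a600003c 0x2c3,
  C16.bad 0x335600a60000c3 0x53c,
  C16.bad 0x33566a000f0000 0x419,
  C16.bad 0x33566a00f00000 0x7f,
  C16.bad 0x335695000f0000 0x7f,
  C16.bad 0x33569500f00000 0x2bc,
  C16.bad 0x33a9005900003c 0x43,
  C16.bad 0x33a900590000c3 0x500,
  C16.bad 0x33a900a600003c 0x2c3,
  C16.bad 0x33a900a60000c3 0x2bc,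
  C16.bad 0x33a96a000f0000 0x3c,
  C16.bad 0x33a96a00f00000 0x3c,
  C16.bad 0x33a995000f0000 0x500,
  C16.bad 0x33a99500f00000 0x43,
  C16.bad 0x3c00006a590f00 0x20000]

set_option Elab.async false in
theorem c16_7_ok : c16_7.all (chkC16 ent 16240 pbsD colsD) = true := by decide +kernel

end Cfsg.Agent.Helper2.RuL
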