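import Cfsg.Agent.Helper2.RuL.Chk4
import Cfsg.Agent.Helper2.RuL.Tab

/-! Certificates for the weight-16 words of the parity code, chunk 8 (helper2; generated). -/

set_option autoImplicit false
set_option maxRecDepth 100000

namespace Cfsg.Agent.Helper2.RuL

open Cfsg.Agent.Helper5.RuLat

def c16_8 : List C16 := [
  C16.bad 0x3c00006a59f000 0x7f,
  C16.bad 0x3c00006aa60f00 0x7f,
  C16.bad 0x3c00006aa6f000 0x4b9a,
  C16.bad 0x3c000095590f00 0x7f,
  C16.bad 0x3c00009559f000 0x380,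
  C16.bad 0x3c000095a60f00 0x20000,
  C16.bad 0x3c000095a6f000 0x7f,
  C16.bad 0x3c005600000f65 0x4c1a,
  C16.bad 0x3c005600000f9a 0x20000,
  C16.bad 0x3c00560000f065 0x339a,
  C16.bad 0x3c00560000f09a 0x30e0,
  C16.bad 0x3c00a900000f65 0x20000,
  C16.bad 0x3c00a900000f9a 0x5,
  C16.bad 0x3c00a90000f065 0x380,
  C16.bad 0x3c00a90000f09a 0x380,
  C16.bad 0x3c33006a000065 0x780,
  C16.bad 0x3c33006a00009a 0x4be5,
  C16.bad 0x3c330095000065 0x301a,
  C16.bad 0x3c33009500009a 0x400,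
  C16.bad 0x3c335600590000 0x7f,
  C16.bad 0x3c335600a60000 0x780,
  C16.bad 0x3c33a900590000 0x400,
  C16.bad 0x3c33a900a60000 0x7f,
  C16.bad 0x3ccc006a000065 0x7308,
  C16.bad 0x3ccc006a00009a 0x780,
  C16.bad 0x3ccc0095000065 0x780,
  C16.bad 0x3ccc009500009a 0x4865,
  C16.bad 0x3ccc5600590000 0x780,
  C16.bad 0x3ccc5600a60000 0x7f,
  C16.bad 0x3ccca900590000 0x7f,
  C16.bad 0x3ccca900a60000 0x780,
  C16.good 0x41551281485060 [31, 36, 46, 54] (ST.node (ST.node (ST.node (ST.node (ST.leaf 2922) (ST.leaf 1612)) (ST.node (ST.leaf 1610) (ST.leaf 2916))) (ST.node (ST.node (ST.leaf 1604) (ST.leaf 782)) (ST.node (ST.leaf 2928) (ST.leaf 4886)))) (ST.node (ST.node (ST.node (ST.leaf 4884) (ST.leaf 2930)) (ST.node (ST.leaf 780) (ST.leaf 1606))) (ST.node (ST.node (ST.leaf 2918) (ST.leaf 1608)) (ST.node (ST.leaf 1614) (ST.leaf 2920))))) [(5, 0x33), (6, 0x4c), (12, 0x498), (14, 0x17), (19, 0x84), (22, 0x81),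 (24, 0x8000), (33, 0x95), (40, 0x2000f), (42, 0x1a), (44, 0x15), (48, 0x40000)],
  C16.good 0x41552128225090 [29, 37, 46, 54] (ST.node (ST.node (ST.node (ST.node (ST.leaf 3432) (ST.leaf 5630)) (ST.node (ST.leaf 1916) (ST.leaf 974))) (ST.node (ST.node (ST.leaf 1922) (ST.leaf 3420)) (ST.node (ST.leaf 3426) (ST.leaf 1924)))) (ST.node (ST.node (ST.node (ST.leaf 1926) (ST.leaf 3424)) (ST.node (ST.leaf 3422) (ST.leaf 1920))) (ST.node (ST.node (ST.leaf 972) (ST.leaf 1918)) (ST.node (ST.leaf 5628) (ST.leaf 3434))))) [(4, 0x14), (7, 0x4c), (12, 0x50f), (14, 0x14d), (17, 0x1141), (21, 0x14e), (27, 0x5), (32, 0x10000), (40, 0x2000f), (42, 0x47), (44, 0x48), (48, 0x40000)],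
  C16.good 0x41554414115005 [28, 38, 46, 54] (ST.node (ST.node (ST.node (ST.node (ST.leaf 2248) (ST.leaf 1198)) (ST.node (ST.leaf 1192) (ST.leaf 2246))) (ST.node (ST.node (ST.leaf 1190) (ST.leaf 524)) (ST.node (ST.leaf 2258) (ST.leaf 3892)))) (ST.node (ST.node (ST.node (ST.leaf 3894) (ST.leaf 2256)) (ST.node (ST.leaf 526) (ST.leaf 1188))) (ST.node (ST.node (ST.leaf 2244) (ST.leaf 1194)) (ST.node (ST.leaf 1196) (ST.leaf 2250))))) [(0, 0x11), (2, 0x4c), (12, 0x450), (14, 0x21a), (16, 0x810), (20, 0x425a), (26, 0x208), (34, 0x250), (40, 0x2025a), (42, 0x1a), (44, 0x240), (48, 0x40000)],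
  C16.good 0x4155884284500a [30, 39, 46, 54] (ST.node (ST.node (ST.node (ST.node (ST.leaf 1448) (ST.leaf 686)) (ST.node (ST.leaf 2676) (ST.leaf 4514))) (ST.node (ST.node (ST.leaf 2670) (ST.leaf 1456)) (ST.node (ST.leaf 1454) (ST.leaf 2664)))) (ST.node (ST.node (ST.node (ST.leaf 2666) (ST.leaf 1452)) (ST.node (ST.leaf 1458) (ST.leaf 2668))) (ST.node (ST.node (ST.leaf 4512) (ST.leaf 2678)) (ST.node (ST.leaf 684) (ST.leaf 1450))))) [(1, 0x33), (3, 0x4c), (12, 0x450), (14, 0x35), (18, 0x2094), (23, 0x14), (25, 0x5), (35, 0x95), (40, 0x20075), (42, 0x60), (44, 0x15), (48, 0x40000)],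
  C16.good 0x415a128184060a [31, 36, 46, 54] (ST.node (ST.node (ST.node (ST.node (ST.leaf 4950) (ST.leaf 2972)) (ST.node (ST.leaf 2970) (ST.leaf 4944))) (ST.node (ST.node (ST.leaf 2964) (ST.leaf 1638)) (ST.node (ST.leaf 4956) (ST.leaf 7462)))) (ST.node (ST.node (ST.node (ST.leaf 7460) (ST.leaf 4958)) (ST.node (ST.leaf 1636) (ST.leaf 2966))) (ST.node (ST.node (ST.leaf 4946) (ST.leaf 2968)) (ST.node (ST.leaf 2974) (ST.leaf 4948))))) [(1, 0x36), (3, 0x49), (9, 0x110), (10, 0x260), (18, 0x2004), (23, 0x41), (24, 0x8000), (33, 0x50), (41, 0x60), (43, 0x65), (44, 0x15), (48, 0x40000)],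
  C16.good 0x415a2128110605 [29, 37, 46, 54] (ST.node (ST.node (ST.node (ST.node (ST.leaf 7758) (ST.leaf 5204)) (ST.node (ST.leaf 1742) (ST.leaf 3132))) (ST.node (ST.node (ST.leaf 5192) (ST.leaf 3138)) (ST.node (ST.leaf 3140) (ST.leaf 5198)))) (ST.node (ST.node (ST.node (ST.leaf 5196) (ST.leaf 3142)) (ST.node (ST.leaf 3136) (ST.leaf 5194))) (ST.node (ST.node (ST.leaf 3134) (ST.leaf 1740)) (ST.node (ST.leaf 5206) (ST.leaf 7756))))) [(0, 0x2023), (2, 0x2004), (9, 0x2122), (10, 0x2202), (16, 0x810), (20, 0x6030), (27, 0x2032), (32, 0x10000), (41, 0x30), (43, 0x2020), (44, 0x2000), (48, 0x40000)],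
  C16.good 0x415a4414220690 [28, 38, 46, 54] (ST.node (ST.node (ST.node (ST.node (ST.leaf 4082) (ST.leaf 2384)) (ST.node (ST.leaf 2382) (ST.leaf 4076))) (ST.node (ST.node (ST.leaf 2376) (ST.leaf 1274)) (ST.node (ST.leaf 4088) (ST.leaf 6426)))) (ST.node (ST.node (ST.node (ST.leaf 6424) (ST.leaf 4090)) (ST.node (ST.leaf 1272) (ST.leaf 2378))) (ST.node (ST.node (ST.leaf 4078) (ST.leaf 2380)) (ST.node (ST.leaf 2386) (ST.leaf 4080))))) [(4, 0x11), (7, 0x6e), (9, 0x52d), (10, 0x247), (17, 0x140c), (21, 0x424), (26, 0x442), (34, 0x465), (41, 0x47), (43, 0x65), (44, 0x428), (48, 0x40000)],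
  C16.good 0x415a8842480660 [30, 39, 46, 54] (ST.node (ST.node (ST.node (ST.node (ST.leaf 1376) (ST.leaf 2546)) (ST.node (ST.leaf 6720) (ST.leaf 4338))) (ST.node (ST.node (ST.leaf 2554) (ST.leaf 4328)) (ST.node (ST.leaf 4326) (ST.leaf 2548)))) (ST.node (ST.node (ST.node (ST.leaf 2550) (ST.leaf 4324)) (ST.node (ST.leaf 4330) (ST.leaf 2552))) (ST.node (ST.node (ST.leaf 4336) (ST.leaf 6722)) (ST.node (ST.leaf 2544) (ST.leaf 1378))))) [(5, 0x3e), (6, 0x41), (9, 0x18d), (10, 0x217), (19, 0x88d), (22, 0x19), (25, 0x89c), (35, 0x95), (41, 0x88b), (43, 0x886), (44, 0x15), (48, 0x40000)],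
  C16.good 0x4166128111a005 [31, 36, 46, 54] (ST.node (ST.node (ST.node (ST.node (ST.leaf 2486) (ST.leaf 4232)) (ST.node (ST.leaf 4238) (ST.leaf 2488))) (ST.node (ST.node (ST.leaf 4244) (ST.leaf 6614)) (ST.node (ST.leaf 2480) (ST.leaf 1338)))) (ST.node (ST.node (ST.node (ST.leaf 1336) (ST.leaf 2482)) (ST.node (ST.leaf 6612) (ST.leaf 4246))) (ST.node (ST.node (ST.leaf 2490) (ST.leaf 4236)) (ST.node (ST.leaf 4234) (ST.leaf 2484))))) [(0, 0x83), (2, 0xfc), (13, 0xd8), (15, 0x12), (16, 0x8da), (20, 0x40e0), (24, 0x8000), (33, 0x20), (41, 0xda), (42, 0x1a), (45, 0x6a), (48, 0x40000)],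
  C16.good 0x4166212884a00a [29, 37, 46, 54] (ST.node (ST.node (ST.node (ST.node (ST.leaf 6318) (ST.leaf 3996)) (ST.node (ST.leaf 1234) (ST.leaf 2312))) (ST.node (ST.node (ST.leaf 3984) (ST.leaf 2318)) (ST.node (ST.leaf 2320) (ST.leaf 3990)))) (ST.node (ST.node (ST.node (ST.leaf 3988) (ST.leaf 2322)) (ST.node (ST.leaf 2316) (ST.leaf 3986))) (ST.node (ST.node (ST.leaf 2314) (ST.leaf 1232)) (ST.node (ST.leaf 3998) (ST.leaf 6316))))) [(1, 0x987), (3, 0x9d8), (13, 0x881), (15, 0x814), (18, 0x2194), (23, 0x885), (27, 0x904), (32, 0x10000), (41, 0x85), (42, 0x941), (45, 0x911), (48, 0x40000)],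
  C16.good 0x4166441448a060 [28, 38, 46, 54] (ST.node (ST.node (ST.node (ST.node (ST.leaf 1806) (ST.leaf 3236)) (ST.node (ST.leaf 7946) (ST.leaf 5360))) (ST.node (ST.node (ST.leaf 3244) (ST.leaf 5354)) (ST.node (ST.leaf 5348) (ST.leaf 3242)))) (ST.node (ST.node (ST.node (ST.leaf 3240) (ST.leaf 5350)) (ST.node (ST.leaf 5352) (ST.leaf 3246))) (ST.node (ST.node (ST.leaf 5362) (ST.leaf 7944)) (ST.node (ST.leaf 3238) (ST.leaf 1804))))) [(5, 0x10ac), (6, 0x10d3), (13, 0x1210), (15, 0x1285), (19, 0x4207), (22, 0x83), (26, 0x5013), (34, 0x298), (41, 0x4099), (42, 0x1a), (45, 0x5006), (48, 0x40000)],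
  C16.good 0x4166884222a090 [30, 39, 46, 54] (ST.node (ST.node (ST.node (ST.node (ST.leaf 5102) (ST.leaf 3072)) (ST.node (ST.leaf 3078) (ST.leaf 5104))) (ST.node (ST.node (ST.leaf 7648) (ST.leaf 5114)) (ST.node (ST.leaf 1700) (ST.leaf 3070)))) (ST.node (ST.node (ST.node (ST.leaf 3068) (ST.leaf 1702)) (ST.node (ST.leaf 5112) (ST.leaf 7650))) (ST.node (ST.node (ST.leaf 5106) (ST.leaf 3076)) (ST.node (ST.leaf 3074) (ST.leaf 5100))))) [(4, 0x1fe), (7, 0x181), (13, 0x428), (15, 0x4d), (17, 0x108c), (21, 0x1a1), (25, 0x5ad), (35, 0x48f), (41, 0x1a7), (42, 0x5c8), (45, 0x6a), (48, 0x40000)],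
  C16.good 0x41691281220990 [31, 36, 46, 54] (ST.node (ST.node (ST.node (ST.node (ST.leaf 4441) (ST.leaf 6843)) (ST.node (ST.leaf 6837) (ST.leaf 4439))) (ST.node (ST.node (ST.leaf 2623) (ST.leaf 4433)) (ST.node (ST.leaf 9455) (ST.leaf 6849)))) (ST.node (ST.node (ST.node (ST.leaf 6851) (ST.leaf 9453)) (ST.node (ST.leaf 4435) (ST.leaf 2621))) (ST.node (ST.node (ST.leaf 4437) (ST.leaf 6839)) (ST.node (ST.leaf 6841) (ST.leaf 4443))))) [(4, 0x36), (7, 0x43), (8, 0xa7), (11, 0x165), (17, 0x1044), (21, 0x41), (24, 0x8000), (33, 0x122), (40, 0x20005), (43, 0x65), (45, 0x60), (48, 0x40000)],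
  C16.good 0x41692128480960 [29, 37, 46, 54] (ST.node (ST.node (ST.node (ST.node (ST.leaf 3817) (ST.leaf 6099)) (ST.node (ST.leaf 6101) (ST.leaf 3823))) (ST.node (ST.node (ST.leaf 6111) (ST.leaf 8733)) (ST.node (ST.leaf 3815) (ST.leaf 2201)))) (ST.node (ST.node (ST.node (ST.leaf 2203) (ST.leaf 3813)) (ST.node (ST.leaf 8735) (ST.leaf 6109))) (ST.node (ST.node (ST.leaf 3821) (ST.leaf 6103)) (ST.node (ST.leaf 6097) (ST.leaf 3819))))) [(5, 0x3c), (6, 0x43), (8, 0x18f), (11, 0x11a), (19, 0x11e), (22, 0x116), (27, 0x2), (32, 0x10000), (40, 0x2000f), (43, 0x18), (45, 0x17), (48, 0x40000)],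
  C16.good 0x4169441484090a [28, 38, 46, 54] (ST.node (ST.node (ST.node (ST.node (ST.leaf 5553) (ST.leaf 8171)) (ST.node (ST.leaf 8173) (ST.leaf 5559))) (ST.node (ST.node (ST.leaf 8183) (ST.leaf 10749)) (ST.node (ST.leaf 5551) (ST.leaf 3377)))) (ST.node (ST.node (ST.node (ST.leaf 3379) (ST.leaf 5549)) (ST.node (ST.leaf 10751) (ST.leaf 8181))) (ST.node (ST.node (ST.leaf 5557) (ST.leaf 8175)) (ST.node (ST.leaf 8169) (ST.leaf 5555))))) [(1, 0x1046), (3, 0x1039), (8, 0x10a0), (11, 0x1035), (18, 0x3024), (23, 0x34), (26, 0x1005), (34, 0x75), (40, 0x21075), (43, 0x65), (45, 0x1010), (48, 0x40000)],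
  C16.good 0x41698842110905 [30, 39, 46, 54] (ST.node (ST.node (ST.node (ST.node (ST.leaf 7283) (ST.leaf 4809)) (ST.node (ST.leaf 4815) (ST.leaf 7285))) (ST.node (ST.node (ST.leaf 9885) (ST.leaf 7295)) (ST.node (ST.leaf 2873) (ST.leaf 4807)))) (ST.node (ST.node (ST.node (ST.leaf 4805) (ST.leaf 2875)) (ST.node (ST.leaf 7293) (ST.leaf 9887))) (ST.node (ST.node (ST.leaf 7287) (ST.leaf 4813)) (ST.node (ST.leaf 4811) (ST.leaf 7281))))) [(0, 0x41), (2, 0x34), (8, 0x1f2), (11, 0x32), (16, 0x932), (20, 0x4120), (25, 0x2), (35, 0x120), (40, 0x20072), (43, 0x12), (45, 0x60), (48, 0x40000)],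
  C16.good 0x41961281220990 [31, 36, 47, 54] (ST.node (ST.node (ST.node (ST.node (ST.leaf 4566) (ST.leaf 6988)) (ST.node (ST.leaf 6986) (ST.leaf 4560))) (ST.node (ST.node (ST.leaf 2704) (ST.leaf 4558)) (ST.node (ST.leaf 9596) (ST.leaf 6998)))) (ST.node (ST.node (ST.node (ST.leaf 6996) (ST.leaf 9598)) (ST.node (ST.leaf 4556) (ST.leaf 2706))) (ST.node (ST.node (ST.leaf 4562) (ST.leaf 6984)) (ST.node (ST.leaf 6990) (ST.leaf 4564))))) [(4, 0x36), (7, 0x49), (8, 0xcd), (11, 0x16f), (17, 0x102b), (21, 0x24), (24, 0x8000), (33, 0x148), (41, 0x5), (42, 0x65), (44, 0x6a), (48, 0x40000)],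
  C16.good 0x41962128480960 [29, 37, 47, 54] (ST.node (ST.node (ST.node (ST.node (ST.leaf 8320) (ST.leaf 5682)) (ST.node (ST.leaf 5676) (ST.leaf 8318))) (ST.node (ST.node (ST.leaf 5674) (ST.leaf 3460)) (ST.node (ST.leaf 8330) (ST.leaf 10892)))) (ST.node (ST.node (ST.node (ST.leaf 10894) (ST.leaf 8328)) (ST.node (ST.leaf 3462) (ST.leaf 5672))) (ST.node (ST.node (ST.leaf 8316) (ST.leaf 5678)) (ST.node (ST.leaf 5680) (ST.leaf 8322))))) [(5, 0x24), (6, 0x5b), (8, 0x197), (11, 0x102), (19, 0x110e), (22, 0x101), (27, 0x101d), (32, 0x10000), (41, 0x17), (42, 0x1007), (44, 0x1008), (48, 0x40000)],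
  C16.good 0x4196441484090a [28, 38, 47, 54] (ST.node (ST.node (ST.node (ST.node (ST.leaf 8032) (ST.leaf 10606)) (ST.node (ST.leaf 5424) (ST.leaf 3294))) (ST.node (ST.node (ST.leaf 5430) (ST.leaf 8020)) (ST.node (ST.leaf 8026) (ST.leaf 5432)))) (ST.node (ST.node (ST.node (ST.leaf 5434) (ST.leaf 8024)) (ST.node (ST.leaf 8022) (ST.leaf 5428))) (ST.node (ST.node (ST.leaf 3292) (ST.leaf 5426)) (ST.node (ST.leaf 10604) (ST.leaf 8034))))) [(1, 0x113), (3, 0x16c), (8, 0x3d0), (11, 0x345), (18, 0x2114), (23, 0x354), (26, 0x255), (34, 0x370), (41, 0x120), (42, 0x65), (44, 0x240), (48, 0x40000)],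
  C16.good 0x41968842110905 [30, 39, 47, 54] (ST.node (ST.node (ST.node (ST.node (ST.leaf 4690) (ST.leaf 7136)) (ST.node (ST.leaf 7134) (ST.leaf 4684))) (ST.node (ST.node (ST.leaf 2788) (ST.leaf 4682)) (ST.node (ST.leaf 9740) (ST.leaf 7146)))) (ST.node (ST.node (ST.node (ST.leaf 7144) (ST.leaf 9742)) (ST.node (ST.leaf 4680) (ST.leaf 2790))) (ST.node (ST.node (ST.leaf 4686) (ST.leaf 7132)) (ST.node (ST.leaf 7138) (ST.leaf 4688))))) [(0, 0x263), (2, 0x20e), (8, 0x3c2), (11, 0x4a), (16, 0x94a), (20, 0x4368), (25, 0x22a), (35, 0x362), (41, 0x242), (42, 0x222), (44, 0x6a), (48, 0x40000)],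
  C16.good 0x4199128111a005 [31, 36, 47, 54] (ST.node (ST.node (ST.node (ST.node (ST.leaf 1389) (ST.leaf 2567)) (ST.node (ST.leaf 6761) (ST.leaf 4371))) (ST.node (ST.node (ST.leaf 2575) (ST.leaf 4361)) (ST.node (ST.leaf 4359) (ST.leaf 2569)))) (ST.node (ST.node (ST.node (ST.leaf 2571) (ST.leaf 4357)) (ST.node (ST.leaf 4363) (ST.leaf 2573))) (ST.node (ST.node (ST.leaf 4369) (ST.leaf 6763)) (ST.node (ST.leaf 2565) (ST.leaf 1391))))) [(0, 0x29), (2, 0x56), (13, 0x68), (15, 0x8), (16, 0x870), (20, 0x403a), (24, 0x8000), (33, 0x50), (40, 0x20070), (43, 0x1a), (44, 0x6a), (48, 0x40000)],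
  C16.good 0x4199212884a00a [29, 37, 47, 54] (ST.node (ST.node (ST.node (ST.node (ST.leaf 6467) (ST.leaf 4121)) (ST.node (ST.leaf 1287) (ST.leaf 2397))) (ST.node (ST.node (ST.leaf 4109) (ST.leaf 2403)) (ST.node (ST.leaf 2405) (ST.leaf 4115)))) (ST.node (ST.node (ST.node (ST.leaf 4113) (ST.leaf 2407)) (ST.node (ST.leaf 2401) (ST.leaf 4111))) (ST.node (ST.node (ST.leaf 2399) (ST.leaf 1285)) (ST.node (ST.leaf 4123) (ST.leaf 6465))))) [(1, 0x4122), (3, 0x410d), (13, 0x4004), (15, 0x4034), (18, 0x6000), (23, 0x131), (27, 0x4124), (32, 0x10000), (40, 0x20020), (43, 0x4111), (44, 0x4131), (48, 0x40000)],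
  C16.good 0x4199441448a060 [28, 38, 47, 54] (ST.node (ST.node (ST.node (ST.node (ST.leaf 5239) (ST.leaf 7797)) (ST.node (ST.leaf 3155) (ST.leaf 1753))) (ST.node (ST.node (ST.leaf 3157) (ST.leaf 5227)) (ST.node (ST.leaf 5229) (ST.leaf 3163)))) (ST.node (ST.node (ST.node (ST.leaf 3161) (ST.leaf 5231)) (ST.node (ST.leaf 5225) (ST.leaf 3159))) (ST.node (ST.node (ST.leaf 1755) (ST.leaf 3153)) (ST.node (ST.leaf 7799) (ST.leaf 5237))))) [(5, 0x29), (6, 0x56), (13, 0x295), (15, 0x200), (19, 0x284), (22, 0x885), (26, 0x809), (34, 0x282), (40, 0x20806), (43, 0x1a), (44, 0x81c), (48, 0x40000)],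
  C16.good 0x4199884222a090 [30, 39, 47, 54] (ST.node (ST.node (ST.node (ST.node (ST.leaf 4991) (ST.leaf 7501)) (ST.node (ST.leaf 2987) (ST.leaf 1649))) (ST.node (ST.node (ST.leaf 2989) (ST.leaf 4979)) (ST.node (ST.leaf 4981) (ST.leaf 2995)))) (ST.node (ST.node (ST.node (ST.leaf 2993) (ST.leaf 4983)) (ST.node (ST.leaf 4977) (ST.leaf 2991))) (ST.node (ST.node (ST.leaf 1651) (ST.leaf 2985)) (ST.node (ST.leaf 7503) (ST.leaf 4989))))) [(4, 0x194), (7, 0x1eb), (13, 0x47), (15, 0x27), (17, 0x1141), (21, 0x6), (25, 0x1c2), (35, 0x8a), (40, 0x201cd), (43, 0x1a7), (44, 0x6a), (48, 0x40000)],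
  C16.good 0x41a5128184060a [31, 36, 47, 54] (ST.node (ST.node (ST.node (ST.node (ST.leaf 1691) (ST.leaf 3049)) (ST.node (ST.leaf 7611) (ST.leaf 5081))) (ST.node (ST.node (ST.leaf 3057) (ST.leaf 5075)) (ST.node (ST.leaf 5069) (ST.leaf 3055)))) (ST.node (ST.node (ST.node (ST.leaf 3053) (ST.leaf 5071)) (ST.node (ST.leaf 5073) (ST.leaf 3059))) (ST.node (ST.node (ST.leaf 5083) (ST.leaf 7609)) (ST.node (ST.leaf 3051) (ST.leaf 1689))))) [(1, 0x26), (3, 0x49), (9, 0x100), (10, 0x260), (18, 0x2001), (23, 0x24), (24, 0x8000), (33, 0x20), (40, 0x20060), (42, 0x65), (45, 0x5), (48, 0x40000)],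
  C16.good 0x41a52128110605 [29, 37, 47, 54] (ST.node (ST.node (ST.node (ST.node (ST.leaf 3219) (ST.leaf 1793)) (ST.node (ST.leaf 5331) (ST.leaf 7905))) (ST.node (ST.node (ST.leaf 5321) (ST.leaf 3227)) (ST.node (ST.leaf 3221) (ST.leaf 5319)))) (ST.node (ST.node (ST.node (ST.leaf 5317) (ST.leaf 3223)) (ST.node (ST.leaf 3225) (ST.leaf 5323))) (ST.node (ST.node (ST.leaf 7907) (ST.leaf 5329)) (ST.node (ST.leaf 1795) (ST.leaf 3217))))) [(0, 0x4b), (2, 0x4), (9, 0x102), (10, 0x242), (16, 0x800), (20, 0x4008), (27, 0x2), (32, 0x10000), (40, 0x20040), (42, 0x8), (45, 0x48), (48, 0x40000)],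
  C16.good 0x41a54414220690 [28, 38, 47, 54] (ST.node (ST.node (ST.node (ST.node (ST.leaf 3959) (ST.leaf 2301)) (ST.node (ST.leaf 2299) (ST.leaf 3953))) (ST.node (ST.node (ST.leaf 2293) (ST.leaf 1223)) (ST.node (ST.leaf 3965) (ST.leaf 6279)))) (ST.node (ST.node (ST.node (ST.leaf 6277) (ST.leaf 3967)) (ST.node (ST.leaf 1221) (ST.leaf 2295))) (ST.node (ST.node (ST.leaf 3955) (ST.leaf 2297)) (ST.node (ST.leaf 2303) (ST.leaf 3957))))) [(4, 0x2011), (7, 0x204c), (9, 0x2105), (10, 0x2247), (17, 0x3041), (21, 0x4b), (26, 0x2048), (34, 0x4d), (40, 0x22047), (42, 0x47), (45, 0x2000), (48, 0x40000)],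
  C16.good 0x41a58842480660 [30, 39, 47, 54] (ST.node (ST.node (ST.node (ST.node (ST.leaf 2467) (ST.leaf 4201)) (ST.node (ST.leaf 4207) (ST.leaf 2469))) (ST.node (ST.node (ST.leaf 4213) (ST.leaf 6575)) (ST.node (ST.leaf 2461) (ST.leaf 1327)))) (ST.node (ST.node (ST.node (ST.leaf 1325) (ST.leaf 2463)) (ST.node (ST.leaf 6573) (ST.leaf 4215))) (ST.node (ST.node (ST.leaf 2471) (ST.leaf 4205)) (ST.node (ST.leaf 4203) (ST.leaf 2465))))) [(5, 0x26), (6, 0x59), (9, 0x195), (10, 0x20f), (19, 0x6), (22, 0x14), (25, 0x2), (35, 0x95), (40, 0x2000d), (42, 0x18), (45, 0x15), (48, 0x40000)],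
  C16.good 0x41aa1281485060 [31, 36, 47, 54] (ST.node (ST.node (ST.node (ST.node (ST.leaf 2839) (ST.leaf 1561)) (ST.node (ST.leaf 1559) (ST.leaf 2833))) (ST.node (ST.node (ST.leaf 1553) (ST.leaf 751)) (ST.node (ST.leaf 2845) (ST.leaf 4763)))) (ST.node (ST.node (ST.node (ST.leaf 4761) (ST.leaf 2847)) (ST.node (ST.leaf 749) (ST.leaf 1555))) (ST.node (ST.node (ST.leaf 2835) (ST.leaf 1557)) (ST.node (ST.leaf 1563) (ST.leaf 2837))))) [(5, 0x8b7), (6, 0x8c8), (12, 0xc06), (14, 0x889), (19, 0x91), (22, 0x810), (24, 0x8000), (33, 0x95), (41, 0x88b), (43, 0x1a), (45, 0x15), (48, 0x40000)],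
  C16.good 0x41aa2128225090 [29, 37, 47, 54] (ST.node (ST.node (ST.node (ST.node (ST.leaf 3341) (ST.leaf 1875)) (ST.node (ST.leaf 1869) (ST.leaf 3339))) (ST.node (ST.node (ST.leaf 1867) (ST.leaf 941)) (ST.node (ST.leaf 3351) (ST.leaf 5505)))) (ST.node (ST.node (ST.node (ST.leaf 5507) (ST.leaf 3349)) (ST.node (ST.leaf 943) (ST.leaf 1865))) (ST.node (ST.node (ST.leaf 3337) (ST.leaf 1871)) (ST.node (ST.leaf 1873) (ST.leaf 3343))))) [(4, 0x7b), (7, 0x4), (12, 0x547), (14, 0x122), (17, 0x1121), (21, 0x12e), (27, 0x4d), (32, 0x10000), (41, 0x47), (43, 0x28), (45, 0x27), (48, 0x40000)],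
  C16.good 0x41aa4414115005 [28, 38, 47, 54] (ST.node (ST.node (ST.node (ST.node (ST.leaf 3509) (ST.leaf 1979)) (ST.node (ST.leaf 1973) (ST.leaf 3507))) (ST.node (ST.node (ST.leaf 1971) (ST.leaf 1005)) (ST.node (ST.leaf 3519) (ST.leaf 5753)))) (ST.node (ST.node (ST.node (ST.leaf 5755) (ST.leaf 3517)) (ST.node (ST.leaf 1007) (ST.leaf 1969))) (ST.node (ST.node (ST.leaf 3505) (ST.leaf 1975)) (ST.node (ST.leaf 1977) (ST.leaf 3511))))) [(0, 0x1039), (2, 0x1046), (12, 0x1462), (14, 0x104a), (16, 0x810), (20, 0x4038), (26, 0x1042), (34, 0x32), (41, 0x38), (43, 0x1a), (45, 0x1028), (48, 0x40000)],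
  C16.good 0x41aa884284500a [30, 39, 47, 54] (ST.node (ST.node (ST.node (ST.node (ST.leaf 2763) (ST.leaf 4637)) (ST.node (ST.leaf 1503) (ST.leaf 717))) (ST.node (ST.node (ST.leaf 1505) (ST.leaf 2751)) (ST.node (ST.leaf 2753) (ST.leaf 1511)))) (ST.node (ST.node (ST.node (ST.leaf 1509) (ST.leaf 2755)) (ST.node (ST.leaf 2749) (ST.leaf 1507))) (ST.node (ST.node (ST.leaf 719) (ST.leaf 1501)) (ST.node (ST.leaf 4639) (ST.leaf 2761))))) [(1, 0x10d3), (3, 0x10ac), (12, 0x14c5), (14, 0x10a0), (18, 0x3061), (23, 0x10e1), (25, 0x10e5), (35, 0x95), (41, 0x75), (43, 0x1080), (45, 0x15), (48, 0x40000)],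
  C16.good 0x42110660826921 [30, 34, 44, 54] (ST.node (ST.node (ST.node (ST.node (ST.leaf 12027) (ST.leaf 14005)) (ST.node (ST.leaf 13995) (ST.leaf 14001))) (ST.node (ST.node (ST.leaf 14013) (ST.leaf 13991)) (ST.node (ST.leaf 13997) (ST.leaf 14011)))) (ST.node (ST.node (ST.node (ST.leaf 14009) (ST.leaf 13999)) (ST.node (ST.leaf 13989) (ST.leaf 14015))) (ST.node (ST.node (ST.leaf 14003) (ST.leaf 13993)) (ST.node (ST.leaf 14007) (ST.leaf 12025))))) [(0, 0x59), (5, 0x26), (8, 0x590), (11, 0x45a), (13, 0x10), (14, 0x54a), (17, 0x1056), (23, 0x514), (29, 0x1a), (33, 0x140), (40, 0x20000), (49, 0x56)],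
  C16.good 0x42110660829621 [30, 34, 44, 54] (ST.node (ST.node (ST.node (ST.node (ST.leaf 13910) (ST.leaf 11900)) (ST.node (ST.leaf 13906) (ST.leaf 13896))) (ST.node (ST.node (ST.leaf 13892) (ST.leaf 13918)) (ST.node (ST.leaf 13912) (ST.leaf 13902)))) (ST.node (ST.node (ST.node (ST.leaf 13900) (ST.leaf 13914)) (ST.node (ST.leaf 13916) (ST.leaf 13894))) (ST.node (ST.node (ST.leaf 13898) (ST.leaf 13904)) (ST.node (ST.leaf 11902) (ST.leaf 13908))))) [(0, 0x59), (5, 0x26), (9, 0x100), (10, 0x210), (12, 0x45a), (15, 0x10), (17, 0x1056), (23, 0x4e), (29, 0x1a), (33, 0x50), (40, 0x20000), (49, 0x56)],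
  C16.good 0x42110905416988 [26, 35, 44, 54] (ST.node (ST.node (ST.node (ST.node (ST.leaf 14185) (ST.leaf 14195)) (ST.node (ST.leaf 12273) (ST.leaf 14199))) (ST.node (ST.node (ST.leaf 14191) (ST.leaf 14201)) (ST.node (ST.leaf 14207) (ST.leaf 14181)))) (ST.node (ST.node (ST.node (ST.leaf 14183) (ST.leaf 14205)) (ST.node (ST.leaf 14203) (ST.leaf 14189))) (ST.node (ST.node (ST.leaf 14197) (ST.leaf 12275)) (ST.node (ST.leaf 14193) (ST.leaf 14187))))) [(3, 0x3c), (7, 0x26), (8, 0xa2), (11, 0x117), (13, 0x135), (14, 0x122), (16, 0x800), (22, 0x103), (24, 0x8000), (32, 0x10000), (40, 0x20000), (49, 0x33)],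
  C16.good 0x42110905419688 [26, 35, 44, 54] (ST.node (ST.node (ST.node (ST.node (ST.leaf 14094) (ST.leaf 14104)) (ST.node (ST.leaf 14110) (ST.leaf 14084))) (ST.node (ST.node (ST.leaf 14088) (ST.leaf 14098)) (ST.node (ST.leaf 12148) (ST.leaf 14102)))) (ST.node (ST.node (ST.node (ST.leaf 14100) (ST.leaf 12150)) (ST.node (ST.leaf 14096) (ST.leaf 14090))) (ST.node (ST.node (ST.leaf 14086) (ST.leaf 14108)) (ST.node (ST.leaf 14106) (ST.leaf 14092))))) [(3, 0x9), (7, 0x4), (9, 0x100), (10, 0x280), (12, 0x480), (15, 0x80), (16, 0x800), (22, 0x83), (24, 0x8000), (32, 0x10000), (40, 0x20000), (49, 0x6)],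
  C16.good 0x4211500a246944 [27, 38, 44, 54] (ST.node (ST.node (ST.node (ST.node (ST.leaf 13531) (ST.leaf 13517)) (ST.node (ST.leaf 13511) (ST.leaf 13533))) (ST.node (ST.node (ST.leaf 13521) (ST.leaf 13515)) (ST.node (ST.leaf 13525) (ST.leaf 11407)))) (ST.node (ST.node (ST.node (ST.leaf 11405) (ST.leaf 13527)) (ST.node (ST.leaf 13513) (ST.leaf 13523))) (ST.node (ST.node (ST.leaf 13535) (ST.leaf 13509)) (ST.node (ST.leaf 13519) (ST.leaf 13529))))) [(2, 0x26), (6, 0x59), (8, 0x9a1), (11, 0x32), (13, 0xa), (14, 0x821), (18, 0x292a), (21, 0x119), (25, 0x1a), (36, 0x919), (40, 0x20000), (49, 0x33)],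
  C16.good 0x4211500a249644 [27, 38, 44, 54] (ST.node (ST.node (ST.node (ST.node (ST.leaf 13604) (ST.leaf 13630)) (ST.node (ST.leaf 13624) (ST.leaf 13614))) (ST.node (ST.node (ST.leaf 13622) (ST.leaf 11528)) (ST.node (ST.leaf 13618) (ST.leaf 13608)))) (ST.node (ST.node (ST.node (ST.leaf 13610) (ST.leaf 13616)) (ST.node (ST.leaf 11530) (ST.leaf 13620))) (ST.node (ST.node (ST.leaf 13612) (ST.leaf 13626)) (ST.node (ST.leaf 13628) (ST.leaf 13606))))) [(2, 0x1e), (6, 0x59), (9, 0x18a), (10, 0x29a), (12, 0x49a), (15, 0xa), (18, 0x2081), (21, 0x99), (25, 0x1a), (36, 0x8a), (40, 0x20000), (49, 0xb)],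
  C16.good 0x4211a090186912 [31, 39, 44, 54] (ST.node (ST.node (ST.node (ST.node (ST.leaf 12645) (ST.leaf 14487)) (ST.node (ST.leaf 14473) (ST.leaf 14483))) (ST.node (ST.node (ST.leaf 14495) (ST.leaf 14469)) (ST.node (ST.leaf 14479) (ST.leaf 14489)))) (ST.node (ST.node (ST.node (ST.leaf 14491) (ST.leaf 14477)) (ST.node (ST.leaf 14471) (ST.leaf 14493))) (ST.node (ST.node (ST.leaf 14481) (ST.leaf 14475)) (ST.node (ST.leaf 14485) (ST.leaf 12647))))) [(1, 0x26), (4, 0x3c), (8, 0x3a8), (11, 0x28), (13, 0x70d), (14, 0x30d), (19, 0x721), (20, 0x4528), (28, 0x40d), (37, 0x528), (40, 0x20000), (49, 0x424)],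
  C16.good 0x4211a090189612 [31, 39, 44, 54] (ST.node (ST.node (ST.node (ST.node (ST.leaf 14570) (ST.leaf 14576)) (ST.node (ST.leaf 12770) (ST.leaf 14580))) (ST.node (ST.node (ST.leaf 14572) (ST.leaf 14586)) (ST.node (ST.leaf 14588) (ST.leaf 14566)))) (ST.node (ST.node (ST.node (ST.leaf 14564) (ST.leaf 14590)) (ST.node (ST.leaf 14584) (ST.leaf 14574))) (ST.node (ST.node (ST.leaf 14582) (ST.leaf 12768)) (ST.node (ST.leaf 14578) (ST.leaf 14568))))) [(1, 0x26), (4, 0x3c), (9, 0x904), (10, 0xa21), (12, 0x428), (15, 0x28), (19, 0x4), (20, 0x4804), (28, 0xd), (37, 0x804), (40, 0x20000), (49, 0x24)],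
  C16.good 0x42220660246644 [30, 34, 45, 54] (ST.node (ST.node (ST.node (ST.node (ST.leaf 11326) (ST.leaf 11332)) (ST.node (ST.leaf 8842) (ST.leaf 11336))) (ST.node (ST.node (ST.leaf 11328) (ST.leaf 11342)) (ST.node (ST.leaf 11344) (ST.leaf 11322)))) (ST.node (ST.node (ST.node (ST.leaf 11320) (ST.leaf 11346)) (ST.node (ST.leaf 11340) (ST.leaf 11330))) (ST.node (ST.node (ST.leaf 11338) (ST.leaf 8840)) (ST.node (ST.leaf 11334) (ST.leaf 11324))))) [(2, 0x84), (6, 0xfb), (9, 0x590), (10, 0x622), (13, 0xb2), (14, 0x480), (18, 0x20a3), (21, 0x403), (29, 0x1a), (33, 0x28), (41, 0xa2), (49, 0x8b)],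
  C16.good 0x42220660249944 [30, 34, 45, 54] (ST.node (ST.node (ST.node (ST.node (ST.leaf 13203) (ST.leaf 13189)) (ST.node (ST.leaf 13183) (ST.leaf 13205))) (ST.node (ST.node (ST.leaf 13193) (ST.leaf 13187)) (ST.node (ST.leaf 13197) (ST.leaf 11003)))) (ST.node (ST.node (ST.node (ST.leaf 11001) (ST.leaf 13199)) (ST.node (ST.leaf 13185) (ST.leaf 13195))) (ST.node (ST.node (ST.leaf 13207) (ST.leaf 13181)) (ST.node (ST.leaf 13191) (ST.leaf 13201))))) [(2, 0x336), (6, 0x349), (8, 0xb2), (11, 0x210), (12, 0x622), (15, 0x300), (18, 0x2201), (21, 0x31), (29, 0x1a), (33, 0x138), (41, 0x310), (49, 0x339)],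
  C16.good 0x42220905186612 [26, 35, 45, 54] (ST.node (ST.node (ST.node (ST.node (ST.leaf 12958) (ST.leaf 12932)) (ST.node (ST.leaf 12942) (ST.leaf 12952))) (ST.node (ST.node (ST.leaf 10712) (ST.leaf 12950)) (ST.node (ST.leaf 12936) (ST.leaf 12946)))) (ST.node (ST.node (ST.node (ST.leaf 12944) (ST.leaf 12938)) (ST.node (ST.leaf 12948) (ST.leaf 10714))) (ST.node (ST.node (ST.leaf 12954) (ST.leaf 12940)) (ST.node (ST.leaf 12934) (ST.leaf 12956))))) [(1, 0x403), (4, 0x419), (9, 0x10d), (10, 0x28d), (13, 0x80), (14, 0x480), (19, 0x84), (20, 0x440d), (24, 0x8000), (32, 0x10000), (41, 0x40d), (49, 0x40c)],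
  C16.good 0x42220905189912 [26, 35, 45, 54] (ST.node (ST.node (ST.node (ST.node (ST.leaf 13063) (ST.leaf 13069)) (ST.node (ST.leaf 10859) (ST.leaf 13073))) (ST.node (ST.node (ST.leaf 13065) (ST.leaf 13079)) (ST.node (ST.leaf 13081) (ST.leaf 13059)))) (ST.node (ST.node (ST.node (ST.leaf 13057) (ST.leaf 13083)) (ST.node (ST.leaf 13077) (ST.leaf 13067))) (ST.node (ST.node (ST.leaf 13075) (ST.leaf 10857)) (ST.node (ST.leaf 13071) (ST.leaf 13061))))) [(1, 0x2b), (4, 0x31), (8, 0xa8), (11, 0x10d), (12, 0x525), (15, 0x125), (19, 0x109), (20, 0x400d), (24, 0x8000), (32, 0x10000), (41, 0xd), (49, 0x24)],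
  C16.good 0x4222500a826621 [27, 38, 45, 54] (ST.node (ST.node (ST.node (ST.node (ST.leaf 11820) (ST.leaf 11830)) (ST.node (ST.leaf 9416) (ST.leaf 11834))) (ST.node (ST.node (ST.leaf 11826) (ST.leaf 11836)) (ST.node (ST.leaf 11842) (ST.leaf 11816)))) (ST.node (ST.node (ST.node (ST.leaf 11818) (ST.leaf 11840)) (ST.node (ST.leaf 11838) (ST.leaf 11824))) (ST.node (ST.node (ST.leaf 11832) (ST.leaf 9418)) (ST.node (ST.leaf 11828) (ST.leaf 11822))))) [(0, 0x403), (5, 0x47c), (9, 0x140), (10, 0x60a), (13, 0x450), (14, 0x49a), (17, 0x1416), (23, 0x44e), (25, 0x1a), (36, 0x4d0), (41, 0x45a), (49, 0x416)],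
  C16.good 0x4222500a829921 [27, 38, 45, 54] (ST.node (ST.node (ST.node (ST.node (ST.leaf 11715) (ST.leaf 11701)) (ST.node (ST.leaf 11695) (ST.leaf 11717))) (ST.node (ST.node (ST.leaf 11705) (ST.leaf 11699)) (ST.node (ST.leaf 11709) (ST.leaf 9275)))) (ST.node (ST.node (ST.node (ST.leaf 9273) (ST.leaf 11711)) (ST.node (ST.leaf 11697) (ST.leaf 11707))) (ST.node (ST.node (ST.leaf 11719) (ST.leaf 11693)) (ST.node (ST.leaf 11703) (ST.leaf 11713))))) [(0, 0x113), (5, 0x16c), (8, 0x18a), (11, 0x4154), (12, 0x4444), (15, 0x140), (17, 0x1106), (23, 0x414a), (25, 0x1a), (36, 0x411e), (41, 0x14a), (49, 0x106)],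
  C16.good 0x4222a090416688 [31, 39, 45, 54] (ST.node (ST.node (ST.node (ST.node (ST.leaf 12586) (ST.leaf 12560)) (ST.node (ST.leaf 12570) (ST.leaf 12580))) (ST.node (ST.node (ST.leaf 10280) (ST.leaf 12578)) (ST.node (ST.leaf 12564) (ST.leaf 12574)))) (ST.node (ST.node (ST.node (ST.leaf 12572) (ST.leaf 12566)) (ST.node (ST.leaf 12576) (ST.leaf 10282))) (ST.node (ST.node (ST.leaf 12582) (ST.leaf 12568)) (ST.node (ST.leaf 12562) (ST.leaf 12584))))) [(3, 0x10b9), (7, 0x10a3), (9, 0x5124), (10, 0x52a4), (13, 0x10a7), (14, 0x1012), (16, 0x5891), (22, 0x1091), (28, 0x1027), (37, 0x4014), (41, 0x1085), (49, 0x91)],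
  C16.good 0x4222a090419988 [31, 39, 45, 54] (ST.node (ST.node (ST.node (ST.node (ST.leaf 12463) (ST.leaf 12437)) (ST.node (ST.leaf 12447) (ST.leaf 12457))) (ST.node (ST.node (ST.leaf 10137) (ST.leaf 12455)) (ST.node (ST.leaf 12441) (ST.leaf 12451)))) (ST.node (ST.node (ST.node (ST.leaf 12449) (ST.leaf 12443)) (ST.node (ST.leaf 12453) (ST.leaf 10139))) (ST.node (ST.node (ST.leaf 12459) (ST.leaf 12445)) (ST.node (ST.leaf 12439) (ST.leaf 12461))))) [(3, 0x1339), (7, 0x1323), (8, 0x10a7), (11, 0x1327), (12, 0x1412), (15, 0x1012), (16, 0x1a27), (22, 0x1024), (28, 0x1312), (37, 0x122), (41, 0x1305), (49, 0x24)],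
  C16.good 0x42480660415a88 [30, 34, 46, 54] (ST.node (ST.node (ST.node (ST.node (ST.leaf 11794) (ST.leaf 11804)) (ST.node (ST.leaf 11810) (ST.leaf 11784))) (ST.node (ST.node (ST.leaf 11788) (ST.leaf 11798)) (ST.node (ST.leaf 9380) (ST.leaf 11802)))) (ST.node (ST.node (ST.node (ST.leaf 11800) (ST.leaf 9382)) (ST.node (ST.leaf 11796) (ST.leaf 11790))) (ST.node (ST.node (ST.leaf 11786) (ST.leaf 11808)) (ST.node (ST.leaf 11806) (ST.leaf 11792))))) [(3, 0xfb), (7, 0x84), (9, 0x3a2), (11, 0x217), (12, 0x622), (14, 0x17), (16, 0x8a2), (22, 0x36), (29, 0xc7), (33, 0x250), (43, 0xa2), (49, 0x56)],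
  C16.good 0x4248066041a588 [30, 34, 46, 54] (ST.node (ST.node (ST.node (ST.node (ST.leaf 11675) (ST.leaf 11665)) (ST.node (ST.leaf 11679) (ST.leaf 9237))) (ST.node (ST.node (ST.leaf 11681) (ST.leaf 11671)) (ST.node (ST.leaf 11661) (ST.leaf 11687)))) (ST.node (ST.node (ST.node (ST.leaf 11685) (ST.leaf 11663)) (ST.node (ST.leaf 11669) (ST.leaf 11683))) (ST.node (ST.node (ST.leaf 9239) (ST.leaf 11677)) (ST.node (ST.leaf 11667) (ST.leaf 11673))))) [(3, 0x14e), (7, 0x131), (8, 0x597), (10, 0x622), (13, 0x17), (15, 0x422), (16, 0x917), (22, 0x403), (29, 0x172), (33, 0x50), (43, 0x117), (49, 0x56)],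
  C16.good 0x42480905825a21 [26, 35, 46, 54] (ST.node (ST.node (ST.node (ST.node (ST.leaf 12542) (ST.leaf 12532)) (ST.node (ST.leaf 12546) (ST.leaf 10244))) (ST.node (ST.node (ST.leaf 12548) (ST.leaf 12538)) (ST.node (ST.leaf 12528) (ST.leaf 12554)))) (ST.node (ST.node (ST.node (ST.leaf 12552) (ST.leaf 12530)) (ST.node (ST.leaf 12536) (ST.leaf 12550))) (ST.node (ST.node (ST.leaf 10246) (ST.leaf 12544)) (ST.node (ST.leaf 12534) (ST.leaf 12540))))) [(0, 0x43), (5, 0x36), (9, 0x140), (11, 0x80), (12, 0x4c0), (14, 0xd0), (17, 0x1046), (23, 0x84), (24, 0x8000), (32, 0x10000), (43, 0x10), (49, 0x56)],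
  C16.good 0x4248090582a521 [26, 35, 46, 54] (ST.node (ST.node (ST.node (ST.node (ST.leaf 12417) (ST.leaf 12411)) (ST.node (ST.leaf 12421) (ST.leaf 10103))) (ST.node (ST.node (ST.leaf 12427) (ST.leaf 12413)) (ST.node (ST.leaf 12407) (ST.leaf 12429)))) (ST.node (ST.node (ST.node (ST.leaf 12431) (ST.leaf 12405)) (ST.node (ST.leaf 12415) (ST.leaf 12425))) (ST.node (ST.node (ST.leaf 10101) (ST.leaf 12423)) (ST.node (ST.leaf 12409) (ST.leaf 12419))))) [(0, 0x13), (5, 0x3c), (8, 0x8a), (10, 0x310), (13, 0x11a), (15, 0x110), (17, 0x101c), (23, 0x11e), (24, 0x8000), (32, 0x10000), (43, 0x1a), (49, 0x6)],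
  C16.good 0x4248500a185a12 [27, 38, 46, 54] (ST.node (ST.node (ST.node (ST.node (ST.leaf 11306) (ST.leaf 8804)) (ST.node (ST.leaf 11302) (ST.leaf 11292))) (ST.node (ST.node (ST.leaf 11288) (ST.leaf 11314)) (ST.node (ST.leaf 11308) (ST.leaf 11298)))) (ST.node (ST.node (ST.node (ST.leaf 11296) (ST.leaf 11310)) (ST.node (ST.leaf 11312) (ST.leaf 11290))) (ST.node (ST.node (ST.leaf 11294) (ST.leaf 11300)) (ST.node (ST.leaf 8806) (ST.leaf 11304))))) [(1, 0x1046), (4, 0x1039), (9, 0x140), (11, 0x4d), (12, 0x1408), (14, 0x10a0), (19, 0x104c), (20, 0x4000), (25, 0x1005), (36, 0xcd), (43, 0x1060), (49, 0x102c)],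
  C16.good 0x4248500a18a512 [27, 38, 46, 54] (ST.node (ST.node (ST.node (ST.node (ST.leaf 13173) (ST.leaf 13151)) (ST.node (ST.leaf 13157) (ST.leaf 13171))) (ST.node (ST.node (ST.leaf 10967) (ST.leaf 13165)) (ST.node (ST.leaf 13155) (ST.leaf 13161)))) (ST.node (ST.node (ST.node (ST.leaf 13163) (ST.leaf 13153)) (ST.node (ST.leaf 13167) (ST.leaf 10965))) (ST.node (ST.node (ST.leaf 13169) (ST.leaf 13159)) (ST.node (ST.leaf 13149) (ST.leaf 13175))))) [(1, 0x403), (4, 0x47c), (8, 0x4e5), (10, 0x162d), (13, 0x1408), (15, 0x4d), (19, 0x104c), (20, 0x4000), (25, 0x440), (36, 0x1020), (43, 0x425), (49, 0x469)],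
  C16.good 0x4248a090245a44 [31, 39, 46, 54] (ST.node (ST.node (ST.node (ST.node (ST.leaf 12924) (ST.leaf 12902)) (ST.node (ST.leaf 12908) (ST.leaf 12922))) (ST.node (ST.node (ST.leaf 10678) (ST.leaf 12916)) (ST.node (ST.leaf 12906) (ST.leaf 12912)))) (ST.node (ST.node (ST.node (ST.leaf 12914) (ST.leaf 12904)) (ST.node (ST.leaf 12918) (ST.leaf 10676))) (ST.node (ST.node (ST.leaf 12920) (ST.leaf 12910)) (ST.node (ST.leaf 12900) (ST.leaf 12926))))) [(2, 0x36), (6, 0x43), (9, 0x3a2), (11, 0x32), (12, 0x1402), (14, 0x1012), (18, 0x2091), (21, 0x1081), (28, 0xb2), (37, 0x1292), (43, 0x10), (49, 0x91)],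
  C16.good 0x4248a09024a544 [31, 39, 46, 54] (ST.node (ST.node (ST.node (ST.node (ST.leaf 13031) (ST.leaf 13037)) (ST.node (ST.leaf 10823) (ST.leaf 13041))) (ST.node (ST.node (ST.leaf 13033) (ST.leaf 13047)) (ST.node (ST.leaf 13049) (ST.leaf 13027)))) (ST.node (ST.node (ST.node (ST.leaf 13025) (ST.leaf 13051)) (ST.node (ST.leaf 13045) (ST.leaf 13035))) (ST.node (ST.node (ST.leaf 13043) (ST.leaf 10821)) (ST.node (ST.leaf 13039) (ST.leaf 13029))))) [(2, 0x3c), (6, 0x43), (8, 0x9a1), (10, 0xa3b), (13, 0x38), (15, 0x32), (18, 0x2902), (21, 0x938), (28, 0x92b), (37, 0x122), (43, 0x1a), (49, 0x902)],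
  C16.good 0x42840660185512 [30, 34, 47, 54] (ST.node (ST.node (ST.node (ST.node (ST.leaf 9142) (ST.leaf 9148)) (ST.node (ST.leaf 6538) (ST.leaf 9152))) (ST.node (ST.node (ST.leaf 9144) (ST.leaf 9158)) (ST.node (ST.leaf 9160) (ST.leaf 9138)))) (ST.node (ST.node (ST.node (ST.leaf 9136) (ST.leaf 9162)) (ST.node (ST.leaf 9156) (ST.leaf 9146))) (ST.node (ST.node (ST.leaf 9154) (ST.leaf 6536)) (ST.node (ST.leaf 9150) (ST.leaf 9140))))) [(1, 0x26), (4, 0x59), (8, 0xcd), (10, 0x820d), (12, 0x8440), (14, 0x68), (19, 0x49), (20, 0x4028), (29, 0x8000), (33, 0x804d), (42, 0x8065), (49, 0x804c)],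
  C16.good 0x4284066018aa12 [30, 34, 47, 54] (ST.node (ST.node (ST.node (ST.node (ST.leaf 6391) (ST.leaf 9009)) (ST.node (ST.leaf 8999) (ST.leaf 9005))) (ST.node (ST.node (ST.leaf 9017) (ST.leaf 8995)) (ST.node (ST.leaf 9001) (ST.leaf 9015)))) (ST.node (ST.node (ST.node (ST.leaf 9013) (ST.leaf 9003)) (ST.node (ST.leaf 8993) (ST.leaf 9019))) (ST.node (ST.node (ST.leaf 9007) (ST.leaf 8997)) (ST.node (ST.leaf 9011) (ST.leaf 6389))))) [(1, 0x26), (4, 0x59), (9, 0x2148), (11, 0x2020), (13, 0x68), (15, 0x625), (19, 0x604), (20, 0x662d), (29, 0x2460), (33, 0x228), (42, 0x2405), (49, 0x242c)],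
  C16.good 0x42840905245544 [26, 35, 47, 54] (ST.node (ST.node (ST.node (ST.node (ST.leaf 10586) (ST.leaf 10596)) (ST.node (ST.leaf 10602) (ST.leaf 10576))) (ST.node (ST.node (ST.leaf 10580) (ST.leaf 10590)) (ST.node (ST.leaf 8016) (ST.leaf 10594)))) (ST.node (ST.node (ST.node (ST.leaf 10592) (ST.leaf 8018)) (ST.node (ST.leaf 10588) (ST.leaf 10582))) (ST.node (ST.node (ST.leaf 10578) (ST.leaf 10600)) (ST.node (ST.leaf 10598) (ST.leaf 10584))))) [(2, 0x4), (6, 0x49), (8, 0x80), (10, 0x30a), (12, 0x50a), (14, 0x100), (18, 0x2001), (21, 0x103), (24, 0x8000), (32, 0x10000), (42, 0xa), (49, 0x1)],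
  C16.good 0x4284090524aa44 [26, 35, 47, 54] (ST.node (ST.node (ST.node (ST.node (ST.leaf 10459) (ST.leaf 10433)) (ST.node (ST.leaf 10443) (ST.leaf 10453))) (ST.node (ST.node (ST.leaf 7869) (ST.leaf 10451)) (ST.node (ST.leaf 10437) (ST.leaf 10447)))) (ST.node (ST.node (ST.node (ST.leaf 10445) (ST.leaf 10439)) (ST.node (ST.leaf 10449) (ST.leaf 7871))) (ST.node (ST.node (ST.leaf 10455) (ST.leaf 10441)) (ST.node (ST.leaf 10435) (ST.leaf 10457))))) [(2, 0x26), (6, 0x59), (9, 0x122), (11, 0x90), (13, 0xb2), (15, 0xa2), (18, 0x2033), (21, 0x83), (24, 0x8000), (32, 0x10000), (42, 0x1a), (49, 0x33)],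
  C16.good 0x4284500a415588 [27, 38, 47, 54] (ST.node (ST.node (ST.node (ST.node (ST.leaf 9586) (ST.leaf 6980)) (ST.node (ST.leaf 9582) (ST.leaf 9572))) (ST.node (ST.node (ST.leaf 9568) (ST.leaf 9594)) (ST.node (ST.leaf 9588) (ST.leaf 9578)))) (ST.node (ST.node (ST.node (ST.leaf 9576) (ST.leaf 9590)) (ST.node (ST.leaf 9592) (ST.leaf 9570))) (ST.node (ST.node (ST.leaf 9574) (ST.leaf 9580)) (ST.node (ST.leaf 6982) (ST.leaf 9584))))) [(3, 0x59), (7, 0x26), (8, 0x20a7), (10, 0x250), (12, 0x450), (14, 0x2012), (16, 0x2827), (22, 0x14), (25, 0x22), (36, 0x2027), (42, 0x47), (49, 0x33)],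
  C16.good 0x4284500a41aa88 [27, 38, 47, 54] (ST.node (ST.node (ST.node (ST.node (ST.leaf 7129) (ST.leaf 9731)) (ST.node (ST.leaf 9717) (ST.leaf 9727))) (ST.node (ST.node (ST.leaf 9739) (ST.leaf 9713)) (ST.node (ST.leaf 9723) (ST.leaf 9733)))) (ST.node (ST.node (ST.node (ST.leaf 9735) (ST.leaf 9721)) (ST.node (ST.leaf 9715) (ST.leaf 9737))) (ST.node (ST.node (ST.leaf 9725) (ST.leaf 9719)) (ST.node (ST.leaf 9729) (ST.leaf 7131))))) [(3, 0x59), (7, 0x26), (9, 0x3d0), (11, 0x4e5), (13, 0x2e5), (15, 0x250), (16, 0xcd0), (22, 0x6a1), (25, 0x622), (36, 0x4d0), (42, 0x647), (49, 0x33)],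
  C16.good 0x4284a090825521 [31, 39, 47, 54] (ST.node (ST.node (ST.node (ST.node (ST.leaf 9856) (ST.leaf 9882)) (ST.node (ST.leaf 9876) (ST.leaf 9866))) (ST.node (ST.node (ST.leaf 9874) (ST.leaf 7276)) (ST.node (ST.leaf 9870) (ST.leaf 9860)))) (ST.node (ST.node (ST.node (ST.leaf 9862) (ST.leaf 9868)) (ST.node (ST.leaf 7278) (ST.leaf 9872))) (ST.node (ST.node (ST.leaf 9864) (ST.leaf 9878)) (ST.node (ST.leaf 9880) (ST.leaf 9858))))) [(0, 0x49), (5, 0x26), (8, 0x9ce), (10, 0xa44), (12, 0xd0e), (14, 0x904), (17, 0x1908), (23, 0x4), (28, 0x94e), (37, 0x804), (42, 0xa), (49, 0x902)],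
  C16.good 0x4284a09082aa21 [31, 39, 47, 54] (ST.node (ST.node (ST.node (ST.node (ST.leaf 10017) (ST.leaf 7427)) (ST.node (ST.leaf 10013) (ST.leaf 10007))) (ST.node (ST.node (ST.leaf 10003) (ST.leaf 10025)) (ST.node (ST.leaf 10023) (ST.leaf 10009)))) (ST.node (ST.node (ST.node (ST.leaf 10011) (ST.leaf 10021)) (ST.node (ST.leaf 10027) (ST.leaf 10001))) (ST.node (ST.node (ST.leaf 10005) (ST.leaf 10015)) (ST.node (ST.leaf 7425) (ST.leaf 10019))))) [(0, 0x59), (5, 0x26), (9, 0x904), (11, 0xa44), (13, 0x2002), (15, 0x2012), (17, 0x1a58), (23, 0x2a42), (28, 0xa0e), (37, 0x2242), (42, 0x1a), (49, 0xa42)],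
  C16.good 0x44141150054155 [30, 36, 44, 54] (ST.node (ST.node (ST.node (ST.node (ST.leaf 11348) (ST.leaf 154)) (ST.node (ST.leaf 11368) (ST.leaf 11358))) (ST.node (ST.node (ST.leaf 11366) (ST.leaf 20)) (ST.node (ST.leaf 11362) (ST.leaf 11352)))) (ST.node (ST.node (ST.node (ST.leaf 11354) (ST.leaf 11360)) (ST.node (ST.leaf 22) (ST.leaf 11364))) (ST.node (ST.node (ST.leaf 11356) (ST.leaf 11370)) (ST.node (ST.leaf 152) (ST.leaf 11350))))) [(0, 0x209), (2, 0x4), (4, 0x401a), (6, 0x424a), (8, 0x288), (14, 0x2), (16, 0x800), (18, 0x600a), (28, 0x208), (32, 0x10000), (42, 0xa), (50, 0x400a)],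
  C16.good 0x441411500541aa [30, 36, 44, 54] (ST.node (ST.node (ST.node (ST.node (ST.leaf 13217) (ST.leaf 13231)) (ST.node (ST.leaf 393) (ST.leaf 13211))) (ST.node (ST.node (ST.leaf 13215) (ST.leaf 13221)) (ST.node (ST.leaf 83) (ST.leaf 13225)))) (ST.node (ST.node (ST.node (ST.leaf 13227) (ST.leaf 81)) (ST.node (ST.leaf 13223) (ST.leaf 13213))) (ST.node (ST.node (ST.leaf 13209) (ST.leaf 395)) (ST.node (ST.leaf 13229) (ST.leaf 13219))))) [(1, 0x106), (3, 0x59), (5, 0x124), (7, 0x4), (8, 0x85), (14, 0x100), (16, 0x800), (18, 0x2014), (28, 0x5), (32, 0x10000), (42, 0x155), (50, 0x14)],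
  C16.good 0x4414220690415a [26, 37, 44, 54] (ST.node (ST.node (ST.node (ST.node (ST.leaf 13634) (ST.leaf 564)) (ST.node (ST.leaf 13654) (ST.leaf 13640))) (ST.node (ST.node (ST.leaf 13648) (ST.leaf 178)) (ST.node (ST.leaf 13644) (ST.leaf 13638)))) (ST.node (ST.node (ST.node (ST.leaf 13636) (ST.leaf 13646)) (ST.node (ST.leaf 176) (ST.leaf 13650))) (ST.node (ST.node (ST.leaf 13642) (ST.leaf 13652)) (ST.node (ST.leaf 566) (ST.leaf 13632))))) [(1, 0x26), (3, 0x329), (4, 0x2014), (6, 0x2364), (8, 0x1a0), (14, 0x100), (20, 0x6305), (23, 0x121), (25, 0x5), (33, 0x120), (42, 0x305), (50, 0x2001)],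
  C16.good 0x441422069041a5 [26, 37, 44, 54] (ST.node (ST.node (ST.node (ST.node (ST.leaf 13547) (ST.leaf 13557)) (ST.node (ST.leaf 535) (ST.leaf 13537))) (ST.node (ST.node (ST.leaf 13541) (ST.leaf 13551)) (ST.node (ST.leaf 161) (ST.leaf 13555)))) (ST.node (ST.node (ST.node (ST.leaf 13553) (ST.leaf 163)) (ST.node (ST.leaf 13549) (ST.leaf 13543))) (ST.node (ST.node (ST.leaf 13539) (ST.leaf 533)) (ST.node (ST.leaf 13559) (ST.leaf 13545))))) [(0, 0x59), (2, 0x356), (5, 0x978), (7, 0xa08), (8, 0x2d0), (14, 0x100), (20, 0x4348), (23, 0x800), (25, 0x30a), (33, 0x250), (42, 0xa), (50, 0x912)],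
  C16.good 0x441448a0604166 [31, 38, 44, 54] (ST.node (ST.node (ST.node (ST.node (ST.leaf 342) (ST.leaf 14632)) (ST.node (ST.leaf 14622) (ST.leaf 14628))) (ST.node (ST.node (ST.leaf 892) (ST.leaf 14618)) (ST.node (ST.leaf 14624) (ST.leaf 14638)))) (ST.node (ST.node (ST.node (ST.leaf 14636) (ST.leaf 14626)) (ST.node (ST.leaf 14616) (ST.leaf 894))) (ST.node (ST.node (ST.leaf 14630) (ST.leaf 14620)) (ST.node (ST.leaf 14634) (ST.leaf 340))))) [(1, 0xf02), (2, 0x604), (5, 0x920), (6, 0x59), (8, 0xc89), (14, 0xb09), (21, 0x209), (22, 0x1), (29, 0x600), (35, 0xa09), (42, 0x909), (50, 0x11)]]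

set_option Elab.async false in
theorem c16_8_ok : c16_8.all (chkC16 ent 16240 pbsD colsD) = true := by decide +kernel

end Cfsg.Agent.Helper2.RuL
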