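import Cfsg.Agent.Helper2.RuL.Chk4
import Cfsg.Agent.Helper2.RuL.Tab

/-! Certificates for the weight-16 words of the parity code, chunk 9 (helper2; generated). -/

set_option autoImplicit false
set_option maxRecDepth 100000

namespace Cfsg.Agent.Helper2.RuL

open Cfsg.Agent.Helper5.RuLat

def c16_9 : List C16 := [
  C16.good 0x441448a0604199 [31, 38, 44, 54] (ST.node (ST.node (ST.node (ST.node (ST.leaf 14533) (ST.leaf 14527)) (ST.node (ST.leaf 14537) (ST.leaf 327))) (ST.node (ST.node (ST.leaf 14543) (ST.leaf 14529)) (ST.node (ST.leaf 14523) (ST.leaf 861)))) (ST.node (ST.node (ST.node (ST.leaf 863) (ST.leaf 14521)) (ST.node (ST.leaf 14531) (ST.leaf 14541))) (ST.node (ST.node (ST.leaf 325) (ST.leaf 14539)) (ST.node (ST.leaf 14525) (ST.leaf 14535))))) [(0, 0x11221), (3, 0x112e), (4, 0x10356), (7, 0x26), (8, 0x100a2), (14, 0x10100), (21, 0x10106), (22, 0x11206), (29, 0x22), (35, 0x10000), (42, 0x10300),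 (50, 0x1166)],
  C16.good 0x441484090a4169 [27, 39, 44, 54] (ST.node (ST.node (ST.node (ST.node (ST.leaf 15859) (ST.leaf 945)) (ST.node (ST.leaf 15855) (ST.leaf 15845))) (ST.node (ST.node (ST.leaf 15841) (ST.leaf 1883)) (ST.node (ST.leaf 15861) (ST.leaf 15851)))) (ST.node (ST.node (ST.node (ST.leaf 15849) (ST.leaf 15863)) (ST.node (ST.leaf 1881) (ST.leaf 15843))) (ST.node (ST.node (ST.leaf 15847) (ST.leaf 15853)) (ST.node (ST.leaf 947) (ST.leaf 15857))))) [(0, 0x601), (3, 0x20c), (5, 0x26), (6, 0x454), (8, 0x80), (14, 0x602), (17, 0x1206), (19, 0x4), (24, 0x8000), (34, 0x600), (42, 0x402), (50, 0x614)],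
  C16.good 0x441484090a4196 [27, 39, 44, 54] (ST.node (ST.node (ST.node (ST.node (ST.leaf 1828) (ST.leaf 15786)) (ST.node (ST.leaf 15792) (ST.leaf 15806))) (ST.node (ST.node (ST.leaf 914) (ST.leaf 15800)) (ST.node (ST.leaf 15790) (ST.leaf 15796)))) (ST.node (ST.node (ST.node (ST.leaf 15798) (ST.leaf 15788)) (ST.node (ST.leaf 15802) (ST.leaf 912))) (ST.node (ST.node (ST.leaf 15804) (ST.leaf 15794)) (ST.node (ST.leaf 15784) (ST.leaf 1830))))) [(1, 0x42b), (2, 0x124), (4, 0x59), (7, 0x529), (8, 0x80), (14, 0x428), (17, 0x1421), (19, 0x409), (24, 0x8000), (34, 0x528), (42, 0x500), (50, 0x441)],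
  C16.good 0x4428115090185a [30, 36, 45, 54] (ST.node (ST.node (ST.node (ST.node (ST.leaf 274) (ST.leaf 14224)) (ST.node (ST.leaf 14214) (ST.leaf 14220))) (ST.node (ST.node (ST.leaf 756) (ST.leaf 14210)) (ST.node (ST.leaf 14216) (ST.leaf 14230)))) (ST.node (ST.node (ST.node (ST.leaf 14228) (ST.leaf 14218)) (ST.node (ST.leaf 14208) (ST.leaf 758))) (ST.node (ST.node (ST.leaf 14222) (ST.leaf 14212)) (ST.node (ST.leaf 14226) (ST.leaf 272))))) [(1, 0x1026), (3, 0x102c), (4, 0x2034), (6, 0x2041), (11, 0x1020), (12, 0x1400), (20, 0x6000), (23, 0x1024), (28, 0x1005), (32, 0x10000), (43, 0x1000), (50, 0x3024)],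
  C16.good 0x442811509018a5 [30, 36, 45, 54] (ST.node (ST.node (ST.node (ST.node (ST.leaf 259) (ST.leaf 14129)) (ST.node (ST.leaf 14119) (ST.leaf 14125))) (ST.node (ST.node (ST.leaf 725) (ST.leaf 14115)) (ST.node (ST.leaf 14121) (ST.leaf 14135)))) (ST.node (ST.node (ST.node (ST.leaf 14133) (ST.leaf 14123)) (ST.node (ST.leaf 14113) (ST.leaf 727))) (ST.node (ST.node (ST.leaf 14127) (ST.leaf 14117)) (ST.node (ST.leaf 14131) (ST.leaf 257))))) [(0, 0x1053), (2, 0x1106), (5, 0x1922), (7, 0x1802), (11, 0x1100), (12, 0x1400), (20, 0x5012), (23, 0x1800), (28, 0x1150), (32, 0x10000), (43, 0x1000), (50, 0x812)],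
  C16.good 0x44282206051855 [26, 37, 45, 54] (ST.node (ST.node (ST.node (ST.node (ST.leaf 12486) (ST.leaf 12472)) (ST.node (ST.leaf 12466) (ST.leaf 296))) (ST.node (ST.node (ST.leaf 12476) (ST.leaf 12470)) (ST.node (ST.leaf 12480) (ST.leaf 58)))) (ST.node (ST.node (ST.node (ST.leaf 56) (ST.leaf 12482)) (ST.node (ST.leaf 12468) (ST.leaf 12478))) (ST.node (ST.node (ST.leaf 298) (ST.leaf 12464)) (ST.node (ST.leaf 12474) (ST.leaf 12484))))) [(0, 0x21), (2, 0x86), (4, 0x4192), (6, 0x4140), (11, 0x1a0), (12, 0x582), (16, 0x8a0), (18, 0x6000), (25, 0x2), (33, 0x120), (43, 0xa0), (50, 0x4120)],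
  C16.good 0x442822060518aa [26, 37, 45, 54] (ST.node (ST.node (ST.node (ST.node (ST.leaf 12607) (ST.leaf 61)) (ST.node (ST.leaf 12603) (ST.leaf 12593))) (ST.node (ST.node (ST.leaf 12589) (ST.leaf 315)) (ST.node (ST.leaf 12609) (ST.leaf 12599)))) (ST.node (ST.node (ST.node (ST.leaf 12597) (ST.leaf 12611)) (ST.node (ST.leaf 313) (ST.leaf 12591))) (ST.node (ST.node (ST.leaf 12595) (ST.leaf 12601)) (ST.node (ST.leaf 63) (ST.leaf 12605))))) [(1, 0x86), (3, 0x8c), (5, 0x21), (7, 0x54), (11, 0x1d5), (12, 0x550), (16, 0x8d5), (18, 0x2114), (25, 0xd0), (33, 0x155), (43, 0xd5), (50, 0x41)],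
  C16.good 0x442848a00a1869 [31, 38, 45, 54] (ST.node (ST.node (ST.node (ST.node (ST.leaf 15283) (ST.leaf 1361)) (ST.node (ST.leaf 15303) (ST.leaf 15289))) (ST.node (ST.node (ST.leaf 15297) (ST.leaf 627)) (ST.node (ST.leaf 15293) (ST.leaf 15287)))) (ST.node (ST.node (ST.node (ST.leaf 15285) (ST.leaf 15295)) (ST.node (ST.leaf 625) (ST.leaf 15299))) (ST.node (ST.node (ST.leaf 15291) (ST.leaf 15301)) (ST.node (ST.leaf 1363) (ST.leaf 15281))))) [(0, 0x383), (3, 0x20e), (5, 0x1a4), (6, 0x56), (11, 0x200), (12, 0x580), (17, 0x1106), (19, 0x206), (29, 0x2), (35, 0x282), (43, 0x182), (50, 0x394)],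
  C16.good 0x442848a00a1896 [31, 38, 45, 54] (ST.node (ST.node (ST.node (ST.node (ST.leaf 15246) (ST.leaf 15232)) (ST.node (ST.leaf 15226) (ST.leaf 1308))) (ST.node (ST.node (ST.leaf 15236) (ST.leaf 15230)) (ST.node (ST.leaf 15240) (ST.leaf 594)))) (ST.node (ST.node (ST.node (ST.leaf 592) (ST.leaf 15242)) (ST.node (ST.leaf 15228) (ST.leaf 15238))) (ST.node (ST.node (ST.leaf 1310) (ST.leaf 15224)) (ST.node (ST.leaf 15234) (ST.leaf 15244))))) [(1, 0x383), (2, 0x1a4), (4, 0x271), (7, 0x29), (11, 0x200), (12, 0x580), (17, 0x1321), (19, 0x21), (29, 0x3a8), (35, 0x128), (43, 0x228), (50, 0x41)],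
  C16.good 0x44288409601866 [27, 39, 45, 54] (ST.node (ST.node (ST.node (ST.node (ST.leaf 702) (ST.leaf 14040)) (ST.node (ST.leaf 14050) (ST.leaf 14060))) (ST.node (ST.node (ST.leaf 244) (ST.leaf 14058)) (ST.node (ST.leaf 14044) (ST.leaf 14054)))) (ST.node (ST.node (ST.node (ST.leaf 14052) (ST.leaf 14046)) (ST.node (ST.leaf 14056) (ST.leaf 246))) (ST.node (ST.node (ST.leaf 14062) (ST.leaf 14048)) (ST.node (ST.leaf 14042) (ST.leaf 700))))) [(1, 0x1010b), (2, 0x84), (5, 0x29), (6, 0x101d9), (11, 0x80), (12, 0x580), (21, 0x109), (22, 0x101), (24, 0x8000), (34, 0x10000), (43, 0x10180), (50, 0x91)],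
  C16.good 0x44288409601899 [27, 39, 45, 54] (ST.node (ST.node (ST.node (ST.node (ST.leaf 231) (ST.leaf 13961)) (ST.node (ST.leaf 13951) (ST.leaf 13957))) (ST.node (ST.node (ST.leaf 669) (ST.leaf 13947)) (ST.node (ST.leaf 13953) (ST.leaf 13967)))) (ST.node (ST.node (ST.node (ST.leaf 13965) (ST.leaf 13955)) (ST.node (ST.leaf 13945) (ST.leaf 671))) (ST.node (ST.node (ST.leaf 13959) (ST.leaf 13949)) (ST.node (ST.leaf 13963) (ST.leaf 229))))) [(0, 0x11a1), (3, 0x110c), (4, 0x56), (7, 0x84), (11, 0x80), (12, 0x580), (21, 0x1a4), (22, 0x1024), (24, 0x8000), (34, 0x122), (43, 0xa2), (50, 0x1166)],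
  C16.good 0x444211500a2469 [30, 36, 46, 54] (ST.node (ST.node (ST.node (ST.node (ST.leaf 529) (ST.leaf 15131)) (ST.node (ST.leaf 15117) (ST.leaf 15127))) (ST.node (ST.node (ST.leaf 1207) (ST.leaf 15113)) (ST.node (ST.leaf 15123) (ST.leaf 15133)))) (ST.node (ST.node (ST.node (ST.leaf 15135) (ST.leaf 15121)) (ST.node (ST.leaf 15115) (ST.leaf 1205))) (ST.node (ST.node (ST.leaf 15125) (ST.leaf 15119)) (ST.node (ST.leaf 15129) (ST.leaf 531))))) [(0, 0x83), (3, 0x40c), (5, 0x424), (6, 0xd4), (10, 0x282), (13, 0x400), (17, 0x1404), (19, 0x404), (28, 0x480), (32, 0x10000), (41, 0x402), (50, 0x416)],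
  C16.good 0x444211500a2496 [30, 36, 46, 54] (ST.node (ST.node (ST.node (ST.node (ST.leaf 1256) (ST.leaf 15170)) (ST.node (ST.leaf 15176) (ST.leaf 15190))) (ST.node (ST.node (ST.leaf 562) (ST.leaf 15184)) (ST.node (ST.leaf 15174) (ST.leaf 15180)))) (ST.node (ST.node (ST.node (ST.leaf 15182) (ST.leaf 15172)) (ST.node (ST.leaf 15186) (ST.leaf 560))) (ST.node (ST.node (ST.leaf 15188) (ST.leaf 15178)) (ST.node (ST.leaf 15168) (ST.leaf 1258))))) [(1, 0x83), (2, 0x40c), (4, 0x559), (7, 0x181), (10, 0x380), (13, 0x400), (17, 0x1189), (19, 0x189), (28, 0x480), (32, 0x10000), (41, 0x500), (50, 0x441)],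
  C16.good 0x44422206602466 [26, 37, 46, 54] (ST.node (ST.node (ST.node (ST.node (ST.leaf 13466) (ST.leaf 508)) (ST.node (ST.leaf 13486) (ST.leaf 13472))) (ST.node (ST.node (ST.leaf 13480) (ST.leaf 150)) (ST.node (ST.leaf 13476) (ST.leaf 13470)))) (ST.node (ST.node (ST.node (ST.leaf 13468) (ST.leaf 13478)) (ST.node (ST.leaf 148) (ST.leaf 13482))) (ST.node (ST.node (ST.leaf 13474) (ST.leaf 13484)) (ST.node (ST.leaf 510) (ST.leaf 13464))))) [(1, 0x8b), (2, 0x404), (5, 0x9a0), (6, 0xd50), (10, 0xb89), (13, 0xc09), (21, 0x509), (22, 0x181), (25, 0x480), (33, 0xc89), (41, 0xd09), (50, 0x411)],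
  C16.good 0x44422206602499 [26, 37, 46, 54] (ST.node (ST.node (ST.node (ST.node (ST.leaf 14923) (ST.leaf 389)) (ST.node (ST.leaf 14919) (ST.leaf 14909))) (ST.node (ST.node (ST.leaf 14905) (ST.leaf 991)) (ST.node (ST.leaf 14925) (ST.leaf 14915)))) (ST.node (ST.node (ST.node (ST.leaf 14913) (ST.leaf 14927)) (ST.node (ST.leaf 989) (ST.leaf 14907))) (ST.node (ST.node (ST.leaf 14911) (ST.leaf 14917)) (ST.node (ST.leaf 391) (ST.leaf 14921))))) [(0, 0x1403), (3, 0x108c), (4, 0xf4), (7, 0x404), (10, 0x2a2), (13, 0x522), (21, 0x186), (22, 0x1186), (25, 0x480), (33, 0x5a2), (41, 0x422), (50, 0x10e6)],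
  C16.good 0x444248a090245a [31, 38, 46, 54] (ST.node (ST.node (ST.node (ST.node (ST.leaf 14698) (ST.leaf 14708)) (ST.node (ST.leaf 918) (ST.leaf 14688))) (ST.node (ST.node (ST.leaf 14692) (ST.leaf 14702)) (ST.node (ST.leaf 352) (ST.leaf 14706)))) (ST.node (ST.node (ST.node (ST.leaf 14704) (ST.leaf 354)) (ST.node (ST.leaf 14700) (ST.leaf 14694))) (ST.node (ST.node (ST.leaf 14690) (ST.leaf 916)) (ST.node (ST.leaf 14710) (ST.leaf 14696))))) [(1, 0x403), (3, 0x40c), (4, 0x2514), (6, 0x2544), (10, 0x605), (13, 0x185), (20, 0x6405), (23, 0x404), (29, 0x585), (35, 0x480), (41, 0x405), (50, 0x2084)],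
  C16.good 0x444248a09024a5 [31, 38, 46, 54] (ST.node (ST.node (ST.node (ST.node (ST.leaf 949) (ST.leaf 14787)) (ST.node (ST.leaf 14793) (ST.leaf 14807))) (ST.node (ST.node (ST.leaf 371) (ST.leaf 14801)) (ST.node (ST.leaf 14791) (ST.leaf 14797)))) (ST.node (ST.node (ST.node (ST.leaf 14799) (ST.leaf 14789)) (ST.node (ST.leaf 14803) (ST.leaf 369))) (ST.node (ST.node (ST.leaf 14805) (ST.leaf 14795)) (ST.node (ST.leaf 14785) (ST.leaf 951))))) [(0, 0x403), (2, 0x40c), (5, 0x8a2), (7, 0x882), (10, 0x60a), (13, 0x18a), (20, 0x4512), (23, 0x88a), (29, 0x58a), (35, 0x480), (41, 0x40a), (50, 0xd12)],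
  C16.good 0x44428409052455 [27, 39, 46, 54] (ST.node (ST.node (ST.node (ST.node (ST.leaf 12848) (ST.leaf 12842)) (ST.node (ST.leaf 12852) (ST.leaf 70))) (ST.node (ST.node (ST.leaf 12858) (ST.leaf 12844)) (ST.node (ST.leaf 12838) (ST.leaf 344)))) (ST.node (ST.node (ST.node (ST.leaf 346) (ST.leaf 12836)) (ST.node (ST.leaf 12846) (ST.leaf 12856))) (ST.node (ST.node (ST.leaf 68) (ST.leaf 12854)) (ST.node (ST.leaf 12840) (ST.leaf 12850))))) [(0, 0x83), (2, 0x84), (4, 0x40b0), (6, 0x40c0), (10, 0x2a2), (13, 0x80), (16, 0x882), (18, 0x60a2), (24, 0x8000), (34, 0x20), (41, 0xa2), (50, 0x40a2)],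
  C16.good 0x444284090524aa [27, 39, 46, 54] (ST.node (ST.node (ST.node (ST.node (ST.leaf 12735) (ST.leaf 12721)) (ST.node (ST.leaf 12715) (ST.leaf 329))) (ST.node (ST.node (ST.leaf 12725) (ST.leaf 12719)) (ST.node (ST.leaf 12729) (ST.leaf 67)))) (ST.node (ST.node (ST.node (ST.leaf 65) (ST.leaf 12731)) (ST.node (ST.leaf 12717) (ST.leaf 12727))) (ST.node (ST.node (ST.leaf 331) (ST.leaf 12713)) (ST.node (ST.leaf 12723) (ST.leaf 12733))))) [(1, 0x83), (3, 0x8c), (5, 0xf4), (7, 0x84), (10, 0x2d5), (13, 0x80), (16, 0x885), (18, 0x2091), (24, 0x8000), (34, 0x50), (41, 0xd5), (50, 0x91)],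
  C16.good 0x44811150608266 [30, 36, 47, 54] (ST.node (ST.node (ST.node (ST.node (ST.leaf 14330) (ST.leaf 796)) (ST.node (ST.leaf 14350) (ST.leaf 14336))) (ST.node (ST.node (ST.leaf 14344) (ST.leaf 294)) (ST.node (ST.leaf 14340) (ST.leaf 14334)))) (ST.node (ST.node (ST.node (ST.leaf 14332) (ST.leaf 14342)) (ST.node (ST.leaf 292) (ST.leaf 14346))) (ST.node (ST.node (ST.leaf 14338) (ST.leaf 14348)) (ST.node (ST.leaf 798) (ST.leaf 14328))))) [(1, 0x48b), (2, 0x4), (5, 0x4a9), (6, 0x59), (9, 0x100), (15, 0x400), (21, 0x489), (22, 0x81), (28, 0x480), (32, 0x10000), (40, 0x20000), (50, 0x491)],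
  C16.good 0x44811150608299 [30, 36, 47, 54] (ST.node (ST.node (ST.node (ST.node (ST.leaf 831) (ST.leaf 14425)) (ST.node (ST.leaf 14435) (ST.leaf 14445))) (ST.node (ST.node (ST.leaf 309) (ST.leaf 14443)) (ST.node (ST.leaf 14429) (ST.leaf 14439)))) (ST.node (ST.node (ST.node (ST.leaf 14437) (ST.leaf 14431)) (ST.node (ST.leaf 14441) (ST.leaf 311))) (ST.node (ST.node (ST.leaf 14447) (ST.leaf 14433)) (ST.node (ST.leaf 14427) (ST.leaf 829))))) [(0, 0x1083), (3, 0x140c), (4, 0x4d6), (7, 0x4), (9, 0x100), (15, 0x400), (21, 0x6), (22, 0x1006), (28, 0x480), (32, 0x10000), (40, 0x20000), (50, 0x10c4)],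
  C16.good 0x448122060a8269 [26, 37, 47, 54] (ST.node (ST.node (ST.node (ST.node (ST.leaf 1519) (ST.leaf 15449)) (ST.node (ST.leaf 15459) (ST.leaf 15469))) (ST.node (ST.node (ST.leaf 721) (ST.leaf 15467)) (ST.node (ST.leaf 15453) (ST.leaf 15463)))) (ST.node (ST.node (ST.node (ST.leaf 15461) (ST.leaf 15455)) (ST.node (ST.leaf 15465) (ST.leaf 723))) (ST.node (ST.node (ST.leaf 15471) (ST.leaf 15457)) (ST.node (ST.leaf 15451) (ST.leaf 1517))))) [(0, 0x81), (3, 0x8c), (5, 0x26), (6, 0x54), (9, 0x100), (15, 0x202), (17, 0x1284), (19, 0x284), (25, 0x2), (33, 0x282), (40, 0x20000), (50, 0x94)],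
  C16.good 0x448122060a8296 [26, 37, 47, 54] (ST.node (ST.node (ST.node (ST.node (ST.leaf 15518) (ST.leaf 15508)) (ST.node (ST.leaf 15522) (ST.leaf 752))) (ST.node (ST.node (ST.leaf 15524) (ST.leaf 15514)) (ST.node (ST.leaf 15504) (ST.leaf 1570)))) (ST.node (ST.node (ST.node (ST.leaf 1568) (ST.leaf 15506)) (ST.node (ST.leaf 15512) (ST.leaf 15526))) (ST.node (ST.node (ST.leaf 754) (ST.leaf 15520)) (ST.node (ST.leaf 15510) (ST.leaf 15516))))) [(1, 0x2b), (2, 0x8c), (4, 0x59), (7, 0x81), (9, 0x100), (15, 0x2a8), (17, 0x1289), (19, 0x289), (25, 0xa8), (33, 0x228), (40, 0x20000), (50, 0x41)],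
  C16.good 0x448148a0058255 [31, 38, 47, 54] (ST.node (ST.node (ST.node (ST.node (ST.leaf 12094) (ST.leaf 248)) (ST.node (ST.leaf 12114) (ST.leaf 12100))) (ST.node (ST.node (ST.leaf 12108) (ST.leaf 46)) (ST.node (ST.leaf 12104) (ST.leaf 12098)))) (ST.node (ST.node (ST.node (ST.leaf 12096) (ST.leaf 12106)) (ST.node (ST.leaf 44) (ST.leaf 12110))) (ST.node (ST.node (ST.leaf 12102) (ST.leaf 12112)) (ST.node (ST.leaf 250) (ST.leaf 12092))))) [(0, 0x9), (2, 0x6), (4, 0x4092), (6, 0x40c2), (9, 0x18a), (15, 0x8), (16, 0x88a), (18, 0x6000), (29, 0x2), (35, 0x8a), (40, 0x20000), (50, 0x408a)],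
  C16.good 0x448148a00582aa [31, 38, 47, 54] (ST.node (ST.node (ST.node (ST.node (ST.leaf 11979) (ST.leaf 11989)) (ST.node (ST.leaf 235) (ST.leaf 11969))) (ST.node (ST.node (ST.leaf 11973) (ST.leaf 11983)) (ST.node (ST.leaf 41) (ST.leaf 11987)))) (ST.node (ST.node (ST.node (ST.leaf 11985) (ST.leaf 43)) (ST.node (ST.leaf 11981) (ST.leaf 11975))) (ST.node (ST.node (ST.leaf 11971) (ST.leaf 233)) (ST.node (ST.leaf 11991) (ST.leaf 11977))))) [(1, 0x6), (3, 0x9), (5, 0x221), (7, 0x201), (9, 0x185), (15, 0x200), (16, 0x885), (18, 0x2094), (29, 0x205), (35, 0x85), (40, 0x20000), (50, 0x11)],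
  C16.good 0x4481840990825a [27, 39, 47, 54] (ST.node (ST.node (ST.node (ST.node (ST.leaf 13750) (ST.leaf 13736)) (ST.node (ST.leaf 13730) (ST.leaf 596))) (ST.node (ST.node (ST.leaf 13740) (ST.leaf 13734)) (ST.node (ST.leaf 13744) (ST.leaf 194)))) (ST.node (ST.node (ST.node (ST.leaf 192) (ST.leaf 13746)) (ST.node (ST.leaf 13732) (ST.leaf 13742))) (ST.node (ST.node (ST.leaf 598) (ST.leaf 13728)) (ST.node (ST.leaf 13738) (ST.leaf 13748))))) [(1, 0x26), (3, 0x29), (4, 0x2011), (6, 0x2061), (9, 0x120), (15, 0x25), (20, 0x6000), (23, 0x4), (24, 0x8000), (34, 0x20), (40, 0x20000), (50, 0x2004)],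
  C16.good 0x448184099082a5 [27, 39, 47, 54] (ST.node (ST.node (ST.node (ST.node (ST.leaf 13831) (ST.leaf 13837)) (ST.node (ST.leaf 211) (ST.leaf 13841))) (ST.node (ST.node (ST.leaf 13833) (ST.leaf 13847)) (ST.node (ST.leaf 629) (ST.leaf 13827)))) (ST.node (ST.node (ST.node (ST.leaf 13825) (ST.leaf 631)) (ST.node (ST.leaf 13845) (ST.leaf 13835))) (ST.node (ST.node (ST.leaf 13843) (ST.leaf 209)) (ST.node (ST.leaf 13839) (ST.leaf 13829))))) [(0, 0x59), (2, 0x56), (5, 0x872), (7, 0x802), (9, 0x150), (15, 0x5a), (20, 0x4048), (23, 0x850), (24, 0x8000), (34, 0x50), (40, 0x20000), (50, 0x818)],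
  C16.good 0x48060582698828 [31, 34, 42, 54] (ST.node (ST.node (ST.node (ST.node (ST.leaf 14657) (ST.leaf 12891)) (ST.node (ST.leaf 12885) (ST.leaf 12875))) (ST.node (ST.node (ST.leaf 12883) (ST.leaf 10641)) (ST.node (ST.leaf 12879) (ST.leaf 12869)))) (ST.node (ST.node (ST.node (ST.leaf 12871) (ST.leaf 12877)) (ST.node (ST.leaf 10643) (ST.leaf 12881))) (ST.node (ST.node (ST.leaf 12873) (ST.leaf 12887)) (ST.node (ST.leaf 12889) (ST.leaf 14659))))) [(3, 0x11cb), (5, 0x11a1), (11, 0x1087), (15, 0x1007), (16, 0x1a42), (19, 0x384), (21, 0x41), (22, 0x1106), (25, 0x1307), (32, 0x10000), (41, 0x1187), (51, 0x2c3)],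
  C16.good 0x48060582968828 [31, 34, 42, 54] (ST.node (ST.node (ST.node (ST.node (ST.leaf 10784) (ST.leaf 13006)) (ST.node (ST.leaf 12992) (ST.leaf 13002))) (ST.node (ST.node (ST.leaf 13014) (ST.leaf 14752)) (ST.node (ST.leaf 12998) (ST.leaf 13008)))) (ST.node (ST.node (ST.node (ST.leaf 13010) (ST.leaf 12996)) (ST.node (ST.leaf 14754) (ST.leaf 13012))) (ST.node (ST.node (ST.leaf 13000) (ST.leaf 12994)) (ST.node (ST.leaf 13004) (ST.leaf 10786))))) [(3, 0x8c), (5, 0xe6), (11, 0x1c0), (15, 0x140), (17, 0x1106), (18, 0x2041), (20, 0x4187), (23, 0x41), (25, 0x185), (32, 0x10000), (41, 0xc0), (51, 0x106)],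
  C16.good 0x48060a18558881 [28, 35, 42, 54] (ST.node (ST.node (ST.node (ST.node (ST.leaf 7850) (ST.leaf 7860)) (ST.node (ST.leaf 7866) (ST.leaf 10428))) (ST.node (ST.node (ST.leaf 7844) (ST.leaf 7854)) (ST.node (ST.leaf 5292) (ST.leaf 7858)))) (ST.node (ST.node (ST.node (ST.leaf 7856) (ST.leaf 5294)) (ST.node (ST.leaf 7852) (ST.leaf 7846))) (ST.node (ST.node (ST.leaf 10430) (ST.leaf 7864)) (ST.node (ST.leaf 7862) (ST.leaf 7848))))) [(0, 0x2b), (7, 0x54), (11, 0x172), (15, 0xba), (16, 0x818), (18, 0x21c4), (20, 0x41f8), (22, 0xe6), (27, 0x6a), (33, 0x122), (41, 0x18), (51, 0x24)],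
  C16.good 0x48060a18aa8881 [28, 35, 42, 54] (ST.node (ST.node (ST.node (ST.node (ST.leaf 5417) (ST.leaf 8007)) (ST.node (ST.leaf 7993) (ST.leaf 8003))) (ST.node (ST.node (ST.leaf 8015) (ST.leaf 10573)) (ST.node (ST.leaf 7999) (ST.leaf 8009)))) (ST.node (ST.node (ST.node (ST.leaf 8011) (ST.leaf 7997)) (ST.node (ST.leaf 10575) (ST.leaf 8013))) (ST.node (ST.node (ST.leaf 8001) (ST.leaf 7995)) (ST.node (ST.leaf 8005) (ST.leaf 5419))))) [(0, 0x5d9), (7, 0x5a6), (11, 0x480), (15, 0x300), (17, 0x166c), (19, 0x35c), (21, 0xe6), (23, 0x514), (27, 0x6a), (33, 0x76a), (41, 0x5ea), (51, 0x5d6)],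
  C16.good 0x480660415a8842 [30, 38, 42, 54] (ST.node (ST.node (ST.node (ST.node (ST.leaf 9366) (ST.leaf 9356)) (ST.node (ST.leaf 9370) (ST.leaf 6756))) (ST.node (ST.node (ST.leaf 9372) (ST.leaf 9362)) (ST.node (ST.leaf 11780) (ST.leaf 9378)))) (ST.node (ST.node (ST.node (ST.leaf 9376) (ST.leaf 11782)) (ST.node (ST.leaf 9360) (ST.leaf 9374))) (ST.node (ST.node (ST.leaf 6758) (ST.leaf 9368)) (ST.node (ST.leaf 9358) (ST.leaf 9364))))) [(1, 0x2b), (6, 0x41), (11, 0x380), (15, 0x300), (17, 0x132c), (19, 0x384), (20, 0x4228), (22, 0x8c), (24, 0x8000), (37, 0x28d), (41, 0xd), (51, 0x24)],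
  C16.good 0x48066041a58842 [30, 38, 42, 54] (ST.node (ST.node (ST.node (ST.node (ST.leaf 9227) (ST.leaf 6609)) (ST.node (ST.leaf 9223) (ST.leaf 9213))) (ST.node (ST.node (ST.leaf 11657) (ST.leaf 9235)) (ST.node (ST.leaf 9229) (ST.leaf 9219)))) (ST.node (ST.node (ST.node (ST.leaf 9217) (ST.leaf 9231)) (ST.node (ST.leaf 9233) (ST.leaf 11659))) (ST.node (ST.node (ST.leaf 9215) (ST.leaf 9221)) (ST.node (ST.leaf 6611) (ST.leaf 9225))))) [(1, 0x323), (6, 0x349), (11, 0x380), (15, 0x300), (16, 0x988), (18, 0x2384), (21, 0x8c), (23, 0x384), (24, 0x8000), (37, 0x185), (41, 0x305), (51, 0x32c)],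
  C16.good 0x48069024668814 [29, 39, 42, 54] (ST.node (ST.node (ST.node (ST.node (ST.leaf 9546) (ST.leaf 9536)) (ST.node (ST.leaf 9550) (ST.leaf 6944))) (ST.node (ST.node (ST.leaf 9552) (ST.leaf 9542)) (ST.node (ST.leaf 11936) (ST.leaf 9558)))) (ST.node (ST.node (ST.node (ST.leaf 9556) (ST.leaf 11938)) (ST.node (ST.leaf 9540) (ST.leaf 9554))) (ST.node (ST.node (ST.leaf 6946) (ST.leaf 9548)) (ST.node (ST.leaf 9538) (ST.leaf 9544))))) [(2, 0x2a6), (4, 0x2d9), (11, 0x2c8), (15, 0x36a), (17, 0x1083), (18, 0x2201), (21, 0x109), (22, 0x349), (26, 0x6a), (36, 0x148), (41, 0x2ea), (51, 0x2c3)],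
  C16.good 0x48069024998814 [29, 39, 42, 54] (ST.node (ST.node (ST.node (ST.node (ST.leaf 9681) (ST.leaf 9691)) (ST.node (ST.leaf 7093) (ST.leaf 9695))) (ST.node (ST.node (ST.leaf 9687) (ST.leaf 9697)) (ST.node (ST.leaf 9703) (ST.leaf 12061)))) (ST.node (ST.node (ST.node (ST.leaf 12063) (ST.leaf 9701)) (ST.node (ST.leaf 9699) (ST.leaf 9685))) (ST.node (ST.node (ST.leaf 9693) (ST.leaf 7095)) (ST.node (ST.leaf 9689) (ST.leaf 9683))))) [(2, 0xe6), (4, 0x99), (11, 0x4ea), (15, 0x12a), (16, 0x9e2), (19, 0x109), (20, 0x4542), (23, 0x56b), (26, 0x6a), (36, 0x52a), (41, 0xaa), (51, 0x83)],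
  C16.good 0x480905825a2142 [31, 34, 43, 54] (ST.node (ST.node (ST.node (ST.node (ST.leaf 10234) (ST.leaf 7644)) (ST.node (ST.leaf 10230) (ST.leaf 10220))) (ST.node (ST.node (ST.leaf 12524) (ST.leaf 10242)) (ST.node (ST.leaf 10236) (ST.leaf 10226)))) (ST.node (ST.node (ST.node (ST.leaf 10224) (ST.leaf 10238)) (ST.node (ST.leaf 10240) (ST.leaf 12526))) (ST.node (ST.node (ST.leaf 10222) (ST.leaf 10228)) (ST.node (ST.leaf 7646) (ST.leaf 10232))))) [(1, 0x26), (6, 0x4c), (8, 0x8d), (13, 0xd), (17, 0x1021), (19, 0x209), (20, 0x4228), (22, 0x1), (25, 0x200), (32, 0x10000), (40, 0x20000), (51, 0x229)],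
  C16.good 0x48090582a52142 [31, 34, 43, 54] (ST.node (ST.node (ST.node (ST.node (ST.leaf 10083) (ST.leaf 10093)) (ST.node (ST.leaf 10099) (ST.leaf 12401))) (ST.node (ST.node (ST.leaf 10077) (ST.leaf 10087)) (ST.node (ST.leaf 7497) (ST.leaf 10091)))) (ST.node (ST.node (ST.node (ST.leaf 10089) (ST.leaf 7499)) (ST.node (ST.leaf 10085) (ST.leaf 10079))) (ST.node (ST.node (ST.leaf 12403) (ST.leaf 10097)) (ST.node (ST.leaf 10095) (ST.leaf 10081))))) [(1, 0x26), (6, 0x4c), (8, 0x180), (13, 0x100), (16, 0x90d), (18, 0x2001), (21, 0x10c), (23, 0x1), (25, 0x105), (32, 0x10000), (40, 0x20000), (51, 0x12c)],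
  C16.good 0x48090a18662114 [28, 35, 43, 54] (ST.node (ST.node (ST.node (ST.node (ST.leaf 9846) (ST.leaf 12184)) (ST.node (ST.leaf 9830) (ST.leaf 9840))) (ST.node (ST.node (ST.leaf 7240) (ST.leaf 9838)) (ST.node (ST.leaf 9824) (ST.leaf 9834)))) (ST.node (ST.node (ST.node (ST.leaf 9832) (ST.leaf 9826)) (ST.node (ST.leaf 9836) (ST.leaf 7242))) (ST.node (ST.node (ST.leaf 9842) (ST.leaf 9828)) (ST.node (ST.leaf 12186) (ST.leaf 9844))))) [(2, 0x4c), (4, 0x33), (8, 0xa2), (13, 0x16a), (17, 0x104b), (18, 0x206b), (21, 0x141), (22, 0x149), (27, 0x6a), (33, 0x122), (40, 0x20000), (51, 0x43)],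
  C16.good 0x48090a18992114 [28, 35, 43, 54] (ST.node (ST.node (ST.node (ST.node (ST.leaf 7389) (ST.leaf 9983)) (ST.node (ST.leaf 9969) (ST.leaf 9979))) (ST.node (ST.node (ST.leaf 9991) (ST.leaf 12309)) (ST.node (ST.leaf 9975) (ST.leaf 9985)))) (ST.node (ST.node (ST.node (ST.leaf 9987) (ST.leaf 9973)) (ST.node (ST.leaf 12311) (ST.leaf 9989))) (ST.node (ST.node (ST.leaf 9977) (ST.leaf 9971)) (ST.node (ST.leaf 9981) (ST.leaf 7391))))) [(2, 0x4c), (4, 0x33), (8, 0xaa), (13, 0x16a), (16, 0x808), (19, 0x149), (20, 0x4028), (23, 0x141), (27, 0x6a), (33, 0x12a), (40, 0x20000), (51, 0x43)],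
  C16.good 0x48096041692128 [30, 38, 43, 54] (ST.node (ST.node (ST.node (ST.node (ST.leaf 8771) (ST.leaf 11269)) (ST.node (ST.leaf 11259) (ST.leaf 11265))) (ST.node (ST.node (ST.leaf 11277) (ST.leaf 13411)) (ST.node (ST.leaf 11261) (ST.leaf 11275)))) (ST.node (ST.node (ST.node (ST.leaf 11273) (ST.leaf 11263)) (ST.node (ST.leaf 13409) (ST.leaf 11279))) (ST.node (ST.node (ST.leaf 11267) (ST.leaf 11257)) (ST.node (ST.leaf 11271) (ST.leaf 8769))))) [(3, 0x4c), (5, 0x26), (8, 0x380), (13, 0x300), (16, 0xa45), (19, 0x304), (21, 0x341), (22, 0x1), (24, 0x8000), (37, 0x200), (40, 0x20000), (51, 0x43)],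
  C16.good 0x48096041962128 [30, 38, 43, 54] (ST.node (ST.node (ST.node (ST.node (ST.leaf 13124) (ST.leaf 13118)) (ST.node (ST.leaf 13128) (ST.leaf 10930))) (ST.node (ST.node (ST.leaf 13134) (ST.leaf 13120)) (ST.node (ST.leaf 14850) (ST.leaf 13136)))) (ST.node (ST.node (ST.node (ST.leaf 13138) (ST.leaf 14848)) (ST.node (ST.leaf 13122) (ST.leaf 13132))) (ST.node (ST.node (ST.leaf 10928) (ST.leaf 13130)) (ST.node (ST.leaf 13116) (ST.leaf 13126))))) [(3, 0x9), (5, 0x26), (8, 0x85), (13, 0x5), (17, 0x1006), (18, 0x2001), (20, 0x4102), (23, 0x1), (24, 0x8000), (37, 0x105), (40, 0x20000), (51, 0x6)],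
  C16.good 0x48099024552181 [29, 39, 43, 54] (ST.node (ST.node (ST.node (ST.node (ST.leaf 6378) (ST.leaf 4052)) (ST.node (ST.leaf 6374) (ST.leaf 6364))) (ST.node (ST.node (ST.leaf 8988) (ST.leaf 6386)) (ST.node (ST.leaf 6380) (ST.leaf 6370)))) (ST.node (ST.node (ST.node (ST.leaf 6368) (ST.leaf 6382)) (ST.node (ST.leaf 6384) (ST.leaf 8990))) (ST.node (ST.node (ST.leaf 6366) (ST.leaf 6372)) (ST.node (ST.leaf 4054) (ST.leaf 6376))))) [(0, 0x33), (7, 0x4c), (8, 0x98), (13, 0x22), (16, 0x850), (18, 0x202e), (20, 0x4028), (22, 0x7e), (26, 0x6a), (36, 0x50), (40, 0x20000), (51, 0x56)],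
  C16.good 0x48099024aa2181 [29, 39, 43, 54] (ST.node (ST.node (ST.node (ST.node (ST.leaf 4179) (ST.leaf 6525)) (ST.node (ST.leaf 6515) (ST.leaf 6521))) (ST.node (ST.node (ST.leaf 6533) (ST.leaf 9135)) (ST.node (ST.leaf 6517) (ST.leaf 6531)))) (ST.node (ST.node (ST.node (ST.leaf 6529) (ST.leaf 6519)) (ST.node (ST.leaf 9133) (ST.leaf 6535))) (ST.node (ST.node (ST.leaf 6523) (ST.leaf 6513)) (ST.node (ST.leaf 6527) (ST.leaf 4177))))) [(0, 0x33), (7, 0x4c), (8, 0x180), (13, 0x36a), (17, 0x1206), (19, 0x336), (21, 0x166), (23, 0x7e), (26, 0x6a), (36, 0x200), (40, 0x20000), (51, 0x56)],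
  C16.good 0x48500582661214 [31, 34, 46, 54] (ST.node (ST.node (ST.node (ST.node (ST.leaf 9114) (ST.leaf 9104)) (ST.node (ST.leaf 9118) (ST.leaf 6500))) (ST.node (ST.node (ST.leaf 9120) (ST.leaf 9110)) (ST.node (ST.leaf 11564) (ST.leaf 9126)))) (ST.node (ST.node (ST.node (ST.leaf 9124) (ST.leaf 11566)) (ST.node (ST.leaf 9108) (ST.leaf 9122))) (ST.node (ST.node (ST.leaf 6502) (ST.leaf 9116)) (ST.node (ST.leaf 9106) (ST.leaf 9112))))) [(2, 0x4c), (4, 0x33), (9, 0x16a), (12, 0x422), (17, 0x104b), (18, 0x2001), (21, 0x41), (22, 0x6b), (25, 0x22), (32, 0x10000), (44, 0x6a), (51, 0xb)],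
  C16.good 0x48500582991214 [31, 34, 46, 54] (ST.node (ST.node (ST.node (ST.node (ST.leaf 8981) (ST.leaf 11443)) (ST.node (ST.leaf 8965) (ST.leaf 8979))) (ST.node (ST.node (ST.leaf 6355) (ST.leaf 8973)) (ST.node (ST.leaf 8963) (ST.leaf 8969)))) (ST.node (ST.node (ST.node (ST.leaf 8971) (ST.leaf 8961)) (ST.node (ST.leaf 8975) (ST.leaf 6353))) (ST.node (ST.node (ST.leaf 8977) (ST.leaf 8967)) (ST.node (ST.leaf 11441) (ST.leaf 8983))))) [(2, 0x4c), (4, 0x19), (9, 0x140), (12, 0x600), (16, 0xa48), (19, 0x249), (20, 0x4202), (23, 0x41), (25, 0x200), (32, 0x10000), (44, 0x40), (51, 0x203)],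
  C16.good 0x48500a185a1242 [28, 35, 46, 54] (ST.node (ST.node (ST.node (ST.node (ST.leaf 8798) (ST.leaf 8784)) (ST.node (ST.leaf 11286) (ST.leaf 8800))) (ST.node (ST.node (ST.leaf 8788) (ST.leaf 8782)) (ST.node (ST.leaf 8792) (ST.leaf 6166)))) (ST.node (ST.node (ST.node (ST.leaf 6164) (ST.leaf 8794)) (ST.node (ST.leaf 8780) (ST.leaf 8790))) (ST.node (ST.node (ST.leaf 8802) (ST.leaf 11284)) (ST.node (ST.leaf 8786) (ST.leaf 8796))))) [(1, 0x33), (6, 0x4c), (9, 0x115), (12, 0x498), (17, 0x1034), (19, 0x89), (20, 0x4028), (22, 0x81), (27, 0xd), (33, 0x95), (44, 0x18), (51, 0x24)],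
  C16.good 0x48500a18a51242 [28, 35, 46, 54] (ST.node (ST.node (ST.node (ST.node (ST.leaf 10943) (ST.leaf 10949)) (ST.node (ST.leaf 8387) (ST.leaf 10953))) (ST.node (ST.node (ST.leaf 10945) (ST.leaf 10959)) (ST.node (ST.leaf 10961) (ST.leaf 13147)))) (ST.node (ST.node (ST.node (ST.leaf 13145) (ST.leaf 10963)) (ST.node (ST.leaf 10957) (ST.leaf 10947))) (ST.node (ST.node (ST.leaf 10955) (ST.leaf 8385)) (ST.node (ST.leaf 10951) (ST.leaf 10941))))) [(1, 0x33), (6, 0x4c), (9, 0x115), (12, 0x490), (16, 0x818), (18, 0x2004), (21, 0x89), (23, 0x81), (27, 0x5), (33, 0x95), (44, 0x10), (51, 0x2c)],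
  C16.good 0x48506041551281 [30, 38, 46, 54] (ST.node (ST.node (ST.node (ST.node (ST.leaf 7416) (ST.leaf 7406)) (ST.node (ST.leaf 9996) (ST.leaf 7422))) (ST.node (ST.node (ST.leaf 7410) (ST.leaf 7400)) (ST.node (ST.leaf 7414) (ST.leaf 4920)))) (ST.node (ST.node (ST.node (ST.leaf 4922) (ST.leaf 7412)) (ST.node (ST.leaf 7402) (ST.leaf 7408))) (ST.node (ST.node (ST.leaf 7420) (ST.leaf 9998)) (ST.node (ST.leaf 7404) (ST.leaf 7418))))) [(0, 0x11), (7, 0x1c), (9, 0x318), (12, 0x400), (16, 0xa18), (18, 0x200c), (20, 0x420a), (22, 0x14), (24, 0x8000), (37, 0x200), (44, 0x18), (51, 0x6)],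
  C16.good 0x48506041aa1281 [30, 38, 46, 54] (ST.node (ST.node (ST.node (ST.node (ST.leaf 9853) (ST.leaf 7275)) (ST.node (ST.leaf 7269) (ST.leaf 7259))) (ST.node (ST.node (ST.leaf 7267) (ST.leaf 4797)) (ST.node (ST.leaf 7263) (ST.leaf 7253)))) (ST.node (ST.node (ST.node (ST.leaf 7255) (ST.leaf 7261)) (ST.node (ST.leaf 4799) (ST.leaf 7265))) (ST.node (ST.node (ST.leaf 7257) (ST.leaf 7271)) (ST.node (ST.leaf 7273) (ST.leaf 9855))))) [(0, 0x33), (7, 0x4c), (9, 0x36a), (12, 0x400), (17, 0x106c), (19, 0x36), (21, 0x66), (23, 0x14), (24, 0x8000), (37, 0x200), (44, 0x6a), (51, 0x56)],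
  C16.good 0x48509024691228 [29, 39, 46, 54] (ST.node (ST.node (ST.node (ST.node (ST.leaf 12517) (ST.leaf 14371)) (ST.node (ST.leaf 12501) (ST.leaf 12515))) (ST.node (ST.node (ST.leaf 10211) (ST.leaf 12509)) (ST.node (ST.leaf 12499) (ST.leaf 12505)))) (ST.node (ST.node (ST.node (ST.leaf 12507) (ST.leaf 12497)) (ST.node (ST.leaf 12511) (ST.leaf 10209))) (ST.node (ST.node (ST.leaf 12513) (ST.leaf 12503)) (ST.node (ST.leaf 14369) (ST.leaf 12519))))) [(3, 0x4c), (5, 0x33), (9, 0x180), (12, 0x495), (16, 0x8845), (19, 0x11), (21, 0xd4), (22, 0x8014), (26, 0x8000), (36, 0x95), (44, 0x8015), (51, 0x56)],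
  C16.good 0x48509024961228 [29, 39, 46, 54] (ST.node (ST.node (ST.node (ST.node (ST.leaf 14274) (ST.leaf 12392)) (ST.node (ST.leaf 12390) (ST.leaf 12376))) (ST.node (ST.node (ST.leaf 12384) (ST.leaf 10066)) (ST.node (ST.leaf 12380) (ST.leaf 12374)))) (ST.node (ST.node (ST.node (ST.leaf 12372) (ST.leaf 12382)) (ST.node (ST.leaf 10064) (ST.leaf 12386))) (ST.node (ST.node (ST.leaf 12378) (ST.leaf 12388)) (ST.node (ST.leaf 12394) (ST.leaf 14272))))) [(3, 0x4c), (5, 0x33), (9, 0x145), (12, 0x450), (17, 0x1046), (18, 0x2051), (20, 0x4057), (23, 0x11), (26, 0x5), (36, 0x50), (44, 0x10), (51, 0x56)],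
  C16.good 0x48a00582554481 [31, 34, 47, 54] (ST.node (ST.node (ST.node (ST.node (ST.leaf 7104) (ST.leaf 7114)) (ST.node (ST.leaf 4672) (ST.leaf 7118))) (ST.node (ST.node (ST.leaf 7110) (ST.leaf 7120)) (ST.node (ST.leaf 7126) (ST.leaf 9708)))) (ST.node (ST.node (ST.node (ST.leaf 9710) (ST.leaf 7124)) (ST.node (ST.leaf 7122) (ST.leaf 7108))) (ST.node (ST.node (ST.leaf 7116) (ST.leaf 4674)) (ST.node (ST.leaf 7112) (ST.leaf 7106))))) [(0, 0x59), (7, 0x26), (10, 0x250), (14, 0x18), (16, 0x800), (18, 0x207e), (20, 0x400a), (22, 0x14), (25, 0x22), (32, 0x10000), (45, 0x6a), (51, 0x1e)],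
  C16.good 0x48a00582aa4481 [31, 34, 47, 54] (ST.node (ST.node (ST.node (ST.node (ST.leaf 9565) (ST.leaf 6979)) (ST.node (ST.leaf 6973) (ST.leaf 6963))) (ST.node (ST.node (ST.leaf 6971) (ST.leaf 4549)) (ST.node (ST.leaf 6967) (ST.leaf 6957)))) (ST.node (ST.node (ST.node (ST.leaf 6959) (ST.leaf 6965)) (ST.node (ST.leaf 4551) (ST.leaf 6969))) (ST.node (ST.node (ST.leaf 6961) (ST.leaf 6975)) (ST.node (ST.leaf 6977) (ST.leaf 9567))))) [(0, 0x59), (7, 0x26), (10, 0x66a), (14, 0x100), (17, 0x116c), (19, 0x536), (21, 0x10c), (23, 0x14), (25, 0x500), (32, 0x10000), (45, 0x6a), (51, 0x53c)],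
  C16.good 0x48a00a18694428 [28, 35, 47, 54] (ST.node (ST.node (ST.node (ST.node (ST.leaf 11765) (ST.leaf 9347)) (ST.node (ST.leaf 11761) (ST.leaf 11755))) (ST.node (ST.node (ST.leaf 13795) (ST.leaf 11773)) (ST.node (ST.leaf 11771) (ST.leaf 11757)))) (ST.node (ST.node (ST.node (ST.leaf 11759) (ST.leaf 11769)) (ST.node (ST.leaf 11775) (ST.leaf 13793))) (ST.node (ST.node (ST.leaf 11753) (ST.leaf 11763)) (ST.node (ST.leaf 9345) (ST.leaf 11767))))) [(3, 0x115e), (5, 0x1121), (10, 0x1212), (14, 0x1007), (16, 0x9d0), (19, 0x91), (21, 0x141), (22, 0x81), (27, 0x1107), (33, 0x95), (45, 0x1112), (51, 0x43)],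
  C16.good 0x48a00a18964428 [28, 35, 47, 54] (ST.node (ST.node (ST.node (ST.node (ST.leaf 13698) (ST.leaf 11648)) (ST.node (ST.leaf 11646) (ST.leaf 11632))) (ST.node (ST.node (ST.leaf 11640) (ST.leaf 9202)) (ST.node (ST.leaf 11636) (ST.leaf 11630)))) (ST.node (ST.node (ST.node (ST.leaf 11628) (ST.leaf 11638)) (ST.node (ST.leaf 9200) (ST.leaf 11642))) (ST.node (ST.node (ST.leaf 11634) (ST.leaf 11644)) (ST.node (ST.leaf 11650) (ST.leaf 13696))))) [(3, 0x8049), (5, 0x8026), (10, 0x82c5), (14, 0x80c0), (17, 0x9046), (18, 0xa001), (20, 0x4047), (23, 0x81), (27, 0x8000), (33, 0x85), (45, 0x8005), (51, 0x43)],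
  C16.good 0x48a06041664414 [30, 38, 47, 54] (ST.node (ST.node (ST.node (ST.node (ST.leaf 10564) (ST.leaf 12806)) (ST.node (ST.leaf 10548) (ST.leaf 10562))) (ST.node (ST.node (ST.leaf 7982) (ST.leaf 10556)) (ST.node (ST.leaf 10546) (ST.leaf 10552)))) (ST.node (ST.node (ST.node (ST.leaf 10554) (ST.leaf 10544)) (ST.node (ST.leaf 10558) (ST.leaf 7980))) (ST.node (ST.node (ST.leaf 10560) (ST.leaf 10550)) (ST.node (ST.leaf 12804) (ST.leaf 10566))))) [(2, 0x4), (4, 0x59), (10, 0x348), (14, 0x400), (17, 0x1403), (18, 0x2001), (21, 0x441), (22, 0x49), (24, 0x8000), (37, 0x500), (45, 0x48), (51, 0x43)],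
  C16.good 0x48a06041994414 [30, 38, 47, 54] (ST.node (ST.node (ST.node (ST.node (ST.leaf 10421) (ST.leaf 12683)) (ST.node (ST.leaf 10405) (ST.leaf 10419))) (ST.node (ST.node (ST.leaf 7835) (ST.leaf 10413)) (ST.node (ST.leaf 10403) (ST.leaf 10409)))) (ST.node (ST.node (ST.node (ST.leaf 10411) (ST.leaf 10401)) (ST.node (ST.leaf 10415) (ST.leaf 7833))) (ST.node (ST.node (ST.leaf 10417) (ST.leaf 10407)) (ST.node (ST.leaf 12681) (ST.leaf 10423))))) [(2, 0x26), (4, 0x59), (10, 0x36a), (14, 0x2a), (16, 0x908), (19, 0x49), (20, 0x4102), (23, 0x6b), (24, 0x8000), (37, 0x12a), (45, 0x6a), (51, 0x43)],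
  C16.good 0x48a090245a4442 [29, 39, 47, 54] (ST.node (ST.node (ST.node (ST.node (ST.leaf 12896) (ST.leaf 10674)) (ST.node (ST.leaf 10668) (ST.leaf 10658))) (ST.node (ST.node (ST.leaf 10666) (ST.leaf 8088)) (ST.node (ST.leaf 10662) (ST.leaf 10652)))) (ST.node (ST.node (ST.node (ST.leaf 10654) (ST.leaf 10660)) (ST.node (ST.leaf 8090) (ST.leaf 10664))) (ST.node (ST.node (ST.leaf 10656) (ST.leaf 10670)) (ST.node (ST.leaf 10672) (ST.leaf 12898))))) [(1, 0x43e), (6, 0x441), (10, 0x20d), (14, 0x495), (17, 0x1039), (19, 0x41c), (20, 0x4028), (22, 0x40c), (26, 0x418), (36, 0x95), (45, 0x40d), (51, 0x424)],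
  C16.good 0x48a09024a54442 [29, 39, 47, 54] (ST.node (ST.node (ST.node (ST.node (ST.leaf 10803) (ST.leaf 10813)) (ST.node (ST.leaf 10819) (ST.leaf 13021))) (ST.node (ST.node (ST.leaf 10797) (ST.leaf 10807)) (ST.node (ST.leaf 8237) (ST.leaf 10811)))) (ST.node (ST.node (ST.node (ST.leaf 10809) (ST.leaf 8239)) (ST.node (ST.leaf 10805) (ST.leaf 10799))) (ST.node (ST.node (ST.leaf 13023) (ST.leaf 10817)) (ST.node (ST.leaf 10815) (ST.leaf 10801))))) [(1, 0x526), (6, 0x549), (10, 0x305), (14, 0x485), (16, 0x98d), (18, 0x2084), (21, 0x40c), (23, 0x504), (26, 0x500), (36, 0x85), (45, 0x505), (51, 0x52c)],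
  C16.good 0x5005185a211422 [30, 36, 42, 54] (ST.node (ST.node (ST.node (ST.node (ST.leaf 6894) (ST.leaf 4476)) (ST.node (ST.leaf 6890) (ST.leaf 9496))) (ST.node (ST.node (ST.leaf 9492) (ST.leaf 6902)) (ST.node (ST.leaf 6896) (ST.leaf 6878)))) (ST.node (ST.node (ST.node (ST.leaf 6876) (ST.leaf 6898)) (ST.node (ST.leaf 6900) (ST.leaf 9494))) (ST.node (ST.node (ST.leaf 9498) (ST.leaf 6888)) (ST.node (ST.leaf 4478) (ST.leaf 6892))))) [(1, 0x53), (5, 0x2c), (10, 0x205), (12, 0x45d), (16, 0x88d), (21, 0xc), (25, 0x10), (27, 0x4d), (28, 0x58), (35, 0x95), (40, 0x20000), (52, 0x14)],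
  C16.good 0x500518a5211422 [31, 36, 42, 54] (ST.node (ST.node (ST.node (ST.node (ST.leaf 7027) (ST.leaf 7045)) (ST.node (ST.leaf 7051) (ST.leaf 9637))) (ST.node (ST.node (ST.leaf 9641) (ST.leaf 7039)) (ST.node (ST.leaf 4601) (ST.leaf 7043)))) (ST.node (ST.node (ST.node (ST.leaf 7041) (ST.leaf 4603)) (ST.node (ST.leaf 7037) (ST.leaf 9643))) (ST.node (ST.node (ST.leaf 9639) (ST.leaf 7049)) (ST.node (ST.leaf 7047) (ST.leaf 7025))))) [(1, 0x46), (5, 0x29), (10, 0x200), (12, 0x44d), (16, 0x8c5), (21, 0x41), (24, 0x8005), (26, 0x48), (29, 0x4d), (35, 0x85), (40, 0x20000), (52, 0x1)],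
  C16.good 0x50052469881484 [30, 37, 42, 54] (ST.node (ST.node (ST.node (ST.node (ST.leaf 9189) (ST.leaf 6571)) (ST.node (ST.leaf 9185) (ST.leaf 11627))) (ST.node (ST.node (ST.leaf 11623) (ST.leaf 9197)) (ST.node (ST.leaf 9195) (ST.leaf 9173)))) (ST.node (ST.node (ST.node (ST.leaf 9175) (ST.leaf 9193)) (ST.node (ST.leaf 9199) (ST.leaf 11621))) (ST.node (ST.node (ST.leaf 11625) (ST.leaf 9187)) (ST.node (ST.leaf 6569) (ST.leaf 9191))))) [(2, 0x10156), (7, 0x10119), (10, 0x10300), (12, 0x1045a), (19, 0x109), (23, 0x141), (24, 0x805a), (27, 0x10100), (29, 0x1015a), (34, 0x10000), (40, 0x20000), (52, 0x10159)],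
  C16.good 0x50052496881484 [31, 37, 42, 54] (ST.node (ST.node (ST.node (ST.node (ST.leaf 9330) (ST.leaf 11748)) (ST.node (ST.leaf 9334) (ST.leaf 6716))) (ST.node (ST.node (ST.leaf 9336) (ST.leaf 9318)) (ST.node (ST.leaf 11744) (ST.leaf 9342)))) (ST.node (ST.node (ST.node (ST.leaf 9340) (ST.leaf 11746)) (ST.node (ST.leaf 9316) (ST.leaf 9338))) (ST.node (ST.node (ST.leaf 6718) (ST.leaf 9332)) (ST.node (ST.leaf 11750) (ST.leaf 9328))))) [(2, 0xc), (7, 0x73), (10, 0x25a), (12, 0x530), (19, 0x153), (23, 0x80a), (25, 0x97b), (26, 0x94b), (28, 0x921), (34, 0x84b), (40, 0x20000), (52, 0x912)],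
  C16.good 0x50054155441411 [30, 38, 42, 54] (ST.node (ST.node (ST.node (ST.node (ST.leaf 3902) (ST.leaf 3920)) (ST.node (ST.leaf 3926) (ST.leaf 6208))) (ST.node (ST.node (ST.leaf 6212) (ST.leaf 3914)) (ST.node (ST.leaf 2272) (ST.leaf 3918)))) (ST.node (ST.node (ST.node (ST.leaf 3916) (ST.leaf 2274)) (ST.node (ST.leaf 3912) (ST.leaf 6214))) (ST.node (ST.node (ST.leaf 6210) (ST.leaf 3924)) (ST.node (ST.leaf 3922) (ST.leaf 3900))))) [(0, 0x41), (4, 0x1c), (10, 0x24a), (12, 0x400), (18, 0x200c), (22, 0xc), (24, 0x8048), (26, 0x2), (28, 0x4a), (32, 0x10000), (40, 0x20000), (52, 0x6)],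
  C16.good 0x500541aa441411 [31, 38, 42, 54] (ST.node (ST.node (ST.node (ST.node (ST.leaf 5781) (ST.leaf 5763)) (ST.node (ST.leaf 8429) (ST.leaf 5787))) (ST.node (ST.node (ST.leaf 5775) (ST.leaf 8433)) (ST.node (ST.leaf 5779) (ST.leaf 3533)))) (ST.node (ST.node (ST.node (ST.leaf 3535) (ST.leaf 5777)) (ST.node (ST.leaf 8435) (ST.leaf 5773))) (ST.node (ST.node (ST.leaf 5785) (ST.leaf 8431)) (ST.node (ST.leaf 5761) (ST.leaf 5783))))) [(0, 0x141), (4, 0x11e), (10, 0x348), (12, 0x402), (18, 0x2146), (22, 0x146), (25, 0x48), (27, 0x100), (29, 0x14a), (32, 0x10000), (40, 0x20000), (52, 0x106)],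
  C16.good 0x50058266121448 [30, 39, 42, 54] (ST.node (ST.node (ST.node (ST.node (ST.leaf 6490) (ST.leaf 4136)) (ST.node (ST.leaf 6486) (ST.leaf 9100))) (ST.node (ST.node (ST.leaf 9096) (ST.leaf 6498)) (ST.node (ST.leaf 6492) (ST.leaf 6474)))) (ST.node (ST.node (ST.node (ST.leaf 6472) (ST.leaf 6494)) (ST.node (ST.leaf 6496) (ST.leaf 9098))) (ST.node (ST.node (ST.leaf 9102) (ST.leaf 6484)) (ST.node (ST.leaf 4138) (ST.leaf 6488))))) [(3, 0x39), (6, 0x41), (10, 0x210), (12, 0x422), (17, 0x1093), (20, 0x4092), (25, 0x10), (26, 0xb2), (29, 0xa0), (33, 0x92), (40, 0x20000), (52, 0x93)],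
  C16.good 0x50058299121448 [31, 39, 42, 54] (ST.node (ST.node (ST.node (ST.node (ST.leaf 8953) (ST.leaf 6351)) (ST.node (ST.leaf 6345) (ST.leaf 6327))) (ST.node (ST.node (ST.leaf 6343) (ST.leaf 4013)) (ST.node (ST.leaf 6339) (ST.leaf 8957)))) (ST.node (ST.node (ST.node (ST.leaf 8959) (ST.leaf 6337)) (ST.node (ST.leaf 4015) (ST.leaf 6341))) (ST.node (ST.node (ST.leaf 6325) (ST.leaf 6347)) (ST.node (ST.leaf 6349) (ST.leaf 8955))))) [(3, 0x2c), (6, 0x43), (10, 0x205), (12, 0x422), (17, 0x1024), (20, 0x4020), (24, 0x8005), (27, 0x2), (28, 0x7), (33, 0x20), (40, 0x20000), (52, 0x24)],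
  C16.good 0x500a185a124248 [30, 36, 43, 54] (ST.node (ST.node (ST.node (ST.node (ST.leaf 6148) (ST.leaf 8778)) (ST.node (ST.leaf 6152) (ST.leaf 3858))) (ST.node (ST.node (ST.leaf 6158) (ST.leaf 6136)) (ST.node (ST.leaf 8774) (ST.leaf 6160)))) (ST.node (ST.node (ST.node (ST.leaf 6162) (ST.leaf 8772)) (ST.node (ST.leaf 6138) (ST.leaf 6156))) (ST.node (ST.node (ST.leaf 3856) (ST.leaf 6154)) (ST.node (ST.leaf 8776) (ST.leaf 6150))))) [(3, 0x2c), (6, 0x53), (9, 0x585), (14, 0x20), (17, 0x1483), (20, 0x4497), (25, 0x412), (27, 0x32), (28, 0x27), (35, 0x95), (41, 0x402), (52, 0x416)],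
  C16.good 0x500a18a5124248 [31, 36, 43, 54] (ST.node (ST.node (ST.node (ST.node (ST.leaf 8373) (ST.leaf 5719)) (ST.node (ST.leaf 8369) (ST.leaf 10939))) (ST.node (ST.node (ST.leaf 10935) (ST.leaf 8381)) (ST.node (ST.leaf 8379) (ST.leaf 8357)))) (ST.node (ST.node (ST.node (ST.leaf 8359) (ST.leaf 8377)) (ST.node (ST.leaf 8383) (ST.leaf 10933))) (ST.node (ST.node (ST.leaf 10937) (ST.leaf 8371)) (ST.node (ST.leaf 5717) (ST.leaf 8375))))) [(3, 0x39), (6, 0x46), (9, 0x1a5), (14, 0x7), (17, 0x1084), (20, 0x4085), (24, 0x8015), (26, 0x27), (29, 0x32), (35, 0x95), (41, 0x10), (52, 0x11)],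
  C16.good 0x500a2469444211 [30, 37, 43, 54] (ST.node (ST.node (ST.node (ST.node (ST.leaf 11375) (ST.leaf 8909)) (ST.node (ST.leaf 8907) (ST.leaf 8885))) (ST.node (ST.node (ST.leaf 8901) (ST.leaf 6275)) (ST.node (ST.leaf 8897) (ST.leaf 11379)))) (ST.node (ST.node (ST.node (ST.leaf 11377) (ST.leaf 8899)) (ST.node (ST.leaf 6273) (ST.leaf 8903))) (ST.node (ST.node (ST.leaf 8887) (ST.leaf 8905)) (ST.node (ST.leaf 8911) (ST.leaf 11373))))) [(0, 0x10209), (4, 0x10276), (9, 0x10300), (14, 0x10020), (18, 0x222e), (22, 0x22e), (24, 0x806a), (27, 0x10268), (29, 0x10202), (34, 0x10000), (41, 0x48), (52, 0x10206)],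
  C16.good 0x500a2496444211 [31, 37, 43, 54] (ST.node (ST.node (ST.node (ST.node (ST.leaf 11496) (ST.leaf 9054)) (ST.node (ST.leaf 9048) (ST.leaf 9030))) (ST.node (ST.node (ST.leaf 9046) (ST.leaf 6420)) (ST.node (ST.leaf 9042) (ST.leaf 11500)))) (ST.node (ST.node (ST.node (ST.leaf 11502) (ST.leaf 9040)) (ST.node (ST.leaf 6422) (ST.leaf 9044))) (ST.node (ST.node (ST.leaf 9028) (ST.leaf 9050)) (ST.node (ST.leaf 9052) (ST.leaf 11498))))) [(0, 0xa2f), (4, 0xa50), (9, 0xf6c), (14, 0x806), (18, 0x280a), (22, 0x80a), (25, 0xe6e), (26, 0xa4e), (28, 0xa24), (34, 0x268), (41, 0xe4c), (52, 0x424)],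
  C16.good 0x500a4155884284 [30, 38, 43, 54] (ST.node (ST.node (ST.node (ST.node (ST.leaf 4542) (ST.leaf 4520)) (ST.node (ST.leaf 6950) (ST.leaf 4544))) (ST.node (ST.node (ST.leaf 4532) (ST.leaf 6954)) (ST.node (ST.leaf 4536) (ST.leaf 2694)))) (ST.node (ST.node (ST.node (ST.leaf 2692) (ST.leaf 4538)) (ST.node (ST.leaf 6952) (ST.leaf 4534))) (ST.node (ST.node (ST.leaf 4546) (ST.leaf 6948)) (ST.node (ST.leaf 4522) (ST.leaf 4540))))) [(2, 0x40c), (7, 0x473), (9, 0x130), (14, 0x400), (19, 0x1469), (23, 0x441), (24, 0x806a), (26, 0x143a), (28, 0x1450), (32, 0x10000), (41, 0x100a), (52, 0x469)],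
  C16.good 0x500a41aa884284 [31, 38, 43, 54] (ST.node (ST.node (ST.node (ST.node (ST.leaf 4657) (ST.leaf 7103)) (ST.node (ST.leaf 4661) (ST.leaf 2779))) (ST.node (ST.node (ST.leaf 4667) (ST.leaf 4645)) (ST.node (ST.leaf 7099) (ST.leaf 4669)))) (ST.node (ST.node (ST.node (ST.leaf 4671) (ST.leaf 7097)) (ST.node (ST.leaf 4647) (ST.leaf 4665))) (ST.node (ST.node (ST.leaf 2777) (ST.leaf 4663)) (ST.node (ST.leaf 7101) (ST.leaf 4659))))) [(2, 0x847), (7, 0x838), (9, 0xd7b), (14, 0xa11), (19, 0x209), (23, 0x860), (25, 0xe7b), (27, 0x230), (29, 0x25a), (32, 0x10000), (41, 0x45a), (52, 0x633)],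
  C16.good 0x500a8266214222 [30, 39, 43, 54] (ST.node (ST.node (ST.node (ST.node (ST.leaf 6794) (ST.leaf 9384)) (ST.node (ST.leaf 6770) (ST.leaf 6788))) (ST.node (ST.node (ST.leaf 4384) (ST.leaf 6786)) (ST.node (ST.leaf 9388) (ST.leaf 6782)))) (ST.node (ST.node (ST.node (ST.leaf 6780) (ST.leaf 9390)) (ST.node (ST.leaf 6784) (ST.leaf 4386))) (ST.node (ST.node (ST.leaf 6790) (ST.leaf 6768)) (ST.node (ST.leaf 9386) (ST.leaf 6792))))) [(1, 0x46), (5, 0x39), (9, 0x590), (14, 0x210), (16, 0xac5), (21, 0x251), (25, 0x65d), (26, 0xcd), (29, 0xd8), (33, 0x95), (41, 0x64d), (52, 0x6d9)],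
  C16.good 0x500a8299214222 [31, 39, 43, 54] (ST.node (ST.node (ST.node (ST.node (ST.leaf 9245) (ST.leaf 6635)) (ST.node (ST.leaf 4261) (ST.leaf 6639))) (ST.node (ST.node (ST.leaf 6623) (ST.leaf 6641)) (ST.node (ST.leaf 6647) (ST.leaf 9241)))) (ST.node (ST.node (ST.node (ST.leaf 9243) (ST.leaf 6645)) (ST.node (ST.leaf 6643) (ST.leaf 6621))) (ST.node (ST.node (ST.leaf 6637) (ST.leaf 4263)) (ST.node (ST.leaf 6633) (ST.leaf 9247))))) [(1, 0x53), (5, 0x2c), (9, 0x3cd), (14, 0x205), (16, 0xa1d), (21, 0x29c), (24, 0x8015), (27, 0xd8), (28, 0xcd), (33, 0x95), (41, 0x10), (52, 0x91)],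
  C16.good 0x5060185a888184 [30, 36, 46, 54] (ST.node (ST.node (ST.node (ST.node (ST.leaf 8222) (ST.leaf 10792)) (ST.node (ST.leaf 8226) (ST.leaf 5592))) (ST.node (ST.node (ST.leaf 8228) (ST.leaf 8210)) (ST.node (ST.leaf 10788) (ST.leaf 8234)))) (ST.node (ST.node (ST.node (ST.leaf 8232) (ST.leaf 10790)) (ST.node (ST.leaf 8208) (ST.leaf 8230))) (ST.node (ST.node (ST.leaf 5594) (ST.leaf 8224)) (ST.node (ST.leaf 10794) (ST.leaf 8220))))) [(2, 0xd77), (7, 0xd08), (8, 0x8a1), (15, 0xd7b), (19, 0xd28), (23, 0x471), (25, 0xd4b), (27, 0x430), (28, 0x182b), (35, 0x530), (45, 0x1c71), (52, 0x469)],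
  C16.good 0x506018a5888184 [31, 36, 46, 54] (ST.node (ST.node (ST.node (ST.node (ST.leaf 10645) (ST.leaf 8087)) (ST.node (ST.leaf 8081) (ST.leaf 8063))) (ST.node (ST.node (ST.leaf 8079) (ST.leaf 5469)) (ST.node (ST.leaf 8075) (ST.leaf 10649)))) (ST.node (ST.node (ST.node (ST.leaf 10651) (ST.leaf 8073)) (ST.node (ST.leaf 5471) (ST.leaf 8077))) (ST.node (ST.node (ST.leaf 8061) (ST.leaf 8083)) (ST.node (ST.leaf 8085) (ST.leaf 10647))))) [(2, 0x40c), (7, 0x473), (8, 0x1da), (15, 0x65a), (19, 0x239), (23, 0x41), (24, 0x8430), (26, 0x66a), (29, 0x25a), (35, 0x76a), (45, 0x45a), (52, 0x633)],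
  C16.good 0x50602469218122 [30, 37, 46, 54] (ST.node (ST.node (ST.node (ST.node (ST.leaf 10491) (ST.leaf 10469)) (ST.node (ST.leaf 12739) (ST.leaf 10493))) (ST.node (ST.node (ST.leaf 10481) (ST.leaf 12743)) (ST.node (ST.leaf 10485) (ST.leaf 7903)))) (ST.node (ST.node (ST.node (ST.leaf 7901) (ST.leaf 10487)) (ST.node (ST.leaf 12741) (ST.leaf 10483))) (ST.node (ST.node (ST.leaf 10495) (ST.leaf 12737)) (ST.node (ST.leaf 10471) (ST.leaf 10489))))) [(1, 0x1011e), (5, 0x10161), (8, 0x10085), (15, 0x10010), (16, 0x818), (21, 0x141), (24, 0x805d), (27, 0x10100), (29, 0x1015d), (34, 0x10000), (45, 0x48), (52, 0x10159)],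
  C16.good 0x50602496218122 [31, 37, 46, 54] (ST.node (ST.node (ST.node (ST.node (ST.leaf 10350) (ST.leaf 12612)) (ST.node (ST.leaf 10326) (ST.leaf 10344))) (ST.node (ST.node (ST.leaf 7752) (ST.leaf 10342)) (ST.node (ST.leaf 12616) (ST.leaf 10338)))) (ST.node (ST.node (ST.node (ST.leaf 10336) (ST.leaf 12618)) (ST.node (ST.leaf 10340) (ST.leaf 7754))) (ST.node (ST.node (ST.leaf 10346) (ST.leaf 10324)) (ST.node (ST.leaf 12614) (ST.leaf 10348))))) [(1, 0x3006), (5, 0x3079), (8, 0x31c0), (15, 0x3155), (16, 0x3800), (21, 0x3159), (25, 0x5d), (26, 0x3018), (28, 0x100d), (34, 0x3118), (45, 0x2000), (52, 0x3041)],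
  C16.good 0x50604155128148 [30, 38, 46, 54] (ST.node (ST.node (ST.node (ST.node (ST.leaf 4916) (ST.leaf 7394)) (ST.node (ST.leaf 4892) (ST.leaf 4914))) (ST.node (ST.node (ST.leaf 2946) (ST.leaf 4908)) (ST.node (ST.leaf 7398) (ST.leaf 4904)))) (ST.node (ST.node (ST.node (ST.leaf 4906) (ST.leaf 7396)) (ST.node (ST.leaf 4910) (ST.leaf 2944))) (ST.node (ST.node (ST.leaf 4912) (ST.leaf 4894)) (ST.node (ST.leaf 7392) (ST.leaf 4918))))) [(3, 0x1c), (6, 0x41), (8, 0x85), (15, 0x10), (17, 0x3006), (20, 0x4000), (24, 0xa015), (26, 0x2), (28, 0x2017), (32, 0x10000), (45, 0x2000), (52, 0x6)],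
  C16.good 0x506041aa128148 [31, 38, 46, 54] (ST.node (ST.node (ST.node (ST.node (ST.leaf 7247) (ST.leaf 4793)) (ST.node (ST.leaf 4791) (ST.leaf 4769))) (ST.node (ST.node (ST.leaf 4785) (ST.leaf 2863)) (ST.node (ST.leaf 4781) (ST.leaf 7251)))) (ST.node (ST.node (ST.node (ST.leaf 7249) (ST.leaf 4783)) (ST.node (ST.leaf 2861) (ST.leaf 4787))) (ST.node (ST.node (ST.leaf 4771) (ST.leaf 4789)) (ST.node (ST.leaf 4795) (ST.leaf 7245))))) [(3, 0x11e), (6, 0x141), (8, 0x382), (15, 0x317), (17, 0x1216), (20, 0x4000), (25, 0x307), (27, 0x100), (29, 0x205), (32, 0x10000), (45, 0x310), (52, 0x106)],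
  C16.good 0x50608266448111 [30, 39, 46, 54] (ST.node (ST.node (ST.node (ST.node (ST.leaf 7508) (ST.leaf 7530)) (ST.node (ST.leaf 7532) (ST.leaf 10106))) (ST.node (ST.node (ST.leaf 10110) (ST.leaf 7520)) (ST.node (ST.leaf 5006) (ST.leaf 7524)))) (ST.node (ST.node (ST.node (ST.leaf 7526) (ST.leaf 5004)) (ST.node (ST.leaf 7522) (ST.leaf 10108))) (ST.node (ST.node (ST.leaf 10104) (ST.leaf 7534)) (ST.node (ST.leaf 7528) (ST.leaf 7510))))) [(0, 0x41), (4, 0x3e), (8, 0x3a2), (15, 0x268), (18, 0x230e), (22, 0x4120), (25, 0x4366), (26, 0x100), (29, 0x4264), (33, 0x120), (45, 0x430e), (52, 0x126)],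
  C16.good 0x50608299448111 [31, 39, 46, 54] (ST.node (ST.node (ST.node (ST.node (ST.leaf 10251) (ST.leaf 7681)) (ST.node (ST.leaf 7679) (ST.leaf 7657))) (ST.node (ST.node (ST.leaf 7673) (ST.leaf 5131)) (ST.node (ST.leaf 7669) (ST.leaf 10255)))) (ST.node (ST.node (ST.node (ST.leaf 10253) (ST.leaf 7671)) (ST.node (ST.leaf 5129) (ST.leaf 7675))) (ST.node (ST.node (ST.leaf 7659) (ST.leaf 7677)) (ST.node (ST.leaf 7683) (ST.leaf 10249))))) [(0, 0x43), (4, 0x3c), (8, 0x2a0), (15, 0x26a), (18, 0x3004), (22, 0x246), (24, 0x9208), (27, 0x2), (28, 0x120a), (33, 0x20), (45, 0x1262), (52, 0x24)],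
  C16.good 0x5090185a442811 [30, 36, 47, 54] (ST.node (ST.node (ST.node (ST.node (ST.leaf 7320) (ST.leaf 7342)) (ST.node (ST.leaf 7344) (ST.leaf 9926))) (ST.node (ST.node (ST.leaf 9930) (ST.leaf 7332)) (ST.node (ST.leaf 4850) (ST.leaf 7336)))) (ST.node (ST.node (ST.node (ST.leaf 7338) (ST.leaf 4848)) (ST.node (ST.leaf 7334) (ST.leaf 9928))) (ST.node (ST.node (ST.leaf 9924) (ST.leaf 7346)) (ST.node (ST.leaf 7340) (ST.leaf 7322))))) [(0, 0x60b), (4, 0x674), (11, 0x422), (13, 0x3a2), (18, 0x20e6), (22, 0x38e), (25, 0x24a), (27, 0x5e8), (28, 0x180), (35, 0x76a), (44, 0x402), (52, 0x1cc)],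
  C16.good 0x509018a5442811 [31, 36, 47, 54] (ST.node (ST.node (ST.node (ST.node (ST.leaf 7197) (ST.leaf 9783)) (ST.node (ST.leaf 7173) (ST.leaf 7195))) (ST.node (ST.node (ST.leaf 4727) (ST.leaf 7189)) (ST.node (ST.leaf 9787) (ST.leaf 7185)))) (ST.node (ST.node (ST.node (ST.leaf 7187) (ST.leaf 9785)) (ST.node (ST.leaf 7191) (ST.leaf 4725))) (ST.node (ST.node (ST.leaf 7193) (ST.leaf 7175)) (ST.node (ST.leaf 9781) (ST.leaf 7199))))) [(0, 0x29), (4, 0x56), (11, 0x1ca), (13, 0x68), (18, 0x2166), (22, 0x8aa), (24, 0x88ee), (26, 0x96e), (29, 0x180), (35, 0x148), (44, 0x884), (52, 0x1cc)],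
  C16.good 0x50902469122848 [30, 37, 47, 54] (ST.node (ST.node (ST.node (ST.node (ST.leaf 12495) (ST.leaf 10193)) (ST.node (ST.leaf 7607) (ST.leaf 10197))) (ST.node (ST.node (ST.leaf 10181) (ST.leaf 10203)) (ST.node (ST.leaf 10205) (ST.leaf 12491)))) (ST.node (ST.node (ST.node (ST.leaf 12489) (ST.leaf 10207)) (ST.node (ST.leaf 10201) (ST.leaf 10183))) (ST.node (ST.node (ST.leaf 10199) (ST.leaf 7605)) (ST.node (ST.leaf 10195) (ST.leaf 12493))))) [(3, 0x1011e), (6, 0x10161), (11, 0x10027), (13, 0x10017), (17, 0x1111), (20, 0x4007), (24, 0x8012), (27, 0x10137), (29, 0x10125), (34, 0x10000), (44, 0x7), (52, 0x10116)],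
  C16.good 0x50902496122848 [31, 37, 47, 54] (ST.node (ST.node (ST.node (ST.node (ST.leaf 12364) (ST.leaf 10062)) (ST.node (ST.leaf 10056) (ST.leaf 10038))) (ST.node (ST.node (ST.leaf 10054) (ST.leaf 7456)) (ST.node (ST.leaf 10050) (ST.leaf 12368)))) (ST.node (ST.node (ST.node (ST.leaf 12370) (ST.leaf 10048)) (ST.node (ST.leaf 7458) (ST.leaf 10052))) (ST.node (ST.node (ST.leaf 10036) (ST.leaf 10058)) (ST.node (ST.leaf 10060) (ST.leaf 12366))))) [(3, 0x39c), (6, 0x3e3), (11, 0x1b5), (13, 0x120), (17, 0x12b6), (20, 0x4305), (25, 0xb7), (26, 0x12), (28, 0x302), (34, 0x282), (44, 0x305), (52, 0x331)],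
  C16.good 0x50904155212822 [30, 38, 47, 54] (ST.node (ST.node (ST.node (ST.node (ST.leaf 8284) (ST.leaf 5650)) (ST.node (ST.leaf 3448) (ST.leaf 5654))) (ST.node (ST.node (ST.leaf 5638) (ST.leaf 5656)) (ST.node (ST.leaf 5662) (ST.leaf 8280)))) (ST.node (ST.node (ST.node (ST.leaf 8282) (ST.leaf 5660)) (ST.node (ST.leaf 5658) (ST.leaf 5636))) (ST.node (ST.node (ST.leaf 5652) (ST.leaf 3450)) (ST.node (ST.leaf 5648) (ST.leaf 8286))))) [(1, 0x11e), (5, 0x161), (11, 0x348), (13, 0x315), (16, 0x955), (21, 0x354), (24, 0x8310), (26, 0x258), (28, 0x148), (32, 0x10000), (44, 0x305), (52, 0x104)],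
  C16.good 0x509041aa212822 [31, 38, 47, 54] (ST.node (ST.node (ST.node (ST.node (ST.leaf 5533) (ST.leaf 5515)) (ST.node (ST.leaf 8133) (ST.leaf 5539))) (ST.node (ST.node (ST.leaf 5527) (ST.leaf 8137)) (ST.node (ST.leaf 5531) (ST.leaf 3365)))) (ST.node (ST.node (ST.node (ST.leaf 3367) (ST.leaf 5529)) (ST.node (ST.leaf 8139) (ST.leaf 5525))) (ST.node (ST.node (ST.leaf 5537) (ST.leaf 8135)) (ST.node (ST.leaf 5513) (ST.leaf 5535))))) [(1, 0x11e), (5, 0x161), (11, 0x58), (13, 0xcd), (16, 0x8d5), (21, 0x2119), (25, 0x20dd), (27, 0x2195), (29, 0x180), (32, 0x10000), (44, 0x2000), (52, 0x1cc)],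
  C16.good 0x50908266882884 [30, 39, 47, 54] (ST.node (ST.node (ST.node (ST.node (ST.leaf 7828) (ST.leaf 10394)) (ST.node (ST.leaf 7804) (ST.leaf 7826))) (ST.node (ST.node (ST.leaf 5254) (ST.leaf 7820)) (ST.node (ST.leaf 10398) (ST.leaf 7816)))) (ST.node (ST.node (ST.node (ST.leaf 7818) (ST.leaf 10396)) (ST.node (ST.leaf 7822) (ST.leaf 5252))) (ST.node (ST.node (ST.leaf 7824) (ST.leaf 7806)) (ST.node (ST.leaf 10392) (ST.leaf 7830))))) [(2, 0x1336), (7, 0x1349), (11, 0x1160), (13, 0x16e0), (19, 0x3e3), (23, 0x16a1), (25, 0x1360), (26, 0x13ba), (29, 0x6ea), (33, 0x76a), (44, 0x153a), (52, 0x6d9)],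
  C16.good 0x50908299882884 [31, 39, 47, 54] (ST.node (ST.node (ST.node (ST.node (ST.leaf 7965) (ST.leaf 10543)) (ST.node (ST.leaf 7969) (ST.leaf 5379))) (ST.node (ST.node (ST.leaf 7975) (ST.leaf 7953)) (ST.node (ST.leaf 10539) (ST.leaf 7977)))) (ST.node (ST.node (ST.node (ST.leaf 7979) (ST.leaf 10537)) (ST.node (ST.leaf 7955) (ST.leaf 7973))) (ST.node (ST.node (ST.leaf 5377) (ST.leaf 7971)) (ST.node (ST.leaf 10541) (ST.leaf 7967))))) [(2, 0x447d), (7, 0x4402), (11, 0x462b), (13, 0x4171), (19, 0x4122), (23, 0x32b), (24, 0xc42b), (27, 0x421b), (28, 0x630), (33, 0x76a), (44, 0x4441), (52, 0x603)],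
  C16.good 0x55121411a06082 [28, 36, 44, 54] (ST.node (ST.node (ST.node (ST.node (ST.leaf 14740) (ST.leaf 1862)) (ST.node (ST.leaf 364) (ST.leaf 14750))) (ST.node (ST.node (ST.leaf 14746) (ST.leaf 932)) (ST.node (ST.leaf 938) (ST.leaf 14736)))) (ST.node (ST.node (ST.node (ST.leaf 14738) (ST.leaf 936)) (ST.node (ST.leaf 934) (ST.leaf 14744))) (ST.node (ST.node (ST.leaf 14748) (ST.leaf 366)) (ST.node (ST.leaf 1860) (ST.leaf 14742))))) [(1, 0x353), (7, 0x32c), (13, 0x80), (14, 0x105), (21, 0x189), (23, 0xf4), (24, 0x8000), (34, 0x380), (41, 0x305), (48, 0x40065), (50, 0x339), (52, 0x35c)],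
  C16.good 0x55122822096024 [29, 37, 44, 54] (ST.node (ST.node (ST.node (ST.node (ST.leaf 206) (ST.leaf 13788)) (ST.node (ST.leaf 13782) (ST.leaf 1340))) (ST.node (ST.node (ST.leaf 616) (ST.leaf 13778)) (ST.node (ST.leaf 13784) (ST.leaf 614)))) (ST.node (ST.node (ST.node (ST.leaf 612) (ST.leaf 13786)) (ST.node (ST.leaf 13776) (ST.leaf 618))) (ST.node (ST.node (ST.leaf 1342) (ST.leaf 13780)) (ST.node (ST.leaf 13790) (ST.leaf 204))))) [(2, 0x78c), (5, 0x7ab), (13, 0x202), (14, 0x582), (16, 0x88a), (19, 0x209), (25, 0x380), (35, 0x282), (41, 0x402), (48, 0x4039a), (50, 0x799), (52, 0x403)],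
  C16.good 0x55124284066018 [31, 38, 44, 54] (ST.node (ST.node (ST.node (ST.node (ST.leaf 13690) (ST.leaf 580)) (ST.node (ST.leaf 586) (ST.leaf 13680))) (ST.node (ST.node (ST.leaf 13684) (ST.leaf 1290)) (ST.node (ST.leaf 188) (ST.leaf 13694)))) (ST.node (ST.node (ST.node (ST.leaf 13692) (ST.leaf 190)) (ST.node (ST.leaf 1288) (ST.leaf 13686))) (ST.node (ST.node (ST.leaf 13682) (ST.leaf 584)) (ST.node (ST.leaf 582) (ST.leaf 13688))))) [(3, 0x22e), (4, 0x251), (13, 0xa7), (14, 0x7), (17, 0x1084), (18, 0x2263), (26, 0x2a5), (33, 0x282), (41, 0x207), (48, 0x40065), (50, 0xe1), (52, 0x84)],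
  C16.good 0x55128148506041 [30, 39, 44, 54] (ST.node (ST.node (ST.node (ST.node (ST.leaf 14262) (ST.leaf 1600)) (ST.node (ST.leaf 286) (ST.leaf 14268))) (ST.node (ST.node (ST.leaf 14264) (ST.leaf 774)) (ST.node (ST.leaf 776) (ST.leaf 14258)))) (ST.node (ST.node (ST.node (ST.leaf 14256) (ST.leaf 778)) (ST.node (ST.leaf 772) (ST.leaf 14266))) (ST.node (ST.node (ST.leaf 14270) (ST.leaf 284)) (ST.node (ST.leaf 1602) (ST.leaf 14260))))) [(0, 0x209), (6, 0x276), (13, 0x202), (14, 0x20), (20, 0x4212), (22, 0x22e), (27, 0x282), (32, 0x10000), (41, 0xa2), (48, 0x40298), (50, 0x9e), (52, 0x206)],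
  C16.good 0x55211411069018 [28, 36, 45, 54] (ST.node (ST.node (ST.node (ST.node (ST.leaf 644) (ST.leaf 13882)) (ST.node (ST.leaf 13872) (ST.leaf 650))) (ST.node (ST.node (ST.leaf 1394) (ST.leaf 13876)) (ST.node (ST.leaf 13886) (ST.leaf 220)))) (ST.node (ST.node (ST.node (ST.leaf 222) (ST.leaf 13884)) (ST.node (ST.leaf 13878) (ST.leaf 1392))) (ST.node (ST.node (ST.leaf 648) (ST.leaf 13874)) (ST.node (ST.leaf 13880) (ST.leaf 646))))) [(3, 0xb), (4, 0x56), (12, 0x405), (15, 0x7), (17, 0x1006), (18, 0x2043), (24, 0x8000), (34, 0x2), (40, 0x20000), (48, 0x40047), (50, 0x43), (52, 0x4)],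
  C16.good 0x55212822509041 [29, 37, 45, 54] (ST.node (ST.node (ST.node (ST.node (ST.leaf 14842) (ST.leaf 964)) (ST.node (ST.leaf 970) (ST.leaf 14832))) (ST.node (ST.node (ST.leaf 14836) (ST.leaf 1914)) (ST.node (ST.leaf 380) (ST.leaf 14846)))) (ST.node (ST.node (ST.node (ST.leaf 14844) (ST.leaf 382)) (ST.node (ST.leaf 1912) (ST.leaf 14838))) (ST.node (ST.node (ST.leaf 14834) (ST.leaf 968)) (ST.node (ST.leaf 966) (ST.leaf 14840))))) [(0, 0xb), (6, 0x54), (12, 0x582), (15, 0x180), (20, 0x4092), (22, 0x18c), (25, 0x2), (35, 0x100), (40, 0x20000), (48, 0x40018), (50, 0x1e), (52, 0x6)],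
  C16.good 0x55214284a09082 [31, 38, 45, 54] (ST.node (ST.node (ST.node (ST.node (ST.leaf 740) (ST.leaf 14170)) (ST.node (ST.leaf 14160) (ST.leaf 746))) (ST.node (ST.node (ST.leaf 1550) (ST.leaf 14164)) (ST.node (ST.leaf 14174) (ST.leaf 268)))) (ST.node (ST.node (ST.node (ST.leaf 270) (ST.leaf 14172)) (ST.node (ST.leaf 14166) (ST.leaf 1548))) (ST.node (ST.node (ST.leaf 744) (ST.leaf 14162)) (ST.node (ST.leaf 14168) (ST.leaf 742))))) [(1, 0x56), (7, 0x29), (12, 0x580), (15, 0x105), (21, 0x18c), (23, 0xf1), (26, 0x100), (33, 0x85), (40, 0x20000), (48, 0x40065), (50, 0x13c), (52, 0x159)],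
  C16.good 0x55218148099024 [30, 39, 45, 54] (ST.node (ST.node (ST.node (ST.node (ST.leaf 550) (ST.leaf 13592)) (ST.node (ST.leaf 13586) (ST.leaf 552))) (ST.node (ST.node (ST.leaf 1236) (ST.leaf 13590)) (ST.node (ST.leaf 13596) (ST.leaf 174)))) (ST.node (ST.node (ST.node (ST.leaf 172) (ST.leaf 13598)) (ST.node (ST.leaf 13588) (ST.leaf 1238))) (ST.node (ST.node (ST.leaf 554) (ST.leaf 13584)) (ST.node (ST.leaf 13594) (ST.leaf 548))))) [(2, 0x54), (5, 0x2b), (12, 0x45a), (15, 0x58), (16, 0x850), (19, 0xb), (27, 0x2), (32, 0x10000), (40, 0x20000), (48, 0x40018), (50, 0x43), (52, 0x5b)],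
  C16.good 0x55441411500541 [28, 36, 46, 54] (ST.node (ST.node (ST.node (ST.node (ST.leaf 13490) (ST.leaf 520)) (ST.node (ST.leaf 518) (ST.leaf 13496))) (ST.node (ST.node (ST.leaf 13500) (ST.leaf 158)) (ST.node (ST.leaf 1184) (ST.leaf 13494)))) (ST.node (ST.node (ST.node (ST.leaf 13492) (ST.leaf 1186)) (ST.node (ST.leaf 156) (ST.leaf 13502))) (ST.node (ST.node (ST.leaf 13498) (ST.leaf 516)) (ST.node (ST.leaf 522) (ST.leaf 13488))))) [(0, 0x409), (6, 0x454), (8, 0x80), (10, 0x602), (20, 0x4410), (22, 0x40e), (24, 0x8000), (34, 0x2), (42, 0x402), (48, 0x40418), (50, 0x41c), (52, 0x4)]]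

set_option Elab.async false in
theorem c16_9_ok : c16_9.all (chkC16 ent 16240 pbsD colsD) = true := by decide +kernel

end Cfsg.Agent.Helper2.RuL
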