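import Cfsg.Agent.Helper2.RuL.C16x0
import Cfsg.Agent.Helper2.RuL.C16x1
import Cfsg.Agent.Helper2.RuL.C16x2
import Cfsg.Agent.Helper2.RuL.C16x3
import Cfsg.Agent.Helper2.RuL.C16x4
import Cfsg.Agent.Helper2.RuL.C16x5
import Cfsg.Agent.Helper2.RuL.C16x6
import Cfsg.Agent.Helper2.RuL.C16x7
import Cfsg.Agent.Helper2.RuL.C16x8
import Cfsg.Agent.Helper2.RuL.C16x9
import Cfsg.Agent.Helper2.RuL.C16x10
import Cfsg.Agent.Helper2.RuL.C16x11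
import Cfsg.Agent.Helper2.RuL.C16x12
import Cfsg.Agent.Helper2.RuL.C16x13
import Cfsg.Agent.Helper2.RuL.C16x14
import Cfsg.Agent.Helper2.RuL.C16x15
import Cfsg.Agent.Helper2.RuL.C16x16
import Cfsg.Agent.Helper2.RuL.C16x17
import Cfsg.Agent.Helper2.RuL.EnumDat

/-! All certificates for the weight-16 words (helper2). -/

set_option autoImplicit false
set_option maxRecDepth 100000

namespace Cfsg.Agent.Helper2.RuL

open Cfsg.Agent.Helper5.RuLat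

def c16All : List C16 := c16_0 ++ c16_1 ++ c16_2 ++ c16_3 ++ c16_4 ++ c16_5 ++ c16_6 ++ c16_7 ++ c16_8 ++ c16_9 ++ c16_10 ++ c16_11 ++ c16_12 ++ c16_13 ++ c16_14 ++ c16_15 ++ c16_16 ++ c16_17

theorem c16All_ok : c16All.all (chkC16 ent 16240 pbsD colsD) = true := by
  simp only [c16All, List.all_append, Bool.and_eq_true]
  exact ⟨⟨⟨⟨⟨⟨⟨⟨⟨⟨⟨⟨⟨⟨⟨⟨⟨c16_0_ok, c16_1_ok⟩, c16_2_ok⟩, c16_3_ok⟩, c16_4_ok⟩, c16_5_ok⟩, c16_6_ok⟩,
    c16_7_ok⟩, c16_8_ok⟩, c16_9_ok⟩, c16_10_ok⟩, c16_11_ok⟩, c16_12_ok⟩, c16_13_ok⟩, c16_14_ok⟩,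
    c16_15_ok⟩, c16_16_ok⟩, c16_17_ok⟩

set_option Elab.async false in
theorem c16All_w : c16All.map C16.w = w16T.toList := by decide +kernel

end Cfsg.Agent.Helper2.RuL
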