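import Cfsg.Agent.Helper2.RuL.Chk4
import Cfsg.Agent.Helper2.RuL.Tab

/-! Certificates for the weight-16 words of the parity code, chunk 0 (helper2; generated). -/

set_option autoImplicit false
set_option maxRecDepth 100000

namespace Cfsg.Agent.Helper2.RuL

open Cfsg.Agent.Helper5.RuLat

def c16_0 : List C16 := [
  C16.bad 0xffff 0x1000,
  C16.bad 0xff00ff 0x80,
  C16.bad 0xffff00 0x15,
  C16.bad 0xff0000ff 0x800,
  C16.bad 0xff00ff00 0x800,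
  C16.bad 0xffff0000 0x126,
  C16.bad 0xf653c0056 0x20000,
  C16.bad 0xf653c00a9 0x580,
  C16.bad 0xf65c30056 0x200,
  C16.bad 0xf65c300a9 0x56,
  C16.bad 0xf9a3c0056 0x5a9,
  C16.bad 0xf9a3c00a9 0x256,
  C16.bad 0xf9ac30056 0x229,
  C16.bad 0xf9ac300a9 0x256,
  C16.bad 0x33566a000f 0x370,
  C16.bad 0x33566a00f0 0x30f,
  C16.bad 0x335695000f 0x370,
  C16.bad 0x33569500f0 0x485,
  C16.bad 0x33a96a000f 0x300,
  C16.bad 0x33a96a00f0 0xf,
  C16.bad 0x33a995000f 0x60,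
  C16.bad 0x33a99500f0 0xf,
  C16.bad 0x3c33560059 0x26,
  C16.bad 0x3c335600a6 0x59,
  C16.bad 0x3c33a90059 0x26,
  C16.bad 0x3c33a900a6 0x780,
  C16.bad 0x3ccc560059 0x10126,
  C16.bad 0x3ccc5600a6 0x3c1,
  C16.bad 0x3ccca90059 0x780,
  C16.bad 0x3ccca900a6 0x10159,
  C16.bad 0x566a590065 0x780,
  C16.good 0x566a59009a [22, 30, 34, 36, 38] (ST.node (ST.node (ST.node (ST.node (ST.node (ST.leaf 6040) (ST.leaf 3574)) (ST.node (ST.leaf 3634) (ST.leaf 2112))) (ST.node (ST.node (ST.leaf 5970) (ST.leaf 3636)) (ST.node (ST.leaf 3568) (ST.leaf 2162)))) (ST.node (ST.node (ST.node (ST.leaf 3762) (ST.leaf 2016)) (ST.node (ST.leaf 5896) (ST.leaf 3702))) (ST.node (ST.node (ST.leaf 3696) (ST.leaf 2066)) (ST.node (ST.leaf 5826) (ST.leaf 3764))))) (ST.node (ST.node (ST.node (ST.node (ST.leaf 3766) (ST.leaf 5824)) (ST.node (ST.leaf 2064) (ST.leaf 3698))) (ST.node (ST.node (ST.leaf 3700) (ST.leaf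 5898)) (ST.node (ST.leaf 2018) (ST.leaf 3760)))) (ST.node (ST.node (ST.node (ST.leaf 2160) (ST.leaf 3570)) (ST.node (ST.leaf 3638) (ST.leaf 5968))) (ST.node (ST.node (ST.leaf 2114) (ST.leaf 3632)) (ST.node (ST.leaf 3572) (ST.leaf 6042)))))) [(1, 0x283), (3, 0xcd), (4, 0xd5), (7, 0x2e4), (16, 0x860), (19, 0x60), (20, 0x42a4), (25, 0x241), (27, 0x41), (29, 0x265), (33, 0x2a4)],
  C16.good 0x566aa60065 [23, 30, 34, 36, 38] (ST.node (ST.node (ST.node (ST.node (ST.node (ST.leaf 5916) (ST.leaf 3714)) (ST.node (ST.leaf 6062) (ST.leaf 3584))) (ST.node (ST.node (ST.leaf 3590) (ST.leaf 2172)) (ST.node (ST.leaf 3716) (ST.leaf 2078)))) (ST.node (ST.node (ST.node (ST.leaf 3650) (ST.leaf 5988)) (ST.node (ST.leaf 3776) (ST.leaf 5846))) (ST.node (ST.node (ST.leaf 2028) (ST.leaf 3782)) (ST.node (ST.leaf 2126) (ST.leaf 3652))))) (ST.node (ST.node (ST.node (ST.node (ST.leaf 3654) (ST.leaf 2124))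 (ST.node (ST.leaf 3780) (ST.leaf 2030))) (ST.node (ST.node (ST.leaf 5844) (ST.leaf 3778)) (ST.node (ST.leaf 5990) (ST.leaf 3648)))) (ST.node (ST.node (ST.node (ST.leaf 2076) (ST.leaf 3718)) (ST.node (ST.leaf 2174) (ST.leaf 3588))) (ST.node (ST.node (ST.leaf 3586) (ST.leaf 6060)) (ST.node (ST.leaf 3712) (ST.leaf 5918)))))) [(0, 0x18b), (2, 0x194), (5, 0xb2), (6, 0xd2), (17, 0x1018), (18, 0x208a), (21, 0x18), (25, 0x10), (27, 0x100), (29, 0x10a), (33, 0x8a)],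
  C16.bad 0x566aa6009a 0x780,
  C16.good 0x5695590065 [22, 31, 34, 36, 38] (ST.node (ST.node (ST.node (ST.node (ST.node (ST.leaf 1052) (ST.leaf 1150)) (ST.node (ST.leaf 2136) (ST.leaf 2090))) (ST.node (ST.node (ST.leaf 2084) (ST.leaf 2134)) (ST.node (ST.leaf 3788) (ST.leaf 3598)))) (ST.node (ST.node (ST.node (ST.leaf 2042) (ST.leaf 2184)) (ST.node (ST.leaf 1118) (ST.leaf 1084))) (ST.node (ST.node (ST.leaf 3662) (ST.leaf 3724)) (ST.node (ST.leaf 2182) (ST.leaf 2036))))) (ST.node (ST.node (ST.node (ST.node (ST.leaf 2038) (ST.leaf 2180)) (ST.node (ST.leaf 3726) (ST.leaf 3660))) (ST.node (ST.node (ST.leaf 1086) (ST.leaf 1116)) (ST.node (ST.leaf 2186) (ST.leaf 2040)))) (ST.node (ST.node (ST.node (ST.leaf 3596) (ST.leaf 3790)) (ST.node (ST.leaf 2132) (ST.leaf 2086))) (ST.node (ST.node (ST.leaf 2088) (ST.leaf 2138)) (ST.node (ST.leaf 1148) (ST.leaf 1054)))))) [(0, 0x83), (2, 0x28e),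 (5, 0x2aa), (6, 0xc2), (16, 0x80a), (19, 0xa), (20, 0x4282), (24, 0x8202), (26, 0x2), (28, 0x200), (33, 0x282)],
  C16.bad 0x569559009a 0x65,
  C16.bad 0x5695a60065 0x780,
  C16.good 0x5695a6009a [23, 31, 34, 36, 38] (ST.node (ST.node (ST.node (ST.node (ST.node (ST.leaf 3688) (ST.leaf 8542)) (ST.node (ST.leaf 3560) (ST.leaf 8670))) (ST.node (ST.node (ST.leaf 3752) (ST.leaf 8478)) (ST.node (ST.leaf 3624) (ST.leaf 8606)))) (ST.node (ST.node (ST.node (ST.leaf 5962) (ST.leaf 5884)) (ST.node (ST.leaf 5818) (ST.leaf 6028))) (ST.node (ST.node (ST.leaf 6034) (ST.leaf 5812)) (ST.node (ST.leaf 5890) (ST.leaf 5956))))) (ST.node (ST.node (ST.node (ST.node (ST.leaf 5958) (ST.leaf 5888)) (ST.node (ST.leaf 5814) (ST.leaf 6032))) (ST.node (ST.node (ST.leaf 6030) (ST.leaf 5816)) (ST.node (ST.leaf 5886) (ST.leaf 5960)))) (ST.node (ST.node (ST.node (ST.leaf 8604) (ST.leaf 3626)) (ST.node (ST.leaf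 8476) (ST.leaf 3754))) (ST.node (ST.node (ST.leaf 8668) (ST.leaf 3562)) (ST.node (ST.leaf 8540) (ST.leaf 3690)))))) [(1, 0xa7), (3, 0xad), (4, 0x191), (7, 0x181), (17, 0x1024), (18, 0x2085), (21, 0x24), (24, 0x8005), (26, 0x100), (28, 0x105), (33, 0x85)],
  C16.bad 0x590f650033 0x4c,
  C16.bad 0x590f6500cc 0x33,
  C16.bad 0x590f9a0033 0x20000,
  C16.bad 0x590f9a00cc 0x33,
  C16.bad 0x59f0650033 0x1cc,
  C16.bad 0x59f06500cc 0x633,
  C16.bad 0x59f09a0033 0x1cc,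
  C16.bad 0x59f09a00cc 0x1b3,
  C16.bad 0x653c33006a 0x2000,
  C16.bad 0x653c330095 0x360,
  C16.bad 0x653ccc006a 0x95,
  C16.bad 0x653ccc0095 0x806a,
  C16.bad 0x65c333006a 0x80,
  C16.bad 0x65c3330095 0x6a,
  C16.bad 0x65c3cc006a 0x5800,
  C16.bad 0x65c3cc0095 0x700,
  C16.bad 0x6a590f003c 0x43,
  C16.bad 0x6a590f00c3 0x18,
  C16.bad 0x6a59f0003c 0x780,
  C16.bad 0x6a59f000c3 0x3c,
  C16.bad 0x6aa60f003c 0x780,
  C16.bad 0x6aa60f00c3 0x42bc,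
  C16.bad 0x6aa6f0003c 0x3ac3,
  C16.bad 0x6aa6f000c3 0x780,
  C16.bad 0x95590f003c 0x43,
  C16.bad 0x95590f00c3 0x4000,
  C16.bad 0x9559f0003c 0x3800,
  C16.bad 0x9559f000c3 0x500,
  C16.bad 0x95a60f003c 0x2c3,
  C16.bad 0x95a60f00c3 0x2bc,
  C16.bad 0x95a6f0003c 0x543,
  C16.bad 0x95a6f000c3 0x2bc,
  C16.bad 0x9a3c33006a 0x780,
  C16.bad 0x9a3c330095 0x20ea,
  C16.bad 0x9a3ccc006a 0x8015,
  C16.bad 0x9a3ccc0095 0x780,
  C16.bad 0x9ac333006a 0x15,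
  C16.bad 0x9ac3330095 0x60,
  C16.bad 0x9ac3cc006a 0x15,
  C16.bad 0x9ac3cc0095 0x5880,
  C16.bad 0xa60f650033 0x4288,
  C16.bad 0xa60f6500cc 0x33,
  C16.bad 0xa60f9a0033 0x4c,
  C16.bad 0xa60f9a00cc 0x33,
  C16.bad 0xa6f0650033 0x780,
  C16.bad 0xa6f06500cc 0x20000,
  C16.bad 0xa6f09a0033 0x20c4,
  C16.bad 0xa6f09a00cc 0x780,
  C16.good 0xa96a590065 [22, 30, 35, 37, 39] (ST.node (ST.node (ST.node (ST.node (ST.node (ST.leaf 8605) (ST.leaf 3627)) (ST.node (ST.leaf 8477) (ST.leaf 3755))) (ST.node (ST.node (ST.leaf 8669) (ST.leaf 3563)) (ST.node (ST.leaf 8541) (ST.leaf 3691)))) (ST.node (ST.node (ST.node (ST.leaf 5959) (ST.leaf 5889)) (ST.node (ST.leaf 5815) (ST.leaf 6033))) (ST.node (ST.node (ST.leaf 6031) (ST.leaf 5817)) (ST.node (ST.leaf 5887) (ST.leaf 5961))))) (ST.node (ST.node (ST.node (ST.node (ST.leaf 5963) (ST.leaf 5885)) (ST.node (ST.leaf 5819) (ST.leaf 6029))) (ST.node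 (ST.node (ST.leaf 6035) (ST.leaf 5813)) (ST.node (ST.leaf 5891) (ST.leaf 5957)))) (ST.node (ST.node (ST.node (ST.leaf 3689) (ST.leaf 8543)) (ST.node (ST.leaf 3561) (ST.leaf 8671))) (ST.node (ST.node (ST.leaf 3753) (ST.leaf 8479)) (ST.node (ST.leaf 3625) (ST.leaf 8607)))))) [(0, 0x101), (2, 0x18c), (5, 0xaa), (6, 0x40), (16, 0x88a), (19, 0x8a), (20, 0x4000), (25, 0x82), (27, 0x100), (29, 0x180), (32, 0x10000)],
  C16.bad 0xa96a59009a 0x3e5,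
  C16.bad 0xa96aa60065 0x41a,
  C16.good 0xa96aa6009a [23, 30, 35, 37, 39] (ST.node (ST.node (ST.node (ST.node (ST.node (ST.leaf 2043) (ST.leaf 2185)) (ST.node (ST.leaf 1119) (ST.leaf 1085))) (ST.node (ST.node (ST.leaf 3663) (ST.leaf 3725)) (ST.node (ST.leaf 2183) (ST.leaf 2037)))) (ST.node (ST.node (ST.node (ST.leaf 1053) (ST.leaf 1151)) (ST.node (ST.leaf 2137) (ST.leaf 2091))) (ST.node (ST.node (ST.leaf 2085) (ST.leaf 2135)) (ST.node (ST.leaf 3789) (ST.leaf 3599))))) (ST.node (ST.node (ST.node (ST.node (ST.leaf 3597) (ST.leaf 3791)) (ST.node (ST.leaf 2133) (ST.leaf 2087))) (ST.node (ST.node (ST.leaf 2089) (ST.leaf 2139)) (ST.node (ST.leaf 1149) (ST.leaf 1055)))) (ST.node (ST.node (ST.node (ST.leaf 2039) (ST.leaf 2181)) (ST.node (ST.leaf 3727) (ST.leaf 3661))) (ST.node (ST.node (ST.leaf 1087) (ST.leaf 1117)) (ST.node (ST.leaf 2187) (ST.leaf 2041)))))) [(1, 0x27), (3, 0xad),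 (4, 0x194), (7, 0x101), (17, 0x1121), (18, 0x2000), (21, 0x121), (25, 0x85), (27, 0x100), (29, 0x180), (32, 0x10000)],
  C16.bad 0xa995590065 0x400,
  C16.good 0xa99559009a [22, 31, 35, 37, 39] (ST.node (ST.node (ST.node (ST.node (ST.node (ST.leaf 3655) (ST.leaf 2125)) (ST.node (ST.leaf 3781) (ST.leaf 2031))) (ST.node (ST.node (ST.leaf 5845) (ST.leaf 3779)) (ST.node (ST.leaf 5991) (ST.leaf 3649)))) (ST.node (ST.node (ST.node (ST.leaf 2077) (ST.leaf 3719)) (ST.node (ST.leaf 2175) (ST.leaf 3589))) (ST.node (ST.node (ST.leaf 3587) (ST.leaf 6061)) (ST.node (ST.leaf 3713) (ST.leaf 5919))))) (ST.node (ST.node (ST.node (ST.node (ST.leaf 5917) (ST.leaf 3715)) (ST.node (ST.leaf 6063) (ST.leaf 3585))) (ST.node (ST.node (ST.leaf 3591) (ST.leaf 2173)) (ST.node (ST.leaf 3717) (ST.leaf 2079)))) (ST.node (ST.node (ST.node (ST.leaf 3651) (ST.leaf 5989)) (ST.node (ST.leaf 3777) (ST.leaf 5847)))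 (ST.node (ST.node (ST.leaf 2029) (ST.leaf 3783)) (ST.node (ST.leaf 2127) (ST.leaf 3653)))))) [(1, 0x83), (3, 0xc), (4, 0x114), (7, 0x181), (16, 0x885), (19, 0x85), (20, 0x4000), (24, 0x8080), (26, 0x100), (28, 0x180), (32, 0x10000)],
  C16.good 0xa995a60065 [23, 31, 35, 37, 39] (ST.node (ST.node (ST.node (ST.node (ST.node (ST.leaf 6041) (ST.leaf 3575)) (ST.node (ST.leaf 3635) (ST.leaf 2113))) (ST.node (ST.node (ST.leaf 5971) (ST.leaf 3637)) (ST.node (ST.leaf 3569) (ST.leaf 2163)))) (ST.node (ST.node (ST.node (ST.leaf 3763) (ST.leaf 2017)) (ST.node (ST.leaf 5897) (ST.leaf 3703))) (ST.node (ST.node (ST.leaf 3697) (ST.leaf 2067)) (ST.node (ST.leaf 5827) (ST.leaf 3765))))) (ST.node (ST.node (ST.node (ST.node (ST.leaf 3767) (ST.leaf 5825)) (ST.node (ST.leaf 2065) (ST.leaf 3699))) (ST.node (ST.node (ST.leaf 3701) (ST.leaf 5899)) (ST.node (ST.leaf 2019) (ST.leaf 3761)))) (ST.node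 (ST.node (ST.node (ST.leaf 2161) (ST.leaf 3571)) (ST.node (ST.leaf 3639) (ST.leaf 5969))) (ST.node (ST.node (ST.leaf 2115) (ST.leaf 3633)) (ST.node (ST.leaf 3573) (ST.leaf 6043)))))) [(0, 0x181), (2, 0x104), (5, 0x22), (6, 0xc2), (17, 0x1102), (18, 0x2000), (21, 0x102), (24, 0x8080), (26, 0x100), (28, 0x180), (32, 0x10000)],
  C16.bad 0xa995a6009a 0x65,
  C16.bad 0xc333560059 0x100,
  C16.bad 0xc3335600a6 0x18,
  C16.bad 0xc333a90059 0x100,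
  C16.bad 0xc333a900a6 0x100,
  C16.bad 0xc3cc560059 0x682,
  C16.bad 0xc3cc5600a6 0x8059]

set_option Elab.async false in
theorem c16_0_ok : c16_0.all (chkC16 ent 16240 pbsD colsD) = true := by decide +kernel

end Cfsg.Agent.Helper2.RuL
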