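import Cfsg.Agent.Helper2.RuL.Chk4
import Cfsg.Agent.Helper2.RuL.Tab

/-! Certificates for the weight-16 words of the parity code, chunk 11 (helper2; generated). -/

set_option autoImplicit false
set_option maxRecDepth 100000

namespace Cfsg.Agent.Helper2.RuL

open Cfsg.Agent.Helper5.RuLat

def c16_11 : List C16 := [
  C16.good 0x60249944422206 [30, 39, 45, 54] (ST.node (ST.node (ST.node (ST.node (ST.leaf 5745) (ST.leaf 8407)) (ST.node (ST.leaf 8401) (ST.leaf 5743))) (ST.node (ST.node (ST.leaf 3503) (ST.leaf 5737)) (ST.node (ST.leaf 8395) (ST.leaf 5729)))) (ST.node (ST.node (ST.node (ST.leaf 5731) (ST.leaf 8393)) (ST.node (ST.leaf 5739) (ST.leaf 3501))) (ST.node (ST.node (ST.leaf 5741) (ST.leaf 8403)) (ST.node (ST.leaf 8405) (ST.leaf 5747))))) [(1, 0x33), (2, 0x4c), (9, 0x180), (13, 0x450), (17, 0x1099), (22, 0x1), (26, 0x418), (32, 0x100c8), (35, 0x4f0), (36, 0x438), (42, 0x468), (53, 0x441)],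
  C16.good 0x6024a5881422a0 [31, 39, 45, 54] (ST.node (ST.node (ST.node (ST.node (ST.leaf 7319) (ST.leaf 4829)) (ST.node (ST.leaf 2895) (ST.leaf 4837))) (ST.node (ST.node (ST.leaf 7325) (ST.leaf 4843)) (ST.node (ST.leaf 4845) (ST.leaf 7331)))) (ST.node (ST.node (ST.node (ST.leaf 7329) (ST.leaf 4847)) (ST.node (ST.leaf 4841) (ST.leaf 7327))) (ST.node (ST.node (ST.leaf 4839) (ST.leaf 2893)) (ST.node (ST.leaf 4831) (ST.leaf 7317))))) [(5, 0x33), (7, 0x4c), (9, 0x318), (13, 0x48), (18, 0x204b), (20, 0x4212), (27, 0x12), (32, 0x10242), (34, 0x5f), (37, 0x21d), (42, 0xf), (53, 0x4b)],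
  C16.good 0x6024aa12282209 [28, 39, 45, 54] (ST.node (ST.node (ST.node (ST.node (ST.leaf 4403) (ST.leaf 2601)) (ST.node (ST.leaf 2607) (ST.leaf 4405))) (ST.node (ST.node (ST.leaf 4393) (ST.leaf 2591)) (ST.node (ST.leaf 1409) (ST.leaf 2599)))) (ST.node (ST.node (ST.node (ST.leaf 2597) (ST.leaf 1411)) (ST.node (ST.leaf 2589) (ST.leaf 4395))) (ST.node (ST.node (ST.leaf 4407) (ST.leaf 2605)) (ST.node (ST.leaf 2603) (ST.leaf 4401))))) [(0, 0x33), (3, 0x4c), (9, 0x3c2), (13, 0x442), (19, 0x10e6), (21, 0x10f4), (25, 0x1492), (33, 0x32), (35, 0x4f0), (37, 0x270), (42, 0x14e2), (53, 0x26)],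
  C16.good 0x60415512814850 [28, 38, 46, 54] (ST.node (ST.node (ST.node (ST.node (ST.leaf 4900) (ST.leaf 2942)) (ST.node (ST.leaf 2936) (ST.leaf 4898))) (ST.node (ST.node (ST.leaf 2934) (ST.leaf 1616)) (ST.node (ST.leaf 2926) (ST.leaf 4888)))) (ST.node (ST.node (ST.node (ST.leaf 4890) (ST.leaf 2924)) (ST.node (ST.leaf 1618) (ST.leaf 2932))) (ST.node (ST.node (ST.leaf 4896) (ST.leaf 2938)) (ST.node (ST.leaf 2940) (ST.leaf 4902))))) [(4, 0x33), (6, 0x4c), (11, 0x42f), (14, 0xaa), (16, 0x8a7), (23, 0x424), (25, 0xf), (32, 0x104a5), (34, 0xa), (36, 0x4af), (40, 0x20000), (53, 0x26)],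
  C16.good 0x60415a88424806 [31, 38, 46, 54] (ST.node (ST.node (ST.node (ST.node (ST.leaf 2556) (ST.leaf 4342)) (ST.node (ST.leaf 6724) (ST.leaf 4334))) (ST.node (ST.node (ST.leaf 4350) (ST.leaf 6736)) (ST.node (ST.leaf 6734) (ST.leaf 4344)))) (ST.node (ST.node (ST.node (ST.leaf 4346) (ST.leaf 6732)) (ST.node (ST.leaf 6738) (ST.leaf 4348))) (ST.node (ST.node (ST.leaf 4332) (ST.leaf 6726)) (ST.node (ST.leaf 4340) (ST.leaf 2558))))) [(1, 0x33), (2, 0x3c), (11, 0x8218), (14, 0x83a0), (17, 0x9339), (22, 0x8039), (27, 0x8000), (33, 0x8220), (35, 0x300), (36, 0x83b8), (40, 0x20000), (53, 0x8029)],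
  C16.good 0x604166441448a0 [30, 38, 46, 54] (ST.node (ST.node (ST.node (ST.node (ST.leaf 5364) (ST.leaf 3250)) (ST.node (ST.leaf 5356) (ST.leaf 7950))) (ST.node (ST.node (ST.leaf 7962) (ST.leaf 5372)) (ST.node (ST.leaf 5370) (ST.leaf 7956)))) (ST.node (ST.node (ST.node (ST.leaf 7958) (ST.leaf 5368)) (ST.node (ST.leaf 5374) (ST.leaf 7960))) (ST.node (ST.node (ST.leaf 7948) (ST.leaf 5358)) (ST.node (ST.leaf 3248) (ST.leaf 5366))))) [(5, 0x33), (7, 0x4c), (11, 0x450), (14, 0x1d), (18, 0x2441), (20, 0x415f), (26, 0xf), (33, 0x417), (34, 0xa), (37, 0x548), (40, 0x20000), (53, 0x56)],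
  C16.good 0x60416921284809 [29, 38, 46, 54] (ST.node (ST.node (ST.node (ST.node (ST.leaf 3827) (ST.leaf 6113)) (ST.node (ST.leaf 8739) (ST.leaf 6105))) (ST.node (ST.node (ST.leaf 6121) (ST.leaf 8751)) (ST.node (ST.leaf 8745) (ST.leaf 6119)))) (ST.node (ST.node (ST.node (ST.leaf 6117) (ST.leaf 8747)) (ST.node (ST.leaf 8749) (ST.leaf 6123))) (ST.node (ST.node (ST.leaf 6107) (ST.leaf 8737)) (ST.node (ST.leaf 6115) (ST.leaf 3825))))) [(0, 0x33), (3, 0x3c), (11, 0x32), (14, 0x400), (19, 0x36), (21, 0x424), (24, 0x8000), (32, 0x10532), (35, 0xb2), (37, 0x580), (40, 0x20000), (53, 0x26)],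
  C16.good 0x60419621284809 [29, 39, 46, 54] (ST.node (ST.node (ST.node (ST.node (ST.leaf 8340) (ST.leaf 10910)) (ST.node (ST.leaf 10904) (ST.leaf 8338))) (ST.node (ST.node (ST.leaf 5686) (ST.leaf 8332)) (ST.node (ST.leaf 10898) (ST.leaf 8324)))) (ST.node (ST.node (ST.node (ST.leaf 8326) (ST.leaf 10896)) (ST.node (ST.leaf 8334) (ST.leaf 5684))) (ST.node (ST.node (ST.leaf 8336) (ST.leaf 10906)) (ST.node (ST.leaf 10908) (ST.leaf 8342))))) [(0, 0x33), (3, 0x3c), (11, 0xa86), (14, 0xb34), (19, 0x336), (21, 0xba2), (24, 0x8000), (33, 0x9b4), (34, 0x300), (36, 0x3b2), (40, 0x20000), (53, 0x26)],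
  C16.good 0x604199441448a0 [30, 39, 46, 54] (ST.node (ST.node (ST.node (ST.node (ST.leaf 7811) (ST.leaf 5245)) (ST.node (ST.leaf 5251) (ST.leaf 7813))) (ST.node (ST.node (ST.leaf 7801) (ST.leaf 5235)) (ST.node (ST.leaf 3165) (ST.leaf 5243)))) (ST.node (ST.node (ST.node (ST.leaf 5241) (ST.leaf 3167)) (ST.node (ST.leaf 5233) (ST.leaf 7803))) (ST.node (ST.node (ST.leaf 7815) (ST.leaf 5249)) (ST.node (ST.leaf 5247) (ST.leaf 7809))))) [(5, 0x33), (7, 0x46), (11, 0x47), (14, 0x180), (18, 0x2094), (20, 0x4155), (26, 0x5), (32, 0x100c2), (35, 0x155), (36, 0x197), (40, 0x20000), (53, 0x56)],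
  C16.good 0x6041a588424806 [31, 39, 46, 54] (ST.node (ST.node (ST.node (ST.node (ST.leaf 2473) (ST.leaf 4219)) (ST.node (ST.leaf 6577) (ST.leaf 4211))) (ST.node (ST.node (ST.leaf 4227) (ST.leaf 6589)) (ST.node (ST.leaf 6587) (ST.leaf 4221)))) (ST.node (ST.node (ST.node (ST.leaf 4223) (ST.leaf 6585)) (ST.node (ST.leaf 6591) (ST.leaf 4225))) (ST.node (ST.node (ST.leaf 4209) (ST.leaf 6579)) (ST.node (ST.leaf 4217) (ST.leaf 2475))))) [(1, 0x33), (2, 0x3c), (11, 0x38), (14, 0x318), (17, 0x1081), (22, 0x381), (27, 0xb8), (32, 0x10298), (34, 0x300), (37, 0x198), (40, 0x20000), (53, 0x91)],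
  C16.good 0x6041aa12814850 [28, 39, 46, 54] (ST.node (ST.node (ST.node (ST.node (ST.leaf 4777) (ST.leaf 2859)) (ST.node (ST.leaf 2853) (ST.leaf 4775))) (ST.node (ST.node (ST.leaf 2851) (ST.leaf 1565)) (ST.node (ST.leaf 2843) (ST.leaf 4765)))) (ST.node (ST.node (ST.node (ST.leaf 4767) (ST.leaf 2841)) (ST.node (ST.leaf 1567) (ST.leaf 2849))) (ST.node (ST.node (ST.leaf 4773) (ST.leaf 2855)) (ST.node (ST.leaf 2857) (ST.leaf 4779))))) [(4, 0x33), (6, 0x46), (11, 0x425), (14, 0x3a5), (16, 0xd22), (23, 0x384), (25, 0x5), (33, 0x7a0), (35, 0x305), (37, 0x585), (40, 0x20000), (53, 0x26)],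
  C16.good 0x608255121411a0 [28, 38, 47, 54] (ST.node (ST.node (ST.node (ST.node (ST.leaf 5516) (ST.leaf 3358)) (ST.node (ST.leaf 3360) (ST.leaf 5522))) (ST.node (ST.node (ST.leaf 5510) (ST.leaf 3344)) (ST.node (ST.leaf 1878) (ST.leaf 3352)))) (ST.node (ST.node (ST.node (ST.leaf 3354) (ST.leaf 1876)) (ST.node (ST.leaf 3346) (ST.leaf 5508))) (ST.node (ST.node (ST.leaf 5520) (ST.leaf 3362)) (ST.node (ST.leaf 3356) (ST.leaf 5518))))) [(5, 0x74), (7, 0xb), (8, 0x92), (12, 0x450), (18, 0x200c), (20, 0x4047), (25, 0xf), (32, 0x1005f), (34, 0x4d), (36, 0x12), (41, 0x47), (53, 0x1e)],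
  C16.good 0x60825a88281109 [31, 38, 47, 54] (ST.node (ST.node (ST.node (ST.node (ST.leaf 3968) (ST.leaf 2306)) (ST.node (ST.leaf 3960) (ST.leaf 6282))) (ST.node (ST.node (ST.leaf 6294) (ST.leaf 3976)) (ST.node (ST.leaf 3974) (ST.leaf 6288)))) (ST.node (ST.node (ST.node (ST.leaf 6290) (ST.leaf 3972)) (ST.node (ST.leaf 3978) (ST.leaf 6292))) (ST.node (ST.node (ST.leaf 6280) (ST.leaf 3962)) (ST.node (ST.leaf 2304) (ST.leaf 3970))))) [(0, 0x1121), (3, 0x112e), (8, 0x90a0), (12, 0x9720), (19, 0x8036), (21, 0x9336), (27, 0x8000), (33, 0x8032), (35, 0x300), (36, 0x9312), (41, 0x1112), (53, 0x9134)],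
  C16.good 0x60826644811150 [30, 38, 47, 54] (ST.node (ST.node (ST.node (ST.node (ST.leaf 5002) (ST.leaf 7516)) (ST.node (ST.leaf 7514) (ST.leaf 4996))) (ST.node (ST.node (ST.leaf 2996) (ST.leaf 4994)) (ST.node (ST.leaf 7504) (ST.leaf 4986)))) (ST.node (ST.node (ST.node (ST.leaf 4984) (ST.leaf 7506)) (ST.node (ST.leaf 4992) (ST.leaf 2998))) (ST.node (ST.node (ST.leaf 4998) (ST.leaf 7512)) (ST.node (ST.leaf 7518) (ST.leaf 5000))))) [(4, 0x336), (6, 0x349), (8, 0x3af), (12, 0x42f), (16, 0x908), (23, 0x32b), (26, 0xf), (33, 0x320), (34, 0x30f), (37, 0x105), (41, 0x305), (53, 0x32c)],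
  C16.good 0x60826921421106 [29, 38, 47, 54] (ST.node (ST.node (ST.node (ST.node (ST.leaf 9603) (ST.leaf 6993)) (ST.node (ST.leaf 4571) (ST.leaf 7001))) (ST.node (ST.node (ST.leaf 9609) (ST.leaf 7007)) (ST.node (ST.leaf 7009) (ST.leaf 9615)))) (ST.node (ST.node (ST.node (ST.leaf 9613) (ST.leaf 7011)) (ST.node (ST.leaf 7005) (ST.leaf 9611))) (ST.node (ST.node (ST.leaf 7003) (ST.leaf 4569)) (ST.node (ST.leaf 6995) (ST.leaf 9601))))) [(1, 0xb), (2, 0x4), (8, 0x380), (12, 0x400), (17, 0x1319), (22, 0x19), (24, 0x8000), (32, 0x10118), (35, 0x300), (37, 0x218), (41, 0x18), (53, 0x11)],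
  C16.good 0x60829621421106 [29, 39, 47, 54] (ST.node (ST.node (ST.node (ST.node (ST.leaf 6858) (ST.leaf 9464)) (ST.node (ST.leaf 9470) (ST.leaf 6860))) (ST.node (ST.node (ST.leaf 6844) (ST.leaf 9458)) (ST.node (ST.leaf 6852) (ST.leaf 4446)))) (ST.node (ST.node (ST.node (ST.leaf 4444) (ST.leaf 6854)) (ST.node (ST.leaf 9456) (ST.leaf 6846))) (ST.node (ST.node (ST.leaf 6862) (ST.leaf 9468)) (ST.node (ST.leaf 9466) (ST.leaf 6856))))) [(1, 0x802), (2, 0x80d), (8, 0x2b8), (12, 0x420), (17, 0x1039), (22, 0x221), (24, 0x8000), (33, 0x809), (34, 0x218), (36, 0xa31), (41, 0x831), (53, 0x818)],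
  C16.good 0x60829944811150 [30, 39, 47, 54] (ST.node (ST.node (ST.node (ST.node (ST.leaf 7665) (ST.leaf 5127)) (ST.node (ST.leaf 5121) (ST.leaf 7663))) (ST.node (ST.node (ST.leaf 5119) (ST.leaf 3081)) (ST.node (ST.leaf 5111) (ST.leaf 7653)))) (ST.node (ST.node (ST.node (ST.leaf 7655) (ST.leaf 5109)) (ST.node (ST.leaf 3083) (ST.leaf 5117))) (ST.node (ST.node (ST.leaf 7661) (ST.leaf 5123)) (ST.node (ST.leaf 5125) (ST.leaf 7667))))) [(4, 0x39), (6, 0x46), (8, 0x18a), (12, 0x42f), (16, 0x927), (23, 0xb), (26, 0xf), (32, 0x10105), (35, 0x12a), (36, 0x2f), (41, 0xa), (53, 0x23)],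
  C16.good 0x6082a588281109 [31, 39, 47, 54] (ST.node (ST.node (ST.node (ST.node (ST.leaf 4103) (ST.leaf 6441)) (ST.node (ST.leaf 6439) (ST.leaf 4097))) (ST.node (ST.node (ST.leaf 2389) (ST.leaf 4095)) (ST.node (ST.leaf 6429) (ST.leaf 4087)))) (ST.node (ST.node (ST.node (ST.leaf 4085) (ST.leaf 6431)) (ST.node (ST.leaf 4093) (ST.leaf 2391))) (ST.node (ST.node (ST.leaf 4099) (ST.leaf 6437)) (ST.node (ST.leaf 6443) (ST.leaf 4101))))) [(0, 0xa35), (3, 0xa3a), (8, 0x3b2), (12, 0x432), (19, 0x4), (21, 0x324), (27, 0x332), (32, 0x10834), (34, 0x300), (37, 0xb34), (41, 0xa06), (53, 0x912)],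
  C16.good 0x6082aa121411a0 [28, 39, 47, 54] (ST.node (ST.node (ST.node (ST.node (ST.leaf 1929) (ST.leaf 3439)) (ST.node (ST.leaf 5633) (ST.leaf 3431))) (ST.node (ST.node (ST.leaf 3447) (ST.leaf 5645)) (ST.node (ST.leaf 5643) (ST.leaf 3441)))) (ST.node (ST.node (ST.node (ST.leaf 3443) (ST.leaf 5641)) (ST.node (ST.leaf 5647) (ST.leaf 3445))) (ST.node (ST.node (ST.leaf 3429) (ST.leaf 5635)) (ST.node (ST.leaf 3437) (ST.leaf 1931))))) [(5, 0x2b), (7, 0x46), (8, 0x3c2), (12, 0x442), (18, 0x2303), (20, 0x414d), (25, 0xf), (33, 0x4d), (35, 0x30f), (37, 0x205), (41, 0xa), (53, 0x41)],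
  C16.bad 0x650000566a5900 0x7f,
  C16.good 0x650000566aa600 [22, 30, 50, 53, 54] (ST.node (ST.node (ST.node (ST.node (ST.node (ST.leaf 5858) (ST.leaf 6068)) (ST.node (ST.leaf 5926) (ST.leaf 6000))) (ST.node (ST.node (ST.leaf 5996) (ST.leaf 5930)) (ST.node (ST.leaf 6072) (ST.leaf 5854)))) (ST.node (ST.node (ST.node (ST.leaf 5848) (ST.leaf 3784)) (ST.node (ST.leaf 3658) (ST.leaf 5994))) (ST.node (ST.node (ST.leaf 3720) (ST.leaf 5920)) (ST.node (ST.leaf 6066) (ST.leaf 3594))))) (ST.node (ST.node (ST.node (ST.node (ST.leaf 3592) (ST.leaf 6064)) (ST.node (ST.leaf 5922) (ST.leaf 3722))) (ST.node (ST.node (ST.leaf 5992) (ST.leaf 3656)) (ST.node (ST.leaf 3786) (ST.leaf 5850)))) (ST.node (ST.node (ST.node (ST.leaf 5852) (ST.leaf 6074)) (ST.node (ST.leaf 5928) (ST.leaf 5998))) (ST.node (ST.node (ST.leaf 6002) (ST.leaf 5924)) (ST.node (ST.leaf 6070) (ST.leaf 5856)))))) [(9, 0x181), (10, 0x21b), (13, 0xa7),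 (15, 0x32), (17, 0x1006), (19, 0x9f), (21, 0x99), (25, 0x1a), (26, 0x26), (28, 0x33), (48, 0x40000)],
  C16.good 0x65000056955900 [23, 30, 50, 53, 54] (ST.node (ST.node (ST.node (ST.node (ST.node (ST.leaf 3798) (ST.leaf 2044)) (ST.node (ST.leaf 3732) (ST.leaf 2094))) (ST.node (ST.node (ST.leaf 3664) (ST.leaf 3736)) (ST.node (ST.leaf 3602) (ST.leaf 3802)))) (ST.node (ST.node (ST.node (ST.leaf 2190) (ST.leaf 3604)) (ST.node (ST.leaf 2140) (ST.leaf 3670))) (ST.node (ST.node (ST.leaf 3674) (ST.leaf 3730)) (ST.node (ST.leaf 3608) (ST.leaf 3792))))) (ST.node (ST.node (ST.node (ST.node (ST.leaf 3794) (ST.leaf 3610)) (ST.node (ST.leaf 3728) (ST.leaf 3672))) (ST.node (ST.node (ST.leaf 3668) (ST.leaf 2142)) (ST.node (ST.leaf 3606) (ST.leaf 2188)))) (ST.node (ST.node (ST.node (ST.leaf 3800) (ST.leaf 3600)) (ST.node (ST.leaf 3738) (ST.leaf 3666))) (ST.node (ST.node (ST.leaf 2092) (ST.leaf 3734)) (ST.node (ST.leaf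 2046) (ST.leaf 3796)))))) [(8, 0xa7), (11, 0x32), (12, 0x424), (14, 0x34), (16, 0x800), (18, 0x2000), (20, 0x4000), (25, 0x10), (26, 0x26), (28, 0x33), (48, 0x40000)],
  C16.bad 0x6500005695a600 0x7f,
  C16.good 0x650000a96a5900 [22, 31, 50, 53, 54] (ST.node (ST.node (ST.node (ST.node (ST.node (ST.leaf 8487) (ST.leaf 8683)) (ST.node (ST.leaf 8551) (ST.leaf 8619))) (ST.node (ST.node (ST.leaf 8615) (ST.leaf 8555)) (ST.node (ST.leaf 8679) (ST.leaf 8491)))) (ST.node (ST.node (ST.node (ST.leaf 5823) (ST.leaf 8673)) (ST.node (ST.leaf 5895) (ST.leaf 8609))) (ST.node (ST.node (ST.leaf 5967) (ST.leaf 8545)) (ST.node (ST.leaf 6039) (ST.leaf 8481))))) (ST.node (ST.node (ST.node (ST.node (ST.leaf 8483) (ST.leaf 6037)) (ST.node (ST.leaf 8547) (ST.leaf 5965))) (ST.node (ST.node (ST.leaf 8611) (ST.leaf 5893)) (ST.node (ST.leaf 8675) (ST.leaf 5821)))) (ST.node (ST.node (ST.node (ST.leaf 8489) (ST.leaf 8677)) (ST.node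 (ST.leaf 8553) (ST.leaf 8613))) (ST.node (ST.node (ST.leaf 8617) (ST.leaf 8549)) (ST.node (ST.leaf 8681) (ST.leaf 8485)))))) [(8, 0xb2), (11, 0x27), (12, 0x514), (14, 0x101), (17, 0x1106), (19, 0x10), (21, 0x116), (24, 0x8015), (27, 0x26), (29, 0x33), (48, 0x40000)],
  C16.bad 0x650000a96aa600 0x70,
  C16.bad 0x650000a9955900 0x70,
  C16.good 0x650000a995a600 [23, 31, 50, 53, 54] (ST.node (ST.node (ST.node (ST.node (ST.node (ST.leaf 6051) (ST.leaf 3579)) (ST.node (ST.leaf 5981) (ST.leaf 5903))) (ST.node (ST.node (ST.leaf 3641) (ST.leaf 5977)) (ST.node (ST.leaf 5829) (ST.leaf 6055)))) (ST.node (ST.node (ST.node (ST.leaf 3771) (ST.leaf 5835)) (ST.node (ST.leaf 5975) (ST.leaf 5909))) (ST.node (ST.node (ST.leaf 5905) (ST.leaf 3705)) (ST.node (ST.leaf 5839) (ST.leaf 6045))))) (ST.node (ST.node (ST.node (ST.node (ST.leaf 6047) (ST.leaf 5837)) (ST.node (ST.leaf 3707) (ST.leaf 5907))) (ST.node (ST.node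 (ST.leaf 5911) (ST.leaf 5973)) (ST.node (ST.leaf 5833) (ST.leaf 3769)))) (ST.node (ST.node (ST.node (ST.leaf 6053) (ST.leaf 5831)) (ST.node (ST.leaf 5979) (ST.leaf 3643))) (ST.node (ST.node (ST.leaf 5901) (ST.leaf 5983)) (ST.node (ST.leaf 3577) (ST.leaf 6049)))))) [(9, 0x111), (10, 0x201), (13, 0x17), (15, 0x7), (16, 0x800), (18, 0x2000), (20, 0x4000), (24, 0x8015), (27, 0x6), (29, 0x13), (48, 0x40000)],
  C16.bad 0x6500330000590f 0x300,
  C16.bad 0x650033000059f0 0x5,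
  C16.bad 0x6500330000a60f 0x70,
  C16.bad 0x6500330000a6f0 0xf,
  C16.bad 0x6500cc0000590f 0x1300,
  C16.bad 0x6500cc000059f0 0x10300,
  C16.bad 0x6500cc0000a60f 0x70,
  C16.bad 0x6500cc0000a6f0 0x6885,
  C16.bad 0x653c005600000f 0x4f0,
  C16.bad 0x653c00560000f0 0x30f,
  C16.bad 0x653c00a900000f 0x10000,
  C16.bad 0x653c00a90000f0 0x48f,
  C16.bad 0x653c33006a0000 0x7f,
  C16.bad 0x653c3300950000 0x30f,
  C16.bad 0x653ccc006a0000 0x780,
  C16.bad 0x653ccc00950000 0x7f,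
  C16.bad 0x65c3005600000f 0x370,
  C16.bad 0x65c300560000f0 0x30f,
  C16.bad 0x65c300a900000f 0x300,
  C16.bad 0x65c300a90000f0 0xf,
  C16.bad 0x65c333006a0000 0x480,
  C16.bad 0x65c33300950000 0x70,
  C16.bad 0x65c3cc006a0000 0xf,
  C16.bad 0x65c3cc00950000 0xf,
  C16.good 0x66121448500582 [30, 36, 44, 54] (ST.node (ST.node (ST.node (ST.node (ST.leaf 15220) (ST.leaf 578)) (ST.node (ST.leaf 2392) (ST.leaf 15214))) (ST.node (ST.node (ST.leaf 15210) (ST.leaf 1280)) (ST.node (ST.leaf 1278) (ST.leaf 15216)))) (ST.node (ST.node (ST.node (ST.leaf 15218) (ST.leaf 1276)) (ST.node (ST.leaf 1282) (ST.leaf 15208))) (ST.node (ST.node (ST.leaf 15212) (ST.leaf 2394)) (ST.node (ST.leaf 576) (ST.leaf 15222))))) [(1, 0x7b), (7, 0x4), (8, 0x4d0), (10, 0x350), (20, 0x414d), (22, 0x171), (27, 0x450), (34, 0x50), (41, 0x500), (49, 0x74), (50, 0x53c), (53, 0x109)],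
  C16.good 0x66122884060524 [31, 37, 44, 54] (ST.node (ST.node (ST.node (ST.node (ST.leaf 770) (ST.leaf 15556)) (ST.node (ST.leaf 15550) (ST.leaf 2896))) (ST.node (ST.node (ST.leaf 1592) (ST.leaf 15546)) (ST.node (ST.leaf 15552) (ST.leaf 1590)))) (ST.node (ST.node (ST.node (ST.leaf 1588) (ST.leaf 15554)) (ST.node (ST.leaf 15544) (ST.leaf 1594))) (ST.node (ST.node (ST.leaf 2898) (ST.leaf 15548)) (ST.node (ST.leaf 15558) (ST.leaf 768))))) [(2, 0x8004), (5, 0x802b), (8, 0x18a), (10, 0x20a), (17, 0x9101), (18, 0xa11b), (26, 0x8000), (35, 0x810a), (41, 0xa), (49, 0xb), (50, 0x8019), (53, 0x8003)],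
  C16.good 0x66124222090518 [29, 38, 44, 54] (ST.node (ST.node (ST.node (ST.node (ST.leaf 3318) (ST.leaf 15828)) (ST.node (ST.leaf 15838) (ST.leaf 928))) (ST.node (ST.node (ST.leaf 1848) (ST.leaf 15834)) (ST.node (ST.leaf 15824) (ST.leaf 1854)))) (ST.node (ST.node (ST.node (ST.leaf 1852) (ST.leaf 15826)) (ST.node (ST.leaf 15832) (ST.leaf 1850))) (ST.node (ST.node (ST.leaf 930) (ST.leaf 15836)) (ST.node (ST.leaf 15830) (ST.leaf 3316))))) [(3, 0x2b), (4, 0x54), (8, 0x10a0), (10, 0x1205), (16, 0x907), (19, 0x121), (25, 0x1105), (33, 0x1020), (41, 0x100), (49, 0x1121), (50, 0x1046), (53, 0x126)],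
  C16.good 0x66128111a00541 [28, 39, 44, 54] (ST.node (ST.node (ST.node (ST.node (ST.leaf 1334) (ST.leaf 15264)) (ST.node (ST.leaf 15274) (ST.leaf 1328))) (ST.node (ST.node (ST.leaf 608) (ST.leaf 15278)) (ST.node (ST.leaf 15268) (ST.leaf 2478)))) (ST.node (ST.node (ST.node (ST.leaf 2476) (ST.leaf 15270)) (ST.node (ST.leaf 15276) (ST.leaf 610))) (ST.node (ST.node (ST.leaf 1330) (ST.leaf 15272)) (ST.node (ST.leaf 15266) (ST.leaf 1332))))) [(0, 0x80d), (6, 0x872), (8, 0x80), (10, 0x20a), (21, 0x822), (23, 0x4), (24, 0x8000), (32, 0x10000), (41, 0xa), (49, 0x802), (50, 0x36), (53, 0x2c)],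
  C16.good 0x66211448090a18 [30, 36, 45, 54] (ST.node (ST.node (ST.node (ST.node (ST.leaf 2814) (ST.leaf 15492)) (ST.node (ST.leaf 15502) (ST.leaf 736))) (ST.node (ST.node (ST.leaf 1536) (ST.leaf 15498)) (ST.node (ST.leaf 15488) (ST.leaf 1542)))) (ST.node (ST.node (ST.node (ST.leaf 1540) (ST.leaf 15490)) (ST.node (ST.leaf 15496) (ST.leaf 1538))) (ST.node (ST.node (ST.leaf 738) (ST.leaf 15500)) (ST.node (ST.leaf 15494) (ST.leaf 2812))))) [(3, 0x142e), (4, 0x1451), (9, 0x1520), (11, 0x1020), (16, 0x1c02), (19, 0x1024), (27, 0x1005), (34, 0x1405), (40, 0x20000), (49, 0x1421), (50, 0x43), (53, 0x1023)],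
  C16.good 0x66212884a00a41 [31, 37, 45, 54] (ST.node (ST.node (ST.node (ST.node (ST.leaf 15162) (ST.leaf 1224)) (ST.node (ST.leaf 1230) (ST.leaf 15152))) (ST.node (ST.node (ST.leaf 15156) (ST.leaf 2310)) (ST.node (ST.leaf 544) (ST.leaf 15166)))) (ST.node (ST.node (ST.node (ST.leaf 15164) (ST.leaf 546)) (ST.node (ST.leaf 2308) (ST.leaf 15158))) (ST.node (ST.node (ST.leaf 15154) (ST.leaf 1228)) (ST.node (ST.leaf 1226) (ST.leaf 15160))))) [(0, 0x8a87), (6, 0x8af2), (9, 0x180), (11, 0x200), (21, 0x88a2), (23, 0x8204), (26, 0x8000), (35, 0x8280), (40, 0x20000), (49, 0xa82), (50, 0x8036), (53, 0x8026)],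
  C16.good 0x66214222500a82 [29, 38, 45, 54] (ST.node (ST.node (ST.node (ST.node (ST.leaf 15322) (ST.leaf 1384)) (ST.node (ST.leaf 1382) (ST.leaf 15328))) (ST.node (ST.node (ST.leaf 15332) (ST.leaf 642)) (ST.node (ST.leaf 2560) (ST.leaf 15326)))) (ST.node (ST.node (ST.node (ST.leaf 15324) (ST.leaf 2562)) (ST.node (ST.leaf 640) (ST.leaf 15334))) (ST.node (ST.node (ST.leaf 15330) (ST.leaf 1380)) (ST.node (ST.leaf 1386) (ST.leaf 15320))))) [(1, 0x2b), (7, 0x54), (9, 0x3d0), (11, 0x2d0), (20, 0x429d), (22, 0x21), (25, 0xd0), (33, 0x250), (40, 0x20000), (49, 0xf4), (50, 0xec), (53, 0x59)],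
  C16.good 0x66218111060a24 [28, 39, 45, 54] (ST.node (ST.node (ST.node (ST.node (ST.leaf 15894) (ST.leaf 960)) (ST.node (ST.leaf 3402) (ST.leaf 15884))) (ST.node (ST.node (ST.leaf 15880) (ST.leaf 1906)) (ST.node (ST.leaf 1900) (ST.leaf 15890)))) (ST.node (ST.node (ST.node (ST.leaf 15888) (ST.leaf 1902)) (ST.node (ST.leaf 1904) (ST.leaf 15882))) (ST.node (ST.node (ST.leaf 15886) (ST.leaf 3400)) (ST.node (ST.leaf 962) (ST.leaf 15892))))) [(2, 0x54), (5, 0x21), (9, 0x150), (11, 0x50), (17, 0x1051), (18, 0x2041), (24, 0x8000), (32, 0x10000), (40, 0x20000), (49, 0x51), (50, 0x43), (53, 0x53)],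
  C16.good 0x66441448a06041 [30, 36, 46, 54] (ST.node (ST.node (ST.node (ST.node (ST.leaf 898) (ST.leaf 15780)) (ST.node (ST.leaf 15774) (ST.leaf 3232))) (ST.node (ST.node (ST.leaf 1800) (ST.leaf 15770)) (ST.node (ST.leaf 15776) (ST.leaf 1798)))) (ST.node (ST.node (ST.node (ST.leaf 1796) (ST.leaf 15778)) (ST.node (ST.leaf 15768) (ST.leaf 1802))) (ST.node (ST.node (ST.leaf 3234) (ST.leaf 15772)) (ST.node (ST.leaf 15782) (ST.leaf 896))))) [(0, 0x987), (6, 0x9f8), (13, 0x38a), (14, 0x40a), (21, 0xd28), (23, 0x38e), (27, 0x30a), (34, 0x58a), (42, 0x500), (49, 0xc88), (50, 0x53c), (53, 0x32c)],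
  C16.good 0x66442884096018 [31, 37, 46, 54] (ST.node (ST.node (ST.node (ST.node (ST.leaf 1486) (ST.leaf 15440)) (ST.node (ST.leaf 15434) (ST.leaf 1488))) (ST.node (ST.node (ST.leaf 2728) (ST.leaf 15438)) (ST.node (ST.leaf 15444) (ST.leaf 706)))) (ST.node (ST.node (ST.node (ST.leaf 704) (ST.leaf 15446)) (ST.node (ST.leaf 15436) (ST.leaf 2730))) (ST.node (ST.node (ST.leaf 1490) (ST.leaf 15432)) (ST.node (ST.leaf 15442) (ST.leaf 1484))))) [(3, 0x838e), (4, 0x83f1), (13, 0x1a5), (14, 0x180), (16, 0x88a2), (19, 0x81a1), (26, 0x8000), (35, 0x8125), (42, 0x380), (49, 0x1), (50, 0x83c3), (53, 0x8026)],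
  C16.good 0x66444222066024 [29, 38, 46, 54] (ST.node (ST.node (ST.node (ST.node (ST.leaf 1178) (ST.leaf 15096)) (ST.node (ST.leaf 15106) (ST.leaf 1172))) (ST.node (ST.node (ST.leaf 512) (ST.leaf 15110)) (ST.node (ST.leaf 15100) (ST.leaf 2226)))) (ST.node (ST.node (ST.node (ST.leaf 2224) (ST.leaf 15102)) (ST.node (ST.leaf 15108) (ST.leaf 514))) (ST.node (ST.node (ST.leaf 1174) (ST.leaf 15104)) (ST.node (ST.leaf 15098) (ST.leaf 1176))))) [(2, 0x38e), (5, 0x3f1), (13, 0x2d0), (14, 0x3d0), (17, 0x108b), (18, 0x21cb), (25, 0x30a), (33, 0x250), (42, 0x2da), (49, 0x251), (50, 0x193), (53, 0x59)],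
  C16.good 0x66448111506082 [28, 39, 46, 54] (ST.node (ST.node (ST.node (ST.node (ST.leaf 15600) (ST.leaf 1646)) (ST.node (ST.leaf 1640) (ST.leaf 15610))) (ST.node (ST.node (ST.leaf 15614) (ST.leaf 800)) (ST.node (ST.leaf 2982) (ST.leaf 15604)))) (ST.node (ST.node (ST.node (ST.leaf 15606) (ST.leaf 2980)) (ST.node (ST.leaf 802) (ST.leaf 15612))) (ST.node (ST.node (ST.leaf 15608) (ST.leaf 1642)) (ST.node (ST.leaf 1644) (ST.leaf 15602))))) [(1, 0xfb), (7, 0x84), (13, 0x80), (14, 0x180), (20, 0x419d), (22, 0x1a1), (24, 0x8000), (32, 0x10000), (42, 0x1d0), (49, 0x124), (50, 0x1ec), (53, 0x59)],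
  C16.good 0x66881448069024 [30, 36, 47, 54] (ST.node (ST.node (ST.node (ST.node (ST.leaf 2644) (ST.leaf 15382)) (ST.node (ST.leaf 15388) (ST.leaf 674))) (ST.node (ST.node (ST.leaf 1434) (ST.leaf 15384)) (ST.node (ST.leaf 15378) (ST.leaf 1436)))) (ST.node (ST.node (ST.node (ST.leaf 1438) (ST.leaf 15376)) (ST.node (ST.leaf 15386) (ST.leaf 1432))) (ST.node (ST.node (ST.leaf 672) (ST.leaf 15390)) (ST.node (ST.leaf 15380) (ST.leaf 2646))))) [(2, 0x4), (5, 0x7b), (12, 0xd53), (15, 0x853), (17, 0x105b), (18, 0x2818), (27, 0x809), (34, 0x50), (43, 0x959), (49, 0x952), (50, 0x43), (53, 0x109)],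
  C16.good 0x66882884509082 [31, 37, 47, 54] (ST.node (ST.node (ST.node (ST.node (ST.leaf 1744) (ST.leaf 15722)) (ST.node (ST.leaf 15712) (ST.leaf 1750))) (ST.node (ST.node (ST.leaf 3150) (ST.leaf 15716)) (ST.node (ST.leaf 15726) (ST.leaf 864)))) (ST.node (ST.node (ST.node (ST.leaf 866) (ST.leaf 15724)) (ST.node (ST.leaf 15718) (ST.leaf 3148))) (ST.node (ST.node (ST.leaf 1748) (ST.leaf 15714)) (ST.node (ST.leaf 15720) (ST.leaf 1746))))) [(1, 0x802b), (7, 0x8004), (12, 0x580), (15, 0x200), (20, 0xc09d), (22, 0x8221), (26, 0x8000), (35, 0x8280), (43, 0x380), (49, 0x3a4), (50, 0x803c), (53, 0x8389)],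
  C16.good 0x66884222a09041 [29, 38, 47, 54] (ST.node (ST.node (ST.node (ST.node (ST.leaf 3066) (ST.leaf 15660)) (ST.node (ST.leaf 15670) (ST.leaf 832))) (ST.node (ST.node (ST.leaf 1692) (ST.leaf 15666)) (ST.node (ST.leaf 15656) (ST.leaf 1698)))) (ST.node (ST.node (ST.node (ST.leaf 1696) (ST.leaf 15658)) (ST.node (ST.leaf 15664) (ST.leaf 1694))) (ST.node (ST.node (ST.leaf 834) (ST.leaf 15668)) (ST.node (ST.leaf 15662) (ST.leaf 3064))))) [(0, 0x80d), (6, 0x872), (12, 0x78a), (15, 0xa), (21, 0xaa2), (23, 0x284), (25, 0x20a), (33, 0x8a), (43, 0x100), (49, 0xb08), (50, 0x236), (53, 0x126)],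
  C16.good 0x66888111099018 [28, 39, 47, 54] (ST.node (ST.node (ST.node (ST.node (ST.leaf 1958) (ST.leaf 15936)) (ST.node (ST.leaf 15946) (ST.leaf 1952))) (ST.node (ST.node (ST.leaf 992) (ST.leaf 15950)) (ST.node (ST.leaf 15940) (ST.leaf 3486)))) (ST.node (ST.node (ST.node (ST.leaf 3484) (ST.leaf 15942)) (ST.node (ST.leaf 15948) (ST.leaf 994))) (ST.node (ST.node (ST.leaf 1954) (ST.leaf 15944)) (ST.node (ST.leaf 15938) (ST.leaf 1956))))) [(3, 0x2b), (4, 0x54), (12, 0x525), (15, 0x25), (16, 0x822), (19, 0x4), (24, 0x8000), (32, 0x10000), (43, 0x100), (49, 0x124), (50, 0x43), (53, 0x126)],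
  C16.good 0x69121484069082 [31, 36, 44, 54] (ST.node (ST.node (ST.node (ST.node (ST.leaf 16225) (ST.leaf 3459)) (ST.node (ST.leaf 3453) (ST.leaf 16235))) (ST.node (ST.node (ST.leaf 16239) (ST.leaf 1937)) (ST.node (ST.leaf 5671) (ST.leaf 16229)))) (ST.node (ST.node (ST.node (ST.leaf 16231) (ST.leaf 5669)) (ST.node (ST.leaf 1939) (ST.leaf 16237))) (ST.node (ST.node (ST.leaf 16233) (ST.leaf 3455)) (ST.node (ST.leaf 3457) (ST.leaf 16227))))) [(1, 0xe6), (7, 0x99), (12, 0x44d), (15, 0x1d), (17, 0x1024), (18, 0x2011), (26, 0x9d), (34, 0x50), (41, 0xd5), (48, 0x40065), (51, 0x74), (53, 0x11)],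
  C16.good 0x69122848509024 [30, 37, 44, 54] (ST.node (ST.node (ST.node (ST.node (ST.leaf 1679) (ST.leaf 16157)) (ST.node (ST.leaf 16151) (ST.leaf 5049))) (ST.node (ST.node (ST.leaf 3037) (ST.leaf 16147)) (ST.node (ST.leaf 16153) (ST.leaf 3035)))) (ST.node (ST.node (ST.node (ST.leaf 3033) (ST.leaf 16155)) (ST.node (ST.leaf 16145) (ST.leaf 3039))) (ST.node (ST.node (ST.leaf 5051) (ST.leaf 16149)) (ST.node (ST.leaf 16159) (ST.leaf 1677))))) [(2, 0x4), (5, 0x2b), (12, 0x618), (15, 0x198), (20, 0x408a), (22, 0x201), (27, 0x380), (35, 0x298), (41, 0x18), (48, 0x4039a), (51, 0xb), (53, 0x391)],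
  C16.good 0x69124211a09018 [28, 38, 44, 54] (ST.node (ST.node (ST.node (ST.node (ST.leaf 5175) (ST.leaf 16165)) (ST.node (ST.leaf 16175) (ST.leaf 1729))) (ST.node (ST.node (ST.leaf 3117) (ST.leaf 16171)) (ST.node (ST.leaf 16161) (ST.leaf 3123)))) (ST.node (ST.node (ST.node (ST.leaf 3121) (ST.leaf 16163)) (ST.node (ST.leaf 16169) (ST.leaf 3119))) (ST.node (ST.node (ST.leaf 1731) (ST.leaf 16173)) (ST.node (ST.leaf 16167) (ST.leaf 5173))))) [(3, 0x14c), (4, 0x133), (12, 0x480), (15, 0x105), (21, 0xe6), (23, 0x181), (24, 0x8000), (33, 0x185), (41, 0x100), (48, 0x40065), (51, 0x143), (53, 0x126)],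
  C16.good 0x69128122099041 [29, 39, 44, 54] (ST.node (ST.node (ST.node (ST.node (ST.leaf 16065) (ST.leaf 2619)) (ST.node (ST.leaf 2613) (ST.leaf 16075))) (ST.node (ST.node (ST.leaf 16079) (ST.leaf 1417)) (ST.node (ST.leaf 4431) (ST.leaf 16069)))) (ST.node (ST.node (ST.node (ST.leaf 16071) (ST.leaf 4429)) (ST.node (ST.leaf 1419) (ST.leaf 16077))) (ST.node (ST.node (ST.leaf 16073) (ST.leaf 2615)) (ST.node (ST.leaf 2617) (ST.leaf 16067))))) [(0, 0x2b), (6, 0x54), (12, 0x618), (15, 0x32), (16, 0xa08), (19, 0x22e), (25, 0x22a), (32, 0x10000), (41, 0x18), (48, 0x40230), (51, 0x20e), (53, 0x3e)],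
  C16.good 0x69211484a06018 [31, 36, 45, 54] (ST.node (ST.node (ST.node (ST.node (ST.leaf 2949) (ST.leaf 16139)) (ST.node (ST.leaf 16129) (ST.leaf 2955))) (ST.node (ST.node (ST.leaf 4927) (ST.leaf 16133)) (ST.node (ST.leaf 16143) (ST.leaf 1625)))) (ST.node (ST.node (ST.node (ST.leaf 1627) (ST.leaf 16141)) (ST.node (ST.leaf 16135) (ST.leaf 4925))) (ST.node (ST.node (ST.leaf 2953) (ST.leaf 16131)) (ST.node (ST.leaf 16137) (ST.leaf 2951))))) [(3, 0x4c), (4, 0x33), (13, 0x580), (14, 0x105), (21, 0x1e3), (23, 0x84), (26, 0x500), (34, 0x85), (40, 0x20000), (48, 0x40065), (51, 0x543), (53, 0x526)],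
  C16.good 0x69212848096041 [30, 37, 45, 54] (ST.node (ST.node (ST.node (ST.node (ST.leaf 2197) (ST.leaf 15987)) (ST.node (ST.leaf 15993) (ST.leaf 2195))) (ST.node (ST.node (ST.leaf 1159) (ST.leaf 15997)) (ST.node (ST.leaf 15991) (ST.leaf 3809)))) (ST.node (ST.node (ST.node (ST.leaf 3811) (ST.leaf 15989)) (ST.node (ST.leaf 15999) (ST.leaf 1157))) (ST.node (ST.node (ST.leaf 2193) (ST.leaf 15995)) (ST.node (ST.leaf 15985) (ST.leaf 2199))))) [(0, 0x33), (6, 0x4c), (13, 0x198), (14, 0x180), (16, 0x8a2), (19, 0x19c), (27, 0x32), (35, 0x12a), (40, 0x20000), (48, 0x40028), (51, 0x3c), (53, 0x14)],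
  C16.good 0x69214211066082 [28, 38, 45, 54] (ST.node (ST.node (ST.node (ST.node (ST.leaf 1471) (ST.leaf 16093)) (ST.node (ST.leaf 16087) (ST.leaf 4553))) (ST.node (ST.node (ST.leaf 2701) (ST.leaf 16083)) (ST.node (ST.leaf 16089) (ST.leaf 2699)))) (ST.node (ST.node (ST.node (ST.leaf 2697) (ST.leaf 16091)) (ST.node (ST.leaf 16081) (ST.leaf 2703))) (ST.node (ST.node (ST.leaf 4555) (ST.leaf 16085)) (ST.node (ST.leaf 16095) (ST.leaf 1469))))) [(1, 0x33), (7, 0x4c), (13, 0x5), (14, 0x1d), (17, 0x103c), (18, 0x2014), (24, 0x8000), (33, 0x4d), (40, 0x20000), (48, 0x40065), (51, 0x3c), (53, 0x59)],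
  C16.good 0x69218122506024 [29, 39, 45, 54] (ST.node (ST.node (ST.node (ST.node (ST.leaf 16177) (ST.leaf 3207)) (ST.node (ST.leaf 3201) (ST.leaf 16187))) (ST.node (ST.node (ST.leaf 16191) (ST.leaf 1781)) (ST.node (ST.leaf 5299) (ST.leaf 16181)))) (ST.node (ST.node (ST.node (ST.leaf 16183) (ST.leaf 5297)) (ST.node (ST.leaf 1783) (ST.leaf 16189))) (ST.node (ST.node (ST.leaf 16185) (ST.leaf 3203)) (ST.node (ST.leaf 3205) (ST.leaf 16179))))) [(2, 0x4c), (5, 0x33), (13, 0x80), (14, 0x98), (20, 0x408a), (22, 0x1), (25, 0xc8), (32, 0x10000), (40, 0x20000), (48, 0x400d2), (51, 0x8b), (53, 0x59)],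
  C16.good 0x69441484090a41 [31, 36, 46, 54] (ST.node (ST.node (ST.node (ST.node (ST.leaf 5547) (ST.leaf 16213)) (ST.node (ST.leaf 16223) (ST.leaf 1885))) (ST.node (ST.node (ST.leaf 3369) (ST.leaf 16219)) (ST.node (ST.leaf 16209) (ST.leaf 3375)))) (ST.node (ST.node (ST.node (ST.leaf 3373) (ST.leaf 16211)) (ST.node (ST.leaf 16217) (ST.leaf 3371))) (ST.node (ST.node (ST.leaf 1887) (ST.leaf 16221)) (ST.node (ST.leaf 16215) (ST.leaf 5545))))) [(0, 0x33), (6, 0x4c), (9, 0x318), (11, 0x2aa), (16, 0x810), (19, 0x84), (26, 0x22a), (34, 0x298), (42, 0xaa), (48, 0x400b0), (51, 0x2bc), (53, 0x20c)],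
  C16.good 0x69442848a00a18 [30, 37, 46, 54] (ST.node (ST.node (ST.node (ST.node (ST.leaf 16049) (ST.leaf 2535)) (ST.node (ST.leaf 2529) (ST.leaf 16059))) (ST.node (ST.node (ST.leaf 16063) (ST.leaf 1365)) (ST.node (ST.leaf 4307) (ST.leaf 16053)))) (ST.node (ST.node (ST.node (ST.leaf 16055) (ST.leaf 4305)) (ST.node (ST.leaf 1367) (ST.leaf 16061))) (ST.node (ST.node (ST.leaf 16057) (ST.leaf 2531)) (ST.node (ST.leaf 2533) (ST.leaf 16051))))) [(3, 0x4c), (4, 0x33), (9, 0x180), (11, 0x600), (21, 0x266), (23, 0x604), (27, 0x5), (35, 0x685), (42, 0x405), (48, 0x40465), (51, 0x446), (53, 0x23)],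
  C16.good 0x69444211500a24 [28, 38, 46, 54] (ST.node (ST.node (ST.node (ST.node (ST.leaf 16015) (ST.leaf 1209)) (ST.node (ST.leaf 3935) (ST.leaf 16005))) (ST.node (ST.node (ST.leaf 16001) (ST.leaf 2283)) (ST.node (ST.leaf 2277) (ST.leaf 16011)))) (ST.node (ST.node (ST.node (ST.leaf 16009) (ST.leaf 2279)) (ST.node (ST.leaf 2281) (ST.leaf 16003))) (ST.node (ST.node (ST.leaf 16007) (ST.leaf 3933)) (ST.node (ST.leaf 1211) (ST.leaf 16013))))) [(2, 0x4c), (5, 0x33), (9, 0x318), (11, 0x218), (20, 0x425a), (22, 0x49), (24, 0x8000), (33, 0x250), (42, 0x18), (48, 0x40002), (51, 0x5b), (53, 0x59)],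
  C16.good 0x69448122060a82 [29, 39, 46, 54] (ST.node (ST.node (ST.node (ST.node (ST.leaf 16105) (ST.leaf 2783)) (ST.node (ST.leaf 2785) (ST.leaf 16099))) (ST.node (ST.node (ST.leaf 16103) (ST.leaf 4677)) (ST.node (ST.leaf 1523) (ST.leaf 16109)))) (ST.node (ST.node (ST.node (ST.leaf 16111) (ST.leaf 1521)) (ST.node (ST.leaf 4679) (ST.leaf 16101))) (ST.node (ST.node (ST.leaf 16097) (ST.leaf 2787)) (ST.node (ST.leaf 2781) (ST.leaf 16107))))) [(1, 0x33), (7, 0x4c), (9, 0x14d), (11, 0x4d), (17, 0x1039), (18, 0x2059), (25, 0x5), (32, 0x10000), (42, 0x18), (48, 0x40078), (51, 0x21), (53, 0x59)],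
  C16.good 0x69881484500524 [31, 36, 47, 54] (ST.node (ST.node (ST.node (ST.node (ST.leaf 16033) (ST.leaf 2451)) (ST.node (ST.leaf 2445) (ST.leaf 16043))) (ST.node (ST.node (ST.leaf 16047) (ST.leaf 1313)) (ST.node (ST.leaf 4183) (ST.leaf 16037)))) (ST.node (ST.node (ST.node (ST.leaf 16039) (ST.leaf 4181)) (ST.node (ST.leaf 1315) (ST.leaf 16045))) (ST.node (ST.node (ST.leaf 16041) (ST.leaf 2447)) (ST.node (ST.leaf 2449) (ST.leaf 16035))))) [(2, 0x41c), (5, 0x463), (8, 0x498), (10, 0x200), (20, 0x405a), (22, 0x401), (26, 0x418), (34, 0x50), (43, 0x450), (48, 0x4044a), (51, 0x45b), (53, 0x11)],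
  C16.good 0x69882848060582 [30, 37, 47, 54] (ST.node (ST.node (ST.node (ST.node (ST.leaf 1835) (ST.leaf 16205)) (ST.node (ST.leaf 16199) (ST.leaf 5421))) (ST.node (ST.node (ST.leaf 3289) (ST.leaf 16195)) (ST.node (ST.leaf 16201) (ST.leaf 3287)))) (ST.node (ST.node (ST.node (ST.leaf 3285) (ST.leaf 16203)) (ST.node (ST.leaf 16193) (ST.leaf 3291))) (ST.node (ST.node (ST.leaf 5423) (ST.leaf 16197)) (ST.node (ST.leaf 16207) (ST.leaf 1833))))) [(1, 0x2b), (7, 0x4), (8, 0x198), (10, 0x21d), (17, 0x1121), (18, 0x2109), (27, 0x1d), (35, 0x105), (43, 0x18), (48, 0x40030), (51, 0x3c), (53, 0xc)],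
  C16.good 0x69884211090541 [28, 38, 47, 54] (ST.node (ST.node (ST.node (ST.node (ST.leaf 2869) (ST.leaf 16115)) (ST.node (ST.leaf 16121) (ST.leaf 2867))) (ST.node (ST.node (ST.leaf 1575) (ST.leaf 16125)) (ST.node (ST.leaf 16119) (ST.leaf 4801)))) (ST.node (ST.node (ST.node (ST.leaf 4803) (ST.leaf 16117)) (ST.node (ST.leaf 16127) (ST.leaf 1573))) (ST.node (ST.node (ST.leaf 2865) (ST.leaf 16123)) (ST.node (ST.leaf 16113) (ST.leaf 2871))))) [(0, 0x2b), (6, 0x54), (8, 0xb2), (10, 0x200), (16, 0x810), (19, 0x36), (24, 0x8000), (33, 0x32), (43, 0x18), (48, 0x40002), (51, 0x3c), (53, 0x3e)],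
  C16.good 0x69888122a00518 [29, 39, 47, 54] (ST.node (ST.node (ST.node (ST.node (ST.leaf 2361) (ST.leaf 16027)) (ST.node (ST.leaf 16017) (ST.leaf 2367))) (ST.node (ST.node (ST.leaf 4059) (ST.leaf 16021)) (ST.node (ST.leaf 16031) (ST.leaf 1261)))) (ST.node (ST.node (ST.node (ST.leaf 1263) (ST.leaf 16029)) (ST.node (ST.leaf 16023) (ST.leaf 4057))) (ST.node (ST.node (ST.leaf 2365) (ST.leaf 16019)) (ST.node (ST.leaf 16025) (ST.leaf 2363))))) [(3, 0x14c), (4, 0x133), (8, 0x80), (10, 0x305), (21, 0x66), (23, 0x101), (25, 0x105), (32, 0x10000), (43, 0x100), (48, 0x40060), (51, 0x146), (53, 0x126)],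
  C16.bad 0x6a0000653c3300 0x200,
  C16.bad 0x6a0000653ccc00 0x7f,
  C16.bad 0x6a000065c33300 0x2f,
  C16.bad 0x6a000065c3cc00 0x580,
  C16.bad 0x6a00009a3c3300 0x7f,
  C16.bad 0x6a00009a3ccc00 0x1da9,
  C16.bad 0x6a00009ac33300 0x6229,
  C16.bad 0x6a00009ac3cc00 0x7f,
  C16.bad 0x6a000f00003356 0x200,
  C16.bad 0x6a000f000033a9 0x200,
  C16.bad 0x6a000f0000cc56 0x580,
  C16.bad 0x6a000f0000cca9 0x8000,
  C16.bad 0x6a00f000003356 0x1a29,
  C16.bad 0x6a00f0000033a9 0x1042,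
  C16.bad 0x6a00f00000cc56 0x2d01,
  C16.bad 0x6a00f00000cca9 0x65d6,
  C16.bad 0x6a590065000056 0x580]

set_option Elab.async false in
theorem c16_11_ok : c16_11.all (chkC16 ent 16240 pbsD colsD) = true := by decide +kernel

end Cfsg.Agent.Helper2.RuL
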