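import Cfsg.Agent.Helper2.RuL.Basic

/-! Boolean checkers for the certificates of the classification of the minimal vectors of the
Rudvalis lattice, with their soundness proofs (helper2). -/

set_option autoImplicit false

namespace Cfsg.Agent.Helper2.RuL

open Cfsg.Agent.Helper5.RuLat

/-! ### sums over `Fin 56` as list sums -/

theorem sum_range_eq_list (f : ℕ → ℤ) : ∀ n : ℕ,
    ∑ i ∈ Finset.range n, f i = ((List.range n).map f).sum := by
  intro n
  induction n with
  | zero => simp
  | succ n ih =>
    rw [Finset.sum_range_succ, ih, List.range_succ, List.map_append, List.sum_append]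
    simp

theorem sum_fin_eq_list (f : ℕ → ℤ) : ∑ i : Fin 56, f i.val = ((List.range 56).map f).sum := by
  rw [Fin.sum_univ_eq_sum_range f 56, sum_range_eq_list]

/-! ### parity masks of 0/1 combinations of the rows -/

def b2z (b : Bool) : ℤ := if b then 1 else 0

def selOf (l : ℕ) : List Bool := (List.range 56).map (fun k => l.testBit k)

theorem oddM_zero : OddM (0 : W) 0 := by
  intro i; simp

theorem lc_par (rs : List (List ℤ)) (ps : List ℕ)
    (h : List.Forall₂ (fun r p => OddM (ofL r) p) rs ps) :
    ∀ sel : List Bool, OddM (lc (sel.map b2z) (rs.map ofL)) (xorSel sel ps) := by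
  induction h with
  | nil => intro sel; simpa using oddM_zero
  | @cons r p rs ps hrp _ ih =>
    intro sel
    cases sel with
    | nil => simpa using oddM_zero
    | cons b bs =>
      intro i
      simp only [List.map_cons, lc_cons, xorSel_cons, Nat.testBit_xor]
      have h1 := hrp i
      have h2 := ih bs i
      show (b2z b * ofL r i + lc (List.map b2z bs) (List.map ofL rs) i) % 2 = 1 ↔ _
      cases b with
      | false =>
        simp only [b2z, Bool.false_eq_true, if_false, zero_mul, zero_add, Nat.zero_testBit,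
          Bool.false_bne]
        exact h2
      | true =>
        simp only [b2z, if_true, one_mul]
        cases h3 : p.testBit i.val <;> cases h4 : (xorSel bs ps).testBit i.val <;>
          simp only [h3, h4] at h1 h2 ⊢ <;> simp at h1 h2 ⊢ <;> omega

theorem lc_sel_mem (rows : List (List ℤ)) (sel : List Bool) :
    lc (sel.map b2z) (rows.map ofL) ∈ LW rows := by
  apply lc_mem
  intro r hr
  obtain ⟨l, hl, rfl⟩ := List.mem_map.mp hr
  exact ofL_mem_LW hl

/-- the rows have the parity masks `pbs` -/
def chkPb (rows : List (List ℤ)) (pbs : List ℕ) : Bool :=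
  decide (rows.length = pbs.length) &&
  (List.range rows.length).all (fun k => (List.range 56).all (fun i =>
    decide ((rows.getD k []).getD i 0 % 2 = 1) == (pbs.getD k 0).testBit i))

theorem forall₂_of_chkPb {rows : List (List ℤ)} {pbs : List ℕ} (h : chkPb rows pbs = true) :
    List.Forall₂ (fun r p => OddM (ofL r) p) rows pbs := by
  simp only [chkPb, Bool.and_eq_true, decide_eq_true_eq] at h
  obtain ⟨hl, h⟩ := h
  rw [List.forall₂_iff_get]
  refine ⟨hl, ?_⟩
  intro k h1 h2 i
  have h3 := (List.all_eq_true.mp ((List.all_eq_true.mp h) k (List.mem_range.mpr h1))) i.val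
    (List.mem_range.mpr i.isLt)
  rw [beq_iff_eq] at h3
  have e1 : rows.getD k [] = rows.get ⟨k, h1⟩ := by
    simp [List.getD_eq_getElem?_getD, h1]
  have e2 : pbs.getD k 0 = pbs.get ⟨k, h2⟩ := by
    simp [List.getD_eq_getElem?_getD, h2]
  rw [e1, e2] at h3
  rw [← h3]
  simp [ofL]

/-- every word `xorSel sel pbs` is the parity mask of a lattice vector -/
theorem exists_par {rows : List (List ℤ)} {pbs : List ℕ} (h : chkPb rows pbs = true)
    (sel : List Bool) : ∃ r ∈ LW rows, OddM r (xorSel sel pbs) :=
  ⟨_, lc_sel_mem rows sel, lc_par rows pbs (forall₂_of_chkPb h) sel⟩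

/-! ### the pivot chain -/

def chkPiv (w : ℕ) : List (ℕ × ℕ) → List ℕ → Bool
  | [], S => (List.range 56).all (fun i => !w.testBit i || S.contains i)
  | (p, O) :: rest, S =>
    decide (p < 56) && w.testBit p && O.testBit p &&
      (List.range 56).all (fun i => !(w.testBit i && O.testBit i) || i == p || S.contains i) &&
      chkPiv w rest (p :: S)

theorem chkPiv_sound {Lt : AddSubgroup W} (hip : ∀ y ∈ Lt, ∀ z ∈ Lt, (4 : ℤ) ∣ ip y z)
    {w : ℕ} {y s : W} (hy : y ∈ Lt) (hs : s ∈ Lt) (hyw : Pm1 y w) (hsw : Pm1 s w) :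
    ∀ (pv : List (ℕ × ℕ)) (S : List ℕ), (∀ q ∈ pv, ∃ r ∈ Lt, OddM r q.2) →
      (∀ i : Fin 56, i.val ∈ S → y i = s i) → chkPiv w pv S = true → y = s := by
  intro pv
  induction pv with
  | nil =>
    intro S _ hag h
    simp only [chkPiv] at h
    funext i
    have h1 := (List.all_eq_true.mp h) i.val (List.mem_range.mpr i.isLt)
    by_cases hw : w.testBit i.val = true
    · simp only [hw, Bool.not_true, Bool.false_or, List.contains_iff_mem] at h1
      exact hag i h1
    · have hw' : w.testBit i.val = false := by simpa using hw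
      rw [(hyw i).2 hw', (hsw i).2 hw']
  | cons q rest ih =>
    intro S hr hag h
    obtain ⟨p, O⟩ := q
    simp only [chkPiv, Bool.and_eq_true, decide_eq_true_eq] at h
    obtain ⟨⟨⟨⟨hp, hwp⟩, hOp⟩, hall⟩, hrest⟩ := h
    obtain ⟨r, hrL, hrO⟩ := hr (p, O) (by simp)
    have hpe : y ⟨p, hp⟩ = s ⟨p, hp⟩ := by
      apply pivot (hip y hy r hrL) (hip s hs r hrL) hyw hsw hag
      · intro i hwi hri
        have h1 := (List.all_eq_true.mp hall) i.val (List.mem_range.mpr i.isLt)
        have hOi : O.testBit i.val = true := (hrO i).mp hri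
        simp only [hwi, hOi, Bool.and_self, Bool.not_true, Bool.false_or, Bool.or_eq_true,
          beq_iff_eq, List.contains_iff_mem] at h1
        rcases h1 with h1 | h1
        · right; exact Fin.ext h1
        · left; exact h1
      · exact (hrO ⟨p, hp⟩).mpr hOp
      · exact hwp
    apply ih (p :: S) (fun q' hq' => hr q' (by simp [hq'])) _ hrest
    intro i hi
    rcases List.mem_cons.mp hi with h1 | h1
    · have : i = ⟨p, hp⟩ := Fin.ext h1
      rw [this]; exact hpe
    · exact hag i h1

end Cfsg.Agent.Helper2.RuL
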