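import Cfsg.Agent.Helper2.RuL.Chk

/-! Certificates for the weight-16 words: the tree of solutions, good and bad words (helper2). -/

set_option autoImplicit false

namespace Cfsg.Agent.Helper2.RuL

open Cfsg.Agent.Helper5.RuLat

/-! ### packed entries of the master table: `P + 2^56 N + 2^112 big` -/

def entP (e : ℕ) : ℕ := e % 2 ^ 56
def entN (e : ℕ) : ℕ := (e / 2 ^ 56) % 2 ^ 56
def entB (e : ℕ) : ℕ := e / 2 ^ 112

/-- the vector of a packed entry -/
def Vof (e : ℕ) : W := vecM (entP e) (entN e) (if entB e = 0 then 1 else 4)

theorem pm1_vecM {P N w : ℕ} (h1 : P ||| N = w) (_h2 : P &&& N = 0) : Pm1 (vecM P N 1) w := by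
  intro i
  have hor : w.testBit i.val = (P.testBit i.val || N.testBit i.val) := by
    rw [← h1, Nat.testBit_or]
  constructor
  · intro hw
    rw [hor] at hw
    unfold vecM
    by_cases hP : P.testBit i.val = true
    · left; rw [if_pos hP]
    · right
      have hN : N.testBit i.val = true := by
        cases h : P.testBit i.val
        · simpa [h] using hw
        · exact absurd h hP
      rw [if_neg hP, if_pos hN]
  · intro hw
    rw [hor] at hw
    have hP : P.testBit i.val = false := by
      cases h : P.testBit i.val
      · rfl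
      · simp [h] at hw
    have hN : N.testBit i.val = false := by
      cases h : N.testBit i.val
      · rfl
      · simp [h] at hw
    unfold vecM
    simp [hP, hN]

/-! ### the tree of solutions -/

inductive ST where
  | leaf (k : ℕ) : ST
  | node (a b : ST) : ST

def ST.leaves : ST → List ℕ
  | .leaf k => [k]
  | .node a b => a.leaves ++ b.leaves

def chkLeaf (w : ℕ) (cs : List (ℕ × Bool)) (e : ℕ) : Bool :=
  decide (entB e = 0) && decide (entP e ||| entN e = w) && decide (entP e &&& entN e = 0) &&
    cs.all (fun c => if c.2 then (entN e).testBit c.1 else (entP e).testBit c.1)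

def chkST (ent : ℕ → ℕ) (n w : ℕ) : List ℕ → ST → List (ℕ × Bool) → Bool
  | [], .leaf k, cs => decide (k < n) && force (ent k) (chkLeaf w cs)
  | f :: fs, .node a b, cs =>
    decide (f < 56) && w.testBit f && chkST ent n w fs a ((f, false) :: cs) &&
      chkST ent n w fs b ((f, true) :: cs)
  | _, _, _ => false

theorem chkST_sound (ent : ℕ → ℕ) (n w : ℕ) : ∀ (fs : List ℕ) (t : ST) (cs : List (ℕ × Bool)),
    chkST ent n w fs t cs = true → ∀ y : W, Pm1 y w →
      (∀ c ∈ cs, ∀ h : c.1 < 56, y ⟨c.1, h⟩ = if c.2 then -1 else 1) →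
      ∃ k ∈ t.leaves, k < n ∧ Pm1 (Vof (ent k)) w ∧
        ∀ i : Fin 56, (i.val ∈ fs ∨ i.val ∈ cs.map Prod.fst) → y i = Vof (ent k) i := by
  intro fs
  induction fs with
  | nil =>
    intro t cs h y _ hcs
    cases t with
    | node a b => simp [chkST] at h
    | leaf k =>
      simp only [chkST, force_eq, chkLeaf, Bool.and_eq_true, decide_eq_true_eq] at h
      obtain ⟨hk, ⟨⟨⟨hB, hor⟩, hand⟩, hall⟩⟩ := h
      have hV : Vof (ent k) = vecM (entP (ent k)) (entN (ent k)) 1 := by
        unfold Vof; rw [if_pos hB]
      refine ⟨k, by simp [ST.leaves], hk, ?_, ?_⟩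
      · rw [hV]; exact pm1_vecM hor hand
      · intro i hi
        rcases hi with hi | hi
        · simp at hi
        · obtain ⟨c, hc, hci⟩ := List.mem_map.mp hi
          have h1 := hcs c hc (by rw [hci]; exact i.isLt)
          have h2 := (List.all_eq_true.mp hall) c hc
          have hi' : (⟨c.1, by rw [hci]; exact i.isLt⟩ : Fin 56) = i := Fin.ext hci
          rw [hi'] at h1
          rw [h1, hV]
          unfold vecM
          cases hc2 : c.2
          · simp only [hc2, Bool.false_eq_true, if_false] at h2 ⊢
            rw [hci] at h2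
            rw [if_pos h2]
          · simp only [hc2, if_true] at h2 ⊢
            rw [hci] at h2
            have hP : (entP (ent k)).testBit i.val = false := by
              have := congrArg (fun x => x.testBit i.val) hand
              simp only [Nat.testBit_and, h2, Bool.and_true, Nat.zero_testBit] at this
              exact this
            rw [if_neg (by simp [hP]), if_pos h2]
  | cons f fs ih =>
    intro t cs h y hyw hcs
    cases t with
    | leaf k => simp [chkST] at h
    | node a b =>
      simp only [chkST, Bool.and_eq_true, decide_eq_true_eq] at h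
      obtain ⟨⟨⟨hf, hwf⟩, ha⟩, hb⟩ := h
      rcases (hyw ⟨f, hf⟩).1 hwf with hy1 | hy1
      · obtain ⟨k, hk, hkn, hpm, hag⟩ := ih a ((f, false) :: cs) ha y hyw (by
          intro c hc hlt
          rcases List.mem_cons.mp hc with h1 | h1
          · subst h1; simpa using hy1
          · exact hcs c h1 hlt)
        refine ⟨k, by simp [ST.leaves, hk], hkn, hpm, ?_⟩
        intro i hi
        apply hag i
        rcases hi with hi | hi
        · rcases List.mem_cons.mp hi with h1 | h1
          · right; simp [h1]
          · left; exact h1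
        · right; simp only [List.map_cons, List.mem_cons]; right; exact hi
      · obtain ⟨k, hk, hkn, hpm, hag⟩ := ih b ((f, true) :: cs) hb y hyw (by
          intro c hc hlt
          rcases List.mem_cons.mp hc with h1 | h1
          · subst h1; simpa using hy1
          · exact hcs c h1 hlt)
        refine ⟨k, by simp [ST.leaves, hk], hkn, hpm, ?_⟩
        intro i hi
        apply hag i
        rcases hi with hi | hi
        · rcases List.mem_cons.mp hi with h1 | h1
          · right; simp [h1]
          · left; exact h1
        · right; simp only [List.map_cons, List.mem_cons]; right; exact hi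

/-! ### good words -/

def chkGood (ent : ℕ → ℕ) (n : ℕ) (pbs : List ℕ) (w : ℕ) (frees : List ℕ) (t : ST)
    (pv : List (ℕ × ℕ)) : Bool :=
  chkST ent n w frees t [] &&
    chkPiv w (pv.map (fun q => (q.1, xorSel (selOf q.2) pbs))) frees

theorem good_sound {rows : List (List ℤ)} {pbs : List ℕ} {ent : ℕ → ℕ} {n : ℕ}
    (hip : ∀ y ∈ LW rows, ∀ z ∈ LW rows, (4 : ℤ) ∣ ip y z) (hpb : chkPb rows pbs = true)
    (hV : ∀ k, k < n → Vof (ent k) ∈ LW rows) {w : ℕ} {frees : List ℕ} {t : ST}
    {pv : List (ℕ × ℕ)} (h : chkGood ent n pbs w frees t pv = true) :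
    ∀ y ∈ LW rows, Pm1 y w → ∃ k, k < n ∧ y = Vof (ent k) := by
  intro y hy hyw
  simp only [chkGood, Bool.and_eq_true] at h
  obtain ⟨k, _, hkn, hpm, hag⟩ := chkST_sound ent n w frees t [] h.1 y hyw (by simp)
  refine ⟨k, hkn, ?_⟩
  apply chkPiv_sound hip hy (hV k hkn) hyw hpm _ frees _ _ h.2
  · intro q hq
    obtain ⟨q', _, rfl⟩ := List.mem_map.mp hq
    exact exists_par hpb _
  · intro i hi
    exact hag i (Or.inl hi)

/-! ### bad words -/

def rAt (cols : List (List ℤ)) (as : List ℤ) (i : ℕ) : ℤ := dotL as (cols.getD i [])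

def chkBad (cols : List (List ℤ)) (w l : ℕ) : Bool :=
  (List.range 56).all (fun i => !w.testBit i || decide (rAt cols ((selOf l).map b2z) i % 2 = 0)) &&
    decide (((List.range 56).map
      (fun i => if w.testBit i = true then rAt cols ((selOf l).map b2z) i else 0)).sum % 4 = 2)

theorem lc_eq_rAt {rows cols : List (List ℤ)} (hc : colsOK rows cols = true) (as : List ℤ)
    (i : Fin 56) : lc as (rows.map ofL) i = rAt cols as i.val := by
  rw [lc_apply, rAt]
  have h2 := (List.all_eq_true.mp hc) i.val (List.mem_range.mpr i.isLt)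
  simp only [decide_eq_true_eq] at h2
  rw [h2]

theorem pm1_odd {y : W} {w : ℕ} (h : Pm1 y w) {i : Fin 56} (hi : w.testBit i.val = true) :
    y i % 2 = 1 := by
  rcases (h i).1 hi with h1 | h1 <;> rw [h1] <;> rfl

theorem bad_sound {rows cols : List (List ℤ)} (hc : colsOK rows cols = true)
    (hip : ∀ y ∈ LW rows, ∀ z ∈ LW rows, (4 : ℤ) ∣ ip y z) {w l : ℕ}
    (h : chkBad cols w l = true) : ∀ y ∈ LW rows, Pm1 y w → False := by
  intro y hy hyw
  simp only [chkBad, Bool.and_eq_true, decide_eq_true_eq] at h
  obtain ⟨hev, hsum⟩ := h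
  set as := (selOf l).map b2z with has
  set r : W := lc as (rows.map ofL) with hr
  have hrL : r ∈ LW rows := lc_sel_mem rows (selOf l)
  have hri : ∀ i : Fin 56, r i = rAt cols as i.val := lc_eq_rAt hc as
  apply excl_fs (y := y) (r := r) (bitsF w) ∅ (Finset.disjoint_empty_right _) _ _ _ _
    (hip y hy r hrL)
  · intro i hi
    have hi' := mem_bitsF.mp hi
    refine ⟨pm1_odd hyw hi', ?_⟩
    have h1 := (List.all_eq_true.mp hev) i.val (List.mem_range.mpr i.isLt)
    simp only [hi', Bool.not_true, Bool.false_or, decide_eq_true_eq] at h1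
    rw [hri]; exact h1
  · intro i hi; simp at hi
  · intro i hi _
    have : w.testBit i.val = false := by
      have := mt mem_bitsF.mpr hi
      simpa using this
    exact (hyw i).2 this
  · rw [Finset.sum_empty, mul_zero, add_zero]
    have e : ∑ i ∈ bitsF w, r i =
        ∑ i : Fin 56, (fun n => if w.testBit n = true then rAt cols as n else 0) i.val := by
      rw [bitsF, Finset.sum_filter]
      apply Finset.sum_congr rfl
      intro i _
      rw [hri]
    rw [e, sum_fin_eq_list (fun n => if w.testBit n = true then rAt cols as n else 0)]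
    exact hsum

end Cfsg.Agent.Helper2.RuL
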