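import Cfsg.Agent.Helper2.RuL.Chk2

/-! The weight-8 words and the all-even vectors (helper2). -/

set_option autoImplicit false

namespace Cfsg.Agent.Helper2.RuL

open Cfsg.Agent.Helper5.RuLat

theorem pb_at {rows : List (List ℤ)} {pbs : List ℕ} (h : chkPb rows pbs = true) :
    rows.length = pbs.length ∧
      ∀ k, k < rows.length → OddM (ofL (rows.getD k [])) (pbs.getD k 0) := by
  simp only [chkPb, Bool.and_eq_true, decide_eq_true_eq] at h
  obtain ⟨hl, h⟩ := h
  refine ⟨hl, ?_⟩
  intro k h1 i
  have h3 := (List.all_eq_true.mp ((List.all_eq_true.mp h) k (List.mem_range.mpr h1))) i.val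
    (List.mem_range.mpr i.isLt)
  rw [beq_iff_eq] at h3
  rw [← h3]
  simp [ofL]

theorem oddM_val {y : W} {w : ℕ} (h : OddM y w) (i : Fin 56) :
    y i % 2 = if w.testBit i.val = true then 1 else 0 := by
  have := h i
  cases hb : w.testBit i.val
  · rw [hb] at this
    have h1 : ¬ y i % 2 = 1 := by simpa using this
    simp only [Bool.false_eq_true, if_false]
    omega
  · rw [hb] at this
    simp only [if_true]
    exact this.mpr rfl

/-! ### weight 8 -/

theorem shape8 {y : W} {m : ℕ} (ho : OddM y m) (hc : 8 ≤ (bitsF m).card) (hn : nrm y = 16) :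
    (∀ i : Fin 56, m.testBit i.val = false → y i = 0 ∨ y i = 2 ∨ y i = -2) ∧
    (Finset.univ.filter (fun i : Fin 56 => m.testBit i.val = false ∧ y i ≠ 0)).card ≤ 2 := by
  have hS : ∀ i ∈ bitsF m, 1 ≤ y i * y i := by
    intro i hi
    apply one_le_mul_self
    intro h0
    have := (ho i).mpr (mem_bitsF.mp hi)
    rw [h0] at this; simp at this
  have hsplit := Finset.sum_add_sum_compl (bitsF m) (fun i => y i * y i)
  have hn' : ∑ i, y i * y i = 16 := hn
  have h1 : ((bitsF m).card : ℤ) ≤ ∑ i ∈ bitsF m, y i * y i := by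
    have := card_le_sum y (bitsF m) 1 hS
    linarith
  have hcz : (8 : ℤ) ≤ (bitsF m).card := by exact_mod_cast hc
  have hcompl : ∑ i ∈ (bitsF m)ᶜ, y i * y i ≤ 8 := by linarith
  have hval : ∀ i : Fin 56, m.testBit i.val = false → y i = 0 ∨ y i = 2 ∨ y i = -2 := by
    intro i hi
    have hmem : i ∈ (bitsF m)ᶜ := by
      rw [Finset.mem_compl, mem_bitsF, hi]; simp
    have hle : y i * y i ≤ ∑ j ∈ (bitsF m)ᶜ, y j * y j :=
      Finset.single_le_sum (f := fun j => y j * y j) (fun j _ => mul_self_nonneg (y j)) hmem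
    have hev : y i % 2 = 0 := by
      have : ¬ y i % 2 = 1 := by
        intro h
        have := (ho i).mp h
        rw [hi] at this; simp at this
      omega
    have h8 : y i * y i ≤ 8 := le_trans hle hcompl
    have hlo : -2 ≤ y i := by nlinarith
    have hhi : y i ≤ 2 := by nlinarith
    omega
  refine ⟨hval, ?_⟩
  set E := Finset.univ.filter (fun i : Fin 56 => m.testBit i.val = false ∧ y i ≠ 0) with hE
  have hsub : E ⊆ (bitsF m)ᶜ := by
    intro i hi
    simp only [hE, Finset.mem_filter, Finset.mem_univ, true_and] at hi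
    rw [Finset.mem_compl, mem_bitsF, hi.1]; simp
  have h4 : (4 : ℤ) * E.card ≤ ∑ i ∈ E, y i * y i := by
    apply card_le_sum
    intro i hi
    simp only [hE, Finset.mem_filter, Finset.mem_univ, true_and] at hi
    rcases hval i hi.1 with h | h | h
    · exact absurd h hi.2
    · rw [h]; norm_num
    · rw [h]; norm_num
  have h5 : ∑ i ∈ E, y i * y i ≤ ∑ i ∈ (bitsF m)ᶜ, y i * y i :=
    Finset.sum_le_sum_of_subset_of_nonneg hsub (fun i _ _ => mul_self_nonneg _)
  have : (4 : ℤ) * E.card ≤ 8 := by linarith
  omega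

def sigM (m : ℕ) (rl : List ℤ) : ℤ :=
  ((List.range 56).map (fun i => if m.testBit i = true then rl.getD i 0 else 0)).sum

theorem sum_bitsF_ofL (m : ℕ) (rl : List ℤ) : ∑ i ∈ bitsF m, ofL rl i = sigM m rl := by
  have e : ∑ i ∈ bitsF m, ofL rl i =
      ∑ i : Fin 56, (fun n => if m.testBit n = true then rl.getD n 0 else 0) i.val := by
    rw [bitsF, Finset.sum_filter]
    rfl
  rw [e, sum_fin_eq_list (fun n => if m.testBit n = true then rl.getD n 0 else 0)]
  rfl

/-- the pool of a block: vectors of the lattice (with their coefficients and their sums over the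
block) that are even on `m` -/
def chkPoolB (cols : List (List ℤ)) (m : ℕ) (pool : List (List ℤ × List ℤ × ℤ)) : Bool :=
  pool.all (fun q => chkLC cols q.2.1 q.1 &&
    (List.range 56).all (fun i => !m.testBit i || decide (q.1.getD i 0 % 2 = 0)) &&
    decide (sigM m q.1 = q.2.2))

def rlOf (pool : List (List ℤ × List ℤ × ℤ)) (t : ℕ) : List ℤ := (pool.getD t ([], [], 0)).1
def sgOf (pool : List (List ℤ × List ℤ × ℤ)) (t : ℕ) : ℤ := (pool.getD t ([], [], 0)).2.2

def chkB0 (pool : List (List ℤ × List ℤ × ℤ)) (c0 : ℕ) : Bool :=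
  decide (c0 < pool.length) && decide (sgOf pool c0 % 4 = 2)

def chkB1 (m : ℕ) (pool : List (List ℤ × List ℤ × ℤ)) (c1 : List ℕ) : Bool :=
  (List.range 56).all (fun a => m.testBit a ||
    (decide (c1.getD a 0 < pool.length) &&
      decide ((sgOf pool (c1.getD a 0) + 2 * (rlOf pool (c1.getD a 0)).getD a 0) % 4 = 2)))

def chkB2 (m : ℕ) (pool : List (List ℤ × List ℤ × ℤ)) (c2 : List (List ℕ)) : Bool :=
  (List.range 56).all (fun b => m.testBit b || (List.range b).all (fun a => m.testBit a ||
    (decide ((c2.getD b []).getD a 0 < pool.length) &&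
      decide ((sgOf pool ((c2.getD b []).getD a 0) +
        2 * (rlOf pool ((c2.getD b []).getD a 0)).getD a 0 +
        2 * (rlOf pool ((c2.getD b []).getD a 0)).getD b 0) % 4 = 2))))

theorem pool_at {rows cols : List (List ℤ)} (hc : colsOK rows cols = true) {m : ℕ}
    {pool : List (List ℤ × List ℤ × ℤ)} (hp : chkPoolB cols m pool = true) {t : ℕ}
    (ht : t < pool.length) :
    ofL (rlOf pool t) ∈ LW rows ∧
      (∀ i : Fin 56, m.testBit i.val = true → ofL (rlOf pool t) i % 2 = 0) ∧
      sigM m (rlOf pool t) = sgOf pool t := by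
  have hmem : pool.getD t ([], [], 0) ∈ pool := by
    rw [List.getD_eq_getElem?_getD, List.getElem?_eq_getElem ht]
    exact List.getElem_mem ht
  have h1 := (List.all_eq_true.mp hp) _ hmem
  simp only [Bool.and_eq_true, decide_eq_true_eq] at h1
  refine ⟨chkLC_mem hc h1.1.1, ?_, h1.2⟩
  intro i hi
  have h2 := (List.all_eq_true.mp h1.1.2) i.val (List.mem_range.mpr i.isLt)
  simp only [hi, Bool.not_true, Bool.false_or, decide_eq_true_eq] at h2
  exact h2

theorem blk_sound {rows cols : List (List ℤ)} (hc : colsOK rows cols = true)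
    (hip : ∀ y ∈ LW rows, ∀ z ∈ LW rows, (4 : ℤ) ∣ ip y z) {m : ℕ}
    {pool : List (List ℤ × List ℤ × ℤ)} {c0 : ℕ} {c1 : List ℕ} {c2 : List (List ℕ)}
    (hp : chkPoolB cols m pool = true) (h0 : chkB0 pool c0 = true)
    (h1 : chkB1 m pool c1 = true) (h2 : chkB2 m pool c2 = true)
    (hcard : 8 ≤ (bitsF m).card) :
    ∀ y ∈ LW rows, OddM y m → nrm y = 16 → False := by
  intro y hy ho hn
  obtain ⟨hval, hE2⟩ := shape8 ho hcard hn
  set E := Finset.univ.filter (fun i : Fin 56 => m.testBit i.val = false ∧ y i ≠ 0) with hE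
  have hEmem : ∀ i, i ∈ E ↔ (m.testBit i.val = false ∧ y i ≠ 0) := by
    intro i; simp [hE]
  -- the common part
  have key : ∀ t, t < pool.length →
      (sgOf pool t + 2 * ∑ i ∈ E, ofL (rlOf pool t) i) % 4 = 2 → False := by
    intro t ht hs
    obtain ⟨hrL, hrev, hsg⟩ := pool_at hc hp ht
    apply excl_fs (y := y) (r := ofL (rlOf pool t)) (bitsF m) E _ _ _ _ _ (hip y hy _ hrL)
    · rw [Finset.disjoint_left]
      intro i hi hi'
      have := mem_bitsF.mp hi
      rw [((hEmem i).mp hi').1] at this
      simp at this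
    · intro i hi
      exact ⟨(ho i).mpr (mem_bitsF.mp hi), hrev i (mem_bitsF.mp hi)⟩
    · intro i hi
      obtain ⟨hm, hne⟩ := (hEmem i).mp hi
      rcases hval i hm with h | h | h
      · exact absurd h hne
      · exact Or.inl h
      · exact Or.inr h
    · intro i hi hi'
      have hm : m.testBit i.val = false := by
        have := mt mem_bitsF.mpr hi
        simpa using this
      by_contra hne
      exact hi' ((hEmem i).mpr ⟨hm, hne⟩)
    · rw [sum_bitsF_ofL, hsg]; exact hs
  have hcases : E.card = 0 ∨ E.card = 1 ∨ E.card = 2 := by omega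
  rcases hcases with hc0 | hc1 | hc2
  · rw [Finset.card_eq_zero] at hc0
    simp only [chkB0, Bool.and_eq_true, decide_eq_true_eq] at h0
    apply key c0 h0.1
    rw [hc0, Finset.sum_empty, mul_zero, add_zero]
    exact h0.2
  · obtain ⟨a, ha⟩ := Finset.card_eq_one.mp hc1
    have haE : a ∈ E := by rw [ha]; simp
    have hma := ((hEmem a).mp haE).1
    have h3 := (List.all_eq_true.mp h1) a.val (List.mem_range.mpr a.isLt)
    simp only [hma, Bool.false_or, Bool.and_eq_true, decide_eq_true_eq] at h3
    apply key _ h3.1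
    rw [ha, Finset.sum_singleton]
    exact h3.2
  · obtain ⟨a, b, hab, hEab⟩ := Finset.card_eq_two.mp hc2
    have haE : a ∈ E := by rw [hEab]; simp
    have hbE : b ∈ E := by rw [hEab]; simp
    have hma := ((hEmem a).mp haE).1
    have hmb := ((hEmem b).mp hbE).1
    have fin : ∀ a b : Fin 56, a < b → m.testBit a.val = false → m.testBit b.val = false →
        E = {a, b} → False := by
      intro a b hlt hma hmb hEab
      have hab : a ≠ b := ne_of_lt hlt
      have h3 := (List.all_eq_true.mp h2) b.val (List.mem_range.mpr b.isLt)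
      simp only [hmb, Bool.false_or] at h3
      have h4 := (List.all_eq_true.mp h3) a.val (List.mem_range.mpr hlt)
      simp only [hma, Bool.false_or, Bool.and_eq_true, decide_eq_true_eq] at h4
      apply key _ h4.1
      rw [hEab, Finset.sum_pair hab]
      have := h4.2
      have e : sgOf pool ((c2.getD b.val []).getD a.val 0) +
          2 * (ofL (rlOf pool ((c2.getD b.val []).getD a.val 0)) a +
            ofL (rlOf pool ((c2.getD b.val []).getD a.val 0)) b) =
          sgOf pool ((c2.getD b.val []).getD a.val 0) +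
            2 * (rlOf pool ((c2.getD b.val []).getD a.val 0)).getD a.val 0 +
            2 * (rlOf pool ((c2.getD b.val []).getD a.val 0)).getD b.val 0 := by
        simp only [ofL]; ring
      rw [e]; exact this
    rcases lt_or_gt_of_ne hab with hlt | hlt
    · exact fin a b hlt hma hmb hEab
    · exact fin b a hlt hmb hma (by rw [hEab, Finset.pair_comm])

/-! ### all coordinates even -/

def allSub1 (x : ℕ) : List ℕ → Bool
  | [] => true
  | a :: r => (a ^^^ x != 0) && allSub1 x r

def allSub2 (x : ℕ) : List ℕ → Bool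
  | [] => true
  | b :: r => allSub1 (x ^^^ b) r && allSub2 x r

def allSub3 (x : ℕ) : List ℕ → Bool
  | [] => true
  | c :: r => allSub2 (x ^^^ c) r && allSub3 x r

def allSub4 : List ℕ → Bool
  | [] => true
  | d :: r => allSub3 d r && allSub4 r

theorem allSub1_sound (x : ℕ) : ∀ l : List ℕ, allSub1 x l = true → ∀ a ∈ l, a ^^^ x ≠ 0 := by
  intro l
  induction l with
  | nil => intro _ a ha; simp at ha
  | cons h r ih =>
    intro hl a ha
    simp only [allSub1, Bool.and_eq_true, bne_iff_ne, ne_eq] at hl
    rcases List.mem_cons.mp ha with h1 | h1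
    · rw [h1]; exact hl.1
    · exact ih hl.2 a h1

theorem allSub2_sound : ∀ (l : List ℕ) (x : ℕ), allSub2 x l = true →
    ∀ b a, List.Sublist [b, a] l → a ^^^ (x ^^^ b) ≠ 0 := by
  intro l
  induction l with
  | nil => intro x _ b a h; simp at h
  | cons h r ih =>
    intro x hl b a hs
    simp only [allSub2, Bool.and_eq_true] at hl
    rcases List.sublist_cons_iff.mp hs with h1 | ⟨r', h1, h2⟩
    · exact ih x hl.2 b a h1
    · injection h1 with h3 h4
      subst h3 h4
      exact allSub1_sound _ r hl.1 a (List.singleton_sublist.mp h2)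

theorem allSub3_sound : ∀ (l : List ℕ) (x : ℕ), allSub3 x l = true →
    ∀ c b a, List.Sublist [c, b, a] l → a ^^^ ((x ^^^ c) ^^^ b) ≠ 0 := by
  intro l
  induction l with
  | nil => intro x _ c b a h; simp at h
  | cons h r ih =>
    intro x hl c b a hs
    simp only [allSub3, Bool.and_eq_true] at hl
    rcases List.sublist_cons_iff.mp hs with h1 | ⟨r', h1, h2⟩
    · exact ih x hl.2 c b a h1
    · injection h1 with h3 h4
      subst h3 h4
      exact allSub2_sound r _ hl.1 b a h2

theorem allSub4_sound : ∀ (l : List ℕ), allSub4 l = true →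
    ∀ d c b a, List.Sublist [d, c, b, a] l → a ^^^ ((d ^^^ c) ^^^ b) ≠ 0 := by
  intro l
  induction l with
  | nil => intro _ d c b a h; simp at h
  | cons h r ih =>
    intro hl d c b a hs
    simp only [allSub4, Bool.and_eq_true] at hl
    rcases List.sublist_cons_iff.mp hs with h1 | ⟨r', h1, h2⟩
    · exact ih hl.2 d c b a h1
    · injection h1 with h3 h4
      subst h3 h4
      exact allSub3_sound r _ hl.1 c b a h2

/-- transposed parity masks: bit `k` of `colsP[i]` is the parity of entry `i` of row `k` -/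
def chkColsP (pbs colsP : List ℕ) : Bool :=
  decide (colsP.length = 56) && decide (pbs.length = 56) &&
    colsP.all (fun c => decide (c < 2 ^ 56)) &&
    (List.range 56).all (fun i => (List.range 56).all (fun k =>
      (colsP.getD i 0).testBit k == (pbs.getD k 0).testBit i))

def chkQuads (pbs colsP : List ℕ) : Bool := chkColsP pbs colsP && allSub4 colsP

theorem quads_row {rows : List (List ℤ)} {pbs colsP : List ℕ} (hpb : chkPb rows pbs = true)
    (hq : chkQuads pbs colsP = true) {a b c d : Fin 56} (hab : a < b) (hbc : b < c)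
    (hcd : c < d) : ∃ r ∈ rows, (ofL r a + ofL r b + ofL r c + ofL r d) % 2 = 1 := by
  obtain ⟨hl, hat⟩ := pb_at hpb
  simp only [chkQuads, chkColsP, Bool.and_eq_true, decide_eq_true_eq] at hq
  obtain ⟨⟨⟨⟨hcl, hpl⟩, hlt⟩, htr⟩, h4⟩ := hq
  have ha : a.val < colsP.length := by rw [hcl]; exact a.isLt
  have hb : b.val < colsP.length := by rw [hcl]; exact b.isLt
  have hc : c.val < colsP.length := by rw [hcl]; exact c.isLt
  have hd : d.val < colsP.length := by rw [hcl]; exact d.isLt
  have hsub := List.map_getElem_sublist (l := colsP)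
    (is := [⟨a.val, ha⟩, ⟨b.val, hb⟩, ⟨c.val, hc⟩, ⟨d.val, hd⟩]) (by
      simp only [List.pairwise_cons, List.mem_cons, List.not_mem_nil, or_false, forall_eq_or_imp,
        forall_eq, IsEmpty.forall_iff, implies_true, List.Pairwise.nil, and_true, Fin.mk_lt_mk]
      exact ⟨⟨hab, lt_trans hab hbc, lt_trans hab (lt_trans hbc hcd)⟩, ⟨hbc, lt_trans hbc hcd⟩, hcd⟩)
  simp only [List.map_cons, List.map_nil, Fin.getElem_fin] at hsub
  have hne := allSub4_sound colsP h4 _ _ _ _ hsub
  obtain ⟨k, hk⟩ := Nat.exists_testBit_of_ne_zero hne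
  have hget : ∀ i (hi : i < colsP.length), colsP[i] = colsP.getD i 0 := by
    intro i hi
    rw [List.getD_eq_getElem?_getD, List.getElem?_eq_getElem hi]; rfl
  have hk56 : k < 56 := by
    by_contra hge
    have hpow : 2 ^ 56 ≤ 2 ^ k := Nat.pow_le_pow_right (by norm_num) (by omega)
    have hz : ∀ i (hi : i < colsP.length), colsP[i].testBit k = false := by
      intro i hi
      apply Nat.testBit_lt_two_pow
      have := (List.all_eq_true.mp hlt) colsP[i] (List.getElem_mem hi)
      simp only [decide_eq_true_eq] at this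
      exact lt_of_lt_of_le this hpow
    simp only [Nat.testBit_xor, hz a.val ha, hz b.val hb, hz c.val hc, hz d.val hd] at hk
    simp at hk
  have hbit : ∀ i : Fin 56, ∀ hi : i.val < colsP.length,
      colsP[i.val].testBit k = (pbs.getD k 0).testBit i.val := by
    intro i hi
    have := (List.all_eq_true.mp ((List.all_eq_true.mp htr) i.val (List.mem_range.mpr i.isLt))) k
      (List.mem_range.mpr hk56)
    rw [beq_iff_eq] at this
    rw [hget i.val hi]; exact this
  simp only [Nat.testBit_xor, hbit a ha, hbit b hb, hbit c hc, hbit d hd] at hk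
  have hk' : k < rows.length := by omega
  refine ⟨rows.getD k [], ?_, ?_⟩
  · rw [List.getD_eq_getElem?_getD, List.getElem?_eq_getElem hk']
    exact List.getElem_mem hk'
  · have ha := oddM_val (hat k hk') a
    have hb := oddM_val (hat k hk') b
    have hc := oddM_val (hat k hk') c
    have hd := oddM_val (hat k hk') d
    cases h5 : (pbs.getD k 0).testBit a.val <;> cases h6 : (pbs.getD k 0).testBit b.val <;>
      cases h7 : (pbs.getD k 0).testBit c.val <;> cases h8 : (pbs.getD k 0).testBit d.val <;>
      simp only [h5, h6, h7, h8, Bool.false_eq_true, if_false, if_true] at ha hb hc hd hk <;>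
      first | omega | (exfalso; revert hk; decide)

theorem list_len4 {α : Type} (l : List α) (h : l.length = 4) : ∃ a b c d, l = [a, b, c, d] := by
  rcases l with _ | ⟨a, _ | ⟨b, _ | ⟨c, _ | ⟨d, _ | ⟨e, l⟩⟩⟩⟩⟩
  · simp at h
  · simp at h
  · simp at h
  · simp at h
  · exact ⟨a, b, c, d, rfl⟩
  · simp at h

theorem card_four_sorted (T : Finset (Fin 56)) (h : T.card = 4) :
    ∃ a b c d : Fin 56, a < b ∧ b < c ∧ c < d ∧ T = {a, b, c, d} := by
  have hl : (T.sort).length = 4 := by rw [Finset.length_sort, h]
  have hs := (Finset.sortedLT_sort T).pairwise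
  have ht := Finset.sort_toFinset T (· ≤ ·)
  obtain ⟨a, b, c, d, hm⟩ := list_len4 _ hl
  rw [hm] at hs ht
  simp only [List.pairwise_cons, List.mem_cons, List.not_mem_nil, or_false, forall_eq_or_imp,
    forall_eq, IsEmpty.forall_iff, implies_true, List.Pairwise.nil, and_true] at hs
  refine ⟨a, b, c, d, hs.1.1, hs.2.1.1, hs.2.2, ?_⟩
  rw [← ht]
  simp

theorem vecM_pow_left (i : Fin 56) : vecM (2 ^ i.val) 0 4 = fun j => if j = i then 4 else 0 := by
  funext j
  unfold vecM
  simp only [Nat.testBit_two_pow, Nat.zero_testBit, Bool.false_eq_true, if_false,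
    decide_eq_true_eq]
  by_cases h : j = i
  · subst h; simp
  · have : ¬ i.val = j.val := fun h' => h (Fin.ext h'.symm)
    simp [h, this]

theorem vecM_pow_right (i : Fin 56) : vecM 0 (2 ^ i.val) 4 = fun j => if j = i then -4 else 0 := by
  funext j
  unfold vecM
  simp only [Nat.testBit_two_pow, Nat.zero_testBit, Bool.false_eq_true, if_false,
    decide_eq_true_eq]
  by_cases h : j = i
  · subst h; simp
  · have : ¬ i.val = j.val := fun h' => h (Fin.ext h'.symm)
    simp [h, this]

theorem even_sound {rows : List (List ℤ)} {pbs colsP : List ℕ}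
    (hip : ∀ y ∈ LW rows, ∀ z ∈ LW rows, (4 : ℤ) ∣ ip y z) (hpb : chkPb rows pbs = true)
    (hq : chkQuads pbs colsP = true) :
    ∀ y ∈ LW rows, OddM y 0 → nrm y = 16 →
      ∃ i : Fin 56, y = vecM (2 ^ i.val) 0 4 ∨ y = vecM 0 (2 ^ i.val) 4 := by
  intro y hy ho hn
  have hev : ∀ i : Fin 56, y i % 2 = 0 := by
    intro i
    have := ho i
    simp only [Nat.zero_testBit, Bool.false_eq_true, iff_false] at this
    omega
  have hn' : ∑ i, y i * y i = 16 := hn
  by_cases hbig : ∃ i : Fin 56, 16 ≤ y i * y i
  · obtain ⟨i, hi⟩ := hbig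
    have hrest : y i * y i + ∑ j ∈ Finset.univ.erase i, y j * y j = ∑ j, y j * y j :=
      Finset.add_sum_erase Finset.univ (fun j => y j * y j) (Finset.mem_univ i)
    have hnn : 0 ≤ ∑ j ∈ Finset.univ.erase i, y j * y j :=
      Finset.sum_nonneg (fun j _ => mul_self_nonneg _)
    have hz : ∑ j ∈ Finset.univ.erase i, y j * y j = 0 := by linarith
    have hi16 : y i * y i = 16 := by linarith
    have hzero : ∀ j : Fin 56, j ≠ i → y j = 0 := by
      intro j hj
      have := (Finset.sum_eq_zero_iff_of_nonneg (fun j _ => mul_self_nonneg _)).mp hz j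
        (Finset.mem_erase.mpr ⟨hj, Finset.mem_univ _⟩)
      exact mul_self_eq_zero.mp this
    have h4 : y i = 4 ∨ y i = -4 := by
      have : (y i - 4) * (y i + 4) = 0 := by ring_nf; linarith
      rcases mul_eq_zero.mp this with h | h
      · left; linarith
      · right; linarith
    refine ⟨i, ?_⟩
    rcases h4 with h | h
    · left
      rw [vecM_pow_left]
      funext j
      by_cases hj : j = i
      · subst hj; simp [h]
      · simp [hj, hzero j hj]
    · right
      rw [vecM_pow_right]
      funext j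
      by_cases hj : j = i
      · subst hj; simp [h]
      · simp [hj, hzero j hj]
  · exfalso
    push Not at hbig
    have hval : ∀ i : Fin 56, y i = 0 ∨ y i = 2 ∨ y i = -2 := by
      intro i
      have h1 := hbig i
      have h2 := hev i
      have hlo : -3 ≤ y i := by nlinarith
      have hhi : y i ≤ 3 := by nlinarith
      omega
    set T := Finset.univ.filter (fun i : Fin 56 => y i ≠ 0) with hT
    have hTmem : ∀ i, i ∈ T ↔ y i ≠ 0 := by intro i; simp [hT]
    have hsum : ∑ i ∈ T, y i * y i = 16 := by
      rw [← hn', hT]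
      apply Finset.sum_filter_of_ne
      intro i _ hne h0
      apply hne
      rw [h0, mul_zero]
    have hterm : ∀ i ∈ T, y i * y i = 4 := by
      intro i hi
      rcases hval i with h | h | h
      · exact absurd h ((hTmem i).mp hi)
      · rw [h]; norm_num
      · rw [h]; norm_num
    have hcard : T.card = 4 := by
      have : ∑ i ∈ T, y i * y i = 4 * T.card := by
        rw [Finset.sum_congr rfl hterm, Finset.sum_const]
        simp [mul_comm]
      have : (4 : ℤ) * T.card = 16 := by linarith
      omega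
    obtain ⟨a, b, c, d, hab, hbc, hcd, hTe⟩ := card_four_sorted T hcard
    obtain ⟨r, hr, hodd⟩ := quads_row hpb hq hab hbc hcd
    have hne1 : a ≠ b := ne_of_lt hab
    have hne2 : b ≠ c := ne_of_lt hbc
    have hne3 : c ≠ d := ne_of_lt hcd
    have hne4 : a ≠ c := ne_of_lt (lt_trans hab hbc)
    have hne5 : b ≠ d := ne_of_lt (lt_trans hbc hcd)
    have hne6 : a ≠ d := ne_of_lt (lt_trans hab (lt_trans hbc hcd))
    apply excl_fs (y := y) (r := ofL r) ∅ T (Finset.disjoint_empty_left _) _ _ _ _
      (hip y hy _ (ofL_mem_LW hr))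
    · intro i hi; simp at hi
    · intro i hi
      rcases hval i with h | h | h
      · exact absurd h ((hTmem i).mp hi)
      · exact Or.inl h
      · exact Or.inr h
    · intro i _ hi
      by_contra hne
      exact hi ((hTmem i).mpr hne)
    · rw [Finset.sum_empty, zero_add, hTe]
      rw [Finset.sum_insert (by simp [hne1, hne4, hne6]),
        Finset.sum_insert (by simp [hne2, hne5]), Finset.sum_pair hne3]
      omega

end Cfsg.Agent.Helper2.RuL
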