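import Cfsg.Agent.Helper2.RuL.Chk3

/-! Assembly: every vector of norm 16 of the lattice is in the master table (helper2). -/

set_option autoImplicit false

namespace Cfsg.Agent.Helper2.RuL

open Cfsg.Agent.Helper5.RuLat

/-! ### classification of the parity words -/

/-- population count with forced evaluation (kernel friendly) -/
def pcF : ℕ → ℕ → ℕ → ℕ
  | 0, _, acc => acc
  | f + 1, w, acc =>
    match w with
    | 0 => acc
    | n + 1 => pcF f ((n + 1) &&& n) (acc + 1)

theorem pcF_eq : ∀ (f w acc : ℕ), pcF f w acc = acc + pc f w := by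
  intro f
  induction f with
  | zero => intro w acc; simp [pcF, pc]
  | succ f ih =>
    intro w acc
    cases w with
    | zero => simp [pcF, pc]
    | succ n =>
      simp only [pcF, pc, Nat.succ_ne_zero, if_false, Nat.add_sub_cancel]
      rw [ih]
      omega

/-- enumeration of the code with forced evaluation of the accumulator -/
def enumF (leaf : ℕ → Bool) : List ℕ → ℕ → Bool
  | [], acc => leaf acc
  | g :: gs, acc => force (acc ^^^ g) (fun a' => enumF leaf gs acc && enumF leaf gs a')

theorem enumF_eq (leaf : ℕ → Bool) : ∀ (gs : List ℕ) (acc : ℕ),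
    enumF leaf gs acc = enumOK leaf gs acc := by
  intro gs
  induction gs with
  | nil => intro acc; rfl
  | cons g gs ih =>
    intro acc
    simp only [enumF, enumOK, force_eq, ih]

/-- binary search trees of natural numbers -/
inductive BT where
  | nil : BT
  | node (l : BT) (key : ℕ) (r : BT) : BT

def BT.toList : BT → List ℕ
  | .nil => []
  | .node l k r => l.toList ++ k :: r.toList

def BT.mem : BT → ℕ → Bool
  | .nil, _ => false
  | .node l k r, w => if w = k then true else if w < k then l.mem w else r.mem w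

theorem BT.mem_sound : ∀ (t : BT) (w : ℕ), t.mem w = true → w ∈ t.toList := by
  intro t
  induction t with
  | nil => intro w h; simp [BT.mem] at h
  | node l k r ihl ihr =>
    intro w h
    simp only [BT.mem] at h
    simp only [BT.toList, List.mem_append, List.mem_cons]
    by_cases h1 : w = k
    · right; left; exact h1
    · rw [if_neg h1] at h
      by_cases h2 : w < k
      · rw [if_pos h2] at h; left; exact ihl w h
      · rw [if_neg h2] at h; right; right; exact ihr w h

def leafC (blocks : List ℕ) (t : BT) (w : ℕ) : Bool :=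
  decide (17 ≤ pcF 17 w 0) || decide (w = 0) || blocks.contains w || t.mem w

def Cls (blocks w16 : List ℕ) (w : ℕ) : Prop :=
  w = 0 ∨ w ∈ blocks ∨ w ∈ w16 ∨ 17 ≤ (bitsF w).card

theorem cls_of_leafC {blocks : List ℕ} {t : BT} {w : ℕ} (hw : w < 2 ^ 56)
    (h : leafC blocks t w = true) : Cls blocks t.toList w := by
  simp only [leafC, Bool.or_eq_true, decide_eq_true_eq, List.contains_iff_mem] at h
  rcases h with ((h | h) | h) | h
  · rw [pcF_eq, Nat.zero_add] at h
    exact Or.inr (Or.inr (Or.inr (le_trans h (pc_le_card 17 w hw))))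
  · exact Or.inl h
  · exact Or.inr (Or.inl h)
  · exact Or.inr (Or.inr (Or.inl (BT.mem_sound t w h)))

theorem cls_of_enum {blocks gens : List ℕ} {t : BT}
    (hgl : gens.all (fun g => decide (g < 2 ^ 56)) = true)
    (h : enumF (leafC blocks t) gens 0 = true) :
    ∀ bs : List Bool, bs.length = gens.length → Cls blocks t.toList (xorSel bs gens) := by
  intro bs hbs
  rw [enumF_eq] at h
  have h1 := enumOK_sound (leafC blocks t) gens 0 h bs hbs
  rw [Nat.zero_xor] at h1
  apply cls_of_leafC _ h1
  apply xorSel_lt gens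
  intro g hg
  simpa using (List.all_eq_true.mp hgl) g hg

/-! ### the certificates -/

inductive C16 where
  | good (w : ℕ) (frees : List ℕ) (t : ST) (pv : List (ℕ × ℕ)) : C16
  | bad (w l : ℕ) : C16

def C16.w : C16 → ℕ
  | .good w _ _ _ => w
  | .bad w _ => w

def chkC16 (ent : ℕ → ℕ) (n : ℕ) (pbs : List ℕ) (cols : List (List ℤ)) : C16 → Bool
  | .good w frees t pv => decide (16 ≤ pc 16 w) && decide (w < 2 ^ 56) &&
      chkGood ent n pbs w frees t pv
  | .bad w l => decide (16 ≤ pc 16 w) && decide (w < 2 ^ 56) && chkBad cols w l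

structure B8 where
  m : ℕ
  pool : List (List ℤ × List ℤ × ℤ)
  c0 : ℕ
  c1 : List ℕ
  c2 : List (List ℕ)

def chkB8 (cols : List (List ℤ)) (b : B8) : Bool :=
  decide (8 ≤ pc 8 b.m) && decide (b.m < 2 ^ 56) && chkPoolB cols b.m b.pool &&
    chkB0 b.pool b.c0 && chkB1 b.m b.pool b.c1 && chkB2 b.m b.pool b.c2

def chkI4 (ent : ℕ → ℕ) (n : ℕ) (i4 : List ℕ) : Bool :=
  (List.range 56).all (fun i =>
    decide (i4.getD (2 * i) 0 < n) && decide (i4.getD (2 * i + 1) 0 < n) &&
    force (ent (i4.getD (2 * i) 0)) (fun e =>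
      decide (entP e = 2 ^ i) && decide (entN e = 0) && decide (entB e = 1)) &&
    force (ent (i4.getD (2 * i + 1) 0)) (fun e =>
      decide (entP e = 0) && decide (entN e = 2 ^ i) && decide (entB e = 1)))

theorem chkPb_of_chkPar {rows : List (List ℤ)} {gens pbs : List ℕ} {bss : List (List Bool)}
    (hl : rows.length = pbs.length) (h : chkPar rows gens pbs bss = true) :
    chkPb rows pbs = true := by
  simp only [chkPb, Bool.and_eq_true, decide_eq_true_eq]
  refine ⟨hl, ?_⟩
  rw [List.all_eq_true]
  intro k hk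
  have h1 := (List.all_eq_true.mp h) k hk
  simp only [Bool.and_eq_true] at h1
  exact h1.2

theorem complete {rows cols : List (List ℤ)} {gens pbs : List ℕ} {bss : List (List Bool)}
    (hc : colsOK rows cols = true) (hg : chkGram rows = true)
    (hpar : chkPar rows gens pbs bss = true) (hl : rows.length = pbs.length)
    {blocks : List B8} {certs : List C16} {ent : ℕ → ℕ} {n : ℕ} {i4 colsP : List ℕ}
    (hcls : ∀ bs : List Bool, bs.length = gens.length →
      Cls (blocks.map B8.m) (certs.map C16.w) (xorSel bs gens))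
    (hV : ∀ k, k < n → Vof (ent k) ∈ LW rows)
    (hB : blocks.all (chkB8 cols) = true) (hC : certs.all (chkC16 ent n pbs cols) = true)
    (hq : chkQuads pbs colsP = true) (h4 : chkI4 ent n i4 = true) :
    ∀ y ∈ LW rows, nrm y = 16 → ∃ k, k < n ∧ y = Vof (ent k) := by
  intro y hy hn
  have hip := gram_mem_mem hg
  have hpb := chkPb_of_chkPar hl hpar
  obtain ⟨bs, hbs, hpar'⟩ := par_all hpar y hy
  have hcl := hcls bs hbs
  generalize xorSel bs gens = w at hcl hpar'
  have ho : OddM y w := hpar'
  rcases hcl with h0 | hb | h16 | h17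
  · -- all even
    subst h0
    obtain ⟨i, hi⟩ := even_sound hip hpb hq y hy ho hn
    have h5 := (List.all_eq_true.mp h4) i.val (List.mem_range.mpr i.isLt)
    simp only [force_eq, Bool.and_eq_true, decide_eq_true_eq] at h5
    obtain ⟨⟨⟨hk1, hk2⟩, ⟨⟨hP1, hN1⟩, hB1⟩⟩, ⟨⟨hP2, hN2⟩, hB2⟩⟩ := h5
    rcases hi with hi | hi
    · refine ⟨_, hk1, ?_⟩
      rw [hi, Vof, hP1, hN1, hB1]; simp
    · refine ⟨_, hk2, ?_⟩
      rw [hi, Vof, hP2, hN2, hB2]; simp
  · -- a block
    exfalso
    obtain ⟨b, hbm, rfl⟩ := List.mem_map.mp hb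
    have h5 := (List.all_eq_true.mp hB) b hbm
    simp only [chkB8, Bool.and_eq_true, decide_eq_true_eq] at h5
    obtain ⟨⟨⟨⟨⟨hpc, hlt⟩, hp⟩, h0⟩, h1⟩, h2⟩ := h5
    exact blk_sound hc hip hp h0 h1 h2 (le_trans hpc (pc_le_card 8 b.m hlt)) y hy ho hn
  · -- weight 16
    obtain ⟨c, hcm, rfl⟩ := List.mem_map.mp h16
    have h5 := (List.all_eq_true.mp hC) c hcm
    cases c with
    | good w frees t pv =>
      simp only [chkC16, Bool.and_eq_true, decide_eq_true_eq] at h5
      obtain ⟨⟨hpc, hlt⟩, hgood⟩ := h5
      have hpm : Pm1 y w := shape16 ho (le_trans hpc (pc_le_card 16 w hlt)) hn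
      exact good_sound hip hpb hV hgood y hy hpm
    | bad w l =>
      exfalso
      simp only [chkC16, Bool.and_eq_true, decide_eq_true_eq] at h5
      obtain ⟨⟨hpc, hlt⟩, hbad⟩ := h5
      have hpm : Pm1 y w := shape16 ho (le_trans hpc (pc_le_card 16 w hlt)) hn
      exact bad_sound hc hip hbad y hy hpm
  · -- weight at least 17
    exfalso
    have h2 := card_le_nrm y (bitsF w) 1 (by norm_num) (by
      intro i hi
      apply one_le_mul_self
      intro h
      have := (ho i).mpr (mem_bitsF.mp hi)
      rw [h] at this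
      simp at this)
    have : (17 : ℤ) ≤ (bitsF w).card := by exact_mod_cast h17
    linarith

end Cfsg.Agent.Helper2.RuL
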