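import Cfsg.Agent.Helper2.RuL.EnumDat

/-! Enumeration of the parity code, part 3 (helper2; generated). -/

set_option autoImplicit false

namespace Cfsg.Agent.Helper2.RuL

open Cfsg.Agent.Helper5.RuLat

set_option Elab.async false in
theorem enum_12 : enumF (leafC blkM w16T) (List.drop 6 gensD) (0 ^^^ 47870627152945282 ^^^ 22676887877200004) = true := by decide +kernel

set_option Elab.async false in
theorem enum_125 : enumF (leafC blkM w16T) (List.drop 6 gensD) (0 ^^^ 47870627152945282 ^^^ 22676887877200004 ^^^ 2841783434758304) = true := by decide +kernel

set_option Elab.async false in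
theorem enum_124 : enumF (leafC blkM w16T) (List.drop 6 gensD) (0 ^^^ 47870627152945282 ^^^ 22676887877200004 ^^^ 10232348377915536) = true := by decide +kernel

set_option Elab.async false in
theorem enum_1245 : enumF (leafC blkM w16T) (List.drop 6 gensD) (0 ^^^ 47870627152945282 ^^^ 22676887877200004 ^^^ 10232348377915536 ^^^ 2841783434758304) = true := by decide +kernel

set_option Elab.async false in
theorem enum_123 : enumF (leafC blkM w16T) (List.drop 6 gensD) (0 ^^^ 47870627152945282 ^^^ 22676887877200004 ^^^ 50248028323889288) = true := by decide +kernel

set_option Elab.async false in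
theorem enum_1235 : enumF (leafC blkM w16T) (List.drop 6 gensD) (0 ^^^ 47870627152945282 ^^^ 22676887877200004 ^^^ 50248028323889288 ^^^ 2841783434758304) = true := by decide +kernel

set_option Elab.async false in
theorem enum_1234 : enumF (leafC blkM w16T) (List.drop 6 gensD) (0 ^^^ 47870627152945282 ^^^ 22676887877200004 ^^^ 50248028323889288 ^^^ 10232348377915536) = true := by decide +kernel

set_option Elab.async false in
theorem enum_12345 : enumF (leafC blkM w16T) (List.drop 6 gensD) (0 ^^^ 47870627152945282 ^^^ 22676887877200004 ^^^ 50248028323889288 ^^^ 10232348377915536 ^^^ 2841783434758304) = true := by decide +kernel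

end Cfsg.Agent.Helper2.RuL
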