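import Cfsg.Agent.Helper2.RuL.EnumDat

/-! Enumeration of the parity code, part 4 (helper2; generated). -/

set_option autoImplicit false

namespace Cfsg.Agent.Helper2.RuL

open Cfsg.Agent.Helper5.RuLat

set_option Elab.async false in
theorem enum_0 : enumF (leafC blkM w16T) (List.drop 6 gensD) (0 ^^^ 59174367602444417) = true := by decide +kernel

set_option Elab.async false in
theorem enum_05 : enumF (leafC blkM w16T) (List.drop 6 gensD) (0 ^^^ 59174367602444417 ^^^ 2841783434758304) = true := by decide +kernel

set_option Elab.async false in
theorem enum_04 : enumF (leafC blkM w16T) (List.drop 6 gensD) (0 ^^^ 59174367602444417 ^^^ 10232348377915536) = true := by decide +kernel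

set_option Elab.async false in
theorem enum_045 : enumF (leafC blkM w16T) (List.drop 6 gensD) (0 ^^^ 59174367602444417 ^^^ 10232348377915536 ^^^ 2841783434758304) = true := by decide +kernel

set_option Elab.async false in
theorem enum_03 : enumF (leafC blkM w16T) (List.drop 6 gensD) (0 ^^^ 59174367602444417 ^^^ 50248028323889288) = true := by decide +kernel

set_option Elab.async false in
theorem enum_035 : enumF (leafC blkM w16T) (List.drop 6 gensD) (0 ^^^ 59174367602444417 ^^^ 50248028323889288 ^^^ 2841783434758304) = true := by decide +kernel

set_option Elab.async false in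
theorem enum_034 : enumF (leafC blkM w16T) (List.drop 6 gensD) (0 ^^^ 59174367602444417 ^^^ 50248028323889288 ^^^ 10232348377915536) = true := by decide +kernel

set_option Elab.async false in
theorem enum_0345 : enumF (leafC blkM w16T) (List.drop 6 gensD) (0 ^^^ 59174367602444417 ^^^ 50248028323889288 ^^^ 10232348377915536 ^^^ 2841783434758304) = true := by decide +kernel

end Cfsg.Agent.Helper2.RuL
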