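import Cfsg.Agent.Helper2.RuL.EnumDat

/-! Enumeration of the parity code, part 7 (helper2; generated). -/

set_option autoImplicit false

namespace Cfsg.Agent.Helper2.RuL

open Cfsg.Agent.Helper5.RuLat

set_option Elab.async false in
theorem enum_012 : enumF (leafC blkM w16T) (List.drop 6 gensD) (0 ^^^ 59174367602444417 ^^^ 47870627152945282 ^^^ 22676887877200004) = true := by decide +kernel

set_option Elab.async false in
theorem enum_0125 : enumF (leafC blkM w16T) (List.drop 6 gensD) (0 ^^^ 59174367602444417 ^^^ 47870627152945282 ^^^ 22676887877200004 ^^^ 2841783434758304) = true := by decide +kernel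

set_option Elab.async false in
theorem enum_0124 : enumF (leafC blkM w16T) (List.drop 6 gensD) (0 ^^^ 59174367602444417 ^^^ 47870627152945282 ^^^ 22676887877200004 ^^^ 10232348377915536) = true := by decide +kernel

set_option Elab.async false in
theorem enum_01245 : enumF (leafC blkM w16T) (List.drop 6 gensD) (0 ^^^ 59174367602444417 ^^^ 47870627152945282 ^^^ 22676887877200004 ^^^ 10232348377915536 ^^^ 2841783434758304) = true := by decide +kernel

set_option Elab.async false in
theorem enum_0123 : enumF (leafC blkM w16T) (List.drop 6 gensD) (0 ^^^ 59174367602444417 ^^^ 47870627152945282 ^^^ 22676887877200004 ^^^ 50248028323889288) = true := by decide +kernel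

set_option Elab.async false in
theorem enum_01235 : enumF (leafC blkM w16T) (List.drop 6 gensD) (0 ^^^ 59174367602444417 ^^^ 47870627152945282 ^^^ 22676887877200004 ^^^ 50248028323889288 ^^^ 2841783434758304) = true := by decide +kernel

set_option Elab.async false in
theorem enum_01234 : enumF (leafC blkM w16T) (List.drop 6 gensD) (0 ^^^ 59174367602444417 ^^^ 47870627152945282 ^^^ 22676887877200004 ^^^ 50248028323889288 ^^^ 10232348377915536) = true := by decide +kernel

set_option Elab.async false in
theorem enum_012345 : enumF (leafC blkM w16T) (List.drop 6 gensD) (0 ^^^ 59174367602444417 ^^^ 47870627152945282 ^^^ 22676887877200004 ^^^ 50248028323889288 ^^^ 10232348377915536 ^^^ 2841783434758304) = true := by decide +kernel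

end Cfsg.Agent.Helper2.RuL
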