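import Cfsg.Agent.Helper2.RuL.Enum0
import Cfsg.Agent.Helper2.RuL.Enum1
import Cfsg.Agent.Helper2.RuL.Enum2
import Cfsg.Agent.Helper2.RuL.Enum3
import Cfsg.Agent.Helper2.RuL.Enum4
import Cfsg.Agent.Helper2.RuL.Enum5
import Cfsg.Agent.Helper2.RuL.Enum6
import Cfsg.Agent.Helper2.RuL.Enum7

/-! Every word of the parity code is zero, one of the 7 blocks, one of the 1701 listed words of
weight 16, or has weight at least 17 (helper2; generated). -/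

set_option autoImplicit false

namespace Cfsg.Agent.Helper2.RuL

open Cfsg.Agent.Helper5.RuLat

theorem gensD_split : gensD = 59174367602444417 :: 47870627152945282 :: 22676887877200004 :: 50248028323889288 :: 10232348377915536 :: 2841783434758304 :: List.drop 6 gensD := by decide +kernel

theorem enum_all : enumF (leafC blkM w16T) gensD 0 = true := by
  rw [gensD_split]
  simp only [enumF, force_eq, Bool.and_eq_true]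
  exact ⟨⟨⟨⟨⟨⟨enum_e, enum_5⟩, ⟨enum_4, enum_45⟩⟩, ⟨⟨enum_3, enum_35⟩, ⟨enum_34, enum_345⟩⟩⟩, ⟨⟨⟨enum_2, enum_25⟩, ⟨enum_24, enum_245⟩⟩, ⟨⟨enum_23, enum_235⟩, ⟨enum_234, enum_2345⟩⟩⟩⟩, ⟨⟨⟨⟨enum_1, enum_15⟩, ⟨enum_14, enum_145⟩⟩, ⟨⟨enum_13, enum_135⟩, ⟨enum_134, enum_1345⟩⟩⟩, ⟨⟨⟨enum_12, enum_125⟩, ⟨enum_124, enum_1245⟩⟩, ⟨⟨enum_123, enum_1235⟩, ⟨enum_1234, enum_12345⟩⟩⟩⟩⟩, ⟨⟨⟨⟨⟨enum_0, enum_05⟩, ⟨enum_04, enum_045⟩⟩, ⟨⟨enum_03, enum_035⟩, ⟨enum_034, enum_0345⟩⟩⟩, ⟨⟨⟨enum_02, enum_025⟩, ⟨enum_024, enum_0245⟩⟩, ⟨⟨enum_023, enum_0235⟩, ⟨enum_0234, enum_02345⟩⟩⟩⟩, ⟨⟨⟨⟨enum_01, enum_015⟩, ⟨enum_014, enum_0145⟩⟩, ⟨⟨enum_013, enum_0135⟩, ⟨enum_0134, enum_01345⟩⟩⟩, ⟨⟨⟨enum_012, enum_0125⟩, ⟨enum_0124, enum_01245⟩⟩, ⟨⟨enum_0123, enum_01235⟩, ⟨enum_01234, enum_012345⟩⟩⟩⟩⟩⟩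

theorem cls_all : ∀ bs : List Bool, bs.length = gensD.length →
    Cls blkM w16T.toList (xorSel bs gensD) :=
  cls_of_enum gensD_lt enum_all

end Cfsg.Agent.Helper2.RuL
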