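import Cfsg.Agent.Helper2.RuL.MemDat
import Cfsg.Agent.Helper2.RuL.C16
import Cfsg.Agent.Helper2.RuL.B8
import Cfsg.Agent.Helper2.RuL.Enum

/-! The vectors of norm 16 of the lattice are exactly the vectors of the master table (helper2). -/

set_option autoImplicit false

namespace Cfsg.Agent.Helper2.RuL

open Cfsg.Agent.Helper5.RuLat

theorem b8All_m : b8All.map B8.m = blkM := by decide +kernel

theorem rows_len : rowsD.length = pbsD.length := by decide +kernel

theorem complete_all : ∀ y ∈ LW rowsD, nrm y = 16 → ∃ k, k < N0 ∧ y = mv k := by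
  have hcls : ∀ bs : List Bool, bs.length = gensD.length →
      Cls (b8All.map B8.m) (c16All.map C16.w) (xorSel bs gensD) := by
    rw [b8All_m, c16All_w]
    exact cls_all
  exact complete hcols hgram hpar rows_len hcls (fun k hk => mv_mem hk) b8All_ok c16All_ok
    quads_ok i4L_ok

end Cfsg.Agent.Helper2.RuL
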