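import Cfsg.Agent.Helper2.RuL.Chk2

/-! Scaled integer matrices acting on `ℤ^56`, checked through the evaluation of vectors at a large
base (helper2). -/

set_option autoImplicit false

namespace Cfsg.Agent.Helper2.RuL

open Cfsg.Agent.Helper5.RuLat

/-! ### forcing the evaluation of arguments in the kernel -/

def frc {α : Type} (r : ℕ) (f : ℕ → α) : α :=
  match r with
  | 0 => f 0
  | n + 1 => f (n + 1)

theorem frc_eq {α : Type} (r : ℕ) (f : ℕ → α) : frc r f = f r := by cases r <;> rfl

def frcZ {α : Type} (z : ℤ) (f : ℤ → α) : α :=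
  match z with
  | Int.ofNat n => frc n (fun m => f (Int.ofNat m))
  | Int.negSucc n => frc n (fun m => f (Int.negSucc m))

theorem frcZ_eq {α : Type} (z : ℤ) (f : ℤ → α) : frcZ z f = f z := by
  cases z <;> simp [frcZ, frc_eq]

/-! ### evaluation at the base `2^16` -/

def BB : ℤ := 65536

def evB : List ℤ → ℤ
  | [] => 0
  | x :: l => x + BB * evB l

theorem evB_eq_sum : ∀ l : List ℤ,
    evB l = ∑ i ∈ Finset.range l.length, l.getD i 0 * BB ^ i
  | [] => by simp [evB]
  | x :: l => by
    rw [evB, evB_eq_sum l, List.length_cons, Finset.sum_range_succ', Finset.mul_sum]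
    simp only [List.getD_cons_succ, List.getD_cons_zero, pow_zero, mul_one, pow_succ]
    rw [add_comm]
    congr 1
    apply Finset.sum_congr rfl
    intro i _
    ring

def evW : W →+ ℤ where
  toFun y := ∑ i : Fin 56, y i * BB ^ i.val
  map_zero' := by simp
  map_add' := by intro y z; simp [add_mul, Finset.sum_add_distrib]

theorem evW_apply (y : W) : evW y = ∑ i : Fin 56, y i * BB ^ i.val := rfl

theorem evW_ofL (l : List ℤ) (hl : l.length = 56) : evW (ofL l) = evB l := by
  rw [evB_eq_sum, hl, evW_apply, ← Fin.sum_univ_eq_sum_range (fun i => l.getD i 0 * BB ^ i) 56]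
  rfl

theorem ev_inj_aux : ∀ (n : ℕ) (d : ℕ → ℤ), (∀ i, i < n → |d i| < BB) →
    ∑ i ∈ Finset.range n, d i * BB ^ i = 0 → ∀ i, i < n → d i = 0 := by
  intro n
  induction n with
  | zero => intro d _ _ i hi; omega
  | succ n ih =>
    intro d hb hs i hi
    rw [Finset.sum_range_succ'] at hs
    simp only [pow_zero, mul_one, pow_succ] at hs
    have hs' : BB * ∑ i ∈ Finset.range n, d (i + 1) * BB ^ i + d 0 = 0 := by
      rw [Finset.mul_sum, ← hs]
      congr 1
      apply Finset.sum_congr rfl
      intro i _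
      ring
    have h0 : d 0 = 0 := by
      apply Int.eq_zero_of_abs_lt_dvd (m := BB)
      · have : d 0 = - (BB * ∑ i ∈ Finset.range n, d (i + 1) * BB ^ i) := by linarith
        rw [this]
        exact (dvd_mul_right _ _).neg_right
      · exact hb 0 (by omega)
    rw [h0, add_zero] at hs'
    have hS : ∑ i ∈ Finset.range n, d (i + 1) * BB ^ i = 0 := by
      rcases mul_eq_zero.mp hs' with h | h
      · exact absurd h (by norm_num [BB])
      · exact h
    cases i with
    | zero => exact h0
    | succ i =>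
      exact ih (fun i => d (i + 1)) (fun i hi' => hb (i + 1) (by omega)) hS i (by omega)

theorem evW_inj {y z : W} (hy : ∀ i, |y i| < 32768) (hz : ∀ i, |z i| < 32768)
    (h : evW y = evW z) : y = z := by
  funext i
  let d : ℕ → ℤ := fun k => if hk : k < 56 then y ⟨k, hk⟩ - z ⟨k, hk⟩ else 0
  have hs : ∑ k ∈ Finset.range 56, d k * BB ^ k = 0 := by
    rw [← Fin.sum_univ_eq_sum_range (fun k => d k * BB ^ k) 56]
    have h1 : ∀ k : Fin 56, d k.val * BB ^ k.val = y k * BB ^ k.val - z k * BB ^ k.val := by
      intro k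
      simp only [d, k.isLt, dite_true, Fin.eta]
      ring
    simp only [h1, Finset.sum_sub_distrib]
    rw [evW_apply, evW_apply] at h
    exact sub_eq_zero.mpr h
  have hb : ∀ k, k < 56 → |d k| < BB := by
    intro k hk
    simp only [d, hk, dite_true]
    have h1 := hy ⟨k, hk⟩
    have h2 := hz ⟨k, hk⟩
    rw [abs_lt] at h1 h2 ⊢
    constructor <;> simp only [BB] <;> linarith [h1.1, h1.2, h2.1, h2.2]
  have := ev_inj_aux 56 d hb hs i.val i.isLt
  simp only [d, i.isLt, dite_true, Fin.eta] at this
  linarith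

/-! ### signed sums of columns selected by bit masks -/

def sgnAt (P N j : ℕ) : ℤ :=
  if P.testBit j = true then 1 else if N.testBit j = true then -1 else 0

def scE (e : ℕ) : ℤ := if entB e = 0 then 1 else 4

theorem Vof_apply (e : ℕ) (i : Fin 56) : Vof e i = scE e * sgnAt (entP e) (entN e) i.val := by
  unfold Vof vecM sgnAt scE
  split_ifs <;> simp

theorem abs_sgnAt_le (P N j : ℕ) : |sgnAt P N j| ≤ 1 := by
  unfold sgnAt; split_ifs <;> simp

theorem abs_Vof_le (e : ℕ) (i : Fin 56) : |Vof e i| ≤ 4 := by
  rw [Vof_apply, abs_mul]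
  have h1 := abs_sgnAt_le (entP e) (entN e) i.val
  have h2 : |scE e| ≤ 4 := by unfold scE; split_ifs <;> simp
  calc |scE e| * |sgnAt (entP e) (entN e) i.val| ≤ 4 * 1 :=
        mul_le_mul h2 h1 (abs_nonneg _) (by norm_num)
    _ = 4 := by norm_num

/-- `acc + Σ_j ± c_j` over the bits of `P` (plus) and of `N` (minus) -/
def sumCols : List ℤ → ℕ → ℕ → ℤ → ℤ
  | [], _, _, acc => acc
  | c :: cs, P, N, acc =>
    frcZ (if P % 2 = 1 then acc + c else if N % 2 = 1 then acc - c else acc) fun acc' =>
      frc (P / 2) fun P' => frc (N / 2) fun N' => sumCols cs P' N' acc'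

theorem sgnAt_zero (P N : ℕ) :
    sgnAt P N 0 = if P % 2 = 1 then 1 else if N % 2 = 1 then -1 else 0 := by
  unfold sgnAt
  simp only [Nat.testBit_zero, decide_eq_true_eq]

theorem sgnAt_succ (P N j : ℕ) : sgnAt P N (j + 1) = sgnAt (P / 2) (N / 2) j := by
  unfold sgnAt
  simp only [Nat.testBit_succ]

theorem sumCols_eq : ∀ (cs : List ℤ) (P N : ℕ) (acc : ℤ),
    sumCols cs P N acc = acc + ∑ j ∈ Finset.range cs.length, sgnAt P N j * cs.getD j 0
  | [], _, _, acc => by simp [sumCols]
  | c :: cs, P, N, acc => by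
    rw [sumCols, frcZ_eq, frc_eq, frc_eq, sumCols_eq cs, List.length_cons,
      Finset.sum_range_succ']
    simp only [List.getD_cons_succ, List.getD_cons_zero, sgnAt_succ, sgnAt_zero]
    split_ifs <;> ring

/-! ### matrices given by their columns -/

def mulC (cols : List (List ℤ)) : W →+ W where
  toFun y := fun i => ∑ j : Fin 56, y j * (cols.getD j.val []).getD i.val 0
  map_zero' := by funext i; simp
  map_add' := by intro y z; funext i; simp [add_mul, Finset.sum_add_distrib]

theorem mulC_apply (cols : List (List ℤ)) (y : W) (i : Fin 56) :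
    mulC cols y i = ∑ j : Fin 56, y j * (cols.getD j.val []).getD i.val 0 := rfl

theorem evW_mulC (cols : List (List ℤ)) (y : W) :
    evW (mulC cols y) = ∑ j : Fin 56, y j * evW (ofL (cols.getD j.val [])) := by
  simp only [evW_apply, mulC_apply, Finset.sum_mul, Finset.mul_sum]
  rw [Finset.sum_comm]
  refine Finset.sum_congr rfl fun j _ => Finset.sum_congr rfl fun i _ => ?_
  show _ = y j * ((cols.getD j.val []).getD i.val 0 * BB ^ i.val)
  ring

/-- a scaled matrix: its columns and their evaluations -/
structure MatD where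
  cols : List (List ℤ)
  ecs : List ℤ

def ecsOK (m : MatD) : Bool :=
  decide (m.ecs.length = 56) && (List.range 56).all fun j =>
    decide ((m.cols.getD j []).length = 56) && decide (evB (m.cols.getD j []) = m.ecs.getD j 0)

theorem ecsOK_col {m : MatD} (h : ecsOK m = true) (j : Fin 56) :
    (m.cols.getD j.val []).length = 56 ∧ evW (ofL (m.cols.getD j.val [])) = m.ecs.getD j.val 0 := by
  simp only [ecsOK, Bool.and_eq_true, decide_eq_true_eq, List.all_eq_true, List.mem_range] at h
  have h1 := h.2 j.val j.isLt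
  exact ⟨h1.1, by rw [evW_ofL _ h1.1, h1.2]⟩

theorem evW_mulC_Vof {m : MatD} (h : ecsOK m = true) (e : ℕ) :
    evW (mulC m.cols (Vof e)) = scE e * sumCols m.ecs (entP e) (entN e) 0 := by
  have hl : m.ecs.length = 56 := by
    simp only [ecsOK, Bool.and_eq_true, decide_eq_true_eq] at h
    exact h.1
  rw [evW_mulC, sumCols_eq, hl, zero_add, Finset.mul_sum,
    ← Fin.sum_univ_eq_sum_range (fun j => scE e * (sgnAt (entP e) (entN e) j * m.ecs.getD j 0)) 56]
  refine Finset.sum_congr rfl fun j _ => ?_
  rw [(ecsOK_col h j).2, Vof_apply]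
  ring

/-- the powers of the base -/
def unitsOK (us : List ℤ) : Bool :=
  decide (us.length = 56) && (List.range 56).all fun j => decide (us.getD j 0 = BB ^ j)

theorem evW_Vof {us : List ℤ} (h : unitsOK us = true) (e : ℕ) :
    evW (Vof e) = scE e * sumCols us (entP e) (entN e) 0 := by
  simp only [unitsOK, Bool.and_eq_true, decide_eq_true_eq, List.all_eq_true, List.mem_range] at h
  rw [evW_apply, sumCols_eq, h.1, zero_add, Finset.mul_sum,
    ← Fin.sum_univ_eq_sum_range (fun j => scE e * (sgnAt (entP e) (entN e) j * us.getD j 0)) 56]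
  refine Finset.sum_congr rfl fun j _ => ?_
  rw [h.2 j.val j.isLt, Vof_apply]
  ring

/-! ### bounds -/

/-- all entries of the matrix are at most 32 in absolute value -/
def EntBd (cols : List (List ℤ)) : Prop := ∀ j i : ℕ, |(cols.getD j []).getD i 0| ≤ 32

theorem entBd_decMat (cs : List ℕ) : EntBd (decMat cs) := by
  intro j i
  by_cases hj : j < cs.length
  · rw [getD_decMat cs j hj]
    by_cases hi : i < 56
    · rw [getD_decRow _ _ hi]
      have h1 : dig (cs.getD j 0) i < 64 := by
        unfold dig
        exact lt_of_le_of_lt Nat.and_le_right (by norm_num)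
      rw [abs_le]
      constructor <;> omega
    · rw [List.getD_eq_default _ _ (by rw [length_decRow]; omega)]; norm_num
  · have h1 : (decMat cs).getD j [] = [] :=
      List.getD_eq_default _ _ (by simp only [decMat, List.length_map]; omega)
    rw [h1]
    simp

theorem mulC_bound {cols : List (List ℤ)} (h : EntBd cols) (y : W) (c : ℤ)
    (hy : ∀ j, |y j| ≤ c) (i : Fin 56) : |mulC cols y i| ≤ 1792 * c := by
  have hc : 0 ≤ c := le_trans (abs_nonneg _) (hy 0)
  rw [mulC_apply]
  calc |∑ j : Fin 56, y j * (cols.getD j.val []).getD i.val 0|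
      ≤ ∑ j : Fin 56, |y j * (cols.getD j.val []).getD i.val 0| := Finset.abs_sum_le_sum_abs _ _
    _ ≤ ∑ _j : Fin 56, c * 32 := by
        apply Finset.sum_le_sum
        intro j _
        rw [abs_mul]
        exact mul_le_mul (hy j) (h j.val i.val) (abs_nonneg _) hc
    _ = 1792 * c := by simp; ring

/-! ### the action on the vectors of the table -/

def actOK (m : MatD) (us : List ℤ) (e e' : ℕ) : Bool :=
  decide (scE e * sumCols m.ecs (entP e) (entN e) 0 =
    4 * (scE e' * sumCols us (entP e') (entN e') 0))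

theorem act_sound {m : MatD} {us : List ℤ} (hm : ecsOK m = true) (hr : EntBd m.cols)
    (hu : unitsOK us = true) {e e' : ℕ} (h : actOK m us e e' = true) :
    mulC m.cols (Vof e) = (4 : ℤ) • Vof e' := by
  apply evW_inj
  · intro i
    have := mulC_bound hr (Vof e) 4 (abs_Vof_le e) i
    linarith
  · intro i
    have := abs_Vof_le e' i
    show |(4 : ℤ) • Vof e' i| < 32768
    rw [smul_eq_mul, abs_mul]
    norm_num
    linarith
  · rw [map_zsmul, evW_mulC_Vof hm, evW_Vof hu, smul_eq_mul]
    simpa [actOK] using h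

end Cfsg.Agent.Helper2.RuL
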