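import Cfsg.Agent.Helper2.RuL.Ev

/-! Scaled matrices preserving a lattice, and scaling the norm (helper2). -/

set_option autoImplicit false

namespace Cfsg.Agent.Helper2.RuL

open Cfsg.Agent.Helper5.RuLat

/-! ### the lattice is mapped into four times the lattice -/

theorem evW_lc : ∀ (as : List ℤ) (rs : List W), evW (lc as rs) = dotL as (rs.map evW)
  | [], rs => by simp
  | a :: as, [] => by simp
  | a :: as, r :: rs => by
    rw [lc_cons, map_add, map_zsmul, evW_lc as rs, List.map_cons, dotL_cons, smul_eq_mul]

theorem abs_dotL_le (c : ℤ) (hc : 0 ≤ c) : ∀ (as bs : List ℤ), (∀ b ∈ bs, |b| ≤ c) →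
    |dotL as bs| ≤ (as.map fun a => |a|).sum * c
  | [], bs, _ => by simp
  | a :: as, [], _ => by
    simp only [dotL_nil_right, abs_zero]
    apply mul_nonneg _ hc
    apply List.sum_nonneg
    intro x hx
    obtain ⟨a', _, rfl⟩ := List.mem_map.mp hx
    exact abs_nonneg _
  | a :: as, b :: bs, h => by
    rw [dotL_cons, List.map_cons, List.sum_cons, add_mul]
    have h1 := abs_dotL_le c hc as bs (fun b' hb' => h b' (List.mem_cons_of_mem _ hb'))
    have h2 : |a * b| ≤ |a| * c := by
      rw [abs_mul]
      exact mul_le_mul_of_nonneg_left (h b (List.mem_cons_self ..)) (abs_nonneg _)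
    exact le_trans (abs_add_le _ _) (add_le_add h2 h1)

def rowsBd (rows : List (List ℤ)) : Bool :=
  rows.all fun r => decide (r.length = 56) && r.all fun x => decide (|x| ≤ 4)

def ersOK (rows : List (List ℤ)) (ers : List ℤ) : Bool := decide (ers = rows.map evB)

def rowCertOK (m : MatD) (ers r coef : List ℤ) : Bool :=
  decide (dotL r m.ecs = 4 * dotL coef ers) && decide ((coef.map fun a => |a|).sum * 16 < 32768)

theorem evW_mulC_ofL {m : MatD} (h : ecsOK m = true) (r : List ℤ) (hr : r.length = 56) :
    evW (mulC m.cols (ofL r)) = dotL r m.ecs := by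
  have hl : m.ecs.length = 56 := by
    simp only [ecsOK, Bool.and_eq_true, decide_eq_true_eq] at h
    exact h.1
  rw [evW_mulC, ← sum_getD_eq_dotL 56 r m.ecs hr hl]
  refine Finset.sum_congr rfl fun j _ => ?_
  rw [(ecsOK_col h j).2]
  rfl

theorem mulC_LW {m : MatD} {rows : List (List ℤ)} {ers : List ℤ} {certs : List (List ℤ)}
    (hm : ecsOK m = true) (hr : EntBd m.cols) (hrows : rowsBd rows = true)
    (he : ersOK rows ers = true)
    (hc : (List.range rows.length).all
      (fun k => rowCertOK m ers (rows.getD k []) (certs.getD k [])) = true) :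
    ∀ y ∈ LW rows, ∃ w ∈ LW rows, mulC m.cols y = (4 : ℤ) • w := by
  let S : AddSubgroup W :=
    { carrier := {y | ∃ w ∈ LW rows, mulC m.cols y = (4 : ℤ) • w}
      zero_mem' := ⟨0, (LW rows).zero_mem, by simp⟩
      add_mem' := by
        rintro y z ⟨w, hw, hy⟩ ⟨w', hw', hz⟩
        exact ⟨w + w', (LW rows).add_mem hw hw', by rw [map_add, hy, hz, smul_add]⟩
      neg_mem' := by
        rintro y ⟨w, hw, hy⟩
        exact ⟨-w, (LW rows).neg_mem hw, by rw [map_neg, hy, smul_neg]⟩ }
  have key : LW rows ≤ S := by
    rw [LW, AddSubgroup.closure_le]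
    rintro w ⟨r, hrm, rfl⟩
    obtain ⟨k, hk, rfl⟩ := mem_getD (d := []) hrm
    have h1 := (List.all_eq_true.mp hc) k (List.mem_range.mpr hk)
    simp only [rowCertOK, Bool.and_eq_true, decide_eq_true_eq] at h1
    have hrb := (List.all_eq_true.mp hrows) _ hrm
    simp only [Bool.and_eq_true, decide_eq_true_eq, List.all_eq_true] at hrb
    simp only [ersOK, decide_eq_true_eq] at he
    have hmem : ∀ r' ∈ rows.map ofL, r' ∈ LW rows := by
      intro r' hr'
      obtain ⟨l, hl, rfl⟩ := List.mem_map.mp hr'
      exact ofL_mem_LW hl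
    refine ⟨lc (certs.getD k []) (rows.map ofL), lc_mem _ _ _ hmem, ?_⟩
    apply evW_inj
    · intro i
      have := mulC_bound hr (ofL (rows.getD k [])) 4 (fun j => ?_) i
      · linarith
      · show |(rows.getD k []).getD j.val 0| ≤ 4
        by_cases hj : j.val < (rows.getD k []).length
        · rw [List.getD_eq_getElem _ _ hj]
          exact hrb.2 _ (List.getElem_mem hj)
        · rw [List.getD_eq_default _ _ (by omega)]; norm_num
    · intro i
      show |(4 : ℤ) • lc (certs.getD k []) (rows.map ofL) i| < 32768
      rw [lc_apply, smul_eq_mul, abs_mul]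
      have h2 := abs_dotL_le 4 (by norm_num) (certs.getD k [])
        (rows.map (fun r => r.getD i.val 0)) (by
          intro b hb
          obtain ⟨r', hr', rfl⟩ := List.mem_map.mp hb
          have hrb' := (List.all_eq_true.mp hrows) _ hr'
          simp only [Bool.and_eq_true, decide_eq_true_eq, List.all_eq_true] at hrb'
          by_cases hj : i.val < r'.length
          · rw [List.getD_eq_getElem _ _ hj]
            exact hrb'.2 _ (List.getElem_mem hj)
          · rw [List.getD_eq_default _ _ (by omega)]; norm_num)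
      have h3 := h1.2
      rw [show |(4 : ℤ)| = 4 by norm_num]
      linarith
    · rw [evW_mulC_ofL hm _ hrb.1, map_zsmul, evW_lc, smul_eq_mul, h1.1, he]
      congr 2
      rw [List.map_map]
      apply List.map_congr_left
      intro l hl
      have hl' := (List.all_eq_true.mp hrows) _ hl
      simp only [Bool.and_eq_true, decide_eq_true_eq] at hl'
      exact (evW_ofL l hl'.1).symm
  exact fun y hy => key hy

/-! ### the norm is multiplied by 16 -/

theorem dotL_comm : ∀ (as bs : List ℤ), dotL as bs = dotL bs as
  | [], bs => by simp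
  | a :: as, [] => by simp
  | a :: as, b :: bs => by rw [dotL_cons, dotL_cons, dotL_comm as bs, mul_comm]

def gramOK (cols : List (List ℤ)) : Bool :=
  (List.range 56).all fun j => decide ((cols.getD j []).length = 56) &&
    (List.range (j + 1)).all fun k =>
      decide (dotL (cols.getD j []) (cols.getD k []) = if j = k then 16 else 0)

theorem gram_entry {cols : List (List ℤ)} (h : gramOK cols = true) (j k : Fin 56) :
    ∑ i : Fin 56, (cols.getD j.val []).getD i.val 0 * (cols.getD k.val []).getD i.val 0 =
      if j = k then 16 else 0 := by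
  simp only [gramOK, List.all_eq_true, List.mem_range, Bool.and_eq_true, decide_eq_true_eq] at h
  rw [sum_getD_eq_dotL 56 _ _ (h j.val j.isLt).1 (h k.val k.isLt).1]
  rcases le_total k.val j.val with hkj | hjk
  · rw [(h j.val j.isLt).2 k.val (by omega)]
    simp only [Fin.ext_iff]
  · rw [dotL_comm, (h k.val k.isLt).2 j.val (by omega)]
    simp only [Fin.ext_iff, eq_comm]

theorem nrm_mulC {cols : List (List ℤ)} (h : gramOK cols = true) (y : W) :
    nrm (mulC cols y) = 16 * nrm y := by
  simp only [nrm, mulC_apply]
  have h1 : ∀ i : Fin 56,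
      (∑ j : Fin 56, y j * (cols.getD j.val []).getD i.val 0) *
        (∑ j : Fin 56, y j * (cols.getD j.val []).getD i.val 0) =
      ∑ j : Fin 56, ∑ k : Fin 56, (y j * y k) *
        ((cols.getD j.val []).getD i.val 0 * (cols.getD k.val []).getD i.val 0) := by
    intro i
    rw [Finset.sum_mul_sum]
    refine Finset.sum_congr rfl fun j _ => Finset.sum_congr rfl fun k _ => ?_
    ring
  simp only [h1]
  rw [Finset.sum_comm]
  have h2 : ∀ j : Fin 56, ∑ i : Fin 56, ∑ k : Fin 56, (y j * y k) *
        ((cols.getD j.val []).getD i.val 0 * (cols.getD k.val []).getD i.val 0) =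
      16 * (y j * y j) := by
    intro j
    rw [Finset.sum_comm]
    simp only [← Finset.mul_sum, gram_entry h]
    simp only [mul_ite, mul_zero, Finset.sum_ite_eq, Finset.mem_univ, if_true]
    ring
  simp only [h2, ← Finset.mul_sum]

/-- the Gram condition checked on the packed columns, one column at a time -/
def gramJ (cs : List ℕ) (j : ℕ) : Bool :=
  (List.range (j + 1)).all fun k =>
    frc (cs.getD j 0) fun a => frc (cs.getD k 0) fun b =>
      decide (dotD a b + 57344 = 32 * sumD a + 32 * sumD b + (if j = k then 16 else 0))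

theorem gramOK_of_J {cs : List ℕ} (hl : cs.length = 56) (h : ∀ j, j < 56 → gramJ cs j = true) :
    gramOK (decMat cs) = true := by
  simp only [gramOK, List.all_eq_true, List.mem_range, Bool.and_eq_true, decide_eq_true_eq]
  intro j hj
  rw [getD_decMat cs j (by omega)]
  refine ⟨length_decRow _, ?_⟩
  intro k hk
  rw [getD_decMat cs k (by omega), dotL_decRow]
  have h1 := h j hj
  simp only [gramJ, List.all_eq_true, List.mem_range, frc_eq, decide_eq_true_eq] at h1
  have h1 := h1 k hk
  have h2 : ((dotD (cs.getD j 0) (cs.getD k 0) + 57344 : ℕ) : ℤ) =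
      ((32 * sumD (cs.getD j 0) + 32 * sumD (cs.getD k 0) + (if j = k then 16 else 0) : ℕ) : ℤ) := by
    rw [h1]
  push_cast at h2
  split_ifs at h2 ⊢ <;> linarith

end Cfsg.Agent.Helper2.RuL
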