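import Cfsg.Agent.Helper2.RuL.Scan2

/-! The vectors of the master table are pairwise distinct (helper2). -/

set_option autoImplicit false

namespace Cfsg.Agent.Helper2.RuL

open Cfsg.Agent.Helper5.RuLat

/-! ### the entries are pairwise distinct: a sorting permutation -/

/-- the entries at the positions `srt s, srt (s+1), …` are increasing and larger than `prev` -/
def srtGo (ent : ℕ → ℕ) (n srt : ℕ) : ℕ → ℕ → ℕ → Bool
  | 0, _, _ => true
  | f + 1, s, prev =>
    frc (fld14 srt s) fun k => Nat.blt k n && frc (ent k) fun e =>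
      Nat.blt prev e && frc (s + 1) fun s' => srtGo ent n srt f s' e

theorem srtGo_sound (ent : ℕ → ℕ) (n srt : ℕ) : ∀ (f s prev : ℕ),
    srtGo ent n srt f s prev = true → ∀ t, s ≤ t → t < s + f →
      fld14 srt t < n ∧ prev < ent (fld14 srt t) ∧
        ∀ t', t < t' → t' < s + f → ent (fld14 srt t) < ent (fld14 srt t')
  | 0, s, prev, _, t, h1, h2 => by omega
  | f + 1, s, prev, h, t, h1, h2 => by
    rw [srtGo, frc_eq, Bool.and_eq_true, frc_eq, Bool.and_eq_true, frc_eq] at h
    obtain ⟨h3, h4, h5⟩ := h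
    have h3' : fld14 srt s < n := by simpa [Nat.blt_eq] using h3
    have h4' : prev < ent (fld14 srt s) := by simpa [Nat.blt_eq] using h4
    have ih := srtGo_sound ent n srt f (s + 1) (ent (fld14 srt s)) h5
    rcases Nat.eq_or_lt_of_le h1 with rfl | h6
    · refine ⟨h3', h4', ?_⟩
      intro t' ht1 ht2
      exact (ih t' (by omega) (by omega)).2.1
    · obtain ⟨i1, i2, i3⟩ := ih t (by omega) (by omega)
      refine ⟨i1, lt_trans h4' i2, ?_⟩
      intro t' ht1 ht2
      exact i3 t' ht1 (by omega)

theorem ent_inj_of_sorted {ent : ℕ → ℕ} {n srt : ℕ} (h : srtGo ent n srt n 0 0 = true) :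
    ∀ a b, a < n → b < n → ent a = ent b → a = b := by
  have hs := srtGo_sound ent n srt n 0 0 h
  -- the sorting map is a bijection of `Fin n`
  let π : Fin n → Fin n := fun s => ⟨fld14 srt s.val, (hs s.val (Nat.zero_le _) (by simpa using s.isLt)).1⟩
  have hmono : ∀ s t : Fin n, s < t → ent (π s).val < ent (π t).val := by
    intro s t hst
    exact (hs s.val (Nat.zero_le _) (by simpa using s.isLt)).2.2 t.val hst (by simpa using t.isLt)
  have hinj : Function.Injective π := by
    intro s t hst
    by_contra hne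
    rcases lt_or_gt_of_ne hne with h1 | h1
    · have := hmono s t h1; rw [hst] at this; exact lt_irrefl _ this
    · have := hmono t s h1; rw [hst] at this; exact lt_irrefl _ this
  have hsurj : Function.Surjective π := Finite.injective_iff_surjective.mp hinj
  intro a b ha hb hab
  obtain ⟨s, hs1⟩ := hsurj ⟨a, ha⟩
  obtain ⟨t, ht1⟩ := hsurj ⟨b, hb⟩
  have ha' : (π s).val = a := congrArg Fin.val hs1
  have hb' : (π t).val = b := congrArg Fin.val ht1
  have hst : s = t := by
    by_contra hne
    rcases lt_or_gt_of_ne hne with h1 | h1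
    · have := hmono s t h1; rw [ha', hb', hab] at this; exact lt_irrefl _ this
    · have := hmono t s h1; rw [ha', hb', hab] at this; exact lt_irrefl _ this
  rw [← ha', ← hb', hst]

/-! ### the vector determines the entry -/

/-- an entry is well formed -/
def wfE (e : ℕ) : Bool :=
  decide (entP e &&& entN e = 0) && decide (entP e ||| entN e ≠ 0) && decide (entB e ≤ 1)

theorem ent_decomp (e : ℕ) : e = entP e + 2 ^ 56 * entN e + 2 ^ 112 * entB e := by
  unfold entP entN entB
  have h1 := Nat.div_add_mod e (2 ^ 56)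
  have h2 := Nat.div_add_mod (e / 2 ^ 56) (2 ^ 56)
  have h3 : e / 2 ^ 56 / 2 ^ 56 = e / 2 ^ 112 := by
    rw [Nat.div_div_eq_div_mul]; norm_num
  rw [h3] at h2
  omega

theorem entP_lt (e : ℕ) : entP e < 2 ^ 56 := Nat.mod_lt _ (by norm_num)
theorem entN_lt (e : ℕ) : entN e < 2 ^ 56 := Nat.mod_lt _ (by norm_num)

theorem Vof_inj {e e' : ℕ} (hw : wfE e = true) (hw' : wfE e' = true) (h : Vof e = Vof e') :
    e = e' := by
  simp only [wfE, Bool.and_eq_true, decide_eq_true_eq] at hw hw'
  obtain ⟨⟨hw1, hw2⟩, hw3⟩ := hw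
  obtain ⟨⟨hw1', _⟩, hw3'⟩ := hw'
  have hM : (2 ^ 56 - 1 : ℕ) < 2 ^ 56 := by norm_num
  have hm := mask_eq_of_coord (M := 2 ^ 56 - 1) hM hw1 hw1' (fun j _ => congrFun h j)
  have hand : ∀ x, x < 2 ^ 56 → x &&& (2 ^ 56 - 1) = x := by
    intro x hx
    rw [Nat.and_two_pow_sub_one_eq_mod, Nat.mod_eq_of_lt hx]
  rw [hand _ (entP_lt e), hand _ (entP_lt e'), hand _ (entN_lt e), hand _ (entN_lt e')] at hm
  -- the scale
  have hB : entB e = entB e' := by
    -- a non zero coordinate
    have hne : ∃ j, j < 56 ∧ ((entP e).testBit j = true ∨ (entN e).testBit j = true) := by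
      by_contra hc
      push Not at hc
      apply hw2
      apply Nat.eq_of_testBit_eq
      intro j
      rw [Nat.testBit_or, Nat.zero_testBit]
      by_cases hj : j < 56
      · have := hc j hj
        simp only [not_or, Bool.not_eq_true] at this
        rw [this.1, this.2]; rfl
      · rw [not_lt] at hj
        have h1 : (entP e).testBit j = false :=
          Nat.testBit_lt_two_pow (lt_of_lt_of_le (entP_lt e) (Nat.pow_le_pow_right (by norm_num) hj))
        have h2 : (entN e).testBit j = false :=
          Nat.testBit_lt_two_pow (lt_of_lt_of_le (entN_lt e) (Nat.pow_le_pow_right (by norm_num) hj))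
        rw [h1, h2]; rfl
    obtain ⟨j, hj, hbit⟩ := hne
    have h1 := congrFun h ⟨j, hj⟩
    rw [Vof_apply, Vof_apply, ← hm.1, ← hm.2] at h1
    have h2 : sgnAt (entP e) (entN e) j ≠ 0 := by
      unfold sgnAt
      rcases hbit with hb | hb
      · rw [if_pos hb]; norm_num
      · by_cases hp : (entP e).testBit j = true
        · rw [if_pos hp]; norm_num
        · rw [if_neg hp, if_pos hb]; norm_num
    have h3 : scE e = scE e' := mul_right_cancel₀ h2 h1
    unfold scE at h3
    by_cases hb0 : entB e = 0 <;> by_cases hb0' : entB e' = 0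
    · rw [hb0, hb0']
    · rw [if_pos hb0, if_neg hb0'] at h3; norm_num at h3
    · rw [if_neg hb0, if_pos hb0'] at h3; norm_num at h3
    · omega
  rw [ent_decomp e, ent_decomp e', hm.1, hm.2, hB]

end Cfsg.Agent.Helper2.RuL
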