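import Cfsg.Agent.Helper2.RuL.Act
import Cfsg.Agent.Helper2.RuL.IOp

/-! All the vectors of the master table are in the lattice and have norm 16: a spanning tree of the
lines under the five letters (helper2). -/

set_option autoImplicit false

namespace Cfsg.Agent.Helper2.RuL

open Cfsg.Agent.Helper5.RuLat

/-- the field number `i` (32 bits) of a packed list -/
def fld32 (c i : ℕ) : ℕ := (c >>> (32 * i)) % 4294967296

/-- walk along the edges `(p', x, p)` of the tree: `p'` is reached, the letter `x` maps the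
representative of the line `p'` into the line `p` -/
def reach (xtOf : ℕ → ℕ) (n edges : ℕ) : ℕ → ℕ → ℕ → ℕ
  | 0, _, r => r
  | f + 1, i, r =>
    frc (fld32 edges i) fun c => frc (c % 4096) fun p => frc ((c / 4096) % 8) fun x =>
      frc (c / 65536) fun p' => frc (fld14 (xtOf x) p') fun k =>
        if r.testBit p' = true ∧ x < 5 ∧ 4 * p' < n ∧ k < n ∧ k / 4 = p then
          frc (r ||| (1 <<< p)) fun r' => frc (i + 1) fun i' => reach xtOf n edges f i' r'
        else 0

theorem reach_sound (xtOf : ℕ → ℕ) (n edges : ℕ) (good : ℕ → Prop)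
    (hstep : ∀ x p', x < 5 → 4 * p' < n → good p' → fld14 (xtOf x) p' < n →
      good (fld14 (xtOf x) p' / 4)) :
    ∀ (f i r : ℕ), (∀ q, r.testBit q = true → good q) →
      ∀ q, (reach xtOf n edges f i r).testBit q = true → good q
  | 0, _, r, hr, q, hq => hr q hq
  | f + 1, i, r, hr, q, hq => by
    rw [reach] at hq
    simp only [frc_eq] at hq
    split_ifs at hq with hc
    · refine reach_sound xtOf n edges good hstep f (i + 1) _ ?_ q hq
      intro q' hq'
      rw [Nat.testBit_or] at hq'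
      rcases Bool.or_eq_true _ _ ▸ hq' with h1 | h1
      · exact hr q' h1
      · rw [Nat.one_shiftLeft, Nat.testBit_two_pow, decide_eq_true_eq] at h1
        rw [← h1, ← hc.2.2.2.2]
        exact hstep _ _ hc.2.1 hc.2.2.1 (hr _ hc.1) hc.2.2.2.1
    · simp at hq

/-- the vectors of the line `p` are in the lattice, with norm 16 -/
def GoodL (rows : List (List ℤ)) (n p : ℕ) : Prop :=
  ∀ k, k / 4 = p → k < n → mv k ∈ LW rows ∧ nrm (mv k) = 16

def permIF (i : Fin 56) : Fin 56 := ⟨permI.getD i.val 0 % 56, Nat.mod_lt _ (by norm_num)⟩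

theorem permIF_invol : ∀ i : Fin 56, permIF (permIF i) = i := by decide

theorem nrm_opI (y : W) : nrm (opW permI sgnI y) = nrm y := by
  let π : Equiv.Perm (Fin 56) := Function.Involutive.toPerm permIF permIF_invol
  unfold nrm
  have h1 : ∀ i : Fin 56, opW permI sgnI y i * opW permI sgnI y i = y (π i) * y (π i) := by
    intro i
    rw [opW_apply]
    have h2 := (permI_sgnI i).2
    have h3 : sgnI.getD i.val 0 * sgnI.getD i.val 0 = 1 := by
      rw [h2]; split_ifs <;> norm_num
    calc sgnI.getD i.val 0 * y ⟨permI.getD i.val 0 % 56, _⟩ *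
          (sgnI.getD i.val 0 * y ⟨permI.getD i.val 0 % 56, _⟩)
        = (sgnI.getD i.val 0 * sgnI.getD i.val 0) *
          (y ⟨permI.getD i.val 0 % 56, Nat.mod_lt _ (by norm_num)⟩ *
            y ⟨permI.getD i.val 0 % 56, Nat.mod_lt _ (by norm_num)⟩) := by ring
      _ = y (π i) * y (π i) := by rw [h3, one_mul]; rfl
  simp only [h1]
  exact Equiv.sum_comp π (fun i => y i * y i)

theorem nrm_smul4 (y : W) : nrm ((4 : ℤ) • y) = 16 * nrm y := by
  unfold nrm
  rw [Finset.mul_sum]
  refine Finset.sum_congr rfl fun i _ => ?_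
  show (4 : ℤ) • y i * ((4 : ℤ) • y i) = _
  rw [smul_eq_mul]; ring

theorem smul4_inj {y z : W} (h : (4 : ℤ) • y = (4 : ℤ) • z) : y = z := by
  funext i
  have := congrFun h i
  simp only [Pi.smul_apply, smul_eq_mul] at this
  linarith

/-- a line is good as soon as one of its vectors is -/
theorem goodL_of_rep {rows : List (List ℤ)} {n : ℕ} (hn : ∀ k, k < n → inx k < n)
    (hinx : ∀ k, k < n → mv (inx k) = opW permI sgnI (mv k))
    (hcl : ∀ y ∈ LW rows, opW permI sgnI y ∈ LW rows) {k0 : ℕ} (hk : k0 < n)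
    (hk0 : mv k0 ∈ LW rows ∧ nrm (mv k0) = 16) : GoodL rows n (k0 / 4) := by
  have hnext : ∀ k, k < n → (mv k ∈ LW rows ∧ nrm (mv k) = 16) →
      (mv (inx k) ∈ LW rows ∧ nrm (mv (inx k)) = 16) := by
    intro k hk' ⟨ha, hb⟩
    rw [hinx k hk']
    exact ⟨hcl _ ha, by rw [nrm_opI, hb]⟩
  have hk1 := hnext _ hk hk0
  have hk2 := hnext _ (hn _ hk) hk1
  have hk3 := hnext _ (hn _ (hn _ hk)) hk2
  intro k hkp hkn
  have hcases : k = k0 ∨ k = inx k0 ∨ k = inx (inx k0) ∨ k = inx (inx (inx k0)) := by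
    unfold inx; omega
  rcases hcases with rfl | rfl | rfl | rfl
  · exact hk0
  · exact hk1
  · exact hk2
  · exact hk3

/-- the step of the tree, from the action of a scaled matrix on the representatives -/
theorem goodL_step {rows : List (List ℤ)} {n : ℕ} (hn : ∀ k, k < n → inx k < n)
    (hinx : ∀ k, k < n → mv (inx k) = opW permI sgnI (mv k))
    (hcl : ∀ y ∈ LW rows, opW permI sgnI y ∈ LW rows)
    {m : MatD} (hLW : ∀ y ∈ LW rows, ∃ w ∈ LW rows, mulC m.cols y = (4 : ℤ) • w)
    (hg : gramOK m.cols = true) {xt p' : ℕ} (h4 : 4 * p' < n)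
    (hact : mulC m.cols (mv (4 * p')) = (4 : ℤ) • mv (fld14 xt p'))
    (hk : fld14 xt p' < n) (hgood : GoodL rows n p') : GoodL rows n (fld14 xt p' / 4) := by
  obtain ⟨h1, h2⟩ := hgood (4 * p') (by omega) h4
  obtain ⟨w, hw, hw2⟩ := hLW _ h1
  have h3 : mv (fld14 xt p') = w := smul4_inj (by rw [← hact, hw2])
  have h5 : nrm (mv (fld14 xt p')) = 16 := by
    have := nrm_mulC hg (mv (4 * p'))
    rw [hact, nrm_smul4, h2] at this
    linarith
  exact goodL_of_rep hn hinx hcl hk ⟨h3 ▸ hw, h5⟩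

end Cfsg.Agent.Helper2.RuL
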