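import Cfsg.Agent.Helper2.RuL.Trav

/-! Scans of the master table: vectors with prescribed inner products (helper2). -/

set_option autoImplicit false

namespace Cfsg.Agent.Helper2.RuL

open Cfsg.Agent.Helper5.RuLat

/-! ### sparse inner products -/

/-- `acc + Σ ± c` over the pairs `(j, c)`, the sign given by the bits number `j` of `P`, `N` -/
def ipS (P N : ℕ) : List (ℕ × ℤ) → ℤ → ℤ
  | [], acc => acc
  | (j, c) :: sp, acc =>
    frcZ (if P.testBit j = true then acc + c else if N.testBit j = true then acc - c else acc)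
      fun acc' => ipS P N sp acc'

theorem ipS_eq (P N : ℕ) : ∀ (sp : List (ℕ × ℤ)) (acc : ℤ),
    ipS P N sp acc = acc + (sp.map fun jc => sgnAt P N jc.1 * jc.2).sum
  | [], acc => by simp [ipS]
  | (j, c) :: sp, acc => by
    rw [ipS, frcZ_eq, ipS_eq P N sp, List.map_cons, List.sum_cons]
    unfold sgnAt
    split_ifs <;> ring

/-- the sparse form of the vector of an entry -/
def toSp (e : ℕ) : List (ℕ × ℤ) :=
  (List.range 56).filterMap fun j =>
    if scE e * sgnAt (entP e) (entN e) j = 0 then none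
    else some (j, scE e * sgnAt (entP e) (entN e) j)

theorem sum_filterMap (g y' : ℕ → ℤ) : ∀ l : List ℕ,
    (l.map fun j => g j * y' j).sum =
      ((l.filterMap fun j => if g j = 0 then none else some (j, g j)).map
        fun jc => jc.2 * y' jc.1).sum
  | [] => by simp
  | j :: l => by
    rw [List.map_cons, List.sum_cons, sum_filterMap g y' l, List.filterMap_cons]
    by_cases h : g j = 0
    · simp [h]
    · simp [h]

theorem mem_toSp {e : ℕ} {jc : ℕ × ℤ} (h : jc ∈ toSp e) : jc.1 < 56 := by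
  unfold toSp at h
  obtain ⟨j, hj, h2⟩ := List.mem_filterMap.mp h
  split_ifs at h2
  simp only [Option.some.injEq] at h2
  rw [← h2]
  exact List.mem_range.mp hj

theorem ip_Vof_Vof (e e' : ℕ) :
    ip (Vof e) (Vof e') = scE e' * ipS (entP e') (entN e') (toSp e) 0 := by
  have h1 : ip (Vof e) (Vof e') = ∑ i : Fin 56,
      (fun j => (scE e * sgnAt (entP e) (entN e) j) *
        (scE e' * sgnAt (entP e') (entN e') j)) i.val := by
    unfold ip
    refine Finset.sum_congr rfl fun i _ => ?_
    rw [Vof_apply, Vof_apply]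
  rw [h1, sum_fin_eq_list (fun j => (scE e * sgnAt (entP e) (entN e) j) *
        (scE e' * sgnAt (entP e') (entN e') j)),
    sum_filterMap (fun j => scE e * sgnAt (entP e) (entN e) j)
      (fun j => scE e' * sgnAt (entP e') (entN e') j), ipS_eq, zero_add, ← List.sum_map_mul_left]
  unfold toSp
  apply congrArg
  apply List.map_congr_left
  intro jc _
  ring

/-! ### conditions -/

def condsOK (P N : ℕ) (s : ℤ) : List (List (ℕ × ℤ) × ℤ) → Bool
  | [] => true
  | (sp, c) :: cs => decide (s * ipS P N sp 0 = c) && condsOK P N s cs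

theorem condsOK_iff (P N : ℕ) (s : ℤ) : ∀ cs : List (List (ℕ × ℤ) × ℤ),
    condsOK P N s cs = true ↔ ∀ c ∈ cs, s * ipS P N c.1 0 = c.2
  | [] => by simp [condsOK]
  | (sp, c) :: cs => by
    rw [condsOK, Bool.and_eq_true, decide_eq_true_eq, condsOK_iff P N s cs]
    simp

/-- the conditions `(u, sp, c)`: `sp` is the sparse form of the vector number `u`, and `c` the
inner product with the vector of the entry `ex` -/
def condValid (ent : ℕ → ℕ) (n ex : ℕ) (c : ℕ × List (ℕ × ℤ) × ℤ) : Bool :=
  decide (c.1 < n) && decide (c.2.1 = toSp (ent c.1)) &&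
    decide (scE ex * ipS (entP ex) (entN ex) c.2.1 0 = c.2.2)

theorem condValid_ip {ent : ℕ → ℕ} {n ex : ℕ} {c : ℕ × List (ℕ × ℤ) × ℤ}
    (h : condValid ent n ex c = true) :
    c.1 < n ∧ ip (Vof (ent c.1)) (Vof ex) = c.2.2 ∧
      ∀ e', ip (Vof (ent c.1)) (Vof e') = scE e' * ipS (entP e') (entN e') c.2.1 0 := by
  simp only [condValid, Bool.and_eq_true, decide_eq_true_eq] at h
  obtain ⟨⟨h1, h2⟩, h3⟩ := h
  refine ⟨h1, ?_, ?_⟩
  · rw [ip_Vof_Vof, ← h2, h3]
  · intro e'
    rw [ip_Vof_Vof, ← h2]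

/-! ### equality of coordinates on a mask -/

theorem and_zero_testBit' {P N : ℕ} (h : P &&& N = 0) (j : ℕ) :
    ¬ (P.testBit j = true ∧ N.testBit j = true) := by
  intro ⟨h1, h2⟩
  have : (P &&& N).testBit j = true := by rw [Nat.testBit_and, h1, h2]; rfl
  rw [h] at this
  simp at this

theorem sgnAt_eq_iff {P N P' N' j : ℕ} (h : ¬ (P.testBit j = true ∧ N.testBit j = true))
    (h' : ¬ (P'.testBit j = true ∧ N'.testBit j = true)) :
    sgnAt P N j = sgnAt P' N' j ↔ (P.testBit j = P'.testBit j ∧ N.testBit j = N'.testBit j) := by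
  unfold sgnAt
  cases h1 : P.testBit j <;> cases h2 : N.testBit j <;> cases h3 : P'.testBit j <;>
    cases h4 : N'.testBit j <;> simp_all

theorem scE_pos (e : ℕ) : 0 < scE e := by unfold scE; split_ifs <;> norm_num

theorem sgn_of_coord_eq {s s' a a' : ℤ} (hs : 0 < s) (hs' : 0 < s') (ha : |a| ≤ 1) (ha' : |a'| ≤ 1)
    (h : s * a = s' * a') : a = a' := by
  rw [abs_le] at ha ha'
  have h1 : a = -1 ∨ a = 0 ∨ a = 1 := by omega
  have h2 : a' = -1 ∨ a' = 0 ∨ a' = 1 := by omega
  rcases h1 with rfl | rfl | rfl <;> rcases h2 with rfl | rfl | rfl <;> first | rfl | (exfalso; nlinarith)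

theorem mask_eq_of_coord {e e' M : ℕ} (hM : M < 2 ^ 56)
    (hw : entP e &&& entN e = 0) (hw' : entP e' &&& entN e' = 0)
    (h : ∀ j : Fin 56, M.testBit j.val = true → Vof e j = Vof e' j) :
    entP e &&& M = entP e' &&& M ∧ entN e &&& M = entN e' &&& M := by
  have key : ∀ j : ℕ, M.testBit j = true →
      (entP e).testBit j = (entP e').testBit j ∧ (entN e).testBit j = (entN e').testBit j := by
    intro j hj
    have hj56 : j < 56 := by
      by_contra hc
      rw [not_lt] at hc
      have : M.testBit j = false :=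
        Nat.testBit_lt_two_pow (lt_of_lt_of_le hM (Nat.pow_le_pow_right (by norm_num) hc))
      rw [this] at hj
      exact absurd hj (by simp)
    have h1 := h ⟨j, hj56⟩ hj
    rw [Vof_apply, Vof_apply] at h1
    have h2 := sgn_of_coord_eq (scE_pos e) (scE_pos e') (abs_sgnAt_le _ _ _) (abs_sgnAt_le _ _ _) h1
    exact (sgnAt_eq_iff (and_zero_testBit' hw j) (and_zero_testBit' hw' j)).mp h2
  constructor
  · apply Nat.eq_of_testBit_eq
    intro j
    rw [Nat.testBit_and, Nat.testBit_and]
    cases hj : M.testBit j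
    · simp
    · rw [(key j hj).1]
  · apply Nat.eq_of_testBit_eq
    intro j
    rw [Nat.testBit_and, Nat.testBit_and]
    cases hj : M.testBit j
    · simp
    · rw [(key j hj).2]

end Cfsg.Agent.Helper2.RuL
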