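import Cfsg.Agent.Helper2.RuL.Scan
import Cfsg.Agent.Helper2.RuL.Act

/-! Scans of the master table: soundness (helper2). -/

set_option autoImplicit false

namespace Cfsg.Agent.Helper2.RuL

open Cfsg.Agent.Helper5.RuLat

/-- the number of vectors of the master table -/
def N0 : ℕ := 16240

/-- the inner products of the vectors of the table -/
def ipT (a b : ℕ) : ℤ := ip (mv a) (mv b)

/-- the entries of the table are well formed -/
def WfT : Prop := ∀ k, k < N0 → entP (ent k) &&& entN (ent k) = 0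

theorem ent_eq_get (k : ℕ) : ent k = tabTop.get 14 k := rfl

/-- the data of a scan: the target `x`, a mask `M` of coordinates, the masks of the target on `M`,
and conditions `(u, sparse form of the vector u, inner product with the target)` -/
structure ScanD where
  x : ℕ
  M : ℕ
  PxM : ℕ
  NxM : ℕ
  cs : List (ℕ × List (ℕ × ℤ) × ℤ)

def ScanD.valid (d : ScanD) : Bool :=
  decide (d.x < N0) && decide (d.M < 2 ^ 56) && decide (entP (ent d.x) &&& d.M = d.PxM) &&
    decide (entN (ent d.x) &&& d.M = d.NxM) && d.cs.all (condValid ent N0 (ent d.x))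

/-- the vector number `k` looks like the target -/
def ScanD.Like (d : ScanD) (k : ℕ) : Prop :=
  (∀ j : Fin 56, d.M.testBit j.val = true → mv k j = mv d.x j) ∧
    ∀ c ∈ d.cs, ipT c.1 k = ipT c.1 d.x

/-- the test of the scans, on the masks of an entry -/
def likeB (M PxM NxM : ℕ) (cs : List (List (ℕ × ℤ) × ℤ)) (e : ℕ) : Bool :=
  frc (entP e) fun P => frc (entN e) fun N =>
    Nat.beq (P &&& M) PxM && Nat.beq (N &&& M) NxM && condsOK P N (scE e) cs

theorem likeB_of_like (hwf : WfT) {d : ScanD} (hv : d.valid = true) {k : ℕ} (hk : k < N0)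
    (h : d.Like k) : likeB d.M d.PxM d.NxM (d.cs.map (·.2)) (ent k) = true := by
  simp only [ScanD.valid, Bool.and_eq_true, decide_eq_true_eq, List.all_eq_true] at hv
  obtain ⟨⟨⟨⟨hx, hM⟩, hP⟩, hN⟩, hc⟩ := hv
  obtain ⟨h1, h2⟩ := mask_eq_of_coord hM (hwf k hk) (hwf d.x hx) h.1
  simp only [likeB, frc_eq, Bool.and_eq_true]
  refine ⟨⟨by rw [h1, hP]; exact Nat.beq_refl _, by rw [h2, hN]; exact Nat.beq_refl _⟩, ?_⟩
  rw [condsOK_iff]
  intro c hc'
  obtain ⟨c0, hc0, rfl⟩ := List.mem_map.mp hc'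
  obtain ⟨_, h3, h4⟩ := condValid_ip (hc c0 hc0)
  have h5 := h.2 c0 hc0
  unfold ipT mv at h5
  rw [← h4, h5, h3]

/-- the predicate of the scans for a unique vector -/
def scanP (n x M PxM NxM : ℕ) (cs : List (List (ℕ × ℤ) × ℤ)) (k e : ℕ) : Bool :=
  Nat.ble n k || Nat.beq k x || !likeB M PxM NxM cs e

def ScanD.ok (d : ScanD) : Bool :=
  d.valid && tabTop.allI (scanP N0 d.x d.M d.PxM d.NxM (d.cs.map (·.2))) 14 0

theorem ScanD.sound (hwf : WfT) {d : ScanD} (h : d.ok = true) :
    ∀ k, k < N0 → d.Like k → k = d.x := by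
  intro k hk hl
  rw [ScanD.ok, Bool.and_eq_true] at h
  have h1 := NT.allI_sound _ tabTop 14 0 h.2 k (lt_trans hk (by norm_num [N0]))
  rw [Nat.zero_add, ← ent_eq_get] at h1
  simp only [scanP, Bool.or_eq_true, Nat.ble_eq, Bool.not_eq_true'] at h1
  rcases h1 with (h1 | h1) | h1
  · omega
  · exact Nat.eq_of_beq_eq_true h1
  · rw [likeB_of_like hwf h.1 hk hl] at h1
    exact absurd h1 (by simp)

/-- the predicate of the scans counting the vectors which look like the target -/
def cntP (n M PxM NxM : ℕ) (cs : List (List (ℕ × ℤ) × ℤ)) (k e : ℕ) : Bool :=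
  Nat.blt k n && likeB M PxM NxM cs e

def ScanD.cnt (d : ScanD) : ℕ :=
  tabTop.cntI (cntP N0 d.M d.PxM d.NxM (d.cs.map (·.2))) 14 0

open Classical in
/-- the vectors which look like the target -/
noncomputable def ScanD.cand (d : ScanD) : Finset ℕ := (Finset.range N0).filter d.Like

open Classical in
theorem ScanD.card_cand_le (hwf : WfT) {d : ScanD} (hv : d.valid = true) :
    d.cand.card ≤ d.cnt := by
  refine le_trans (Finset.card_le_card ?_) (NT.cntI_sound _ tabTop 14 0)
  intro k hk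
  rw [ScanD.cand, Finset.mem_filter, Finset.mem_range] at hk
  rw [Finset.mem_filter, Finset.mem_range]
  refine ⟨lt_trans hk.1 (by norm_num [N0]), ?_⟩
  rw [Nat.zero_add, ← ent_eq_get, cntP, Bool.and_eq_true]
  exact ⟨by simpa [Nat.blt_eq] using hk.1, likeB_of_like hwf hv hk.1 hk.2⟩

end Cfsg.Agent.Helper2.RuL
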