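import Cfsg.Agent.Helper2.RuL.Scan2

/-! The data of the scans of the master table: the levels of the stabiliser chain and the steps
proving that the last stabiliser is trivial (helper2; generated). -/

set_option autoImplicit false

namespace Cfsg.Agent.Helper2.RuL

def lev1 : ScanD := ⟨0, 0x0, 0x0, 0x0, []⟩

def lev2 : ScanD := ⟨84, 0x3, 0x0, 0x0, []⟩

def lev3 : ScanD := ⟨5, 0xf, 0x9, 0x0, []⟩

def lev4 : ScanD := ⟨32, 0xf, 0x5, 0x0, [(5, [(0, 1), (3, 1), (5, 1), (7, 1), (25, 1), (27, 1), (28, (-1)), (31, (-1)), (41, 1), (42, (-1)), (45, (-1)), (47, 1), (49, 1), (51, (-1)), (53, 1), (54, (-1))], 0), (6, [(1, 1), (2, (-1)), (4, (-1)), (6, (-1)), (24, (-1)), (26, (-1)), (29, (-1)), (30, 1), (40, (-1)), (43, (-1)), (44, 1), (46, (-1)), (48, (-1)), (50, 1), (52, (-1)), (55, (-1))], 4)]⟩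

def lev5 : ScanD := ⟨1388, 0xf, 0x8, 0x2, [(32, [(0, 1), (2, 1), (4, (-1)), (6, (-1)), (10, 1), (13, 1), (21, 1), (22, 1), (24, (-1)), (27, (-1)), (33, (-1)), (37, (-1)), (43, (-1)), (45, (-1)), (49, (-1)), (52, (-1))], 0), (33, [(1, 1), (3, 1), (5, (-1)), (7, (-1)), (11, 1), (12, (-1)), (20, (-1)), (23, 1), (25, (-1)), (26, 1), (32, 1), (36, 1), (42, 1), (44, 1), (48, 1), (53, (-1))], 4), (5, [(0, 1), (3, 1), (5, 1), (7, 1), (25, 1), (27, 1), (28, (-1)), (31, (-1)), (41, 1), (42, (-1)), (45, (-1)), (47, 1), (49, 1), (51, (-1)), (53, 1), (54, (-1))], (-4)), (6, [(1, 1), (2, (-1)), (4, (-1)), (6, (-1)), (24, (-1)), (26, (-1)), (29, (-1)), (30, 1), (40, (-1)), (43, (-1)), (44, 1), (46, (-1)), (48, (-1)), (50, 1), (52, (-1)), (55, (-1))], 0)]⟩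

def stp1 : ScanD := ⟨3468, 0xf, 0x0, 0x5, [(1388, [(1, (-1)), (3, 1), (12, (-1)), (14, 1), (17, 1), (21, (-1)), (25, (-1)), (30, 1), (32, 1), (37, (-1)), (41, (-1)), (42, 1), (45, 1), (46, 1), (49, (-1)), (55, (-1))], 4), (5, [(0, 1), (3, 1), (5, 1), (7, 1), (25, 1), (27, 1), (28, (-1)), (31, (-1)), (41, 1), (42, (-1)), (45, (-1)), (47, 1), (49, 1), (51, (-1)), (53, 1), (54, (-1))], 0), (6, [(1, 1), (2, (-1)), (4, (-1)), (6, (-1)), (24, (-1)), (26, (-1)), (29, (-1)), (30, 1), (40, (-1)), (43, (-1)), (44, 1), (46, (-1)), (48, (-1)), (50, 1), (52, (-1)), (55, (-1))], 0), (32, [(0, 1), (2, 1), (4, (-1)), (6, (-1)), (10, 1), (13, 1), (21, 1), (22, 1), (24, (-1)), (27, (-1)), (33, (-1)), (37, (-1)), (43, (-1)), (45, (-1)), (49, (-1)), (52, (-1))], 0), (33, [(1, 1), (3, 1), (5, (-1)), (7, (-1)), (11, 1), (12, (-1)), (20, (-1)), (23, 1), (25, (-1)), (26, 1), (32, 1), (36,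 1), (42, 1), (44, 1), (48, 1), (53, (-1))], 0)]⟩

def stp2 : ScanD := ⟨5336, 0xf, 0x1, 0x8, [(5, [(0, 1), (3, 1), (5, 1), (7, 1), (25, 1), (27, 1), (28, (-1)), (31, (-1)), (41, 1), (42, (-1)), (45, (-1)), (47, 1), (49, 1), (51, (-1)), (53, 1), (54, (-1))], (-4)), (1389, [(0, 1), (2, (-1)), (13, (-1)), (15, 1), (16, (-1)), (20, 1), (24, 1), (31, 1), (33, 1), (36, 1), (40, 1), (43, 1), (44, (-1)), (47, 1), (48, 1), (54, 1)], 0), (32, [(0, 1), (2, 1), (4, (-1)), (6, (-1)), (10, 1), (13, 1), (21, 1), (22, 1), (24, (-1)), (27, (-1)), (33, (-1)), (37, (-1)), (43, (-1)), (45, (-1)), (49, (-1)), (52, (-1))], 0), (3468, [(0, (-1)), (2, (-1)), (13, (-1)), (15, 1), (18, 1), (23, 1), (24, (-1)), (31, (-1)), (32, 1), (37, (-1)), (41, (-1)), (43, (-1)), (44, (-1)), (46, 1), (50, (-1)), (53, 1)], 0), (3469, [(1, (-1)), (3, (-1)), (12, 1), (14, (-1)), (19, 1), (22, (-1)), (25, (-1)),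 (30, 1), (33, 1), (36, 1), (40, 1), (42, 1), (45, (-1)), (47, 1), (51, (-1)), (52, (-1))], 0)]⟩

def stp3 : ScanD := ⟨412, 0xf, 0x0, 0x0, [(5337, [(1, 1), (2, 1), (8, 1), (12, 1), (19, 1), (21, (-1)), (24, 1), (29, 1), (32, (-1)), (34, 1), (37, (-1)), (39, (-1)), (40, (-1)), (46, 1), (48, 1), (50, (-1))], (-4)), (6, [(1, 1), (2, (-1)), (4, (-1)), (6, (-1)), (24, (-1)), (26, (-1)), (29, (-1)), (30, 1), (40, (-1)), (43, (-1)), (44, 1), (46, (-1)), (48, (-1)), (50, 1), (52, (-1)), (55, (-1))], (-4)), (3469, [(1, (-1)), (3, (-1)), (12, 1), (14, (-1)), (19, 1), (22, (-1)), (25, (-1)), (30, 1), (33, 1), (36, 1), (40, 1), (42, 1), (45, (-1)), (47, 1), (51, (-1)), (52, (-1))], 4)]⟩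

def stp4 : ScanD := ⟨1016, 0x3000000000f, 0x0, 0x0, [(3469, [(1, (-1)), (3, (-1)), (12, 1), (14, (-1)), (19, 1), (22, (-1)), (25, (-1)), (30, 1), (33, 1), (36, 1), (40, 1), (42, 1), (45, (-1)), (47, 1), (51, (-1)), (52, (-1))], (-4)), (5, [(0, 1), (3, 1), (5, 1), (7, 1), (25, 1), (27, 1), (28, (-1)), (31, (-1)), (41, 1), (42, (-1)), (45, (-1)), (47, 1), (49, 1), (51, (-1)), (53, 1), (54, (-1))], (-4)), (32, [(0, 1), (2, 1), (4, (-1)), (6, (-1)), (10, 1), (13, 1), (21, 1), (22, 1), (24, (-1)), (27, (-1)), (33, (-1)), (37, (-1)), (43, (-1)), (45, (-1)), (49, (-1)), (52, (-1))], (-4))]⟩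

def stp5 : ScanD := ⟨8472, 0x33000000000f, 0x0, 0x0, [(3468, [(0, (-1)), (2, (-1)), (13, (-1)), (15, 1), (18, 1), (23, 1), (24, (-1)), (31, (-1)), (32, 1), (37, (-1)), (41, (-1)), (43, (-1)), (44, (-1)), (46, 1), (50, (-1)), (53, 1)], (-4)), (32, [(0, 1), (2, 1), (4, (-1)), (6, (-1)), (10, 1), (13, 1), (21, 1), (22, 1), (24, (-1)), (27, (-1)), (33, (-1)), (37, (-1)), (43, (-1)), (45, (-1)), (49, (-1)), (52, (-1))], 4), (5336, [(0, 1), (3, (-1)), (9, (-1)), (13, (-1)), (18, 1), (20, (-1)), (25, (-1)), (28, 1), (33, 1), (35, (-1)), (36, (-1)), (38, (-1)), (41, 1), (47, (-1)), (49, (-1)), (51, 1)], (-4))]⟩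

def stp6 : ScanD := ⟨92, 0x33000000300f, 0x0, 0x0, [(1389, [(0, 1), (2, (-1)), (13, (-1)), (15, 1), (16, (-1)), (20, 1), (24, 1), (31, 1), (33, 1), (36, 1), (40, 1), (43, 1), (44, (-1)), (47, 1), (48, 1), (54, 1)], 4), (5337, [(1, 1), (2, 1), (8, 1), (12, 1), (19, 1), (21, (-1)), (24, 1), (29, 1), (32, (-1)), (34, 1), (37, (-1)), (39, (-1)), (40, (-1)), (46, 1), (48, 1), (50, (-1))], 4), (3468, [(0, (-1)), (2, (-1)), (13, (-1)), (15, 1), (18, 1), (23, 1), (24, (-1)), (31, (-1)), (32, 1), (37, (-1)), (41, (-1)), (43, (-1)), (44, (-1)), (46, 1), (50, (-1)), (53, 1)], 0)]⟩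

def stp7 : ScanD := ⟨404, 0x333000000300f, 0x0, 0x0, [(5336, [(0, 1), (3, (-1)), (9, (-1)), (13, (-1)), (18, 1), (20, (-1)), (25, (-1)), (28, 1), (33, 1), (35, (-1)), (36, (-1)), (38, (-1)), (41, 1), (47, (-1)), (49, (-1)), (51, 1)], 4), (3469, [(1, (-1)), (3, (-1)), (12, 1), (14, (-1)), (19, 1), (22, (-1)), (25, (-1)), (30, 1), (33, 1), (36, 1), (40, 1), (42, 1), (45, (-1)), (47, 1), (51, (-1)), (52, (-1))], (-4)), (1389, [(0, 1), (2, (-1)), (13, (-1)), (15, 1), (16, (-1)), (20, 1), (24, 1), (31, 1), (33, 1), (36, 1), (40, 1), (43, 1), (44, (-1)), (47, 1), (48, 1), (54, 1)], 0)]⟩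

def stp8 : ScanD := ⟨408, 0xf33000000300f, 0x0, 0x0, [(3468, [(0, (-1)), (2, (-1)), (13, (-1)), (15, 1), (18, 1), (23, 1), (24, (-1)), (31, (-1)), (32, 1), (37, (-1)), (41, (-1)), (43, (-1)), (44, (-1)), (46, 1), (50, (-1)), (53, 1)], 4), (33, [(1, 1), (3, 1), (5, (-1)), (7, (-1)), (11, 1), (12, (-1)), (20, (-1)), (23, 1), (25, (-1)), (26, 1), (32, 1), (36, 1), (42, 1), (44, 1), (48, 1), (53, (-1))], (-4))]⟩

def stp9 : ScanD := ⟨1008, 0x3f33000000300f, 0x0, 0x0, [(6, [(1, 1), (2, (-1)), (4, (-1)), (6, (-1)), (24, (-1)), (26, (-1)), (29, (-1)), (30, 1), (40, (-1)), (43, (-1)), (44, 1), (46, (-1)), (48, (-1)), (50, 1), (52, (-1)), (55, (-1))], (-4)), (1388, [(1, (-1)), (3, 1), (12, (-1)), (14, 1), (17, 1), (21, (-1)), (25, (-1)), (30, 1), (32, 1), (37, (-1)), (41, (-1)), (42, 1), (45, 1), (46, 1), (49, (-1)), (55, (-1))], (-4)), (3469, [(1, (-1)), (3, (-1)), (12,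 1), (14, (-1)), (19, 1), (22, (-1)), (25, (-1)), (30, 1), (33, 1), (36, 1), (40, 1), (42, 1), (45, (-1)), (47, 1), (51, (-1)), (52, (-1))], 0)]⟩

def stp10 : ScanD := ⟨1012, 0xff33000000300f, 0x0, 0x0, [(6, [(1, 1), (2, (-1)), (4, (-1)), (6, (-1)), (24, (-1)), (26, (-1)), (29, (-1)), (30, 1), (40, (-1)), (43, (-1)), (44, 1), (46, (-1)), (48, (-1)), (50, 1), (52, (-1)), (55, (-1))], (-4)), (3468, [(0, (-1)), (2, (-1)), (13, (-1)), (15, 1), (18, 1), (23, 1), (24, (-1)), (31, (-1)), (32, 1), (37, (-1)), (41, (-1)), (43, (-1)), (44, (-1)), (46, 1), (50, (-1)), (53, 1)], (-4)), (5337, [(1, 1), (2, 1), (8, 1), (12, 1), (19, 1), (21, (-1)), (24, 1), (29, 1), (32, (-1)), (34, 1), (37, (-1)), (39, (-1)), (40, (-1)), (46, 1), (48, 1), (50, (-1))], 0)]⟩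

def stp11 : ScanD := ⟨1020, 0xff3f000000300f, 0x0, 0x0, [(3468, [(0, (-1)), (2, (-1)), (13, (-1)), (15, 1), (18, 1), (23, 1), (24, (-1)), (31, (-1)), (32, 1), (37, (-1)), (41, (-1)), (43, (-1)), (44, (-1)), (46, 1), (50, (-1)), (53, 1)], 4), (5337, [(1, 1), (2, 1), (8, 1), (12, 1), (19, 1), (21, (-1)), (24, 1), (29, 1), (32, (-1)), (34, 1), (37, (-1)), (39, (-1)), (40, (-1)), (46, 1), (48, 1), (50, (-1))], (-4)), (1388, [(1, (-1)), (3, 1), (12, (-1)), (14, 1), (17, 1), (21, (-1)), (25, (-1)), (30, 1), (32, 1), (37, (-1)), (41, (-1)), (42, 1), (45, 1), (46, 1), (49, (-1)), (55, (-1))], 4)]⟩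

def stp12 : ScanD := ⟨1984, 0xff3f030000300f, 0x0, 0x0, [(3469, [(1, (-1)), (3, (-1)), (12, 1), (14, (-1)), (19, 1), (22, (-1)), (25, (-1)), (30, 1), (33, 1), (36, 1), (40, 1), (42, 1), (45, (-1)), (47, 1), (51, (-1)), (52, (-1))], 4), (5, [(0, 1), (3, 1), (5, 1), (7, 1), (25, 1), (27, 1), (28, (-1)), (31, (-1)), (41, 1), (42, (-1)), (45, (-1)), (47, 1), (49, 1), (51, (-1)), (53, 1), (54, (-1))], 4)]⟩

def stp13 : ScanD := ⟨1992, 0xffff030000300f, 0x0, 0x0, [(3468, [(0, (-1)), (2, (-1)), (13, (-1)), (15, 1), (18, 1), (23, 1), (24, (-1)), (31, (-1)), (32, 1), (37, (-1)), (41, (-1)), (43, (-1)), (44, (-1)), (46, 1), (50, (-1)), (53, 1)], (-4)), (5337, [(1, 1), (2, 1), (8, 1), (12, 1), (19, 1), (21, (-1)), (24, 1), (29, 1), (32, (-1)), (34, 1), (37, (-1)), (39, (-1)), (40, (-1)), (46, 1), (48, 1), (50, (-1))], (-4))]⟩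

def stp14 : ScanD := ⟨1996, 0xffff330000300f, 0x0, 0x0, [(3468, [(0, (-1)), (2, (-1)), (13, (-1)), (15, 1), (18, 1), (23, 1), (24, (-1)), (31, (-1)), (32, 1), (37, (-1)), (41, (-1)), (43, (-1)), (44, (-1)), (46, 1), (50, (-1)), (53, 1)], (-4)), (5337, [(1, 1), (2, 1), (8, 1), (12, 1), (19, 1), (21, (-1)), (24, 1), (29, 1), (32, (-1)), (34, 1), (37, (-1)), (39, (-1)), (40, (-1)), (46, 1), (48, 1), (50, (-1))], 4)]⟩

def stp15 : ScanD := ⟨3540, 0xffff330300300f, 0x0, 0x0, [(5, [(0, 1), (3, 1), (5, 1), (7, 1), (25, 1), (27, 1), (28, (-1)), (31, (-1)), (41, 1), (42, (-1)), (45, (-1)), (47, 1), (49, 1), (51, (-1)), (53, 1), (54, (-1))], 4), (32, [(0, 1), (2, 1), (4, (-1)), (6, (-1)), (10, 1), (13, 1), (21, 1), (22, 1), (24, (-1)), (27, (-1)), (33, (-1)), (37, (-1)), (43, (-1)), (45, (-1)), (49, (-1)), (52, (-1))], (-4))]⟩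

def stp16 : ScanD := ⟨3544, 0xffff330f00300f, 0x0, 0x0, [(6, [(1, 1), (2, (-1)), (4, (-1)), (6, (-1)), (24, (-1)), (26, (-1)), (29, (-1)), (30, 1), (40, (-1)), (43, (-1)), (44, 1), (46, (-1)), (48, (-1)), (50, 1), (52, (-1)), (55, (-1))], (-4)), (5337, [(1, 1), (2, 1), (8, 1), (12, 1), (19, 1), (21, (-1)), (24, 1), (29, 1), (32, (-1)), (34, 1), (37, (-1)), (39, (-1)), (40, (-1)), (46, 1), (48, 1), (50, (-1))], 4)]⟩

def stp17 : ScanD := ⟨3548, 0xffff333f00300f, 0x0, 0x0, [(1389, [(0, 1), (2, (-1)), (13, (-1)), (15, 1), (16, (-1)), (20, 1), (24, 1), (31, 1), (33, 1), (36, 1), (40, 1), (43, 1), (44, (-1)), (47, 1), (48, 1), (54, 1)], (-4)), (3468, [(0, (-1)), (2, (-1)), (13, (-1)), (15, 1), (18, 1), (23, 1), (24, (-1)), (31, (-1)), (32, 1), (37, (-1)), (41, (-1)), (43, (-1)), (44, (-1)), (46, 1), (50, (-1)), (53, 1)], 0), (5336, [(0, 1), (3, (-1)), (9, (-1)), (13,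 (-1)), (18, 1), (20, (-1)), (25, (-1)), (28, 1), (33, 1), (35, (-1)), (36, (-1)), (38, (-1)), (41, 1), (47, (-1)), (49, (-1)), (51, 1)], 0)]⟩

def stp18 : ScanD := ⟨5792, 0xffff333f03300f, 0x0, 0x0, [(1389, [(0, 1), (2, (-1)), (13, (-1)), (15, 1), (16, (-1)), (20, 1), (24, 1), (31, 1), (33, 1), (36, 1), (40, 1), (43, 1), (44, (-1)), (47, 1), (48, 1), (54, 1)], 4), (3468, [(0, (-1)), (2, (-1)), (13, (-1)), (15, 1), (18, 1), (23, 1), (24, (-1)), (31, (-1)), (32, 1), (37, (-1)), (41, (-1)), (43, (-1)), (44, (-1)), (46, 1), (50, (-1)), (53, 1)], (-4))]⟩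

def stp19 : ScanD := ⟨5796, 0xffff33ff03300f, 0x0, 0x0, [(3469, [(1, (-1)), (3, (-1)), (12, 1), (14, (-1)), (19, 1), (22, (-1)), (25, (-1)), (30, 1), (33, 1), (36, 1), (40, 1), (42, 1), (45, (-1)), (47, 1), (51, (-1)), (52, (-1))], 4), (5337, [(1, 1), (2, 1), (8, 1), (12, 1), (19, 1), (21, (-1)), (24, 1), (29, 1), (32, (-1)), (34, 1), (37, (-1)), (39, (-1)), (40, (-1)), (46, 1), (48, 1), (50, (-1))], 4)]⟩

def stp20 : ScanD := ⟨5800, 0xffff33ff0f300f, 0x0, 0x0, [(1388, [(1, (-1)), (3, 1), (12, (-1)), (14, 1), (17, 1), (21, (-1)), (25, (-1)), (30, 1), (32, 1), (37, (-1)), (41, (-1)), (42, 1), (45, 1), (46, 1), (49, (-1)), (55, (-1))], (-4)), (5337, [(1, 1), (2, 1), (8, 1), (12, 1), (19, 1), (21, (-1)), (24, 1), (29, 1), (32, (-1)), (34, 1), (37, (-1)), (39, (-1)), (40, (-1)), (46, 1), (48, 1), (50, (-1))], (-4))]⟩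

def stp21 : ScanD := ⟨8464, 0xffff33ff3f300f, 0x0, 0x0, [(3468, [(0, (-1)), (2, (-1)), (13, (-1)), (15, 1), (18, 1), (23, 1), (24, (-1)), (31, (-1)), (32, 1), (37, (-1)), (41, (-1)), (43, (-1)), (44, (-1)), (46, 1), (50, (-1)), (53, 1)], 4), (1389, [(0, 1), (2, (-1)), (13, (-1)), (15, 1), (16, (-1)), (20, 1), (24, 1), (31, 1), (33, 1), (36, 1), (40, 1), (43, 1), (44, (-1)), (47, 1), (48, 1), (54, 1)], 0)]⟩

def stp22 : ScanD := ⟨8468, 0xffff33ffff300f, 0x0, 0x0, [(33, [(1, 1), (3, 1), (5, (-1)), (7, (-1)), (11, 1), (12, (-1)), (20, (-1)), (23, 1), (25, (-1)), (26, 1), (32, 1), (36, 1), (42, 1), (44, 1), (48, 1), (53, (-1))], 4), (5, [(0, 1), (3, 1), (5, 1), (7, 1), (25, 1), (27, 1), (28, (-1)), (31, (-1)), (41, 1), (42, (-1)), (45, (-1)), (47, 1), (49, 1), (51, (-1)), (53, 1), (54, (-1))], 0)]⟩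

def stp23 : ScanD := ⟨11036, 0xffff33ffff3c0f, 0x0, 0x0, [(3468, [(0, (-1)), (2, (-1)), (13, (-1)), (15, 1), (18, 1), (23, 1), (24, (-1)), (31, (-1)), (32, 1), (37, (-1)), (41, (-1)), (43, (-1)), (44, (-1)), (46, 1), (50, (-1)), (53, 1)], 4)]⟩

def stp24 : ScanD := ⟨2756, 0xffff33fffffc0f, 0x5801000804000, 0x20144010800, []⟩

def stp25 : ScanD := ⟨88, 0xffff33fffffc0f, 0x0, 0x0, [(33, [(1, 1), (3, 1), (5, (-1)), (7, (-1)), (11, 1), (12, (-1)), (20, (-1)), (23, 1), (25, (-1)), (26, 1), (32, 1), (36, 1), (42, 1), (44, 1), (48, 1), (53, (-1))], (-4)), (2756, [(5, (-1)), (7, 1), (11, (-1)), (14, 1), (16, (-1)), (23, 1), (26, (-1)), (30, (-1)), (32, (-1)), (34, (-1)), (36, 1), (38, 1), (41, (-1)), (47, 1), (48, 1), (50, 1)], (-4))]⟩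

def stp26 : ScanD := ⟨400, 0xffff33fffffc3f, 0x0, 0x0, [(33, [(1, 1), (3, 1), (5, (-1)), (7, (-1)), (11, 1), (12, (-1)), (20, (-1)), (23, 1), (25, (-1)), (26, 1), (32, 1), (36, 1), (42, 1), (44, 1), (48, 1), (53, (-1))], (-4))]⟩

def stp27 : ScanD := ⟨1988, 0xffff33fffffcff, 0x0, 0x0, [(2757, [(4, 1), (6, (-1)), (10, 1), (15, 1), (17, (-1)), (22, (-1)), (27, (-1)), (31, (-1)), (33, (-1)), (35, (-1)), (37, 1), (39, 1), (40, 1), (46, (-1)), (49, 1), (51, 1)], (-4)), (5336, [(0, 1), (3, (-1)), (9, (-1)), (13, (-1)), (18, 1), (20, (-1)), (25, (-1)), (28, 1), (33, 1), (35, (-1)), (36, (-1)), (38, (-1)), (41, 1), (47, (-1)), (49, (-1)), (51, 1)], (-4))]⟩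

def stp28 : ScanD := ⟨3536, 0xffff3ffffffcff, 0x0, 0x0, [(2757, [(4, 1), (6, (-1)), (10, 1), (15, 1), (17, (-1)), (22, (-1)), (27, (-1)), (31, (-1)), (33, (-1)), (35, (-1)), (37, 1), (39, 1), (40, 1), (46, (-1)), (49, 1), (51, 1)], 4)]⟩

def stp29 : ScanD := ⟨5804, 0xfffffffffffcff, 0x0, 0x0, [(5337, [(1, 1), (2, 1), (8, 1), (12, 1), (19, 1), (21, (-1)), (24, 1), (29, 1), (32, (-1)), (34, 1), (37, (-1)), (39, (-1)), (40, (-1)), (46, 1), (48, 1), (50, (-1))], 4)]⟩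

end Cfsg.Agent.Helper2.RuL
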