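import Cfsg.Agent.Helper2.RuL.ScanDat

/-! The levels of the stabiliser chain (helper2; generated). -/

set_option autoImplicit false
set_option maxRecDepth 100000

namespace Cfsg.Agent.Helper2.RuL

set_option Elab.async false in
theorem lev1_valid : lev1.valid = true := by decide +kernel

set_option Elab.async false in
theorem lev1_cnt : lev1.cnt = 16240 := by decide +kernel

set_option Elab.async false in
theorem lev2_valid : lev2.valid = true := by decide +kernel

set_option Elab.async false in
theorem lev2_cnt : lev2.cnt = 7020 := by decide +kernel

set_option Elab.async false in
theorem lev3_valid : lev3.valid = true := by decide +kernel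

set_option Elab.async false in
theorem lev3_cnt : lev3.cnt = 320 := by decide +kernel

set_option Elab.async false in
theorem lev4_valid : lev4.valid = true := by decide +kernel

set_option Elab.async false in
theorem lev4_cnt : lev4.cnt = 8 := by decide +kernel

set_option Elab.async false in
theorem lev5_valid : lev5.valid = true := by decide +kernel

set_option Elab.async false in
theorem lev5_cnt : lev5.cnt = 2 := by decide +kernel

end Cfsg.Agent.Helper2.RuL
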