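import Mathlib

/-! A binary tree of natural numbers with logarithmic access (helper2). -/

set_option autoImplicit false

namespace Cfsg.Agent.Helper2.RuL

inductive NT where
  | leaf (v : ℕ) : NT
  | node (l r : NT) : NT

/-- `t.get d k`: the leaf of the tree `t` of depth `d` with index `k` (bit `d-1` of `k` decides at the root). -/
def NT.get : NT → ℕ → ℕ → ℕ
  | .leaf v, _, _ => v
  | .node _ _, 0, _ => 0
  | .node l r, d + 1, k => if k.testBit d then r.get d k else l.get d k

end Cfsg.Agent.Helper2.RuL
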