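import Cfsg.Agent.Helper2.RuL.Ev
import Cfsg.Agent.Helper2.RuL.TabDef

/-! Traversals of the binary trees of natural numbers (helper2). -/

set_option autoImplicit false

namespace Cfsg.Agent.Helper2.RuL

theorem NT.get_mod : ∀ (t : NT) (d k : ℕ), t.get d k = t.get d (k % 2 ^ d)
  | .leaf _, _, _ => by simp [NT.get]
  | .node _ _, 0, _ => by simp [NT.get]
  | .node l r, d + 1, k => by
    simp only [NT.get]
    rw [Nat.testBit_mod_two_pow]
    simp only [Nat.lt_succ_self, decide_true, Bool.true_and]
    rw [NT.get_mod l d k, NT.get_mod r d k, NT.get_mod l d (k % 2 ^ (d + 1)),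
      NT.get_mod r d (k % 2 ^ (d + 1)), Nat.mod_mod_of_dvd _ (pow_dvd_pow 2 (Nat.le_succ d))]

theorem testBit_top_true {k d : ℕ} (hk : k < 2 ^ (d + 1)) (h : k.testBit d = true) :
    2 ^ d ≤ k ∧ k % 2 ^ d = k - 2 ^ d := by
  have h1 : 2 ^ d ≤ k := Nat.ge_two_pow_of_testBit h
  refine ⟨h1, ?_⟩
  rw [Nat.mod_eq_sub_mod h1, Nat.mod_eq_of_lt]
  rw [pow_succ] at hk
  omega

theorem testBit_top_false {k d : ℕ} (hk : k < 2 ^ (d + 1)) (h : k.testBit d = false) :
    k < 2 ^ d := by
  by_contra hc
  rw [not_lt] at hc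
  obtain ⟨k', rfl⟩ := Nat.exists_eq_add_of_le hc
  have hk' : k' < 2 ^ d := by rw [pow_succ] at hk; omega
  rw [Nat.testBit_two_pow_add_eq, Nat.testBit_lt_two_pow hk'] at h
  simp at h

/-- all the leaves satisfy `p index value` -/
def NT.allI (p : ℕ → ℕ → Bool) : NT → ℕ → ℕ → Bool
  | .leaf v, 0, k0 => p k0 v
  | .leaf _, _ + 1, _ => false
  | .node _ _, 0, _ => false
  | .node l r, d + 1, k0 => l.allI p d k0 && frc (k0 + 2 ^ d) fun k1 => r.allI p d k1

theorem NT.allI_sound (p : ℕ → ℕ → Bool) : ∀ (t : NT) (d k0 : ℕ), t.allI p d k0 = true →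
    ∀ k, k < 2 ^ d → p (k0 + k) (t.get d k) = true
  | .leaf v, 0, k0, h, k, hk => by
    have : k = 0 := by simpa using hk
    subst this
    simpa [NT.allI, NT.get] using h
  | .leaf _, _ + 1, _, h, _, _ => by simp [NT.allI] at h
  | .node _ _, 0, _, h, _, _ => by simp [NT.allI] at h
  | .node l r, d + 1, k0, h, k, hk => by
    rw [NT.allI, frc_eq, Bool.and_eq_true] at h
    simp only [NT.get]
    by_cases hb : k.testBit d = true
    · rw [if_pos hb]
      obtain ⟨h1, h2⟩ := testBit_top_true hk hb
      have h3 := NT.allI_sound p r d (k0 + 2 ^ d) h.2 (k % 2 ^ d) (Nat.mod_lt _ (by positivity))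
      rw [← NT.get_mod, h2] at h3
      rw [show k0 + k = k0 + 2 ^ d + (k - 2 ^ d) by omega]
      exact h3
    · rw [if_neg hb]
      have hb' : k.testBit d = false := by simpa using hb
      exact NT.allI_sound p l d k0 h.1 k (testBit_top_false hk hb')

/-- the number of leaves satisfying `p index value` (an upper bound if the tree is not complete) -/
def NT.cntI (p : ℕ → ℕ → Bool) : NT → ℕ → ℕ → ℕ
  | .leaf v, 0, k0 => if p k0 v = true then 1 else 0
  | .leaf _, d + 1, _ => 2 ^ (d + 1)
  | .node _ _, 0, _ => 1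
  | .node l r, d + 1, k0 =>
    frc (l.cntI p d k0) fun a => frc (k0 + 2 ^ d) fun k1 => frc (r.cntI p d k1) fun b => a + b

theorem NT.cntI_sound (p : ℕ → ℕ → Bool) : ∀ (t : NT) (d k0 : ℕ),
    ((Finset.range (2 ^ d)).filter (fun k => p (k0 + k) (t.get d k) = true)).card ≤ t.cntI p d k0
  | .leaf v, 0, k0 => by
    simp only [NT.cntI, NT.get, pow_zero, Finset.range_one]
    by_cases h : p k0 v = true
    · rw [if_pos h]
      exact le_trans (Finset.card_filter_le _ _) (by simp)
    · rw [if_neg h]
      rw [Nat.le_zero, Finset.card_eq_zero, Finset.filter_eq_empty_iff]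
      intro k hk
      rw [Finset.mem_singleton] at hk
      subst hk
      simpa using h
  | .leaf _, d + 1, _ => by
    simp only [NT.cntI]
    exact le_trans (Finset.card_filter_le _ _) (by simp)
  | .node _ _, 0, _ => by
    simp only [NT.cntI]
    exact le_trans (Finset.card_filter_le _ _) (by simp)
  | .node l r, d + 1, k0 => by
    rw [NT.cntI, frc_eq, frc_eq, frc_eq]
    have hl := NT.cntI_sound p l d k0
    have hr := NT.cntI_sound p r d (k0 + 2 ^ d)
    have hsplit : Finset.range (2 ^ (d + 1)) =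
        Finset.range (2 ^ d) ∪ (Finset.range (2 ^ d)).map (addLeftEmbedding (2 ^ d)) := by
      rw [pow_succ, Nat.mul_two, Finset.range_add_eq_union]
    rw [hsplit, Finset.filter_union]
    refine le_trans (Finset.card_union_le _ _) (add_le_add ?_ ?_)
    · refine le_trans (le_of_eq ?_) hl
      congr 1
      apply Finset.filter_congr
      intro k hk
      have hk' : k < 2 ^ d := Finset.mem_range.mp hk
      simp only [NT.get, Nat.testBit_lt_two_pow hk', Bool.false_eq_true, if_false]
    · refine le_trans (le_of_eq ?_) hr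
      rw [Finset.filter_map, Finset.card_map]
      congr 1
      apply Finset.filter_congr
      intro k hk
      have hk' : k < 2 ^ d := Finset.mem_range.mp hk
      simp only [Function.comp, addLeftEmbedding_apply, NT.get]
      rw [Nat.testBit_two_pow_add_eq, Nat.testBit_lt_two_pow hk']
      simp only [Bool.not_false, if_true]
      rw [NT.get_mod r d (2 ^ d + k), Nat.add_mod_left, Nat.mod_eq_of_lt hk', Nat.add_assoc]

end Cfsg.Agent.Helper2.RuL
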